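import Cfsg.Agent.UGT.FourB.Fm
import Cfsg.Agent.GH.L2AutF

/-!
# Types of the involutions of `T`
-/

set_option autoImplicit false

open Cfsg Subgroup
open Cfsg.Agent.SignalizersComponents Cfsg.Agent.Lib
open Cfsg.Agent.SignalizersComponents.IntrinsicBasic
open Cfsg.Agent.SignalizersComponents.PLayerAut
open Cfsg.Agent.Intrinsic.Basic Cfsg.Agent.Intrinsic.Cen Cfsg.Agent.Intrinsic.Diag
open Cfsg.Agent.Intrinsic.Lifting
open Cfsg.Agent.McLLyComp.Act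
open Cfsg.Agent.UGT.Triple Cfsg.Agent.UGT.TriBase Cfsg.Agent.UGT.Iface
open Cfsg.Agent.GH.L2Aut (Dih Inn)
open scoped commutatorElement

namespace Cfsg.Agent.UGT.FourB.Fm

variable {G : Type*} [Group G] {L : Subgroup G} {F : Type*} [Field F] [Finite F]
  {R : Cfsg.Agent.GH.L2Aut.Rep F (↥L ⧸ oddCore ↥L)} {x a d r : G} {T Q P : Subgroup G}

namespace Fm

variable (H : Fm R x a d r T Q P)
include H

theorem QT {q : G} (hq : q ∈ Q) : q ∈ T := ((H.Qdef q).1 hq).1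

theorem PT {p : G} (hp : p ∈ P) : p ∈ T := ((H.Pdef p).1 hp).1

theorem PL {p : G} (hp : p ∈ P) : p ∈ L := ((H.Pdef p).1 hp).2

theorem TC {t : G} (ht : t ∈ T) : t * a = a * t := comm_c (H.syl.le ht)

theorem TN {t : G} (ht : t ∈ T) : t ∈ normalizer (L : Set G) := H.LN (H.syl.le ht)

theorem xi : x⁻¹ = x := inv_eq_of_mul_eq_one_left H.xx

theorem pow_T {t : G} (ht : t ∈ T) : ∃ n, t ^ 2 ^ n = 1 := by
  obtain ⟨n, hn⟩ := H.syl.two ⟨t, ht⟩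
  exact ⟨n, congrArg Subtype.val hn⟩

theorem Qn {t q : G} (ht : t ∈ T) (hq : q ∈ Q) : t * q * t⁻¹ ∈ Q := by
  obtain ⟨h1, h2⟩ := (H.Qdef q).1 hq
  exact (H.Qdef _).2 ⟨mul_mem (mul_mem ht h1) (inv_mem ht), fixes_conj h2 (H.TN ht)⟩

theorem Pn {t p : G} (ht : t ∈ T) (hp : p ∈ P) : t * p * t⁻¹ ∈ P :=
  (H.Pdef _).2 ⟨mul_mem (mul_mem ht (H.PT hp)) (inv_mem ht), conj_mem (H.TN ht) (H.PL hp)⟩

theorem Pp : IsPGroup 2 P := H.psyl.two

variable [Finite G]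

theorem coreT {t : G} (ht : t ∈ T) (hc : t ∈ core L) : t = 1 := by
  obtain ⟨n, hn⟩ := H.pow_T ht
  exact eq_one_of_mem_core hc hn

theorem comm {q p : G} (hq : q ∈ Q) (hp : p ∈ P) : q * p = p * q := by
  obtain ⟨hqT, hqf⟩ := (H.Qdef q).1 hq
  have h3 : ⁅q, p⁆ ∈ core L := hqf.2 p (H.PL hp)
  have h4 : ⁅q, p⁆ ∈ T := by
    rw [commutatorElement_def]
    exact mul_mem (mul_mem (mul_mem hqT (H.PT hp)) (inv_mem hqT)) (inv_mem (H.PT hp))
  exact commutatorElement_eq_one_iff_mul_comm.mp (H.coreT h4 h3)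

theorem disj {t : G} (hq : t ∈ Q) (hp : t ∈ P) : t = 1 := by
  obtain ⟨htT, htf⟩ := (H.Qdef t).1 hq
  have h3 : act L ⟨t, htf.1⟩ = 1 := (act_eq_one_iff htf.1).mpr htf
  have h4 : act L ⟨t, le_normalizer (H.PL hp)⟩ = MulAut.conj (QuotientGroup.mk ⟨t, H.PL hp⟩) := act_of_mem (H.PL hp)
  have h5 : act L ⟨t, le_normalizer (H.PL hp)⟩ = 1 := h3
  rw [h5] at h4
  have h6 : (QuotientGroup.mk (⟨t, H.PL hp⟩ : ↥L) : ↥L ⧸ oddCore ↥L) = 1 := R.conj_injective (by rw [← h4, map_one])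
  exact H.coreT htT ((mk_eq_one_iff (H.PL hp)).mp h6)

/-- an element with trivial field part and trivial determinant is in `QP` -/
theorem mem_qp {t : G} (ht : t ∈ T) (hf : R.fld (act L ⟨t, H.TN ht⟩) = 1) (ho : R.o1 (act L ⟨t, H.TN ht⟩) = 1) :
    ∃ q ∈ Q, ∃ p ∈ P, t = q * p :=
  H.inn t (H.TN ht) ht (R.mem_inn_iff.2 ⟨hf, ho⟩)

theorem fx : R.fld (act L ⟨x, H.TN H.xT⟩) = 1 := by
  by_contra h
  have h2 : act L ⟨x, H.TN H.xT⟩ * act L ⟨x, H.TN H.xT⟩ = 1 := by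
    rw [← act_mul (H.TN H.xT) (H.TN H.xT)]
    rw [act_congr (mul_mem (H.TN H.xT) (H.TN H.xT)) H.xx]
    exact map_one (act L)
  have h3 := R.o1_of_sq h2 h
  rw [H.ox (H.TN H.xT)] at h3
  exact absurd h3 (by decide)

/-- `T' ≤ QP` -/
theorem der {t u : G} (ht : t ∈ T) (hu : u ∈ T) : ∃ q ∈ Q, ∃ p ∈ P, t * u * t⁻¹ * u⁻¹ = q * p := by
  have htL := H.TN ht
  have huL := H.TN hu
  have hw : t * u * t⁻¹ * u⁻¹ ∈ T := mul_mem (mul_mem (mul_mem ht hu) (inv_mem ht)) (inv_mem hu)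
  have h1 : act L ⟨t * u * t⁻¹ * u⁻¹, H.TN hw⟩ =
      act L ⟨t, htL⟩ * act L ⟨u, huL⟩ * (act L ⟨t, htL⟩)⁻¹ * (act L ⟨u, huL⟩)⁻¹ := by
    rw [← act_inv htL, ← act_inv huL, ← act_mul htL huL, ← act_mul (mul_mem htL huL) (inv_mem htL),
      ← act_mul (mul_mem (mul_mem htL huL) (inv_mem htL)) (inv_mem huL)]
  apply H.mem_qp hw
  · rw [h1, map_mul, map_mul, map_mul, map_inv, map_inv, Res.EFacts.ringAut_comm (R.fld (act L ⟨t, htL⟩)),
      mul_inv_cancel_right, mul_inv_cancel]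
  · rw [h1, map_mul, map_mul, map_mul, map_inv, map_inv, mul_comm (R.o1 (act L ⟨t, htL⟩)),
      mul_inv_cancel_right, mul_inv_cancel]

/-- an involution of field type centralises `P`, up to conjugation in `C(a)` -/
theorem field {b : G} (hb : b ∈ T) (hbb : b * b = 1) (hf : R.fld (act L ⟨b, H.TN hb⟩) ≠ 1) :
    ∃ c, c * a = a * c ∧ c * b * c⁻¹ ∈ T ∧ (∀ p ∈ P, c * b * c⁻¹ * p = p * (c * b * c⁻¹)) ∧
      ∀ q ∈ Q, ∀ p ∈ P, c * b * c⁻¹ ≠ q * p := by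
  have h2 : Fact (Nat.Prime 2) := ⟨Nat.prime_two⟩
  have hbN := H.TN hb
  have hbC : b ∈ centralizer ({a} : Set G) := H.syl.le hb
  obtain ⟨β, hβ⟩ : ∃ β, β = act L ⟨b, hbN⟩ := ⟨_, rfl⟩
  have hβ2 : β * β = 1 := by
    rw [hβ, ← act_mul hbN hbN]
    rw [act_congr (mul_mem hbN hbN) hbb]
    exact map_one (act L)
  have hβP : β ∉ R.PGL := fun h => hf (by rw [← hβ]; exact R.mem_PGL_iff_fld.1 h)
  obtain ⟨S, hS⟩ := R.ftype_syl hβP hβ2
  -- the preimage of `S` in `C_L(b)`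
  have hcore := odd_card_core L
  obtain ⟨K, hK⟩ : ∃ K : Subgroup G, ∀ y, y ∈ K ↔ ∃ hy : y ∈ L, y * b = b * y ∧
      (QuotientGroup.mk (⟨y, hy⟩ : ↥L) : ↥L ⧸ oddCore ↥L) ∈ (S : Subgroup _) :=
    ⟨(((S : Subgroup (↥L ⧸ oddCore ↥L)).comap (QuotientGroup.mk' _)).map L.subtype) ⊓ centralizer ({b} : Set G), by
      intro y
      rw [mem_inf, mem_centralizer_singleton_iff]
      constructor
      · rintro ⟨⟨⟨y, hy⟩, h1, rfl⟩, h3⟩
        exact ⟨hy, h3, h1⟩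
      · rintro ⟨hy, h1, h3⟩
        exact ⟨⟨⟨y, hy⟩, h3, rfl⟩, h1⟩⟩
  have hKL : K ≤ L := fun y hy => ((hK y).1 hy).1
  let f : ↥K →* ↥(S : Subgroup (↥L ⧸ oddCore ↥L)) :=
    { toFun := fun y => ⟨QuotientGroup.mk (⟨y, hKL y.2⟩ : ↥L), ((hK y).1 y.2).2.2⟩
      map_one' := Subtype.ext rfl
      map_mul' := fun y z => Subtype.ext rfl }
  have hfs : Function.Surjective f := by
    rintro ⟨y, hy⟩
    obtain ⟨⟨l, hl⟩, rfl⟩ := QuotientGroup.mk_surjective y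
    have h3 := hS _ hy
    have h4 : l⁻¹ * (b * l * b⁻¹) ∈ core L := by
      rw [← mk_eq_iff hl (conj_mem hbN hl)]
      rw [hβ] at h3
      exact h3.symm
    obtain ⟨o, ho, hc⟩ := exists_commute hcore (n := 1) (KSup.pow_one_sq hbb) (normalizer_le_normalizer_core L hbN) h4
    have hoL := core_le L ho
    have h5 : (QuotientGroup.mk (⟨l * o, mul_mem hl hoL⟩ : ↥L) : ↥L ⧸ oddCore ↥L) = QuotientGroup.mk ⟨l, hl⟩ := by
      rw [eq_comm, mk_eq_iff hl (mul_mem hl hoL)]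
      have e : l⁻¹ * (l * o) = o := by group
      rw [e]; exact ho
    refine ⟨⟨l * o, (hK _).2 ⟨mul_mem hl hoL, hc.symm, ?_⟩⟩, Subtype.ext h5⟩
    rw [h5]; exact hy
  obtain ⟨U, hU, -⟩ := exists_isSyl (E := K) (R₀ := ⊥) IsPGroup.of_bot bot_le
  -- orders
  have hcardP : Nat.card P = Nat.card S := by
    obtain ⟨P', hP'⟩ := H.psyl.exists_sylow
    let S' : Sylow 2 (↥L ⧸ oddCore ↥L) := P'.mapSurjective (QuotientGroup.mk'_surjective (oddCore ↥L))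
    have h3 : Nat.card S' = Nat.card S := by
      rw [S'.card_eq_multiplicity, S.card_eq_multiplicity]
    rw [← h3]
    have h4 : Nat.card P = Nat.card P' := by
      rw [← hP']
      exact (Nat.card_congr ((P' : Subgroup ↥L).equivMapOfInjective _ L.subtype_injective).toEquiv).symm
    rw [h4]
    have h5 : Function.Injective ((QuotientGroup.mk' (oddCore ↥L)).domRestrict (P' : Subgroup ↥L)) := by
      rw [injective_iff_map_eq_one]
      rintro ⟨⟨y, hy⟩, hyP⟩ h6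
      have h7 : (QuotientGroup.mk (⟨y, hy⟩ : ↥L) : ↥L ⧸ oddCore ↥L) = 1 := h6
      have h8 := (mk_eq_one_iff hy).1 h7
      have h9 : y ∈ P := by rw [← hP']; exact ⟨⟨y, hy⟩, hyP, rfl⟩
      exact Subtype.ext (Subtype.ext (H.coreT (H.PT h9) h8))
    have h6 : Nat.card ((QuotientGroup.mk' (oddCore ↥L)).domRestrict (P' : Subgroup ↥L)).range = Nat.card P' :=
      (Nat.card_congr (MonoidHom.ofInjective h5).toEquiv).symm
    rw [← h6]
    have h7 : ((QuotientGroup.mk' (oddCore ↥L)).domRestrict (P' : Subgroup ↥L)).range = (S' : Subgroup (↥L ⧸ oddCore ↥L)) := by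
      rw [MonoidHom.domRestrict_range]
      rfl
    rw [h7]
  have hcU : Nat.card P ≤ Nat.card U := by
    rw [hcardP]
    obtain ⟨k, hk⟩ := S.isPGroup'.exists_card_eq
    have hk' : Nat.card S = 2 ^ k := hk
    rw [hk']
    have h3 : 2 ^ k ∣ Nat.card K := by
      rw [← hk']
      exact card_dvd_of_surjective f hfs
    exact Nat.le_of_dvd Nat.card_pos (hU.dvd_card h3)
  -- conjugate `⟨b⟩ U` into `T`
  have hUb : ∀ u ∈ U, u * b = b * u := fun u hu => ((hK u).1 (hU.le hu)).2.1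
  have hUL : U ≤ L := hU.le.trans hKL
  have hV : IsPGroup 2 (U ⊔ zpowers b : Subgroup G) := by
    have hpb : IsPGroup 2 ↥(zpowers b) := by
      rintro ⟨y, hy⟩
      obtain ⟨k, rfl⟩ := mem_zpowers_iff.mp hy
      refine ⟨1, Subtype.ext ?_⟩
      change (b ^ k) ^ 2 ^ 1 = 1
      rw [pow_one, pow_two, ← (Commute.refl b).mul_zpow, hbb, one_zpow]
    refine IsPGroup.to_sup_of_normal_left' hU.two hpb ?_
    rw [zpowers_le, mem_normalizer_iff]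
    intro y
    constructor
    · intro hy
      rw [← hUb y hy]
      simpa using hy
    · intro hy
      have h3 := hUb _ hy
      have h4 : y = b⁻¹ * ((b * y * b⁻¹) * b) := by group
      rw [h4, h3]
      simpa using hy
  obtain ⟨g, hg, hle⟩ := H.syl.conj hV (sup_le (hUL.trans H.comp.le) (by rw [zpowers_le]; exact hbC))
  have hga := comm_c hg
  have hgi : g⁻¹ * a = a * g⁻¹ := by
    have c : Commute g a := hga
    exact c.inv_left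
  have hgN : g⁻¹ ∈ normalizer (L : Set G) := inv_mem (H.LN hg)
  have hbT : g⁻¹ * b * g⁻¹⁻¹ ∈ T := by
    have h3 := hle (mem_sup_right (mem_zpowers b))
    rw [mem_cj] at h3
    rwa [inv_inv]
  have hUT : ∀ u ∈ U, g⁻¹ * u * g⁻¹⁻¹ ∈ P := by
    intro u hu
    have h3 := hle (mem_sup_left hu)
    rw [mem_cj] at h3
    rw [H.Pdef, inv_inv]
    refine ⟨h3, ?_⟩
    have h4 := conj_mem hgN (hUL hu)
    rwa [inv_inv] at h4
  have hUP : cj g⁻¹ U = P := by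
    apply Subgroup.eq_of_le_of_card_ge
    · rintro y hy
      rw [mem_cj] at hy
      have h3 := hUT _ hy
      have e : g⁻¹ * (g⁻¹⁻¹ * y * g⁻¹) * g⁻¹⁻¹ = y := by group
      rwa [e] at h3
    · rw [card_cj]
      exact hcU
  refine ⟨g⁻¹, hgi, hbT, fun p hp => ?_, fun q hq p hp h3 => ?_⟩
  · rw [← hUP, mem_cj] at hp
    have h3 := hUb _ hp
    have h4 : g⁻¹ * ((g⁻¹⁻¹ * p * g⁻¹) * b) * g⁻¹⁻¹ = g⁻¹ * (b * (g⁻¹⁻¹ * p * g⁻¹)) * g⁻¹⁻¹ := by rw [h3]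
    calc g⁻¹ * b * g⁻¹⁻¹ * p = g⁻¹ * (b * (g⁻¹⁻¹ * p * g⁻¹)) * g⁻¹⁻¹ := by group
      _ = g⁻¹ * ((g⁻¹⁻¹ * p * g⁻¹) * b) * g⁻¹⁻¹ := by rw [h4]
      _ = p * (g⁻¹ * b * g⁻¹⁻¹) := by group
  · -- the action of `g⁻¹ b g` is of field type
    apply hf
    have hqf := ((H.Qdef q).1 hq).2
    have h4 : act L ⟨q * p, mul_mem hqf.1 (le_normalizer (H.PL hp))⟩ = MulAut.conj (QuotientGroup.mk ⟨p, H.PL hp⟩) := by
      rw [act_mul hqf.1 (le_normalizer (H.PL hp)), (act_eq_one_iff hqf.1).mpr hqf, one_mul, act_of_mem (H.PL hp)]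
    have hgbN : g⁻¹ * b * g⁻¹⁻¹ ∈ normalizer (L : Set G) := mul_mem (mul_mem hgN hbN) (inv_mem hgN)
    have h5 : act L ⟨g⁻¹ * b * g⁻¹⁻¹, hgbN⟩ = act L ⟨g⁻¹, hgN⟩ * act L ⟨b, hbN⟩ * (act L ⟨g⁻¹, hgN⟩)⁻¹ := by
      rw [← act_inv hgN, ← act_mul hgN hbN, ← act_mul (mul_mem hgN hbN) (inv_mem hgN)]
    have h6 : R.fld (act L ⟨g⁻¹ * b * g⁻¹⁻¹, hgbN⟩) = 1 := by
      rw [act_congr hgbN h3, h4]
      exact R.mem_PGL_iff_fld.mp (R.conj_mem_PGL _)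
    rw [h5, map_mul, map_mul, map_inv, Res.EFacts.ringAut_comm (R.fld (act L ⟨g⁻¹, hgN⟩)), mul_inv_cancel_right] at h6
    exact h6

/-- **Types of the involutions of `T`.** -/
theorem ty {b : G} (hb : b ∈ T) (hbb : b * b = 1) : (∃ q ∈ Q, ∃ p ∈ P, b = q * p) ∨ (∃ q ∈ Q, ∃ p ∈ P, b = q * p * x) ∨
    ∃ c, c * a = a * c ∧ c * b * c⁻¹ ∈ T ∧ (∀ p ∈ P, c * b * c⁻¹ * p = p * (c * b * c⁻¹)) ∧
      ∀ q ∈ Q, ∀ p ∈ P, c * b * c⁻¹ ≠ q * p := by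
  by_cases hf : R.fld (act L ⟨b, H.TN hb⟩) = 1
  · rcases Int.units_eq_one_or (R.o1 (act L ⟨b, H.TN hb⟩)) with ho | ho
    · exact Or.inl (H.mem_qp hb hf ho)
    · right; left
      have hbx : b * x ∈ T := mul_mem hb H.xT
      have h1 : act L ⟨b * x, H.TN hbx⟩ = act L ⟨b, H.TN hb⟩ * act L ⟨x, H.TN H.xT⟩ := by
        rw [← act_mul (H.TN hb) (H.TN H.xT)]
      obtain ⟨q, hq, p, hp, h2⟩ := H.mem_qp hbx (by rw [h1, map_mul, hf, H.fx, one_mul])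
        (by rw [h1, map_mul, ho, H.ox (H.TN H.xT)]; decide)
      refine ⟨q, hq, p, hp, ?_⟩
      rw [← h2, mul_assoc, H.xx, mul_one]
  · exact Or.inr (Or.inr (H.field hb hbb hf))

end Fm

end Cfsg.Agent.UGT.FourB.Fm
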