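import Cfsg.Agent.UGT.FourB.Frame
import Cfsg.Agent.UGT.FourA.Top

/-!
# The frame `Fr` of a triple: consequences

* `eight` : the elements of square one of `C_T(x)` are `⟨a, s, x⟩`; `omega` : those of `Z(T)` are `⟨a, s⟩`.
* `exists_p` : `x^p = xs`, `p ∈ P`; `exists_n` : `x^n = xa`, `n ∈ Q`, if `Q` has an involution `≠ a`.
* `card_le` : no `E₁₆` in `C(a) ∩ C(x)`; `E16` : every involution of `T₁` is in an `E₁₆` of `T` containing `a`.
* `exists_g` : `T` not a maximal 2-subgroup of `G`: `g ∈ N(T)`, `g² ∈ T`, `a^g ∈ {s, as}`.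
* `exists_hom` : `T` a maximal 2-subgroup of `G`, `a` not conjugate to `s`, `as`, `x`: some `G → {±1}` maps `x` to `-1`.
-/

set_option autoImplicit false

open Cfsg Subgroup
open Cfsg.Agent.SignalizersComponents Cfsg.Agent.Lib
open Cfsg.Agent.SignalizersComponents.IntrinsicBasic
open Cfsg.Agent.Intrinsic.Basic Cfsg.Agent.Intrinsic.Cen Cfsg.Agent.Intrinsic.Diag
open Cfsg.Agent.McLLyComp.Act
open Cfsg.Agent.GH.L2Aut
open Cfsg.Agent.UGT.Triple Cfsg.Agent.UGT.Iface Cfsg.Agent.UGT.Res.KFacts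
open Cfsg.Agent.UGT.RankOneR
open scoped commutatorElement

namespace Cfsg.Agent.UGT.FourB.Frame

variable {G : Type*} [Group G]

/-- two commuting disjoint four-groups generate a group of order 16 and exponent 2 -/
theorem exists_sixteen [Finite G] {a b u v : G} (hab : Four a b) (huv : Four u v) (h1 : a * u = u * a)
    (h2 : a * v = v * a) (h3 : b * u = u * b) (h4 : b * v = v * b) (hd : hab.sub ⊓ huv.sub = ⊥) :
    ∃ E : Subgroup G, (∀ e ∈ E, e * e = 1) ∧ a ∈ E ∧ b ∈ E ∧ u ∈ E ∧ v ∈ E ∧ 16 ≤ Nat.card E ∧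
      ∀ K : Subgroup G, a ∈ K → b ∈ K → u ∈ K → v ∈ K → E ≤ K := by
  obtain ⟨V, hV⟩ : ∃ V, V = closure ({a, b, u, v} : Set G) := ⟨_, rfl⟩
  have hcomm : ∀ y ∈ ({a, b, u, v} : Set G), ∀ z ∈ ({a, b, u, v} : Set G), y * z = z * y := by
    have e1 := hab.comm
    have e2 := huv.comm
    intro y hy z hz
    simp only [Set.mem_insert_iff, Set.mem_singleton_iff] at hy hz
    rcases hy with rfl | rfl | rfl | rfl <;> rcases hz with rfl | rfl | rfl | rfl <;>
      first
        | rfl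
        | assumption
        | (symm; assumption)
  have hsq : ∀ g ∈ V, g * g = 1 := by
    rw [hV]
    refine UGT.Res.OnePoint.sq_of_closure ?_ hcomm
    intro y hy
    simp only [Set.mem_insert_iff, Set.mem_singleton_iff] at hy
    rcases hy with rfl | rfl | rfl | rfl
    · exact hab.aa
    · exact hab.bb
    · exact huv.aa
    · exact huv.bb
  have ha : a ∈ V := hV ▸ subset_closure (by simp)
  have hb : b ∈ V := hV ▸ subset_closure (by simp)
  have hu : u ∈ V := hV ▸ subset_closure (by simp)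
  have hv : v ∈ V := hV ▸ subset_closure (by simp)
  have habV : ∀ y ∈ hab.sub, y ∈ V := by
    rintro y (rfl | rfl | rfl | rfl)
    · exact one_mem _
    · exact ha
    · exact hb
    · exact V.mul_mem ha hb
  have huvV : ∀ y ∈ huv.sub, y ∈ V := by
    rintro y (rfl | rfl | rfl | rfl)
    · exact one_mem _
    · exact hu
    · exact hv
    · exact V.mul_mem hu hv
  refine ⟨V, hsq, ha, hb, hu, hv, ?_, ?_⟩
  · let f : hab.sub × huv.sub → V := fun z => ⟨z.1 * z.2, V.mul_mem (habV _ z.1.2) (huvV _ z.2.2)⟩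
    have hinj : Function.Injective f := by
      rintro ⟨⟨y, hy⟩, ⟨z, hz⟩⟩ ⟨⟨y', hy'⟩, ⟨z', hz'⟩⟩ h
      have h3 : y * z = y' * z' := congrArg Subtype.val h
      have h5 : y'⁻¹ * y = z' * z⁻¹ := by
        calc y'⁻¹ * y = y'⁻¹ * (y * z) * z⁻¹ := by group
          _ = _ := by rw [h3]; group
      have h6 : y'⁻¹ * y ∈ hab.sub ⊓ huv.sub := by
        rw [mem_inf]
        refine ⟨hab.sub.mul_mem (hab.sub.inv_mem hy') hy, ?_⟩
        rw [h5]
        exact huv.sub.mul_mem hz' (huv.sub.inv_mem hz)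
      rw [hd, mem_bot] at h6
      have h7 : y' = y := by rwa [inv_mul_eq_one] at h6
      subst h7
      have h8 : z = z' := mul_left_cancel h3
      subst h8
      rfl
    have h2 := Nat.card_le_card_of_injective f hinj
    rw [Nat.card_prod] at h2
    have h5 := Nat.mul_le_mul (four_le_card hab) (four_le_card huv)
    omega
  · intro K ha hb hu hv
    rw [hV, closure_le]
    intro y hy
    simp only [Set.mem_insert_iff, Set.mem_singleton_iff] at hy
    rcases hy with rfl | rfl | rfl | rfl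
    · exact ha
    · exact hb
    · exact hu
    · exact hv

/-- the involution `x` acts on the 2-group `V`, `C_V(x)` has one involution `c`, `x` not trivial on `V`: `x ~ xc` -/
theorem grow [Finite G] {T V : Subgroup G} (hT : IsPGroup 2 T) (hVT : V ≤ T) {x c : G} (hxT : x ∈ T)
    (hxx : x * x = 1) (hxV : ∀ q ∈ V, x * q * x⁻¹ ∈ V) (hxn : x ∉ V)
    (hone : ∀ q ∈ V, q * x = x * q → q * q = 1 → q = 1 ∨ q = c) {q₀ : G} (hq₀ : q₀ ∈ V)
    (hne : q₀ * x ≠ x * q₀) : ∃ n ∈ V, n * x * n⁻¹ = x * c := by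
  have hxi : x⁻¹ = x := inv_eq_of_mul_eq_one_left hxx
  -- the groups `A ∪ Ax`
  have ext : ∀ A : Subgroup G, (∀ q ∈ A, x * q * x⁻¹ ∈ A) → ∃ B : Subgroup G, ∀ t, t ∈ B ↔ t ∈ A ∨ t * x ∈ A := by
    intro A hA
    refine ⟨{ carrier := {t | t ∈ A ∨ t * x ∈ A}, one_mem' := Or.inl A.one_mem, mul_mem' := ?_, inv_mem' := ?_ },
      fun t => Iff.rfl⟩
    · rintro t u (ht | ht) (hu | hu)
      · exact Or.inl (A.mul_mem ht hu)
      · right
        rw [mul_assoc]
        exact A.mul_mem ht hu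
      · right
        have e : t * u * x = t * x * (x * u * x⁻¹) := by
          calc t * u * x = t * 1 * u * x := by group
            _ = t * (x * x) * u * x := by rw [hxx]
            _ = t * x * (x * u * x⁻¹) := by rw [hxi]; group
        rw [e]
        exact A.mul_mem ht (hA u hu)
      · left
        have e : t * u = t * x * (x * (u * x) * x⁻¹) := by
          calc t * u = t * 1 * u := by group
            _ = t * (x * x) * u := by rw [hxx]
            _ = t * x * (x * (u * x) * x⁻¹) := by group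
        rw [e]
        exact A.mul_mem ht (hA _ hu)
    · rintro t (ht | ht)
      · exact Or.inl (A.inv_mem ht)
      · right
        have e : t⁻¹ * x = x * (t * x)⁻¹ * x⁻¹ := by
          calc t⁻¹ * x = 1 * t⁻¹ * x := by group
            _ = (x * x) * t⁻¹ * x := by rw [hxx]
            _ = x * (t * x)⁻¹ * x⁻¹ := by rw [mul_inv_rev, hxi]; group
        rw [e]
        exact hA _ (A.inv_mem ht)
  obtain ⟨A, hA⟩ : ∃ A, A = V ⊓ centralizer ({x} : Set G) := ⟨_, rfl⟩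
  have hAx : ∀ q ∈ A, q ∈ V ∧ q * x = x * q := fun q hq => by
    rw [hA] at hq
    exact ⟨hq.1, mem_centralizer_singleton_iff.mp hq.2⟩
  have hAm : ∀ q ∈ V, q * x = x * q → q ∈ A := fun q hq h => by
    rw [hA]
    exact ⟨hq, mem_centralizer_singleton_iff.mpr h⟩
  obtain ⟨U, hUm⟩ := ext A (fun q hq => by
    rw [← (hAx q hq).2, mul_inv_cancel_right]
    exact hq)
  obtain ⟨V', hVm⟩ := ext V hxV
  have hUV : U ≤ V' := fun t ht => (hVm t).mpr (((hUm t).mp ht).imp (fun h => (hAx _ h).1)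
    fun h => (hAx _ h).1)
  have hVT' : V' ≤ T := by
    intro t ht
    rcases (hVm t).mp ht with h | h
    · exact hVT h
    · have h1 := mul_mem (hVT h) hxT
      rwa [mul_assoc, hxx, mul_one] at h1
  have hVU : ¬ V' ≤ U := by
    intro h
    rcases (hUm q₀).mp (h ((hVm q₀).mpr (Or.inl hq₀))) with h1 | h1
    · exact hne (hAx _ h1).2
    · have h2 := (hAx _ h1).2
      apply hne
      rw [mul_assoc, hxx, mul_one, ← mul_assoc] at h2
      calc q₀ * x = x * q₀ * x * x := by rw [← h2]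
        _ = x * q₀ := by rw [mul_assoc, hxx, mul_one]
  obtain ⟨y, hyV, hyU, hn, -⟩ := exists_norm (hT.to_le hVT') hUV hVU
  have hxU : x ∈ U := (hUm x).mpr (Or.inr (by rw [hxx]; exact one_mem _))
  obtain ⟨n, hnQ, hnU, hnx⟩ : ∃ n ∈ V, n ∉ U ∧ n * x * n⁻¹ ∈ U := by
    rcases (hVm y).mp hyV with h | h
    · exact ⟨y, h, hyU, hn x hxU⟩
    · refine ⟨y * x, h, fun h1 => hyU ?_, ?_⟩
      · have h2 := mul_mem h1 hxU
        rwa [mul_assoc, hxx, mul_one] at h2
      · have h2 : y * x * x * (y * x)⁻¹ = y * x * y⁻¹ := by group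
        rw [h2]
        exact hn x hxU
  rcases (hUm _).mp hnx with h | h
  · exfalso
    apply hxn
    have h3 : x = n⁻¹ * (n * x * n⁻¹) * n := by group
    rw [h3]
    exact mul_mem (mul_mem (inv_mem hnQ) (hAx _ h).1) hnQ
  · obtain ⟨ρ, hρ⟩ : ∃ ρ, ρ = n * x * n⁻¹ * x := ⟨_, rfl⟩
    rw [← hρ] at h
    obtain ⟨hρQ, hρx⟩ := hAx _ h
    have h1 : n * x * n⁻¹ = ρ * x := by rw [hρ, mul_assoc (n * x * n⁻¹) x x, hxx, mul_one]
    have h2 : ρ * ρ = 1 := by
      have h3 : n * x * n⁻¹ * (n * x * n⁻¹) = 1 := by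
        calc n * x * n⁻¹ * (n * x * n⁻¹) = n * (x * x) * n⁻¹ := by group
          _ = 1 := by rw [hxx]; group
      rw [h1] at h3
      calc ρ * ρ = ρ * (ρ * (x * x)) := by rw [hxx, mul_one]
        _ = ρ * (ρ * x) * x := by group
        _ = ρ * (x * ρ) * x := by rw [hρx]
        _ = ρ * x * (ρ * x) := by group
        _ = 1 := h3
    rcases hone ρ hρQ hρx h2 with h3 | h3
    · exfalso
      rw [h3, one_mul] at h1
      apply hnU
      refine (hUm n).mpr (Or.inl (hAm n hnQ ?_))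
      calc n * x = n * x * n⁻¹ * n := by group
        _ = x * n := by rw [h1]
    · exact ⟨n, hnQ, by rw [h1, hρx, h3]⟩

namespace Fr

variable {a x d r s : G} {L T T₁ Q P : Subgroup G}

section basic

variable (C : Fr a x d r s L T T₁ Q P)
include C

theorem a2 : a * a = 1 := sq_of_order C.tri.inva
theorem a1 : a ≠ 1 := ne_one_of_order C.tri.inva
theorem x2 : x * x = 1 := sq_of_order C.tri.invx
theorem x1 : x ≠ 1 := ne_one_of_order C.tri.invx
theorem xi : x⁻¹ = x := inv_eq_of_mul_eq_one_left C.x2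
theorem ai : a⁻¹ = a := inv_eq_of_mul_eq_one_left C.a2
theorem si : s⁻¹ = s := inv_eq_of_mul_eq_one_left C.ss
theorem QT : Q ≤ T := fun t ht => ((C.Qdef t).mp ht).1
theorem PT : P ≤ T := fun t ht => ((C.Pdef t).mp ht).1
theorem PL : P ≤ L := fun t ht => ((C.Pdef t).mp ht).2
theorem TN : T ≤ normalizer (L : Set G) := C.TC.trans C.nor
theorem a_comm {t : G} (ht : t ∈ T) : t * a = a * t := mem_centralizer_singleton_iff.mp (C.TC ht)
theorem La {l : G} (hl : l ∈ L) : l * a = a * l := mem_centralizer_singleton_iff.mp (C.tri.comp.le hl)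
theorem xa : x * a = a * x := C.a_comm C.xT
theorem xs : x * s = s * x := C.sT x C.xT
theorem sL : s ∈ L := C.PL C.sP
theorem sT' : s ∈ T := C.PT C.sP
theorem as : a * s = s * a := C.sT a C.aT

theorem aQ : a ∈ Q := (C.Qdef a).mpr ⟨C.aT, Nor.fixes_a C.tri.comp.le⟩

theorem Qconj {t q : G} (ht : t ∈ T) (hq : q ∈ Q) : t * q * t⁻¹ ∈ Q := by
  obtain ⟨h1, h2⟩ := (C.Qdef q).mp hq
  exact (C.Qdef _).mpr ⟨mul_mem (mul_mem ht h1) (inv_mem ht), fixes_conj h2 (C.TN ht)⟩

theorem Pconj {t p : G} (ht : t ∈ T) (hp : p ∈ P) : t * p * t⁻¹ ∈ P := by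
  obtain ⟨h1, h2⟩ := (C.Pdef p).mp hp
  exact (C.Pdef _).mpr ⟨mul_mem (mul_mem ht h1) (inv_mem ht), conj_mem (C.TN ht) h2⟩

theorem s_not : s ∉ Q := fun h => C.s1 (C.disj _ h C.sP)
theorem as_not : a * s ∉ Q := fun h => C.s_not (by
  have h1 := mul_mem (inv_mem C.aQ) h
  rwa [inv_mul_cancel_left] at h1)

theorem a_ne_s : a ≠ s := fun h => C.s_not (h ▸ C.aQ)

theorem fas : Four a s := ⟨C.a2, C.ss, C.a1, C.s1, C.a_ne_s, C.as⟩

theorem rx : r * x ≠ x * r := by
  intro h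
  have h1 := C.xr
  rw [← h, mul_inv_cancel_right] at h1
  exact C.dih.d1 (by
    have : d * r = 1 * r := by rw [one_mul]; exact h1.symm
    exact mul_right_cancel this)

theorem r_ne_s : r ≠ s := fun h => C.rx (by rw [h]; exact C.xs.symm)

theorem fsr : Four s r :=
  ⟨C.ss, C.dih.rr, C.s1, C.dih.r1, C.r_ne_s.symm, (C.sT r (C.PT C.dih.r_mem)).symm⟩

theorem xP : x ∉ P := fun h => C.xT₁ (C.PT₁ h)
theorem xQ : x ∉ Q := fun h => C.xT₁ (C.QT₁ h)

theorem qp_eq {q q' p p' : G} (hq : q ∈ Q) (hq' : q' ∈ Q) (hp : p ∈ P) (hp' : p' ∈ P)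
    (h : q * p = q' * p') : q = q' ∧ p = p' := by
  have h1 : q'⁻¹ * q = p' * p⁻¹ := by
    calc q'⁻¹ * q = q'⁻¹ * (q * p) * p⁻¹ := by group
      _ = p' * p⁻¹ := by rw [h]; group
  have h2 := C.disj _ (mul_mem (inv_mem hq') hq) (h1 ▸ mul_mem hp' (inv_mem hp))
  have h3 : q = q' := by
    rw [inv_mul_eq_one] at h2
    exact h2.symm
  refine ⟨h3, ?_⟩
  rw [h3] at h
  exact mul_left_cancel h

theorem sq_qp {q p : G} (hq : q ∈ Q) (hp : p ∈ P) (h : q * p * (q * p) = 1) : q * q = 1 ∧ p * p = 1 := by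
  have h1 : q * q * (p * p) = 1 * 1 := by
    rw [one_mul, ← h]
    calc q * q * (p * p) = q * (q * p) * p := by group
      _ = q * (p * q) * p := by rw [C.comm q hq p hp]
      _ = q * p * (q * p) := by group
  exact C.qp_eq (mul_mem hq hq) (one_mem _) (mul_mem hp hp) (one_mem _) h1

/-- the only involution of `C_Q(x)` is `a` -/
theorem oneQ {q : G} (hq : q ∈ Q) (hqx : q * x = x * q) (hqq : q * q = 1) : q = 1 ∨ q = a :=
  C.one q hqq (C.a_comm (C.QT hq)) hqx ((C.Qdef q).mp hq).2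

theorem eight_qp {q p : G} (hq : q ∈ Q) (hp : p ∈ P) (hx : q * p * x = x * (q * p))
    (h : q * p * (q * p) = 1) : (q = 1 ∨ q = a) ∧ (p = 1 ∨ p = s) := by
  obtain ⟨h1, h2⟩ := C.sq_qp hq hp h
  have h3 : (x * q * x⁻¹) * (x * p * x⁻¹) = q * p := by
    calc (x * q * x⁻¹) * (x * p * x⁻¹) = x * (q * p) * x⁻¹ := by group
      _ = q * p := by rw [← hx, mul_inv_cancel_right]
  obtain ⟨h4, h5⟩ := C.qp_eq (C.Qconj C.xT hq) hq (C.Pconj C.xT hp) hp h3
  have h6 : q * x = x * q := by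
    calc q * x = x * q * x⁻¹ * x := by rw [h4]
      _ = x * q := by group
  have h7 : p * x = x * p := by
    calc p * x = x * p * x⁻¹ * x := by rw [h5]
      _ = x * p := by group
  exact ⟨C.oneQ hq h6 h1, C.fix p hp h7⟩

/-- the elements of square one of `C_T(x)` -/
theorem eight {t : G} (ht : t ∈ T) (htx : t * x = x * t) (htt : t * t = 1) :
    ∃ i j k : Bool, t = cond i a 1 * cond j s 1 * cond k x 1 := by
  have key : ∀ {q p : G}, (q = 1 ∨ q = a) ∧ (p = 1 ∨ p = s) → ∃ i j : Bool, q * p = cond i a 1 * cond j s 1 := by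
    rintro q p ⟨rfl | rfl, rfl | rfl⟩
    · exact ⟨false, false, rfl⟩
    · exact ⟨false, true, rfl⟩
    · exact ⟨true, false, rfl⟩
    · exact ⟨true, true, rfl⟩
  rcases C.cases t ht htt with ⟨q, hq, p, hp, rfl⟩ | ⟨q, hq, p, hp, rfl⟩ | ⟨-, h, -⟩
  · obtain ⟨i, j, h⟩ := key (C.eight_qp hq hp htx htt)
    exact ⟨i, j, false, by rw [h]; exact (mul_one _).symm⟩
  · have h1 : q * p * x = x * (q * p) := by
      have h2 : q * p * x * x = x * (q * p) * x := by rw [htx]; group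
      exact mul_right_cancel h2
    have h2 : q * p * (q * p) = 1 := by
      calc q * p * (q * p) = q * p * 1 * (q * p) := by group
        _ = q * p * (x * x) * (q * p) := by rw [C.x2]
        _ = q * p * x * (x * (q * p)) := by group
        _ = q * p * x * (q * p * x) := by rw [h1]
        _ = 1 := htt
    obtain ⟨i, j, h⟩ := key (C.eight_qp hq hp h1 h2)
    exact ⟨i, j, true, by rw [h]; rfl⟩
  · exact absurd htx h

/-- the elements of square one of `Z(T)` -/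
theorem omega {t : G} (ht : t ∈ T) (hc : ∀ u ∈ T, t * u = u * t) (htt : t * t = 1) :
    t = 1 ∨ t = a ∨ t = s ∨ t = a * s := by
  obtain ⟨i, j, k, h⟩ := C.eight ht (hc x C.xT) htt
  cases k
  · cases i <;> cases j <;> simp only [cond_true, cond_false, mul_one, one_mul] at h
    · exact Or.inl h
    · exact Or.inr (Or.inr (Or.inl h))
    · exact Or.inr (Or.inl h)
    · exact Or.inr (Or.inr (Or.inr h))
  · exfalso
    apply C.rx
    have hr := C.PT C.dih.r_mem
    obtain ⟨w, hw⟩ : ∃ w, w = cond i a 1 * cond j s 1 := ⟨_, rfl⟩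
    rw [← hw] at h
    have hwr : Commute w r := by
      rw [hw]
      refine Commute.mul_left ?_ ?_
      · cases i
        · exact Commute.one_left r
        · exact (C.a_comm hr).symm
      · cases j
        · exact Commute.one_left r
        · exact (C.sT r hr).symm
    have hx : x = w⁻¹ * t := by rw [h]; simp only [cond_true]; group
    rw [hx]
    exact (hwr.inv_left.mul_left (hc r hr)).symm.eq

end basic

section fin

variable [Finite G] (C : Fr a x d r s L T T₁ Q P)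
include C

/-- `x^p = xs` -/
theorem exists_p : ∃ p ∈ P, p * x * p⁻¹ = x * s :=
  grow C.Tp C.PT C.xT C.x2 (fun _ hq => C.Pconj C.xT hq) C.xP (fun q hq h _ => C.fix q hq h)
    C.dih.r_mem C.rx

/-- `x^n = xa` -/
theorem exists_n {u : G} (hu : u ∈ Q) (huu : u * u = 1) (hu1 : u ≠ 1) (hua : u ≠ a) :
    ∃ n ∈ Q, n * x * n⁻¹ = x * a :=
  grow C.Tp C.QT C.xT C.x2 (fun _ hq => C.Qconj C.xT hq) C.xQ (fun q hq h h1 => C.oneQ hq h h1)
    hu (fun h => by rcases C.oneQ hu h huu with h1 | h1; exacts [hu1 h1, hua h1])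

/-- every involution of `T₁` lies in an `E₁₆` of `T` containing `a` -/
theorem E16 {u : G} (hu : u ∈ Q) (huu : u * u = 1) (hu1 : u ≠ 1) (hua : u ≠ a) {y : G} (hy : y ∈ T₁)
    (hyy : y * y = 1) : ∃ E : Subgroup G, (∀ e ∈ E, e * e = 1) ∧ a ∈ E ∧ s ∈ E ∧ y ∈ E ∧ E ≤ T ∧
      16 ≤ Nat.card E := by
  have main : ∀ b ∈ Q, b * b = 1 → b ≠ 1 → b ≠ a → ∀ v ∈ P, v * v = 1 → v ≠ 1 → v ≠ s →
      ∃ E : Subgroup G, (∀ e ∈ E, e * e = 1) ∧ a ∈ E ∧ b ∈ E ∧ s ∈ E ∧ v ∈ E ∧ E ≤ T ∧ 16 ≤ Nat.card E := by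
    intro b hb hbb hb1 hba v hv hvv hv1 hvs
    have hab : Four a b := ⟨C.a2, hbb, C.a1, hb1, hba.symm, (C.a_comm (C.QT hb)).symm⟩
    have hsv : Four s v := ⟨C.ss, hvv, C.s1, hv1, hvs.symm, (C.sT v (C.PT hv)).symm⟩
    obtain ⟨E, h1, h2, h3, h4, h5, h6, h7⟩ := exists_sixteen hab hsv C.as (C.comm a C.aQ v hv)
      (C.comm b hb s C.sP) (C.comm b hb v hv) (by
        rw [eq_bot_iff]
        rintro z ⟨hz1, hz2⟩
        have hzQ : z ∈ Q := by
          rcases hz1 with rfl | rfl | rfl | rfl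
          · exact one_mem _
          · exact C.aQ
          · exact hb
          · exact mul_mem C.aQ hb
        have hzP : z ∈ P := by
          rcases hz2 with rfl | rfl | rfl | rfl
          · exact one_mem _
          · exact C.sP
          · exact hv
          · exact mul_mem C.sP hv
        exact mem_bot.mpr (C.disj z hzQ hzP))
    exact ⟨E, h1, h2, h3, h4, h5, h7 T C.aT (C.QT hb) C.sT' (C.PT hv), h6⟩
  rcases C.cases y (C.T₁le hy) hyy with ⟨q, hq, p, hp, rfl⟩ | ⟨q, hq, p, hp, rfl⟩ |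
    ⟨-, hyx, ⟨v, hv, hvv, hv1, hvs, hvy⟩, hyQP⟩
  · obtain ⟨hqq, hpp⟩ := C.sq_qp hq hp hyy
    obtain ⟨b, hb, hbb, hb1, hba, hqb⟩ : ∃ b ∈ Q, b * b = 1 ∧ b ≠ 1 ∧ b ≠ a ∧
        ∀ E : Subgroup G, a ∈ E → b ∈ E → q ∈ E := by
      by_cases h1 : q = 1
      · exact ⟨u, hu, huu, hu1, hua, fun E _ _ => h1 ▸ one_mem _⟩
      by_cases h2 : q = a
      · exact ⟨u, hu, huu, hu1, hua, fun E h _ => h2 ▸ h⟩
      · exact ⟨q, hq, hqq, h1, h2, fun E _ h => h⟩
    obtain ⟨v, hv, hvv, hv1, hvs, hpv⟩ : ∃ v ∈ P, v * v = 1 ∧ v ≠ 1 ∧ v ≠ s ∧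
        ∀ E : Subgroup G, s ∈ E → v ∈ E → p ∈ E := by
      by_cases h1 : p = 1
      · exact ⟨r, C.dih.r_mem, C.dih.rr, C.dih.r1, C.r_ne_s, fun E _ _ => h1 ▸ one_mem _⟩
      by_cases h2 : p = s
      · exact ⟨r, C.dih.r_mem, C.dih.rr, C.dih.r1, C.r_ne_s, fun E h _ => h2 ▸ h⟩
      · exact ⟨p, hp, hpp, h1, h2, fun E _ h => h⟩
    obtain ⟨E, h1, h2, h3, h4, h5, h6, h7⟩ := main b hb hbb hb1 hba v hv hvv hv1 hvs
    exact ⟨E, h1, h2, h4, mul_mem (hqb E h2 h3) (hpv E h4 h5), h6, h7⟩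
  · exfalso
    apply C.xT₁
    have h1 := mul_mem (inv_mem (mul_mem (C.QT₁ hq) (C.PT₁ hp))) hy
    rwa [inv_mul_cancel_left] at h1
  · have hyT := C.T₁le hy
    have hy1 : y ≠ 1 := fun h => hyQP 1 (one_mem _) 1 (one_mem _) (by rw [h, mul_one])
    have hya : y ≠ a := fun h => hyQP a C.aQ 1 (one_mem _) (by rw [h, mul_one])
    have hay : Four a y := ⟨C.a2, hyy, C.a1, hy1, hya.symm, (C.a_comm hyT).symm⟩
    have hsv : Four s v := ⟨C.ss, hvv, C.s1, hv1, hvs.symm, (C.sT v (C.PT hv)).symm⟩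
    obtain ⟨E, h1, h2, h3, h4, h5, h6, h7⟩ := exists_sixteen hay hsv C.as (C.comm a C.aQ v hv)
      (C.sT y hyT) hvy.symm (by
        rw [eq_bot_iff]
        rintro z ⟨hz1, hz2⟩
        have hzP : z ∈ P := by
          rcases hz2 with rfl | rfl | rfl | rfl
          · exact one_mem _
          · exact C.sP
          · exact hv
          · exact mul_mem C.sP hv
        rcases hz1 with rfl | rfl | rfl | rfl
        · exact one_mem _
        · exact mem_bot.mpr (C.disj z C.aQ hzP)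
        · exact absurd (one_mul z).symm (hyQP 1 (one_mem _) z hzP)
        · exfalso
          exact hyQP a C.aQ (a * y) hzP (by rw [← mul_assoc, C.a2, one_mul]))
    exact ⟨E, h1, h2, h4, h3, h7 T C.aT hyT C.sT' (C.PT hv), h6⟩

/-- no `E₁₆` in `C(a) ∩ C(x)` -/
theorem card_le {E : Subgroup G} (hE : ∀ e ∈ E, e * e = 1) (hEa : ∀ e ∈ E, e * a = a * e)
    (hEx : ∀ e ∈ E, e * x = x * e) : Nat.card E ≤ 8 := by
  have hEp : IsPGroup 2 E := by
    rintro ⟨g, hg⟩
    exact ⟨1, Subtype.ext (by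
      change g ^ 2 ^ 1 = 1
      rw [pow_one, pow_two]
      exact hE g hg)⟩
  obtain ⟨g, hg, hgE⟩ := FourA.Top.exists_conj (H := centralizer ({a} : Set G) ⊓ centralizer ({x} : Set G))
    (T := T ⊓ centralizer ({x} : Set G)) (C.Tp.to_le inf_le_left) (inf_le_inf_right _ C.TC)
    (fun U hU hTU hUH => le_inf (C.sylx U hU hTU (hUH.trans inf_le_left) (hUH.trans inf_le_right))
      (hUH.trans inf_le_right)) hEp
    (fun e he => mem_inf.mpr ⟨mem_centralizer_singleton_iff.mpr (hEa e he),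
      mem_centralizer_singleton_iff.mpr (hEx e he)⟩)
  have key : ∀ e : E, ∃ b : Bool × Bool × Bool,
      g * e * g⁻¹ = cond b.1 a 1 * cond b.2.1 s 1 * cond b.2.2 x 1 := by
    rintro ⟨e, he⟩
    obtain ⟨h1, h2⟩ := mem_inf.mp (hgE e he)
    obtain ⟨i, j, k, h⟩ := C.eight h1 (mem_centralizer_singleton_iff.mp h2) (by
      calc g * e * g⁻¹ * (g * e * g⁻¹) = g * (e * e) * g⁻¹ := by group
        _ = 1 := by rw [hE e he]; group)
    exact ⟨(i, j, k), h⟩
  choose f hf using key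
  have hinj : Function.Injective f := by
    intro e e' h
    have h1 := hf e
    rw [h, ← hf e'] at h1
    exact Subtype.ext (mul_left_cancel (mul_right_cancel h1))
  have h1 := Nat.card_le_card_of_injective f hinj
  have h4 : Nat.card (Bool × Bool × Bool) = 8 := by
    rw [Nat.card_eq_fintype_card]; rfl
  omega

/-- `T` is not a maximal 2-subgroup of `G` -/
theorem exists_g {U : Subgroup G} (hU : IsPGroup 2 U) (hTU : T ≤ U) (hne : ¬ U ≤ T) :
    ∃ g ∈ U, g ∉ T ∧ (∀ t ∈ T, g * t * g⁻¹ ∈ T) ∧ (∀ t ∈ T, g⁻¹ * t * g ∈ T) ∧ g * g ∈ T ∧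
      (g * a * g⁻¹ = s ∨ g * a * g⁻¹ = a * s) := by
  classical
  obtain ⟨y, hyU, hyT, h1, h2⟩ := exists_norm hU hTU hne
  obtain ⟨n, hn⟩ := hU ⟨y, hyU⟩
  have hn' : y ^ 2 ^ n = 1 := congrArg Subtype.val hn
  have hex : ∃ n, y ^ 2 ^ n ∈ T := ⟨n, hn' ▸ one_mem _⟩
  obtain ⟨k, hk, hmin⟩ : ∃ k, y ^ 2 ^ k ∈ T ∧ ∀ m < k, y ^ 2 ^ m ∉ T :=
    ⟨Nat.find hex, Nat.find_spec hex, fun m hm => Nat.find_min hex hm⟩
  obtain ⟨m, rfl⟩ : ∃ m, k = m + 1 := by
    rcases k with _ | m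
    · rw [pow_zero, pow_one] at hk
      exact absurd hk hyT
    · exact ⟨m, rfl⟩
  have hconj : ∀ j : ℕ, (∀ t ∈ T, y ^ j * t * (y ^ j)⁻¹ ∈ T) ∧ ∀ t ∈ T, (y ^ j)⁻¹ * t * y ^ j ∈ T := by
    intro j
    induction j with
    | zero => exact ⟨fun t ht => by simpa using ht, fun t ht => by simpa using ht⟩
    | succ j ih =>
      refine ⟨fun t ht => ?_, fun t ht => ?_⟩
      · have e : y ^ (j + 1) * t * (y ^ (j + 1))⁻¹ = y * (y ^ j * t * (y ^ j)⁻¹) * y⁻¹ := by
          rw [pow_succ']; group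
        rw [e]
        exact h1 _ (ih.1 t ht)
      · have e : (y ^ (j + 1))⁻¹ * t * y ^ (j + 1) = (y ^ j)⁻¹ * (y⁻¹ * t * y) * y ^ j := by
          rw [pow_succ']; group
        rw [e]
        exact ih.2 _ (h2 t ht)
  obtain ⟨g, hg⟩ : ∃ g, g = y ^ 2 ^ m := ⟨_, rfl⟩
  obtain ⟨h3, h4⟩ := hconj (2 ^ m)
  rw [← hg] at h3 h4
  have hgU : g ∈ U := hg ▸ U.pow_mem hyU _
  have hgT : g ∉ T := hg ▸ hmin m (Nat.lt_succ_self m)
  have hgg : g * g ∈ T := by
    have e : g * g = y ^ 2 ^ (m + 1) := by rw [hg, ← pow_add, ← two_mul, ← pow_succ']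
    rw [e]
    exact hk
  refine ⟨g, hgU, hgT, h3, h4, hgg, ?_⟩
  have h5 : g * a * g⁻¹ ≠ a := by
    intro h5
    apply hgT
    have h6 : T ⊔ zpowers g ≤ T := by
      refine C.syl _ (hU.to_le (sup_le hTU (zpowers_le.mpr hgU))) le_sup_left
        (sup_le C.TC (zpowers_le.mpr (mem_centralizer_singleton_iff.mpr ?_)))
      calc g * a = g * a * g⁻¹ * g := by group
        _ = a * g := by rw [h5]
    exact h6 (mem_sup_right (mem_zpowers g))
  have h6 : g * a * g⁻¹ ≠ 1 := fun h => C.a1 (by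
    calc a = g⁻¹ * (g * a * g⁻¹) * g := by group
      _ = 1 := by rw [h]; group)
  rcases C.omega (h3 a C.aT) (fun u hu => by
    have h7 := C.a_comm (h4 u hu)
    calc g * a * g⁻¹ * u = g * (a * (g⁻¹ * u * g)) * g⁻¹ := by group
      _ = g * (g⁻¹ * u * g * a) * g⁻¹ := by rw [h7]
      _ = u * (g * a * g⁻¹) := by group) (by
    calc g * a * g⁻¹ * (g * a * g⁻¹) = g * (a * a) * g⁻¹ := by group
      _ = 1 := by rw [C.a2]; group) with h | h | h | h
  · exact absurd h h6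
  · exact absurd h h5
  · exact Or.inl h
  · exact Or.inr h

end fin

end Fr

end Cfsg.Agent.UGT.FourB.Frame
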