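import Cfsg.Agent.UGT.FourB.FrFm
import Cfsg.Agent.UGT.FourB.FmTy
import Cfsg.Agent.UGT.FourB.FrameUse
import Cfsg.Agent.UGT.PQ.FldEx

/-!
# NodeR, leaf (L0), `T ∈ Syl₂(G)`: `N(T) ≤ C(a)` (helper414 #16636 (B1))
-/

set_option autoImplicit false

open Cfsg Subgroup
open Cfsg.Agent.SignalizersComponents Cfsg.Agent.Lib
open Cfsg.Agent.SignalizersComponents.IntrinsicBasic
open Cfsg.Agent.Intrinsic.Basic Cfsg.Agent.Intrinsic.Cen
open Cfsg.Agent.McLLyComp.Act
open Cfsg.Agent.GH.L2Aut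
open Cfsg.Agent.UGT.Triple Cfsg.Agent.UGT.TriBase
open scoped commutatorElement

namespace Cfsg.Agent.UGT.FourB.Iso

section dih

variable {G : Type*} [Group G] {P : Subgroup G} {d r s x : G}

/-- `Z(P) = ⟨s⟩` -/
theorem cent_P [Finite G] (h : Dih P d r) (hdd : d * d ≠ 1) (hd : s ∈ zpowers d) (ss : s * s = 1) (s1 : s ≠ 1) {p : G}
    (hp : p ∈ P) (hc1 : p * d = d * p) (hc2 : p * r = r * p) : p = 1 ∨ p = s := by
  rcases h.cov p hp with h1 | ⟨k, rfl⟩
  · refine KSup.cyc_inv hd ss s1 h1 ?_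
    obtain ⟨k, rfl⟩ := mem_zpowers_iff.mp h1
    rw [h.r_pow'] at hc2
    have h3 := mul_right_cancel hc2
    nth_rw 2 [h3]
    rw [← zpow_add, add_neg_cancel, zpow_zero]
  · exfalso
    apply hdd
    have h2 := h.r_pow' 1
    rw [zpow_one] at h2
    have h3 : d ^ k * (d⁻¹ * r) = d ^ k * (d * r) := by
      calc d ^ k * (d⁻¹ * r) = d ^ k * (r * d) := by rw [h2, zpow_neg_one]
        _ = d ^ k * r * d := by group
        _ = d * (d ^ k * r) := hc1
        _ = d ^ k * (d * r) := by group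
    have h4 : d⁻¹ = d := mul_right_cancel (mul_left_cancel h3)
    nth_rw 1 [← h4]
    exact inv_mul_cancel d

/-- no element of `QPx` centralizes `P` -/
theorem no_x [Finite G] (hP : IsPGroup 2 P) (h : Dih P d r) (hdd : d * d ≠ 1) (xd : x * d * x⁻¹ = d⁻¹)
    (xr : x * r * x⁻¹ = d * r) {q p : G} (hq : ∀ y ∈ P, q * y = y * q) (hp : p ∈ P)
    (hc : ∀ y ∈ P, q * p * x * y = y * (q * p * x)) : False := by
  have e1 : p * d⁻¹ = d * p := by
    have h1 := hc d h.d_mem
    have h2 : q * (p * d⁻¹) = q * (d * p) := by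
      calc q * (p * d⁻¹) = q * p * (x * d * x⁻¹) := by rw [xd]; group
        _ = q * p * x * d * x⁻¹ := by group
        _ = d * q * p := by rw [h1]; group
        _ = q * (d * p) := by rw [← hq d h.d_mem]; group
    exact mul_left_cancel h2
  have e2 : p * (d * r) = r * p := by
    have h1 := hc r h.r_mem
    have h2 : q * (p * (d * r)) = q * (r * p) := by
      calc q * (p * (d * r)) = q * p * (x * r * x⁻¹) := by rw [xr]; group
        _ = q * p * x * r * x⁻¹ := by group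
        _ = r * q * p := by rw [h1]; group
        _ = q * (r * p) := by rw [← hq r h.r_mem]; group
    exact mul_left_cancel h2
  rcases h.cov p hp with h1 | ⟨k, rfl⟩
  · obtain ⟨k, rfl⟩ := mem_zpowers_iff.mp h1
    apply hdd
    have h4 : d ^ k * d⁻¹ = d ^ k * d := by rw [e1]; group
    have h5 := mul_left_cancel h4
    nth_rw 1 [← h5]
    exact inv_mul_cancel d
  · have h2 := h.r_pow' 1
    rw [zpow_one] at h2
    have h3 : d ^ (k - 1) = d ^ (-k) := by
      calc d ^ (k - 1) = d ^ k * d ^ (-1 : ℤ) * (r * r) := by rw [h.rr, mul_one, ← zpow_add]; congr 1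
        _ = d ^ k * (r * d) * r := by rw [h2]; group
        _ = d ^ k * r * (d * r) := by group
        _ = r * (d ^ k * r) := e2
        _ = r * d ^ k * r := by group
        _ = d ^ (-k) * (r * r) := by rw [h.r_pow']; group
        _ = d ^ (-k) := by rw [h.rr, mul_one]
    have h4 : d ^ (2 * k - 1) = 1 := by
      have h5 : d ^ (2 * k - 1) = d ^ (k - 1) * d ^ k := by rw [← zpow_add]; congr 1; ring
      rw [h5, h3, ← zpow_add, neg_add_cancel, zpow_zero]
    obtain ⟨n, hn⟩ := hP ⟨d, h.d_mem⟩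
    have h6 := zpowers_odd (c := d) ⟨n, congrArg Subtype.val hn⟩ (k := 2 * k - 1) ⟨k - 1, by ring⟩
    rw [h4, Subgroup.zpowers_one_eq_bot, Subgroup.mem_bot] at h6
    exact h.d1 h6

end dih

/-- elements of 2-power order of a cyclic group -/
theorem pow_of_cyc {A : Type*} [Group A] [Finite A] [IsCyclic A] {u v : A} (hu : ∃ n : ℕ, u ^ 2 ^ n = 1) (hv : v * v = 1)
    (hu1 : u ≠ 1) (hv1 : v ≠ 1) : ∃ k : ℕ, v = u ^ k := by
  obtain ⟨k, h1, h2⟩ := PQ.FldEx.exists_order_two hu hu1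
  refine ⟨k, ?_⟩
  obtain ⟨g, hg⟩ := IsCyclic.exists_generator (α := A)
  rcases KSup.cyc_inv (hg (u ^ k)) h1 h2 (hg v) hv with h3 | h3
  · exact absurd h3 hv1
  · exact h3

variable {G : Type*} [Group G] [Finite G] {a x d r s : G} {L T T₁ Q P : Subgroup G}
  {F : Type*} [Field F] [Finite F] {R : GH.L2Aut.Rep F (↥L ⧸ oddCore ↥L)}

/-- the elements of `C_T(P)` of trivial field part are in `Q⟨s⟩` -/
theorem cp (C : Frame.Fr a x d r s L T T₁ Q P) (H : Fm.Fm R x a d r T Q P) (hdd : d * d ≠ 1)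
    (hs : s ∈ zpowers d) {t : G} (ht : t ∈ T) (hf : R.fld (act L ⟨t, H.TN ht⟩) = 1)
    (hc : ∀ p ∈ P, t * p = p * t) : ∃ q ∈ Q, t = q ∨ t = q * s := by
  rcases Int.units_eq_one_or (R.o1 (act L ⟨t, H.TN ht⟩)) with ho | ho
  · obtain ⟨q, hq, p, hp, rfl⟩ := H.mem_qp ht hf ho
    have key : ∀ y ∈ P, p * y = y * p := by
      intro y hy
      have h1 : q * (p * y) = q * (y * p) := by
        calc q * (p * y) = q * p * y := by group
          _ = y * (q * p) := hc y hy
          _ = y * q * p := by group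
          _ = q * (y * p) := by rw [← H.comm hq hy]; group
      exact mul_left_cancel h1
    rcases cent_P C.dih hdd hs C.ss C.s1 hp (key d C.dih.d_mem) (key r C.dih.r_mem) with rfl | rfl
    · exact ⟨q, hq, Or.inl (mul_one q)⟩
    · exact ⟨q, hq, Or.inr rfl⟩
  · exfalso
    have htx : t * x ∈ T := mul_mem ht C.xT
    have h1 : R.fld (act L ⟨t * x, H.TN htx⟩) = 1 := by
      rw [act_mul (H.TN ht) (H.TN C.xT), map_mul, hf, H.fx, one_mul]
    have h2 : R.o1 (act L ⟨t * x, H.TN htx⟩) = 1 := by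
      rw [act_mul (H.TN ht) (H.TN C.xT), map_mul, ho, H.ox]
      rfl
    obtain ⟨q, hq, p, hp, h3⟩ := H.mem_qp htx h1 h2
    have h4 : t = q * p * x := by rw [← h3, mul_assoc, C.x2, mul_one]
    exact no_x (C.Tp.to_le C.PT) C.dih hdd C.xd C.xr (fun y hy => C.comm q hq y hy) hp (fun y hy => by
      rw [← h4]; exact hc y hy)

/-- no element of order 3 on `Ω₁(Z(T))` -/
theorem no_three (C : Frame.Fr a x d r s L T T₁ Q P) (H : Fm.Fm R x a d r T Q P) (hdd : d * d ≠ 1)
    (hs : s ∈ zpowers d) {m : G} (hm : ∀ t ∈ T, m * t * m⁻¹ ∈ T) (hm' : ∀ t ∈ T, m⁻¹ * t * m ∈ T)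
    (h1 : m * a * m⁻¹ = s) (h2 : m * s * m⁻¹ = a * s) : False := by
  obtain ⟨P', hP'⟩ : ∃ P', P' = cj m P := ⟨_, rfl⟩
  have hmem : ∀ y, y ∈ P' ↔ m⁻¹ * y * m ∈ P := fun y => by rw [hP', mem_cj]
  have hP'T : P' ≤ T := by
    intro y hy
    have h3 := hm _ (C.PT ((hmem y).mp hy))
    have h4 : m * (m⁻¹ * y * m) * m⁻¹ = y := by group
    rwa [h4] at h3
  have hn' : ∀ t ∈ T, ∀ y ∈ P', t * y * t⁻¹ ∈ P' := by
    intro t ht y hy
    rw [hmem] at hy ⊢
    have h3 := C.Pconj (hm' t ht) hy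
    have h4 : m⁻¹ * t * m * (m⁻¹ * y * m) * (m⁻¹ * t * m)⁻¹ = m⁻¹ * (t * y * t⁻¹) * m := by group
    rwa [h4] at h3
  -- the elements of `W ∩ P'`
  have hW : ∀ e ∈ P', orderOf e = 2 → (∀ t ∈ T, t * e = e * t) → e = a * s := by
    intro e he ho hc
    have he1 : e ≠ 1 := ne_one_of_order ho
    have hee := sq_of_order ho
    rw [hmem] at he
    rcases C.omega (C.PT he) (fun u hu => by
        have h3 := hc _ (hm u hu)
        calc m⁻¹ * e * m * u = m⁻¹ * (e * (m * u * m⁻¹)) * m := by group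
          _ = m⁻¹ * (m * u * m⁻¹ * e) * m := by rw [h3]
          _ = u * (m⁻¹ * e * m) := by group) (by
        calc m⁻¹ * e * m * (m⁻¹ * e * m) = m⁻¹ * (e * e) * m := by group
          _ = 1 := by rw [hee]; group) with h3 | h3 | h3 | h3
    · exfalso
      apply he1
      calc e = m * (m⁻¹ * e * m) * m⁻¹ := by group
        _ = 1 := by rw [h3]; group
    · exfalso
      rw [h3] at he
      exact C.a1 (C.disj a C.aQ he)
    · calc e = m * (m⁻¹ * e * m) * m⁻¹ := by group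
        _ = a * s := by rw [h3, h2]
    · exfalso
      rw [h3] at he
      have h4 : a ∈ P := by
        have h5 := P.mul_mem he C.sP
        rwa [mul_assoc, C.ss, mul_one] at h5
      exact C.a1 (C.disj a C.aQ h4)
  have hnorm : ∀ N : Subgroup G, (∀ t ∈ T, ∀ y ∈ N, t * y * t⁻¹ ∈ N) → T ≤ normalizer (N : Set G) := by
    intro N hN t ht
    rw [mem_normalizer_iff]
    intro y
    refine ⟨fun hy => hN t ht y hy, fun hy => ?_⟩
    have h3 := hN _ (inv_mem ht) _ hy
    have h4 : t⁻¹ * (t * y * t⁻¹) * t⁻¹⁻¹ = y := by group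
    rwa [h4] at h3
  have d1 : P ⊓ P' = ⊥ := by
    by_contra hne
    obtain ⟨e, he, ho, hc⟩ := exists_central C.Tp (inf_le_left.trans C.PT) (hnorm (P ⊓ P') fun t ht y hy =>
      ⟨C.Pconj ht hy.1, hn' t ht y hy.2⟩) hne
    have h3 := hW e he.2 ho hc
    have h4 : a ∈ P := by
      have h5 := P.mul_mem he.1 C.sP
      rwa [h3, mul_assoc, C.ss, mul_one] at h5
    exact C.a1 (C.disj a C.aQ h4)
  have d2 : Q ⊓ P' = ⊥ := by
    by_contra hne
    obtain ⟨e, he, ho, hc⟩ := exists_central C.Tp (inf_le_left.trans C.QT) (hnorm (Q ⊓ P') fun t ht y hy =>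
      ⟨C.Qconj ht hy.1, hn' t ht y hy.2⟩) hne
    exact C.as_not (hW e he.2 ho hc ▸ he.1)
  have hcomm : ∀ y ∈ P', ∀ p ∈ P, y * p = p * y := by
    intro y hy p hp
    have h3 : ⁅y, p⁆ ∈ P ⊓ P' := by
      rw [commutatorElement_def]
      refine ⟨P.mul_mem (C.Pconj (hP'T hy) hp) (P.inv_mem hp), ?_⟩
      have h4 : y * p * y⁻¹ * p⁻¹ = y * (p * y⁻¹ * p⁻¹) := by group
      rw [h4]
      exact P'.mul_mem hy (hn' p (C.PT hp) _ (P'.inv_mem hy))
    rw [d1, mem_bot, commutatorElement_eq_one_iff_mul_comm] at h3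
    exact h3
  obtain ⟨u, hu⟩ : ∃ u, u = m * d * m⁻¹ := ⟨_, rfl⟩
  obtain ⟨v, hv⟩ : ∃ v, v = m * r * m⁻¹ := ⟨_, rfl⟩
  have huP : u ∈ P' := by
    rw [hmem, hu]
    have h4 : m⁻¹ * (m * d * m⁻¹) * m = d := by group
    rw [h4]; exact C.dih.d_mem
  have hvP : v ∈ P' := by
    rw [hmem, hv]
    have h4 : m⁻¹ * (m * r * m⁻¹) * m = r := by group
    rw [h4]; exact C.dih.r_mem
  have hvv : v * v = 1 := by
    rw [hv]
    calc m * r * m⁻¹ * (m * r * m⁻¹) = m * (r * r) * m⁻¹ := by group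
      _ = 1 := by rw [C.dih.rr]; group
  -- an element of `P'` of trivial field part commutes with `u` modulo `Q`
  have key : ∀ w ∈ P', ∀ z ∈ P', (∀ h, R.fld (act L ⟨w, h⟩) = 1) → z * w = w * z := by
    intro w hw z hz hf
    obtain ⟨q, hq, h3⟩ := cp C H hdd hs (hP'T hw) (hf _) (fun p hp => hcomm w hw p hp)
    have h5 : ⁅z, w⁆ ∈ Q ⊓ P' := by
      rw [commutatorElement_def]
      refine ⟨?_, P'.mul_mem (P'.mul_mem (P'.mul_mem hz hw) (P'.inv_mem hz)) (P'.inv_mem hw)⟩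
      rcases h3 with h3 | h3
      · rw [h3]
        exact Q.mul_mem (C.Qconj (hP'T hz) hq) (Q.inv_mem hq)
      · rw [h3]
        have h6 : z * s * z⁻¹ = s := by rw [C.sT z (hP'T hz)]; group
        have h4 : z * (q * s) * z⁻¹ * (q * s)⁻¹ = z * q * z⁻¹ * q⁻¹ := by
          calc z * (q * s) * z⁻¹ * (q * s)⁻¹ = z * q * z⁻¹ * (z * s * z⁻¹) * s⁻¹ * q⁻¹ := by group
            _ = z * q * z⁻¹ * q⁻¹ := by rw [h6]; group
        rw [h4]
        exact Q.mul_mem (C.Qconj (hP'T hz) hq) (Q.inv_mem hq)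
    rw [d2, mem_bot, commutatorElement_eq_one_iff_mul_comm] at h5
    exact h5
  have hfin : v * u = u * v := by
    have huN := H.TN (hP'T huP)
    have hvN := H.TN (hP'T hvP)
    by_cases hfv : R.fld (act L ⟨v, hvN⟩) = 1
    · exact (key v hvP u huP fun _ => hfv).symm
    by_cases hfu : R.fld (act L ⟨u, huN⟩) = 1
    · exact key u huP v hvP fun _ => hfu
    have hcyc : IsCyclic (F ≃+* F) := LieRecognition.FieldSemilinear.isCyclic_ringAut F
    have hfin : Finite (F ≃+* F) := Finite.of_injective (fun σ : F ≃+* F => (σ : F → F)) DFunLike.coe_injective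
    obtain ⟨n, hn⟩ := H.pow_T (hP'T huP)
    obtain ⟨k, hk⟩ := pow_of_cyc (u := R.fld (act L ⟨u, huN⟩)) (v := R.fld (act L ⟨v, hvN⟩)) ⟨n, by
        rw [← map_pow, ← map_pow]
        have h3 : (⟨u, huN⟩ : ↥(normalizer (L : Set G))) ^ 2 ^ n = 1 := Subtype.ext hn
        rw [h3, map_one, map_one]⟩ (by
        rw [← map_mul, ← map_mul]
        have h3 : (⟨v, hvN⟩ : ↥(normalizer (L : Set G))) * ⟨v, hvN⟩ = 1 := Subtype.ext hvv
        rw [h3, map_one, map_one]) hfu hfv
    have hw : u ^ k * v ∈ P' := mul_mem (pow_mem huP k) hvP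
    have h3 := key _ hw u huP (fun h => by
      have h4 : (⟨u ^ k * v, h⟩ : ↥(normalizer (L : Set G))) = ⟨u, huN⟩ ^ k * ⟨v, hvN⟩ := rfl
      rw [h4, map_mul, map_pow, map_mul, map_pow, ← hk, ← map_mul, ← map_mul]
      have h3 : (⟨v, hvN⟩ : ↥(normalizer (L : Set G))) * ⟨v, hvN⟩ = 1 := Subtype.ext hvv
      rw [h3, map_one, map_one])
    have h4 : u ^ k * (u * v) = u ^ k * (v * u) := by
      calc u ^ k * (u * v) = u * (u ^ k * v) := by rw [← mul_assoc, ← mul_assoc, ← pow_succ, ← pow_succ']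
        _ = u ^ k * (v * u) := by rw [h3]; group
    exact (mul_left_cancel h4).symm
  apply hdd
  have h3 : r * d = d * r := by
    have h4 : m * (r * d) * m⁻¹ = m * (d * r) * m⁻¹ := by
      calc m * (r * d) * m⁻¹ = v * u := by rw [hu, hv]; group
        _ = m * (d * r) * m⁻¹ := by rw [hfin, hu, hv]; group
    exact mul_left_cancel (mul_right_cancel h4)
  have h4 := C.dih.rd
  rw [h3] at h4
  have h5 : d = d⁻¹ := by rw [← h4]; group
  nth_rw 1 [h5]
  exact inv_mul_cancel d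

/-- **(B1)** -/
theorem isolated (C : Frame.Fr a x d r s L T T₁ Q P) (H : Fm.Fm R x a d r T Q P)
    (hT : ∀ U : Subgroup G, IsPGroup 2 U → T ≤ U → U ≤ T) (hdd : d * d ≠ 1) (hs : s ∈ zpowers d) {g : G}
    (hg : ∀ t ∈ T, g * t * g⁻¹ ∈ T) : g * a * g⁻¹ = a := by
  have hg' : ∀ t ∈ T, g⁻¹ * t * g ∈ T := by
    have h5 : cj g T ≤ T := by
      rintro _ ⟨t, ht, rfl⟩
      exact hg t ht
    have h6 : cj g T = T :=
      Subgroup.eq_of_le_of_card_ge h5 (by rw [TriBase.card_cj])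
    intro t ht
    rw [← h6, mem_cj] at ht
    exact ht
  have hac : ∀ t ∈ T, t * a = a * t := fun t ht => C.a_comm ht
  have hasc : ∀ t ∈ T, t * (a * s) = a * s * t := by
    intro t ht
    rw [← mul_assoc, C.a_comm ht, mul_assoc, C.sT t ht, mul_assoc]
  have hasas : a * s * (a * s) = 1 := by
    calc a * s * (a * s) = a * (s * a) * s := by group
      _ = a * a * (s * s) := by rw [← C.as]; group
      _ = 1 := by rw [C.a2, C.ss, one_mul]
  -- no swap
  have swap : ∀ v w : G, (∀ t ∈ T, t * v = v * t) → g * v * g⁻¹ = w → g * w * g⁻¹ = v → v = w := by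
    intro v w hv h1 h2
    obtain ⟨e, k, hk, hek⟩ := Nat.exists_eq_two_pow_mul_odd (orderOf_pos g).ne'
    have h3 : (g ^ k) ^ 2 ^ e = 1 := by
      rw [← pow_mul, mul_comm, ← hek, pow_orderOf_eq_one]
    have hconj : ∀ j : ℕ, (∀ t ∈ T, g ^ j * t * (g ^ j)⁻¹ ∈ T) := by
      intro j
      induction j with
      | zero => exact fun t ht => by simpa using ht
      | succ j ih =>
        intro t ht
        have e : g ^ (j + 1) * t * (g ^ (j + 1))⁻¹ = g * (g ^ j * t * (g ^ j)⁻¹) * g⁻¹ := by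
          rw [pow_succ']; group
        rw [e]
        exact hg _ (ih t ht)
    have hconj' : ∀ j : ℕ, (∀ t ∈ T, (g ^ j)⁻¹ * t * (g ^ j) ∈ T) := by
      intro j
      induction j with
      | zero => exact fun t ht => by simpa using ht
      | succ j ih =>
        intro t ht
        have e : (g ^ (j + 1))⁻¹ * t * (g ^ (j + 1)) = (g ^ j)⁻¹ * (g⁻¹ * t * g) * g ^ j := by
          rw [pow_succ']; group
        rw [e]
        exact ih _ (hg' t ht)
    have h4 : g ^ k ∈ T := by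
      have h5 : IsPGroup 2 ↥(T ⊔ zpowers (g ^ k) : Subgroup G) := by
        refine IsPGroup.to_sup_of_normal_left' C.Tp (isPGroup_zpowers ⟨e, h3⟩) ?_
        rw [zpowers_le, mem_normalizer_iff]
        intro t
        refine ⟨fun ht => hconj k t ht, fun ht => ?_⟩
        have h6 := hconj' k _ ht
        have h7 : (g ^ k)⁻¹ * (g ^ k * t * (g ^ k)⁻¹) * g ^ k = t := by group
        rwa [h7] at h6
      exact hT _ h5 le_sup_left (mem_sup_right (mem_zpowers _))
    have h5 : ∀ j : ℕ, g ^ (2 * j + 1) * v * (g ^ (2 * j + 1))⁻¹ = w := by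
      intro j
      induction j with
      | zero => simpa using h1
      | succ j ih =>
        have e : g ^ (2 * (j + 1) + 1) * v * (g ^ (2 * (j + 1) + 1))⁻¹ =
            g * (g * (g ^ (2 * j + 1) * v * (g ^ (2 * j + 1))⁻¹) * g⁻¹) * g⁻¹ := by
          have : 2 * (j + 1) + 1 = (2 * j + 1) + 1 + 1 := by ring
          rw [this, pow_succ', pow_succ' g (2 * j + 1)]
          group
        rw [e, ih, h2, h1]
    obtain ⟨j, rfl⟩ := hk
    have h6 := h5 j
    rw [hv _ h4, mul_inv_cancel_right] at h6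
    exact h6
  -- images
  have img : ∀ v ∈ T, v * v = 1 → v ≠ 1 → (∀ t ∈ T, t * v = v * t) →
      g * v * g⁻¹ = a ∨ g * v * g⁻¹ = s ∨ g * v * g⁻¹ = a * s := by
    intro v hvT hvv hv1 hv
    rcases C.omega (hg v hvT) (fun u hu => by
        have h3 := hv _ (hg' u hu)
        calc g * v * g⁻¹ * u = g * (v * (g⁻¹ * u * g)) * g⁻¹ := by group
          _ = g * (g⁻¹ * u * g * v) * g⁻¹ := by rw [h3]
          _ = u * (g * v * g⁻¹) := by group) (by
        calc g * v * g⁻¹ * (g * v * g⁻¹) = g * (v * v) * g⁻¹ := by group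
          _ = 1 := by rw [hvv]; group) with h | h | h | h
    · exfalso
      apply hv1
      calc v = g⁻¹ * (g * v * g⁻¹) * g := by group
        _ = 1 := by rw [h]; group
    · exact Or.inl h
    · exact Or.inr (Or.inl h)
    · exact Or.inr (Or.inr h)
  have has1 : a * s ≠ a := fun h => C.s1 (mul_eq_left.mp h)
  have has2 : a * s ≠ s := fun h => C.a1 (mul_eq_right.mp h)
  have inj : ∀ {v w : G}, g * v * g⁻¹ = g * w * g⁻¹ → v = w := fun h => mul_left_cancel (mul_right_cancel h)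
  rcases img a C.aT C.a2 C.a1 hac with h1 | h1 | h1
  · exact h1
  · exfalso
    rcases img s C.sT' C.ss C.s1 C.sT with h2 | h2 | h2
    · exact C.a_ne_s (swap a s hac h1 h2)
    · exact C.a_ne_s (inj (h1.trans h2.symm))
    · exact no_three C H hdd hs hg hg' h1 h2
  · exfalso
    have e1 : g * (a * s) * g⁻¹ = g * a * g⁻¹ * (g * s * g⁻¹) := by group
    rcases img s C.sT' C.ss C.s1 C.sT with h2 | h2 | h2
    · -- `g⁻¹ : a ↦ s ↦ as`
      have h3 : g * (a * s) * g⁻¹ = s := by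
        rw [e1, h1, h2]
        calc a * s * a = a * (s * a) := by group
          _ = a * a * s := by rw [← C.as]; group
          _ = s := by rw [C.a2, one_mul]
      refine no_three C H hdd hs (m := g⁻¹) (fun t ht => by rw [inv_inv]; exact hg' t ht)
        (fun t ht => by rw [inv_inv]; exact hg t ht) ?_ ?_
      · rw [← h2]; group
      · calc g⁻¹ * s * g⁻¹⁻¹ = g⁻¹ * (g * (a * s) * g⁻¹) * g⁻¹⁻¹ := by rw [h3]
          _ = a * s := by group
    · apply has1
      refine (swap a (a * s) hac h1 ?_).symm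
      rw [e1, h1, h2, mul_assoc, C.ss, mul_one]
    · exact C.a_ne_s (inj (h1.trans h2.symm))

end Cfsg.Agent.UGT.FourB.Iso
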