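import Cfsg.Agent.UGT.FourB.Hom

/-!
# NodeR, leaf (L0), `T ∈ Syl₂(G)`: `x ≁ a`
-/

set_option autoImplicit false

open Cfsg Subgroup
open Cfsg.Agent.SignalizersComponents Cfsg.Agent.Lib
open Cfsg.Agent.SignalizersComponents.IntrinsicBasic
open Cfsg.Agent.Intrinsic.Basic Cfsg.Agent.Intrinsic.Cen
open Cfsg.Agent.UGT.Triple Cfsg.Agent.UGT.RankOneR
open scoped commutatorElement

namespace Cfsg.Agent.UGT.FourB.Frame.Fr

variable {G : Type*} [Group G] [Finite G] {a x d r s : G} {L T T₁ Q P : Subgroup G}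
  (C : Fr a x d r s L T T₁ Q P)
include C

/-- `w ∈ Z(T)` conjugate to `x`: a conjugating element `h` with `(Ω₁(Z(T)))^h ≤ Ω₁(C_T(x))` -/
theorem exists_h (hT : ∀ U : Subgroup G, IsPGroup 2 U → T ≤ U → U ≤ T) {k w : G}
    (hwc : ∀ t ∈ T, t * w = w * t) (hk : k * w * k⁻¹ = x) :
    ∃ h : G, h * w * h⁻¹ = x ∧ ∀ v ∈ T, v * v = 1 → (∀ t ∈ T, t * v = v * t) →
      ∃ i j l : Bool, h * v * h⁻¹ = cond i a 1 * cond j s 1 * cond l x 1 := by
  obtain ⟨h, hh1, hh2⟩ : ∃ h : G, h * w * h⁻¹ = x ∧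
      ∀ t ∈ T, t * x = x * t → h⁻¹ * t * h ∈ T := by
    obtain ⟨c, hc, h1⟩ := FourA.Top.exists_conj (H := centralizer ({x} : Set G))
      (T := IntrinsicBasic.cj k T) (V := T ⊓ centralizer ({x} : Set G)) (C.Tp.map _) (by
        rintro _ ⟨t, ht, rfl⟩
        rw [mem_centralizer_singleton_iff, ← hk]
        exact cj_comm (hwc t ht)) (by
        intro U hU hTU _ u hu
        have h2 := hT (IntrinsicBasic.cj k⁻¹ U) (hU.map _) (by
          intro t ht
          have h3 := hTU (conj_mem_cj (g := k) ht)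
          have h4 := conj_mem_cj (g := k⁻¹) h3
          have h5 : k⁻¹ * (k * t * k⁻¹) * k⁻¹⁻¹ = t := by group
          rwa [h5] at h4) (conj_mem_cj (g := k⁻¹) hu)
        have h3 := conj_mem_cj (g := k) h2
        have h4 : k * (k⁻¹ * u * k⁻¹⁻¹) * k⁻¹ = u := by group
        rwa [h4] at h3) (C.Tp.to_le inf_le_left) inf_le_right
    have hcx := mem_centralizer_singleton_iff.mp hc
    refine ⟨c⁻¹ * k, ?_, fun t ht htx => ?_⟩
    · calc c⁻¹ * k * w * (c⁻¹ * k)⁻¹ = c⁻¹ * (k * w * k⁻¹) * c := by group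
        _ = c⁻¹ * (x * c) := by rw [hk]; group
        _ = x := by rw [← hcx]; group
    · have h2 := h1 t (mem_inf.mpr ⟨ht, mem_centralizer_singleton_iff.mpr htx⟩)
      have h3 := conj_mem_cj (g := k⁻¹) h2
      rw [cj_inv_cj] at h3
      have h4 : (c⁻¹ * k)⁻¹ * t * (c⁻¹ * k) = k⁻¹ * (c * t * c⁻¹) * k⁻¹⁻¹ := by group
      rw [h4]
      exact h3
  have hcen : ∀ v, (∀ t ∈ T, t * v = v * t) → ∀ t ∈ T, t * x = x * t → t * (h * v * h⁻¹) = h * v * h⁻¹ * t := by
    intro v hv t ht htx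
    have h1 := cj_comm (g := h) (hv _ (hh2 t ht htx))
    have h2 : h * (h⁻¹ * t * h) * h⁻¹ = t := by group
    rwa [h2] at h1
  refine ⟨h, hh1, fun v hvT hvv hv => ?_⟩
  obtain ⟨v', hv'⟩ : ∃ v', v' = h * v * h⁻¹ := ⟨_, rfl⟩
  have h1 := hcen v hv a C.aT C.xa.symm
  have h2 := hcen v hv x C.xT rfl
  rw [← hv'] at h1 h2 ⊢
  have hv'v' : v' * v' = 1 := by rw [hv']; exact cj_sq hvv
  refine C.eight ?_ h2.symm hv'v'
  refine RankOneR.mem_of_central (H := centralizer ({a} : Set G) ⊓ centralizer ({x} : Set G))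
    (T := T ⊓ centralizer ({x} : Set G)) (C.Tp.to_le inf_le_left) (inf_le_inf_right _ C.TC)
    (fun U hU hTU hUH => le_inf (C.sylx U hU hTU (hUH.trans inf_le_left) (hUH.trans inf_le_right))
    (hUH.trans inf_le_right)) hv'v'
    (mem_inf.mpr ⟨mem_centralizer_singleton_iff.mpr h1.symm, mem_centralizer_singleton_iff.mpr h2.symm⟩) ?_ |>.1
  intro t ht
  have h3 := hcen v hv t ht.1 (mem_centralizer_singleton_iff.mp ht.2)
  rwa [← hv'] at h3

/-- **(B2)** (helper414 #16636) -/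
theorem not_conj_x (hT : ∀ U : Subgroup G, IsPGroup 2 U → T ≤ U → U ≤ T)
    (has : ∀ k : G, k * a * k⁻¹ ≠ s) (haas : ∀ k : G, k * a * k⁻¹ ≠ a * s)
    {u : G} (hu : u ∈ Q) (huu : u * u = 1) (hu1 : u ≠ 1) (hua : u ≠ a) (k : G) : k * a * k⁻¹ ≠ x := by
  intro hk
  obtain ⟨n, hn, hnx⟩ := C.exists_n hu huu hu1 hua
  obtain ⟨p, hp, hpx⟩ := C.exists_p
  obtain ⟨h, hh, key⟩ := C.exists_h hT (fun t ht => C.a_comm ht) hk
  have hinv : ∀ {u w : G}, h * u * h⁻¹ = w → h⁻¹ * w * h⁻¹⁻¹ = u := by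
    rintro u w rfl; group
  -- the images of `s` and `as`
  have main : ∀ v, (v = s ∨ v = a * s) → h * v * h⁻¹ = s ∨ h * v * h⁻¹ = a * s := by
    intro v hv
    have hna : ∀ g : G, g * a * g⁻¹ ≠ v := by
      rcases hv with rfl | rfl
      · exact has
      · exact haas
    have hvc : ∀ t ∈ T, t * v = v * t := by
      intro t ht
      rcases hv with rfl | rfl
      · exact C.sT t ht
      · exact (Commute.mul_right (show Commute t a from C.a_comm ht) (C.sT t ht)).eq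
    have hvT : v ∈ T := by
      rcases hv with rfl | rfl
      · exact C.sT'
      · exact mul_mem C.aT C.sT'
    have hvv : v * v = 1 := by
      rcases hv with rfl | rfl
      · exact C.ss
      · calc a * s * (a * s) = a * (s * a) * s := by group
          _ = a * a * (s * s) := by rw [← C.as]; group
          _ = 1 := by rw [C.a2, C.ss, one_mul]
    have hv1 : v ≠ 1 := by
      rcases hv with rfl | rfl
      · exact C.s1
      · intro h5
        apply C.a_ne_s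
        rw [← mul_eq_one_iff_eq_inv.mp h5 |>.trans C.si]
    obtain ⟨i, j, l, h3⟩ := key v hvT hvv hvc
    cases l
    · cases i <;> cases j <;> simp only [cond_true, cond_false, mul_one, one_mul] at h3
      · exact absurd h3 (cj_ne hv1)
      · exact Or.inl h3
      · exact absurd (hinv h3) (hna h⁻¹)
      · exact Or.inr h3
    · exfalso
      obtain ⟨g, hg⟩ := C.conj_xw hn hnx hp hpx i j
      rw [cond_true] at h3
      apply hna (h⁻¹ * g⁻¹ * k)
      calc h⁻¹ * g⁻¹ * k * a * (h⁻¹ * g⁻¹ * k)⁻¹ = h⁻¹ * (g⁻¹ * (k * a * k⁻¹) * g) * h := by group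
        _ = h⁻¹ * (g⁻¹ * (g * (h * v * h⁻¹) * g⁻¹) * g) * h := by rw [hk, h3, hg]
        _ = v := by group
  have e1 : h * a * h⁻¹ = h * (a * s) * h⁻¹ * (h * s * h⁻¹) := by
    calc h * a * h⁻¹ = h * (a * (s * s)) * h⁻¹ := by rw [C.ss, mul_one]
      _ = _ := by group
  have hne : h * (a * s) * h⁻¹ ≠ h * s * h⁻¹ := fun h5 =>
    C.a1 (mul_eq_right.mp (mul_left_cancel (mul_right_cancel h5)))
  have e2 : h * a * h⁻¹ = a := by
    rw [e1]
    rcases main s (Or.inl rfl) with h5 | h5 <;> rcases main (a * s) (Or.inr rfl) with h6 | h6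
    · exact absurd (h6.trans h5.symm) hne
    · rw [h5, h6, mul_assoc, C.ss, mul_one]
    · rw [h5, h6, C.as, ← mul_assoc, C.ss, one_mul]
    · exact absurd (h6.trans h5.symm) hne
  apply C.xQ
  rw [← hh, e2]
  exact C.aQ

end Cfsg.Agent.UGT.FourB.Frame.Fr
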