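import Cfsg.Agent.UGT.FourB.FrFm
import Cfsg.Agent.UGT.FourB.FrameUse

/-!
# The frame `Frame.Fr` with or without field elements

* `card_of_fld`: a 2-element with non-trivial field part: `|F| ≡ 1 mod 8`, `|F| ≥ 9`;
* `Fm.hdd`: `|F| ≡ 1 mod 8` implies `d² ≠ 1`;
* `Frame.Fr.dich`: no element of `T` has a field part and `RankOneR.Cfg a x d r L T Q P`, or `Fm R x a d r T Q P`, `d² ≠ 1`,
  `s ∈ ⟨d⟩`, `|F| ≡ 1 mod 8`, `|F| ≥ 9`.
-/

set_option autoImplicit false

open Cfsg Subgroup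
open Cfsg.Agent.SignalizersComponents Cfsg.Agent.Lib
open Cfsg.Agent.SignalizersComponents.IntrinsicBasic
open Cfsg.Agent.SignalizersComponents.PLayerAut
open Cfsg.Agent.Intrinsic.Basic Cfsg.Agent.Intrinsic.Cen Cfsg.Agent.Intrinsic.Diag
open Cfsg.Agent.Intrinsic.Lifting
open Cfsg.Agent.McLLyComp.Act
open Cfsg.Agent.UGT.Triple Cfsg.Agent.UGT.TriBase Cfsg.Agent.UGT.Iface
open Cfsg.Agent.GH.L2Aut (Dih Inn)
open scoped commutatorElement

namespace Cfsg.Agent.UGT.FourB.Fm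

/-- a 2-element with non-trivial field part -/
theorem card_of_fld {K : Type*} [Group K] {F : Type*} [Field F] [Finite F] (R : Cfsg.Agent.GH.L2Aut.Rep F K)
    {α : MulAut K} (hα : ∃ n, α ^ 2 ^ n = 1) (hf : R.fld α ≠ 1) : Nat.card F % 8 = 1 ∧ 9 ≤ Nat.card F := by
  obtain ⟨n, hn⟩ := hα
  obtain ⟨E, -, hcard⟩ := Cfsg.Agent.GH.L2Aut.exists_fixed_field (R.fld α)
  have h1 : orderOf (R.fld α) ∣ 2 ^ n := orderOf_dvd_of_pow_eq_one (by rw [← map_pow, hn, map_one])
  obtain ⟨m, hm, hm2⟩ := (Nat.dvd_prime_pow Nat.prime_two).mp h1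
  obtain ⟨k, rfl⟩ : ∃ k, m = k + 1 := by
    rcases m with _ | m
    · exfalso
      rw [pow_zero] at hm2
      exact hf (orderOf_eq_one_iff.mp hm2)
    · exact ⟨m, rfl⟩
  have hE2 : (2 : E) ≠ 0 := fun h => R.two (congrArg Subtype.val h)
  have hEo : Odd (Nat.card E) := Cfsg.Agent.GH.L2Aut.odd_card hE2
  have hE1 : 1 < Nat.card E := Finite.one_lt_card
  have hE3 : 3 ≤ Nat.card E := by
    obtain ⟨c, hc⟩ := hEo
    omega
  obtain ⟨c, hc⟩ : ∃ c, c = Nat.card E ^ 2 ^ k := ⟨_, rfl⟩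
  have hc3 : 3 ≤ c := by
    rw [hc]
    exact hE3.trans (Nat.le_self_pow (by positivity) _)
  have hco : Odd c := by rw [hc]; exact hEo.pow
  have hFc : Nat.card F = c * c := by
    rw [hcard, hm2, hc, pow_succ, pow_mul, pow_two]
  obtain ⟨b, hb⟩ := hco
  obtain ⟨e, he⟩ := (Nat.even_mul_succ_self b).two_dvd
  have h9 : c * c = 8 * e + 1 := by
    have h10 : (2 * b + 1) * (2 * b + 1) = 4 * (b * (b + 1)) + 1 := by ring
    have h11 : b * (b + 1) = 2 * e := he
    rw [hb, h10, h11]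
    ring
  constructor
  · rw [hFc, h9]
    omega
  · rw [hFc]
    nlinarith

variable {G : Type*} [Group G] {L : Subgroup G} {F : Type*} [Field F] [Finite F]
  {R : Cfsg.Agent.GH.L2Aut.Rep F (↥L ⧸ oddCore ↥L)} {x a d r s : G} {T Q P : Subgroup G}

namespace Fm

variable (H : Fm R x a d r T Q P) [Finite G]
include H

theorem hdd (h8 : Nat.card F % 8 = 1) : d * d ≠ 1 := by
  intro hdd
  have h1 : 2 ^ 3 ∣ Nat.card ↥L := by
    have h2 := R.card_mul_two
    obtain ⟨c, hc⟩ : ∃ c, Nat.card F = 8 * c + 1 := ⟨Nat.card F / 8, by omega⟩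
    have h3 : Nat.card F ^ 2 - 1 = (8 * (8 * c ^ 2 + 2 * c)) := by
      rw [hc]
      have : (8 * c + 1) ^ 2 = 8 * (8 * c ^ 2 + 2 * c) + 1 := by ring
      rw [this, Nat.add_sub_cancel]
    rw [h3] at h2
    have h4 : 8 ∣ Nat.card (↥L ⧸ oddCore ↥L) := by
      have h5 : Nat.card (↥L ⧸ oddCore ↥L) * 2 = (8 * (Nat.card F * (4 * c ^ 2 + c))) * 2 := by
        rw [h2]; ring
      exact ⟨_, Nat.eq_of_mul_eq_mul_right (by norm_num) h5⟩
    exact h4.trans (Subgroup.card_quotient_dvd_card _)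
  have h2 : 2 ^ 3 ∣ Nat.card ↥P := H.psyl.dvd_card h1
  rw [H.dih.card] at h2
  have h12 : orderOf d ∣ 2 := orderOf_dvd_of_pow_eq_one (by rw [sq, hdd])
  have h13 := Nat.le_of_dvd (by norm_num) h12
  have h14 := orderOf_pos d
  have h15 := Nat.le_of_dvd (by omega) h2
  omega

end Fm

end Cfsg.Agent.UGT.FourB.Fm

namespace Cfsg.Agent.UGT.FourB.Frame

universe u

variable {G : Type u} [Group G] {L : Subgroup G} {F : Type*} [Field F] [Finite F]
  {a x d r s : G} {T T₁ Q P : Subgroup G}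

namespace Fr

variable (H : Fr a x d r s L T T₁ Q P)
include H

theorem s_zpow (hdd : d * d ≠ 1) : s ∈ zpowers d := by
  rcases H.dih.cov s H.sP with h | ⟨k, hk⟩
  · exact h
  · exfalso
    apply hdd
    have h1 : d * s = s * d := H.sT d ((H.Pdef d).mp H.dih.d_mem).1
    have h2 : d * r = r * d := by
      have h3 : d ^ k * (d * r) = d ^ k * (r * d) := by
        calc d ^ k * (d * r) = d * (d ^ k * r) := by
              rw [← mul_assoc, ← mul_assoc, ((Commute.refl d).zpow_left k).eq]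
          _ = d * s := by rw [hk]
          _ = s * d := h1
          _ = d ^ k * (r * d) := by rw [hk, mul_assoc]
      exact mul_left_cancel h3
    have h3 := H.dih.rd
    rw [← h2, mul_inv_cancel_right] at h3
    rw [mul_eq_one_iff_eq_inv]
    exact h3

variable [Finite G]

/-- field elements or not -/
theorem dich' (R : Cfsg.Agent.GH.L2Aut.Rep F (↥L ⧸ oddCore ↥L)) (ho : R.o1 (act L ⟨x, H.tri.x_mem⟩) = -1) :
    RankOneR.Cfg a x d r L T Q P ∨
      (Fm.Fm R x a d r T Q P ∧ d * d ≠ 1 ∧ s ∈ zpowers d ∧ Nat.card F % 8 = 1 ∧ 9 ≤ Nat.card F) := by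
  have M := H.toFm R ho
  by_cases hf : ∃ (t : G) (ht : t ∈ T), R.fld (act L ⟨t, M.TN ht⟩) ≠ 1
  · obtain ⟨t, ht, h1⟩ := hf
    obtain ⟨n, hn⟩ := M.pow_T ht
    have h2 := Fm.card_of_fld R (α := act L ⟨t, M.TN ht⟩) ⟨n, by
      rw [← map_pow]
      have e : (⟨t, M.TN ht⟩ : ↥(normalizer (L : Set G))) ^ 2 ^ n = 1 := Subtype.ext hn
      rw [e, map_one]⟩ h1
    have hdd := M.hdd h2.1
    exact Or.inr ⟨M, hdd, H.s_zpow hdd, h2.1, h2.2⟩
  · push Not at hf
    left
    exact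
      { a2 := M.aa
        a1 := M.a1
        x2 := M.xx
        comp := M.comp
        TC := H.TC
        TN := H.TC.trans H.nor
        Tp := H.Tp
        syl := fun U hU hTU hUC _ => H.syl U hU hTU hUC
        aT := H.aT
        xT := H.xT
        sylx := fun U hU hTU hUC _ hUx => H.sylx U hU hTU hUC hUx
        Qdef := H.Qdef
        Pdef := H.Pdef
        disj := H.disj
        comm := H.comm
        dih := H.dih
        xd := H.xd
        xr := H.xr
        cov := by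
          intro t ht
          rcases Int.units_eq_one_or (R.o1 (act L ⟨t, M.TN ht⟩)) with h1 | h1
          · obtain ⟨q, hq, p, hp, h2⟩ := M.mem_qp ht (hf t ht) h1
            exact ⟨q, hq, p, hp, Or.inl h2⟩
          · obtain ⟨q, hq, p, hp, h2⟩ := M.mem_qp (mul_mem ht H.xT)
              (by rw [act_mul (M.TN ht) (M.TN H.xT), map_mul, hf t ht, M.fx, one_mul])
              (by rw [act_mul (M.TN ht) (M.TN H.xT), map_mul, h1, M.ox (M.TN H.xT)]; decide)
            refine ⟨q, hq, p, hp, Or.inr ?_⟩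
            rw [← h2, mul_assoc, M.xx, mul_one] }

/-- field elements or not -/
theorem dich (hP : Res.KFacts.Pgl G) :
    RankOneR.Cfg a x d r L T Q P ∨
      ∃ (F : Type) (_ : Field F) (_ : Finite F) (R : Cfsg.Agent.GH.L2Aut.Rep F (↥L ⧸ oddCore ↥L)),
        R.o1 (act L ⟨x, H.tri.x_mem⟩) = -1 ∧ Fm.Fm R x a d r T Q P ∧ d * d ≠ 1 ∧ s ∈ zpowers d ∧
          Nat.card F % 8 = 1 ∧ 9 ≤ Nat.card F := by
  obtain ⟨F, i1, i2, -, R, ho⟩ := hP.exists_rep H.tri
  rcases H.dich' R ho with h | h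
  · exact Or.inl h
  · exact Or.inr ⟨F, i1, i2, R, ho, h⟩

end Fr

end Cfsg.Agent.UGT.FourB.Frame
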