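import Cfsg.Agent.UGT.FourB.Nine

/-!
# `T < S`, `[P, P^g] = 1`: contradiction

No swap involution is conjugate to `a`, `S = T⟨g⟩`, `T` is strongly closed in `S`.
-/

set_option autoImplicit false

namespace Cfsg.Agent.UGT.FourB.Nine

open Subgroup Cfsg.Agent.UGT.FourB.Ctl

universe u

variable {G : Type u} [Group G]

namespace A1

variable {S T Q P Lf : Subgroup G} {a s x g : G} (H : A1 S T Q P Lf a s x g)
include H

theorem z_sq : a * s * (a * s) = 1 := by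
  rw [← sq_mul H.as_comm, H.aa, H.ss, one_mul]

/-- elements of `Tg` interchange `a` and `s` -/
theorem swap_a {t : G} (ht : t ∈ T) : t * g * a * (t * g)⁻¹ = s := by
  calc t * g * a * (t * g)⁻¹ = t * (g * a * g⁻¹) * t⁻¹ := by group
    _ = s := by rw [H.ga, H.Ts t ht]; group

theorem swap_s {t : G} (ht : t ∈ T) : t * g * s * (t * g)⁻¹ = a := by
  calc t * g * s * (t * g)⁻¹ = t * (g * s * g⁻¹) * t⁻¹ := by group
    _ = a := by rw [H.gs, H.Ta ht]; group

theorem swap_P {t p : G} (ht : t ∈ T) (hp : p ∈ P) : t * g * p * (t * g)⁻¹ ∈ cj g P := by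
  have e : t * g * p * (t * g)⁻¹ = t * (g * p * g⁻¹) * t⁻¹ := by group
  rw [e]
  exact H.symm.Pn ht (cj_mem hp)

theorem swap_J {t j : G} (ht : t ∈ T) (hj : j ∈ cj g P) : t * g * j * (t * g)⁻¹ ∈ P := by
  obtain ⟨p, hp, rfl⟩ := exists_of_cj hj
  have e : t * g * (g * p * g⁻¹) * (t * g)⁻¹ = t * (g * g) * p * (t * (g * g))⁻¹ := by group
  rw [e]
  exact H.Pn (mul_mem ht H.gg) hp

variable [Finite G]

/-- no element of `Tg` is conjugate to `a` -/
theorem no_swap (hS : IsPGroup 2 S) {t h : G} (ht : t ∈ T) : h * a * h⁻¹ ≠ t * g := by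
  intro hb
  obtain ⟨b, hbd⟩ : ∃ b, b = t * g := ⟨_, rfl⟩
  rw [← hbd] at hb
  have hbb : b * b = 1 := by rw [← hb]; exact sq_conj H.aa
  have hbi : b⁻¹ = b := inv_eq_of_mul_eq_one_left hbb
  have bP : ∀ p ∈ P, b * p * b ∈ cj g P := by
    intro p hp
    have := H.swap_P ht hp
    rw [← hbd, hbi] at this
    exact this
  obtain ⟨v, hv, hvv, hv1, hvs⟩ := H.four
  have hvs2 : v * s = s * v := H.Ts v (H.PT hv)
  -- `d p = p (b p b)`
  have dcomm : ∀ p ∈ P, b * (p * (b * p * b)) = p * (b * p * b) * b := by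
    intro p hp
    calc b * (p * (b * p * b)) = (b * p * b) * p * b := by group
      _ = p * (b * p * b) * b := by rw [H.comPJ hp (bP p hp)]
  have dz : ∀ p ∈ P, p * p = 1 → p ≠ 1 → ∃ k, k * (p * (b * p * b)) * k⁻¹ = a * s := by
    intro p hp hpp hp1
    refine H.pair_z hp hpp hp1 (bP p hp) ?_ ?_
    · calc b * p * b * (b * p * b) = b * p * (b * b) * p * b := by group
        _ = b * (p * p) * b := by rw [hbb]; group
        _ = 1 := by rw [hpp, mul_one, hbb]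
    · intro h1
      apply hp1
      calc p = (b * b) * p * (b * b) := by rw [hbb]; group
        _ = b * (b * p * b) * b := by group
        _ = 1 := by rw [h1, mul_one, hbb]
  have bd : ∀ p ∈ P, p * p = 1 → ∃ k, k * b * k⁻¹ = b * (p * (b * p * b)) := by
    intro p hp hpp
    refine ⟨b * p * b, ?_⟩
    have hpi : p⁻¹ = p := inv_eq_of_mul_eq_one_left hpp
    calc b * p * b * b * (b * p * b)⁻¹ = b * p * (b * b) * b⁻¹ * p⁻¹ * b⁻¹ := by group
      _ = b * (p * (b * p * b)) := by rw [hbb, hbi, hpi]; group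
  have dT : ∀ p ∈ P, p * (b * p * b) ∈ T := fun p hp => mul_mem (H.PT hp) (H.JT (bP p hp))
  -- the four-group
  obtain ⟨c, hca, hcT⟩ := H.Tsyl (cj h⁻¹ (T ⊓ centralizer {b})) ((hS.to_le fun y hy => H.TS (mem_inf.1 hy).1).map _) (by
    intro u hu
    obtain ⟨k, hk, rfl⟩ := exists_of_cj hu
    have h1 := comm_conj (g := h⁻¹) (mem_centralizer_singleton_iff.1 (mem_inf.1 hk).2)
    rw [← hb] at h1
    have e : h⁻¹ * (h * a * h⁻¹) * h⁻¹⁻¹ = a := by group
    rwa [e] at h1)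
  obtain ⟨f, hf⟩ : ∃ f, f = c * h⁻¹ := ⟨_, rfl⟩
  have hfT : ∀ p ∈ P, f * (p * (b * p * b)) * f⁻¹ ∈ T := by
    intro p hp
    have h1 := hcT _ (cj_mem (mem_inf.2 ⟨dT p hp, mem_centralizer_singleton_iff.2 (dcomm p hp).symm⟩))
    have e : c * (h⁻¹ * (p * (b * p * b)) * h⁻¹⁻¹) * c⁻¹ = f * (p * (b * p * b)) * f⁻¹ := by rw [hf]; group
    rwa [e] at h1
  have hfb : f * b * f⁻¹ = a := by
    rw [hf, ← hb]
    calc c * h⁻¹ * (h * a * h⁻¹) * (c * h⁻¹)⁻¹ = c * a * c⁻¹ := by group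
      _ = a := by rw [hca]; group
  have key : ∀ p ∈ P, p * p = 1 → p ≠ 1 → a * (f * (p * (b * p * b)) * f⁻¹) ∈ P := by
    intro p hp hpp hp1
    have h1 : a * (f * (p * (b * p * b)) * f⁻¹) ∈ T := mul_mem (H.JT H.aJ) (hfT p hp)
    obtain ⟨k, hk⟩ := bd p hp hpp
    have h2 : a * (f * (p * (b * p * b)) * f⁻¹) = f * k * h * a * (f * k * h)⁻¹ := by
      calc a * (f * (p * (b * p * b)) * f⁻¹) = f * b * f⁻¹ * (f * (p * (b * p * b)) * f⁻¹) := by rw [hfb]
        _ = f * (b * (p * (b * p * b))) * f⁻¹ := by group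
        _ = f * (k * (h * a * h⁻¹) * k⁻¹) * f⁻¹ := by rw [← hk, hb]
        _ = _ := by group
    rcases H.mem_T hS h1 h2.symm with h3 | h3
    · exact h3
    · exfalso
      have h4 : f * (p * (b * p * b)) * f⁻¹ ∈ cj g P := by
        have h5 := mul_mem (inv_mem H.aJ) h3
        have e : a⁻¹ * (a * (f * (p * (b * p * b)) * f⁻¹)) = f * (p * (b * p * b)) * f⁻¹ := by group
        rwa [e] at h5
      obtain ⟨k', hk'⟩ := dz p hp hpp hp1
      obtain ⟨y, hy⟩ : ∃ y, y = f * (p * (b * p * b)) * f⁻¹ := ⟨_, rfl⟩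
      have h6 : (k' * f⁻¹) * y * (k' * f⁻¹)⁻¹ = a * s := by
        rw [hy, ← hk']; group
      have hyy : y * y = 1 := by
        have e : y = (k' * f⁻¹)⁻¹ * (a * s) * (k' * f⁻¹)⁻¹⁻¹ := by rw [← h6]; group
        rw [e]; exact sq_conj H.z_sq
      have hy1 : y ≠ 1 := by
        intro h7
        rw [h7] at h6
        have h8 : a * s = 1 := by rw [← h6]; group
        have h9 : a = s := by
          rw [eq_inv_of_mul_eq_one_left h8]
          exact inv_eq_of_mul_eq_one_left H.ss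
        exact H.s1 (H.PJ1 H.sP (h9 ▸ H.aJ))
      rw [← hy] at h4
      obtain ⟨w, hw⟩ := H.inv_J h4 hyy hy1
      apply H.nz hS (k' * f⁻¹ * w)
      calc k' * f⁻¹ * w * a * (k' * f⁻¹ * w)⁻¹ = (k' * f⁻¹) * (w * a * w⁻¹) * (k' * f⁻¹)⁻¹ := by group
        _ = a * s := by rw [hw, h6]
  have h1 := key v hv hvv hv1
  have h2 := key s H.sP H.ss H.s1
  have hvs3 : v * s ∈ P := mul_mem hv H.sP
  have h3 := key (v * s) hvs3 (by rw [← sq_mul hvs2, hvv, H.ss, one_mul]) (fun h4 => hvs (by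
    rw [eq_inv_of_mul_eq_one_left h4]
    exact inv_eq_of_mul_eq_one_left H.ss))
  -- `d_{vs} = d_v d_s`
  have h4 : v * s * (b * (v * s) * b) = v * (b * v * b) * (s * (b * s * b)) := by
    have h5 := H.comPJ H.sP (bP v hv)
    calc v * s * (b * (v * s) * b) = v * s * (b * v * (1 * s) * b) := by group
      _ = v * s * (b * v * ((b * b) * s) * b) := by rw [hbb]
      _ = v * (s * (b * v * b)) * (b * s * b) := by group
      _ = v * ((b * v * b) * s) * (b * s * b) := by rw [h5]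
      _ = _ := by group
  have hdT := hfT v hv
  have h5 : f * (v * s * (b * (v * s) * b)) * f⁻¹
      = a * (f * (v * (b * v * b)) * f⁻¹) * (a * (f * (s * (b * s * b)) * f⁻¹)) := by
    rw [h4]
    have h6 := H.Ta hdT
    calc f * (v * (b * v * b) * (s * (b * s * b))) * f⁻¹
        = 1 * (f * (v * (b * v * b)) * f⁻¹) * (f * (s * (b * s * b)) * f⁻¹) := by group
      _ = a * a * (f * (v * (b * v * b)) * f⁻¹) * (f * (s * (b * s * b)) * f⁻¹) := by rw [H.aa]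
      _ = a * (a * (f * (v * (b * v * b)) * f⁻¹)) * (f * (s * (b * s * b)) * f⁻¹) := by group
      _ = a * ((f * (v * (b * v * b)) * f⁻¹) * a) * (f * (s * (b * s * b)) * f⁻¹) := by rw [h6]
      _ = _ := by group
  have h6 : a ∈ P := by
    have h7 := mul_mem h3 (inv_mem (mul_mem h1 h2))
    rw [← h5] at h7
    have e : a * (f * (v * s * (b * (v * s) * b)) * f⁻¹) * (f * (v * s * (b * (v * s) * b)) * f⁻¹)⁻¹ = a := by group
    rwa [e] at h7
  exact H.a1 (H.PJ1 h6 H.aJ)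

/-- the conjugates of `a` in `T ∪ Tg` -/
theorem mem_S1 (hS : IsPGroup 2 S) {b h : G} (hb : b ∈ T ∨ ∃ t ∈ T, b = t * g) (hbh : h * a * h⁻¹ = b) :
    b ∈ P ∨ b ∈ cj g P := by
  rcases hb with hb | ⟨t, ht, hb⟩
  · exact H.mem_T hS hb hbh
  · exact (H.no_swap hS ht (hbh.trans hb)).elim

/-- the class of `a` -/
def Dl (a : G) : Set G := {d | ∃ h, h * a * h⁻¹ = d}

omit H [Finite G] in
theorem Dl_conj {d : G} (hd : d ∈ Dl a) (g : G) : g * d * g⁻¹ ∈ Dl a := by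
  obtain ⟨h, rfl⟩ := hd
  exact ⟨g * h, by group⟩

omit [Finite G] in
theorem Dl_sq {d : G} (hd : d ∈ Dl a) : d * d = 1 := by
  obtain ⟨h, rfl⟩ := hd
  exact sq_conj H.aa

omit [Finite G] in
theorem Dl_ne {d : G} (hd : d ∈ Dl a) : d ≠ 1 := by
  obtain ⟨h, rfl⟩ := hd
  exact ne_conj H.a1

theorem mix (hS : IsPGroup 2 S) {d e : G} (hd : d ∈ Dl a) (hdP : d ∈ P) (he : e ∈ Dl a) (heJ : e ∈ cj g P) :
    d * e ∉ Dl a := by
  rintro ⟨h, hh⟩
  obtain ⟨k, hk⟩ := H.pair_z hdP (H.Dl_sq hd) (H.Dl_ne hd) heJ (H.Dl_sq he) (H.Dl_ne he)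
  apply H.nz hS (k * h)
  calc k * h * a * (k * h)⁻¹ = k * (h * a * h⁻¹) * k⁻¹ := by group
    _ = a * s := by rw [hh, hk]

omit [Finite G] in
theorem in_P {d e : G} (hd : d ∈ Dl a) (hdP : d ∈ P) (he : e ∈ Dl a) (heP : e ∈ P) (hc : d * e = e * d)
    (hne : d ≠ e) : d * e ∈ Dl a := by
  refine H.inv_P (mul_mem hdP heP) ?_ ?_
  · rw [← sq_mul hc, H.Dl_sq hd, H.Dl_sq he, one_mul]
  · intro h1
    apply hne
    rw [eq_inv_of_mul_eq_one_left h1]
    exact inv_eq_of_mul_eq_one_left (H.Dl_sq he)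

omit [Finite G] in
theorem in_J {d e : G} (hd : d ∈ Dl a) (hdJ : d ∈ cj g P) (he : e ∈ Dl a) (heJ : e ∈ cj g P) (hc : d * e = e * d)
    (hne : d ≠ e) : d * e ∈ Dl a := by
  refine H.inv_J (mul_mem hdJ heJ) ?_ ?_
  · rw [← sq_mul hc, H.Dl_sq hd, H.Dl_sq he, one_mul]
  · intro h1
    apply hne
    rw [eq_inv_of_mul_eq_one_left h1]
    exact inv_eq_of_mul_eq_one_left (H.Dl_sq he)

theorem rel_PJ (hS : IsPGroup 2 S) {d e : G} (hd : d ∈ Dl a) (hdP : d ∈ P) (he : e ∈ Dl a) (heJ : e ∈ cj g P) :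
    Rel (Dl a) d e := by
  refine ⟨H.comPJ hdP heJ, fun h => ?_, H.mix hS hd hdP he heJ⟩
  exact H.Dl_ne hd (H.PJ1 hdP (h ▸ heJ))

omit [Finite G] in
theorem not_rel_P {d e : G} (hd : d ∈ Dl a) (hdP : d ∈ P) (he : e ∈ Dl a) (heP : e ∈ P) : ¬ Rel (Dl a) d e :=
  fun h => h.2.2 (H.in_P hd hdP he heP h.1 h.2.1)

omit [Finite G] in
theorem not_rel_J {d e : G} (hd : d ∈ Dl a) (hdJ : d ∈ cj g P) (he : e ∈ Dl a) (heJ : e ∈ cj g P) :
    ¬ Rel (Dl a) d e :=
  fun h => h.2.2 (H.in_J hd hdJ he heJ h.1 h.2.1)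

/-- the subgroup `T⟨g⟩` -/
def S1 : Subgroup G where
  carrier := {y | y ∈ T ∨ ∃ t ∈ T, y = t * g}
  one_mem' := Or.inl (one_mem _)
  mul_mem' := by
    rintro y z (hy | ⟨t, ht, rfl⟩) (hz | ⟨u, hu, rfl⟩)
    · exact Or.inl (mul_mem hy hz)
    · exact Or.inr ⟨y * u, mul_mem hy hu, by group⟩
    · exact Or.inr ⟨t * (g * z * g⁻¹), mul_mem ht (H.gT hz), by group⟩
    · left
      have e : t * g * (u * g) = t * (g * u * g⁻¹) * (g * g) := by group
      rw [e]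
      exact mul_mem (mul_mem ht (H.gT hu)) H.gg
  inv_mem' := by
    rintro y (hy | ⟨t, ht, rfl⟩)
    · exact Or.inl (inv_mem hy)
    · right
      refine ⟨(g * g)⁻¹ * (g * t⁻¹ * g⁻¹), mul_mem (inv_mem H.gg) (H.gT (inv_mem ht)), by group⟩

omit [Finite G] in
theorem mem_S1_iff {y : G} : y ∈ H.S1 ↔ y ∈ T ∨ ∃ t ∈ T, y = t * g := Iff.rfl

/-- `S = T⟨g⟩` -/
theorem S_eq (hS : IsPGroup 2 S) : S ≤ H.S1 := by
  by_contra hne
  have hle : H.S1 ≤ S := by
    rintro y (hy | ⟨t, ht, rfl⟩)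
    · exact H.TS hy
    · exact mul_mem (H.TS ht) H.gS
  obtain ⟨w, hwS, hw, hwn⟩ : ∃ w ∈ S, w ∉ H.S1 ∧ w ∈ normalizer (H.S1 : Set G) := by
    by_contra hcon
    push Not at hcon
    apply hne
    have h1 : S = H.S1 := Hex.SE.eq_of_inf_normalizer_le hS hle le_rfl (by
      rintro y ⟨h1, h2⟩
      by_contra h3
      exact hcon y h1 h3 h2)
    exact h1.le
  -- it suffices to treat `w s w⁻¹ ∈ P`
  have main : ∀ w ∈ S, w ∈ normalizer (H.S1 : Set G) → w * s * w⁻¹ ∈ P → w ∈ T := by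
    intro w hwS hwn hws
    have hn : ∀ y ∈ H.S1, w * y * w⁻¹ ∈ H.S1 := fun y hy => (mem_normalizer_iff.1 hwn y).1 hy
    have hn' : ∀ y ∈ H.S1, w⁻¹ * y * w ∈ H.S1 := fun y hy => (mem_normalizer_iff''.1 hwn y).1 hy
    have hsD : s ∈ Dl a := ⟨g, H.ga⟩
    have haD : a ∈ Dl a := ⟨1, by group⟩
    have hJ : ∀ e ∈ cj g P, e ∈ Dl a → w * e * w⁻¹ ∈ cj g P := by
      intro e he heD
      have h1 : w * e * w⁻¹ ∈ Dl a := Dl_conj heD w
      obtain ⟨k, hk⟩ := h1
      rcases H.mem_S1 hS (hn e (Or.inl (H.JT he))) hk with h2 | h2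
      · exfalso
        have h3 := (H.rel_PJ hS hsD H.sP heD he).conj (fun d hd g => Dl_conj hd g) w
        exact H.not_rel_P (Dl_conj hsD w) hws ⟨k, hk⟩ h2 h3
      · exact h2
    have hwa := hJ a H.aJ haD
    have hJ' : ∀ e ∈ cj g P, e ∈ Dl a → w⁻¹ * e * w ∈ cj g P := by
      intro e he heD
      have h1 : w⁻¹ * e * w⁻¹⁻¹ ∈ Dl a := Dl_conj heD w⁻¹
      rw [inv_inv] at h1
      obtain ⟨k, hk⟩ := h1
      rcases H.mem_S1 hS (hn' e (Or.inl (H.JT he))) hk with h2 | h2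
      · exfalso
        have h3 := (H.rel_PJ hS ⟨k, hk⟩ h2 haD H.aJ).conj (fun d hd g => Dl_conj hd g) w
        have e1 : w * (w⁻¹ * e * w) * w⁻¹ = e := by group
        rw [e1] at h3
        exact H.not_rel_J heD he (Dl_conj haD w) hwa h3
      · exact h2
    rcases H.symm.cen _ hwa (sq_conj H.aa) (fun e he hee => by
      by_cases he1 : e = 1
      · rw [he1, mul_one, one_mul]
      · have heD : e ∈ Dl a := H.inv_J he hee he1
        have h1 := hJ' e he heD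
        have h2 := comm_conj (g := w) (H.Ta (H.JT h1))
        have e1 : w * (w⁻¹ * e * w) * w⁻¹ = e := by group
        rw [e1] at h2
        exact h2.symm) with h1 | h1
    · exact absurd h1 (ne_conj H.a1)
    · rw [H.Tdef]
      refine ⟨hwS, ?_⟩
      calc w * a = w * a * w⁻¹ * w := by group
        _ = a * w := by rw [h1]
  have hsD : s ∈ Dl a := ⟨g, H.ga⟩
  obtain ⟨k, hk⟩ : w * s * w⁻¹ ∈ Dl a := Dl_conj hsD w
  rcases H.mem_S1 hS ((mem_normalizer_iff.1 hwn s).1 (Or.inl H.sT)) hk with h1 | h1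
  · exact hw (Or.inl (main w hwS hwn h1))
  · have hgn : g ∈ normalizer (H.S1 : Set G) := le_normalizer (show g ∈ H.S1 from Or.inr ⟨1, one_mem _, by group⟩)
    have h2 := H.swap_J (one_mem T) h1
    have e : 1 * g * (w * s * w⁻¹) * (1 * g)⁻¹ = g * w * s * (g * w)⁻¹ := by group
    rw [e] at h2
    have h3 := main (g * w) (mul_mem H.gS hwS) (mul_mem hgn hwn) h2
    apply hw
    refine H.mem_S1_iff.2 (Or.inr ⟨g⁻¹ * (g * w) * g * (g * g)⁻¹, mul_mem (H.gT' h3) (inv_mem H.gg), by group⟩)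

/-- elements of `S - T` are in `Tg` -/
theorem mem_Tg (hS : IsPGroup 2 S) {u : G} (hu : u ∈ S) (hua : u * a ≠ a * u) : ∃ t ∈ T, u = t * g := by
  rcases H.S_eq hS hu with h1 | h1
  · exact absurd (H.Ta h1) hua
  · exact h1

theorem zC {y : G} (hS : IsPGroup 2 S) (hy : y ∈ S) (hya : y * a ≠ a * y) (hyy : y * y = 1) :
    a * s ∈ ⁅S ⊓ centralizer {y}, S ⊓ centralizer {y}⁆ := by
  obtain ⟨t, ht, hyt⟩ := H.mem_Tg hS hy hya
  have hyi : y⁻¹ = y := inv_eq_of_mul_eq_one_left hyy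
  have yP : ∀ p ∈ P, y * p * y⁻¹ ∈ cj g P := fun p hp => hyt ▸ H.swap_P ht hp
  have hys : y * s * y⁻¹ = a := hyt ▸ H.swap_s ht
  -- the homomorphism `p ↦ p (y p y⁻¹)`
  let f : ↥P →* G :=
    { toFun := fun p => p * (y * p * y⁻¹)
      map_one' := by
        change (1 : G) * (y * 1 * y⁻¹) = 1
        group
      map_mul' := by
        rintro ⟨p, hp⟩ ⟨r, hr⟩
        change p * r * (y * (p * r) * y⁻¹) = p * (y * p * y⁻¹) * (r * (y * r * y⁻¹))
        have h1 := H.comPJ hr (yP p hp)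
        calc p * r * (y * (p * r) * y⁻¹) = p * (r * (y * p * y⁻¹)) * (y * r * y⁻¹) := by group
          _ = p * ((y * p * y⁻¹) * r) * (y * r * y⁻¹) := by rw [h1]
          _ = _ := by group }
  have hf : ∀ p : ↥P, f p ∈ S ⊓ centralizer {y} := by
    rintro ⟨p, hp⟩
    refine mem_inf.2 ⟨mul_mem (H.TS (H.PT hp)) (H.TS (H.JT (yP p hp))), ?_⟩
    rw [mem_centralizer_singleton_iff]
    change p * (y * p * y⁻¹) * y = y * (p * (y * p * y⁻¹))
    have h1 := H.comPJ hp (yP p hp)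
    calc p * (y * p * y⁻¹) * y = (y * p * y⁻¹) * p * y := by rw [h1]
      _ = y * p * (y⁻¹ * p * y) := by group
      _ = y * p * (y * p * y⁻¹) := by rw [hyi]
      _ = _ := by group
  obtain ⟨s', hs', hss⟩ : ∃ s' ∈ _root_.commutator ↥P, (s' : G) = s := by
    have h1 : (_root_.commutator ↥P).map P.subtype = ⁅P, P⁆ := by
      rw [_root_.commutator, map_commutator, ← MonoidHom.range_eq_map, range_subtype]
    have h2 := H.sPP
    rw [← h1] at h2
    exact h2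
  have h1 : (_root_.commutator ↥P).map f ≤ ⁅S ⊓ centralizer {y}, S ⊓ centralizer {y}⁆ := by
    rw [_root_.commutator, map_commutator]
    apply commutator_mono
    · rintro _ ⟨p, -, rfl⟩
      exact hf p
    · rintro _ ⟨p, -, rfl⟩
      exact hf p
  have h2 : f s' = a * s := by
    change (s' : G) * (y * s' * y⁻¹) = a * s
    rw [hss, hys, H.as_comm]
  rw [← h2]
  exact h1 ⟨s', hs', rfl⟩

/-- the structure of (10) -/
theorem sw (hS : IsPGroup 2 S) : Sw S P (cj g P) (Dl a) a (a * s) where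
  aS := H.TS (H.JT H.aJ)
  aD := ⟨1, by group⟩
  aa := H.aa
  zS := mul_mem (H.TS (H.JT H.aJ)) (H.TS H.sT)
  zc u hu := by
    by_cases hua : u * a = a * u
    · have hT : u ∈ T := (H.Tdef u).2 ⟨hu, hua⟩
      calc a * s * u = a * (u * s) := by rw [H.Ts u hT]; group
        _ = (u * a) * s := by rw [hua]; group
        _ = u * (a * s) := by group
    · obtain ⟨t, ht, hut⟩ := H.mem_Tg hS hu hua
      have h1 : u * a * u⁻¹ = s := hut ▸ H.swap_a ht
      have h2 : u * s * u⁻¹ = a := hut ▸ H.swap_s ht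
      calc a * s * u = (u * s * u⁻¹) * (u * a * u⁻¹) * u := by rw [h1, h2]
        _ = u * (s * a) := by group
        _ = u * (a * s) := by rw [H.as_comm]
  zz := H.z_sq
  sw u hu := by
    by_cases hua : u * a = a * u
    · left; rw [hua]; group
    · right
      obtain ⟨t, ht, hut⟩ := H.mem_Tg hS hu hua
      have h1 : u * a * u⁻¹ = s := hut ▸ H.swap_a ht
      rw [h1]
      calc s = a * a * s := by rw [H.aa, one_mul]
        _ = _ := by group
  conj d hd g := Dl_conj hd g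
  sub d hd hdS := by
    obtain ⟨h, hh⟩ := hd
    exact H.mem_S1 hS (H.S_eq hS hdS) hh
  disj d hd hdP hdJ := H.Dl_ne hd (H.PJ1 hdP hdJ)
  nP t ht hta d hd := H.Pn ((H.Tdef t).2 ⟨ht, hta⟩) hd
  nJ t ht hta d hd := H.symm.Pn ((H.Tdef t).2 ⟨ht, hta⟩) hd
  wP u hu hua d hd := by
    obtain ⟨t, ht, hut⟩ := H.mem_Tg hS hu hua
    exact hut ▸ H.swap_P ht hd
  wJ u hu hua d hd := by
    obtain ⟨t, ht, hut⟩ := H.mem_Tg hS hu hua
    exact hut ▸ H.swap_J ht hd
  com d hd e he := H.comPJ hd he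
  mix d hd hdP e he heJ := H.mix hS hd hdP he heJ
  inP d hd hdP e he heP := H.in_P hd hdP he heP
  inJ d hd hdP e he heP := H.in_J hd hdP he heP
  zC y hy hya hyy := H.zC hS hy hya hyy

end A1

/-- **(9) + (10).** -/
theorem A1.false_of [Finite G] {S : Sylow 2 G} {T Q P Lf : Subgroup G} {a s x g : G}
    (H : A1 (S : Subgroup G) T Q P Lf a s x g) {X : Subgroup G} (hX : X ≤ _root_.commutator G)
    (hi : ∀ u, u ∉ X → u * x ∈ X) : False := by
  have hS : IsPGroup 2 (S : Subgroup G) := S.isPGroup'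
  refine (H.sw hS).false_of S hX H.gS (fun h1 => ?_) (fun h1 => ⟨x, H.TS H.xT, H.Ta H.xT, hi g h1⟩)
  have h2 : a = s := by
    rw [← H.ga, h1]; group
  exact H.s1 (H.PJ1 H.sP (h2 ▸ H.aJ))

end Cfsg.Agent.UGT.FourB.Nine
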