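import Cfsg.Agent.UGT.FourB.FmTy
import Cfsg.Agent.UGT.FourB.NineEnd

/-!
# Supply of `Nine.A1` from the frame
-/

set_option autoImplicit false

open Cfsg Subgroup
open Cfsg.Agent.SignalizersComponents Cfsg.Agent.Lib
open Cfsg.Agent.SignalizersComponents.IntrinsicBasic
open Cfsg.Agent.SignalizersComponents.PLayerAut
open Cfsg.Agent.Intrinsic.Basic Cfsg.Agent.Intrinsic.Cen Cfsg.Agent.Intrinsic.Diag
open Cfsg.Agent.Intrinsic.Lifting
open Cfsg.Agent.McLLyComp.Act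
open Cfsg.Agent.UGT.Triple Cfsg.Agent.UGT.TriBase Cfsg.Agent.UGT.Iface
open Cfsg.Agent.GH.L2Aut (Dih Inn)
open scoped commutatorElement

namespace Cfsg.Agent.UGT.FourB.Fm

variable {G : Type*} [Group G] {L : Subgroup G} {F : Type*} [Field F] [Finite F]
  {R : Cfsg.Agent.GH.L2Aut.Rep F (↥L ⧸ oddCore ↥L)} {x a d r : G} {T Q P : Subgroup G}

namespace Fm

variable (H : Fm R x a d r T Q P) [Finite G]
include H

/-- `x ∉ QP` -/
theorem x_ne {q p : G} (hq : q ∈ Q) (hp : p ∈ P) : x ≠ q * p := by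
  intro h
  have hqf := ((H.Qdef q).1 hq).2
  have h4 : act L ⟨q * p, mul_mem hqf.1 (le_normalizer (H.PL hp))⟩ = MulAut.conj (QuotientGroup.mk ⟨p, H.PL hp⟩) := by
    rw [act_mul hqf.1 (le_normalizer (H.PL hp)), (act_eq_one_iff hqf.1).mpr hqf, one_mul, act_of_mem (H.PL hp)]
  have h5 := H.ox (H.TN H.xT)
  rw [act_congr (H.TN H.xT) h, h4, R.o1_conj] at h5
  exact absurd h5 (by decide)

variable {s : G} (hdd : d * d ≠ 1) (hs : s ∈ zpowers d) (hss : s * s = 1) (hs1 : s ≠ 1)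
include hdd hs hss hs1

theorem sP : s ∈ P := by
  have h : zpowers d ≤ P := by rw [zpowers_le]; exact H.dih.d_mem
  exact h hs

theorem s_cen {p : G} (hp : p ∈ P) : p * s = s * p := by
  rcases H.dih.cov p hp with h1 | ⟨k, rfl⟩
  · obtain ⟨m, rfl⟩ := mem_zpowers_iff.mp hs
    obtain ⟨k, rfl⟩ := mem_zpowers_iff.mp h1
    exact ((Commute.refl d).zpow_left _).zpow_right _
  · obtain ⟨m, rfl⟩ := mem_zpowers_iff.mp hs
    have h2 : d ^ (-m) = d ^ m := by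
      rw [zpow_neg]
      exact inv_eq_of_mul_eq_one_left hss
    calc d ^ k * r * d ^ m = d ^ k * (r * d ^ m) := by group
      _ = d ^ k * (d ^ m * r) := by rw [H.dih.r_pow', h2]
      _ = d ^ m * (d ^ k * r) := by
        have h3 : d ^ k * d ^ m = d ^ m * d ^ k := ((Commute.refl d).zpow_left _).zpow_right _
        rw [← mul_assoc, h3, mul_assoc]

theorem Ts {t : G} (ht : t ∈ T) : t * s = s * t := by
  have hsP := H.sP hdd hs hss hs1
  have h1 : t * s * t⁻¹ ∈ P := H.Pn ht hsP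
  have h2 : t * s * t⁻¹ * (t * s * t⁻¹) = 1 := by
    calc t * s * t⁻¹ * (t * s * t⁻¹) = t * (s * s) * t⁻¹ := by group
      _ = 1 := by rw [hss]; group
  rcases KSup.dih_cen H.dih hdd hs hss hs1 h1 h2 (fun w hw _ => by
    have h3 := H.s_cen hdd hs hss hs1 (H.Pn (inv_mem ht) hw)
    rw [inv_inv] at h3
    calc t * s * t⁻¹ * w = t * (s * (t⁻¹ * w * t)) * t⁻¹ := by group
      _ = t * (t⁻¹ * w * t * s) * t⁻¹ := by rw [h3]
      _ = w * (t * s * t⁻¹) := by group) with h3 | h3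
  · exfalso
    apply hs1
    calc s = t⁻¹ * (t * s * t⁻¹) * t := by group
      _ = 1 := by rw [h3]; group
  · calc t * s = t * s * t⁻¹ * t := by group
      _ = s * t := by rw [h3]

/-- **Supply of `Nine.A1`.** -/
theorem toA1 {S : Subgroup G} {g : G} (hTS : ∀ t, t ∈ T ↔ t ∈ S ∧ t * a = a * t) (gS : g ∈ S) (ga : g * a * g⁻¹ = s)
    (gs : g * s * g⁻¹ = a) (JQ : ∀ p ∈ P, g * p * g⁻¹ ∈ Q) (QQ : ∀ q ∈ Q, g * q * g⁻¹ ∈ Q → q = 1)
    (xg : ∃ q ∈ Q, ∃ p ∈ P, g⁻¹ * x * g = q * p * x) (star : ∀ q ∈ Q, q * q = 1 → q * x = x * q → q = 1 ∨ q = a)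
    (starJ : ∀ q ∈ Q, q * q = 1 → (g * q * g⁻¹) * x = x * (g * q * g⁻¹) → q = 1 ∨ q = a)
    (nax : ∀ h : G, h * x * h⁻¹ ≠ a) : Nine.A1 S T Q P L a s x g where
  Tdef := hTS
  Tsyl U hU hc := by
    obtain ⟨k, hk, hle⟩ := H.syl.conj hU (fun u hu => mem_c (hc u hu))
    have hka : Commute k a := comm_c hk
    refine ⟨k⁻¹, hka.inv_left, fun u hu => ?_⟩
    have h1 := hle hu
    rw [mem_cj] at h1
    rwa [inv_inv]
  Ts t ht := H.Ts hdd hs hss hs1 ht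
  gS := gS
  ga := ga
  gs := gs
  aa := H.aa
  a1 := H.a1
  LC l hl := comm_c (H.comp.le hl)
  LN c hc l hl := conj_mem (H.LN (mem_c hc)) hl
  Pdef := H.Pdef
  QT q hq := H.QT hq
  Qn t ht q hq := H.Qn ht hq
  QP q hq p hp := H.comm hq hp
  disj q hq hp := H.disj hq hp
  sP := H.sP hdd hs hss hs1
  JQ := JQ
  QQ := QQ
  der t ht u hu := H.der ht hu
  sPP := KSup.dih_comm H.Pp H.dih hdd hs hss hs1
  kL q hq i hi i' hi' h1 h2 h3 h4 h5 h6 := by
    obtain ⟨n, hn⟩ := H.pow_T (H.QT hq)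
    exact KSup.conj_cent R ((H.Qdef q).1 hq).2 hn hi hi' h1 h2 h3 h4 h5 h6
  k2 y hy hyy hy1 := by
    have hsP := H.sP hdd hs hss hs1
    by_cases h1 : y = s
    · refine ⟨1, one_mem _, by rw [h1]; group, ?_⟩
      have e : (1 : G) * s * 1⁻¹ = s := by group
      rw [e]; exact hsP
    · obtain ⟨l, hl, h2, h3⟩ := KSup.rot R (H.PL hy) (H.PL hsP) hyy hss hy1 hs1 h1 (H.s_cen hdd hs hss hs1 hy)
      exact ⟨l, hl, h2, h3 ▸ mul_mem hy hsP⟩
  four := KSup.dih_four H.dih hs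
  cen y hy hyy hc := KSup.dih_cen H.dih hdd hs hss hs1 hy hyy hc
  xT := H.xT
  xx := H.xx
  xQP q hq p hp := H.x_ne hq hp
  pgl p hp hpx := KSup.dih_pgl H.Pp H.dih H.xx H.xd H.xr hp hpx
  xg := xg
  star := star
  starJ := starJ
  tyL b hb hbb := H.ty hb hbb
  nax := nax

end Fm

end Cfsg.Agent.UGT.FourB.Fm
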