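import Cfsg.Agent.UGT.FourB.ToA1
import Cfsg.Agent.UGT.FourB.FrameUse
import Cfsg.Agent.UGT.FourB.A1Supply

/-!
# NodeR, leaf (L0), the case `T < S`, from the frame `Frame.Fr`

* `fr_of` : `Frame.Fr → GFun.Fr`;
* `sup_of` : `Fm.Fm → GFun.Sup`;
* `false_of` : `T` is a Sylow 2-subgroup of `G`.
-/

set_option autoImplicit false
set_option linter.unusedSectionVars false

open Cfsg Subgroup
open Cfsg.Agent.SignalizersComponents Cfsg.Agent.Lib Cfsg.Agent.SignalizersComponents.RelSylow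
open Cfsg.Agent.Intrinsic.Basic Cfsg.Agent.Intrinsic.Functor
open Cfsg.Agent.McLLyComp.Act
open Cfsg.Agent.UGT.Triple Cfsg.Agent.UGT.Iface
open scoped commutatorElement

namespace Cfsg.Agent.UGT.FourB.T4

universe u

variable {G : Type u} [Group G] [Finite G] {L : Subgroup G} {F : Type*} [Field F] [Finite F]
  {R : Cfsg.Agent.GH.L2Aut.Rep F (↥L ⧸ oddCore ↥L)} {x a d r s : G} {T T₁ Q P : Subgroup G}

/-- the K-side of `Nine.A1` -/
theorem sup_of (H : Fm.Fm R x a d r T Q P) (hdd : d * d ≠ 1) (hs : s ∈ zpowers d) (hss : s * s = 1)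
    (hs1 : s ≠ 1) : GFun.Sup T Q P L a s x where
  der t ht u hu := H.der ht hu
  sPP := KSup.dih_comm H.Pp H.dih hdd hs hss hs1
  kL q hq i hi i' hi' h1 h2 h3 h4 h5 h6 := by
    obtain ⟨n, hn⟩ := H.pow_T (H.QT hq)
    exact KSup.conj_cent R ((H.Qdef q).1 hq).2 hn hi hi' h1 h2 h3 h4 h5 h6
  k2 y hy hyy hy1 := by
    have hsP := H.sP hdd hs hss hs1
    by_cases h1 : y = s
    · refine ⟨1, one_mem _, by rw [h1]; group, ?_⟩
      have e : (1 : G) * s * 1⁻¹ = s := by group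
      rw [e]; exact hsP
    · obtain ⟨l, hl, h2, h3⟩ := KSup.rot R (H.PL hy) (H.PL hsP) hyy hss hy1 hs1 h1 (H.s_cen hdd hs hss hs1 hy)
      exact ⟨l, hl, h2, h3 ▸ mul_mem hy hsP⟩
  cen y hy hyy hc := KSup.dih_cen H.dih hdd hs hss hs1 hy hyy hc
  xQP q hq p hp := H.x_ne hq hp
  pgl p hp hpx := KSup.dih_pgl H.Pp H.dih H.xx H.xd H.xr hp hpx
  tyL b hb hbb := H.ty hb hbb

/-- the frame of `GFun` -/
theorem fr_of (FT : OddSol G) (h5 : 4 < Nat.card F) (C : Frame.Fr a x d r s L T T₁ Q P)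
    (ho : ∀ h, R.o1 (act L ⟨x, h⟩) = -1) {u : G} (hu : u ∈ Q) (huu : u * u = 1) (hu1 : u ≠ 1) (hua : u ≠ a) :
    GFun.Fr T Q P L a s x where
  tri := C.tri
  kf := GFun.kf_of FT h5 (R := R)
    { xN := C.TN C.xT, xx := C.x2, o1 := ho _, sL := C.sL, ss := C.ss, s1 := C.s1, sx := C.xs.symm }
  LN c hc := C.nor (mem_c hc)
  Tmax := ⟨C.Tp, C.TC, fun U hU hUa hTU => C.syl U hU hTU hUa⟩
  Xmax := ⟨C.Tp.to_le inf_le_left, inf_le_inf_right _ C.TC, fun U hU hUa hTU =>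
    le_inf (C.sylx U hU hTU (hUa.trans inf_le_left) (hUa.trans inf_le_right)) (hUa.trans inf_le_right)⟩
  aT := C.aT
  xT := C.xT
  Qdef := C.Qdef
  Pdef := C.Pdef
  QP := C.comm
  sP := C.sP
  ss := C.ss
  s1 := C.s1
  Ts := C.sT
  om y hy hyy hyx := by
    obtain ⟨i, j, k, h⟩ := C.eight hy hyx hyy
    refine ⟨cond i a 1 * cond j s 1, ?_, ?_⟩
    · cases i <;> cases j <;> simp [GFun.In4]
    · cases k
      · left; rw [h]; exact mul_one _
      · right; exact h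
  nQ := C.exists_n hu huu hu1 hua
  pP := C.exists_p
  uQ := ⟨u, hu, huu, hu1, hua⟩
  vP := ⟨r, C.dih.r_mem, C.dih.rr, C.dih.r1, C.r_ne_s⟩

/-- **the case `T < S`** -/
theorem false_of (Wd : GFun.World G) (C : Frame.Fr a x d r s L T T₁ Q P) (H : Fm.Fm R x a d r T Q P)
    (hdd : d * d ≠ 1) (hs : s ∈ zpowers d) (h4 : Nat.card F % 4 = 1) (h9 : 9 ≤ Nat.card F)
    {u : G} (hu : u ∈ Q) (huu : u * u = 1) (hu1 : u ≠ 1) (hua : u ≠ a) {X : Subgroup G}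
    (hX : X ≤ _root_.commutator G) (hi : ∀ u, u ∉ X → u * x ∈ X) (S : Sylow 2 G) (hTS : T ≤ S) : (S : Subgroup G) ≤ T := by
  by_contra hne
  obtain ⟨g, hgS, hgT, h1, -, h3, h4'⟩ := C.exists_g S.2 hTS hne
  have Fr := fr_of (R := R) Wd.FT (by omega) C H.ox hu huu hu1 hua
  refine Fr.false_of R Wd (S := S) (g := g) ⟨hTS, hgS, ?_, h1, h3⟩ (sup_of H hdd hs C.ss C.s1) h4 h9 H.ox hX hi
  intro h
  have h5 : g * a * g⁻¹ = a := by rw [h]; group
  rcases h4' with h6 | h6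
  · exact Fr.a_ne_s (h5.symm.trans h6)
  · rw [h5] at h6
    exact C.s1 (left_eq_mul.mp h6)

end Cfsg.Agent.UGT.FourB.T4
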