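import Cfsg.Agent.UGT.FourB.Comp
import Cfsg.Agent.UGT.FourA.Top
import Cfsg.Agent.Intrinsic.WZeroBal

/-!
# Leaf (L0), `T ∈ Syl₂(G)`, `x ∉ X`: the frame

`Tf X T x a s`: the frame `OneB.Fr T x a s` with `T ∈ Syl₂(G)`, `x ∉ X`, `W = {1, a, s, as} ≤ X`, the cores of `C(v)`, `v ∈ W#`,
trivial, no two elements of `W#` conjugate. `zst`: `[W, C(x)] ≤ O(C(x))`. `dt`: for a bad `v ∈ W#` a component `L` of `C(v)`
with involution `σ ∈ W ∩ L`: `Dt x a s v σ L`.
-/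

set_option autoImplicit false

open Cfsg Subgroup
open Cfsg.Agent.SignalizersComponents Cfsg.Agent.Lib
open Cfsg.Agent.SignalizersComponents.IntrinsicBasic
open Cfsg.Agent.Intrinsic.Basic Cfsg.Agent.Intrinsic.Diag
open Cfsg.Agent.Intrinsic.Functor (OddSol)
open Cfsg.Agent.UGT.Triple Cfsg.Agent.UGT.Iface Cfsg.Agent.UGT.Res.KFacts Cfsg.Agent.UGT.Res.Base
open Cfsg.Agent.UGT.Res.EFacts Cfsg.Agent.UGT.FourA.Hon Cfsg.Agent.UGT.FourA.Top
open Cfsg.Agent.UGT.ThE.Base (IsS)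
open Cfsg.Agent.UGT.FourB.OneB (W4 Fr Bad)
open Cfsg.Agent.UGT.FourA.Basic (cj_mul cj_comm cj_sq cj_ne cj_eq_of_comm comm_of_cj_eq comm_cj_iff)

namespace Cfsg.Agent.UGT.FourB

universe u

variable {G : Type u} [Group G]

/-- the frame -/
structure Tf (X T : Subgroup G) (x a s : G) : Prop where
  fr : Fr T x a s
  I : Idx X x
  aX : a ∈ X
  sX : s ∈ X
  Tmax : ∀ U : Subgroup G, IsPGroup 2 U → T ≤ U → U ≤ T
  cf : ∀ v, W4 a s v → v ≠ 1 → core (centralizer ({v} : Set G)) = ⊥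
  nas : ∀ g : G, g * a * g⁻¹ ≠ s
  naz : ∀ g : G, g * a * g⁻¹ ≠ a * s
  nsz : ∀ g : G, g * s * g⁻¹ ≠ a * s
  pgl : Pgl G
  one : OneInv G
  os : OddSol G
  nx : ∀ v, W4 a s v → ∀ L, IsTriple x v L →
    ∃ n ∈ centralizer (L : Set G), n * v = v * n ∧ n * x * n⁻¹ = x * v

/-- the data of a bad pair `(x, v)`, `v ∈ W` -/
structure Dt (x a s v σ : G) (L : Subgroup G) : Prop where
  cc : CC x v σ L
  tri : IsTriple x v L
  w4 : W4 a s σ
  s1 : σ ≠ 1
  sv : σ ≠ v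
  faith : ∀ d ∈ core (centralizer ({x} : Set G)), d * v = v * d → d ∈ centralizer (L : Set G) → d = 1
  le : ∀ t, IsTo L x t → t ∈ core (centralizer ({x} : Set G))

theorem W4.mul {a s v w : G} (haa : a * a = 1) (hss : s * s = 1) (hsa : s * a = a * s) (hv : W4 a s v)
    (hw : W4 a s w) : W4 a s (v * w) := by
  have h1 : a * (a * s) = s := by rw [← mul_assoc, haa, one_mul]
  have h2 : s * (a * s) = a := by rw [← mul_assoc, hsa, mul_assoc, hss, mul_one]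
  have h3 : a * s * a = s := by rw [mul_assoc, hsa, h1]
  have h4 : a * s * s = a := by rw [mul_assoc, hss, mul_one]
  have h5 : a * s * (a * s) = 1 := by rw [← mul_assoc, h3, hss]
  rcases hv with rfl | rfl | rfl | rfl <;> rcases hw with rfl | rfl | rfl | rfl <;>
    simp [W4, haa, hss, hsa, h1, h2, h3, h4, h5]

namespace Tf

variable {X T : Subgroup G} {x a s : G} (F : Tf X T x a s)
include F

theorem mul {v w : G} (hv : W4 a s v) (hw : W4 a s w) : W4 a s (v * w) :=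
  W4.mul F.fr.aa F.fr.ss F.fr.sas hv hw

theorem comm {v w : G} (hv : W4 a s v) (hw : W4 a s w) : v * w = w * v :=
  F.fr.w4c hw (F.fr.w4T hv)

theorem xv {v : G} (hv : W4 a s v) : x * v = v * x := F.fr.w4c hv F.fr.xT

theorem w4X {v : G} (hv : W4 a s v) : v ∈ X := by
  rcases hv with rfl | rfl | rfl | rfl
  · exact X.one_mem
  · exact F.aX
  · exact F.sX
  · exact X.mul_mem F.aX F.sX

theorem ord {v : G} (hv : W4 a s v) (h1 : v ≠ 1) : orderOf v = 2 :=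
  orderOf_eq_prime (by rw [pow_two]; exact F.fr.w4sq hv) h1

theorem mem_w4 {t : G} (ht : t ∈ T) (htx : t * x = x * t) (htt : t * t = 1) (htX : t ∈ X) :
    W4 a s t := by
  rcases F.fr.e0 t ht htx htt with h | h
  · exact h
  · exfalso
    apply F.I.xX
    have h1 := F.w4X h
    have h2 : x = t⁻¹ * (t * x) := by group
    rw [h2]
    exact X.mul_mem (X.inv_mem htX) h1

/-- no fusion in `W#` -/
theorem rig {g v : G} (hv : W4 a s v) (h1 : v ≠ 1) (h : W4 a s (g * v * g⁻¹)) : g * v * g⁻¹ = v := by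
  have hinv : ∀ {u w : G}, g * u * g⁻¹ = w → g⁻¹ * w * g⁻¹⁻¹ = u := by
    rintro u w rfl; group
  have h2 : g * v * g⁻¹ ≠ 1 := cj_ne h1
  rcases hv with rfl | rfl | rfl | rfl
  · exact absurd rfl h1
  · rcases h with h | h | h | h
    · exact absurd h h2
    · exact h
    · exact absurd h (F.nas g)
    · exact absurd h (F.naz g)
  · rcases h with h | h | h | h
    · exact absurd h h2
    · exact absurd (hinv h) (F.nas g⁻¹)
    · exact h
    · exact absurd h (F.nsz g)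
  · rcases h with h | h | h | h
    · exact absurd h h2
    · exact absurd (hinv h) (F.naz g⁻¹)
    · exact absurd (hinv h) (F.nsz g⁻¹)
    · exact h

theorem isol {g v : G} (hv : W4 a s v) (h1 : v ≠ 1) (hg : g * x = x * g) (hT : g * v * g⁻¹ ∈ T) :
    g * v * g⁻¹ = v := by
  apply F.rig hv h1
  apply F.mem_w4 hT
  · have h2 := cj_comm (g := g) (F.xv hv)
    rw [cj_eq_of_comm hg] at h2
    exact h2.symm
  · exact cj_sq (F.fr.w4sq hv)
  · exact F.I.XN.conj_mem v (F.w4X hv) g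

/-- `C_T(x)` is a Sylow 2-subgroup of `C(x)` -/
theorem syl_x [Finite G] (U : Subgroup G) (hU : IsPGroup 2 U) (h1 : ∀ t ∈ T, t * x = x * t → t ∈ U)
    (h2 : ∀ u ∈ U, u * x = x * u) : U ≤ T := by
  obtain ⟨R, hR⟩ : ∃ R, R = T ⊓ centralizer ({x} : Set G) := ⟨_, rfl⟩
  have hRm : ∀ t, t ∈ R ↔ t ∈ T ∧ t * x = x * t := by
    intro t
    rw [hR, mem_inf, mem_centralizer_singleton_iff]
  have hRU : R ≤ U := fun t ht => h1 t ((hRm t).mp ht).1 ((hRm t).mp ht).2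
  by_contra hne
  have hUR : ¬ U ≤ R := fun h => hne (h.trans (hR ▸ inf_le_left))
  obtain ⟨n, hnU, hnR, h3, h4⟩ := RankOneR.exists_norm hU hRU hUR
  have haR : a ∈ R := (hRm a).mpr ⟨F.fr.aT, F.fr.xa.symm⟩
  have h5 : n * a * n⁻¹ = a :=
    F.isol (Or.inr (Or.inl rfl)) F.fr.a1 (h2 n hnU) ((hRm _).mp (h3 a haR)).1
  have hna : n * a = a * n := by
    calc n * a = n * a * n⁻¹ * n := by group
      _ = a * n := by rw [h5]
  obtain ⟨V, hV⟩ : ∃ V, V = U ⊓ centralizer ({a} : Set G) := ⟨_, rfl⟩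
  have h6 : V ≤ T := by
    refine F.fr.sylx V (hV ▸ hU.to_le inf_le_left) ?_ ?_ ?_
    · intro t ht htx
      rw [hV]
      exact ⟨h1 t ht htx, mem_centralizer_singleton_iff.mpr (F.fr.TC t ht)⟩
    · intro u hu
      rw [hV] at hu
      exact mem_centralizer_singleton_iff.mp hu.2
    · intro u hu
      rw [hV] at hu
      exact h2 u hu.1
  refine hnR ((hRm n).mpr ⟨h6 ?_, h2 n hnU⟩)
  rw [hV]
  exact ⟨hnU, mem_centralizer_singleton_iff.mpr hna⟩

theorem max_x [Finite G] : ∀ U : Subgroup G, IsPGroup 2 U → T ⊓ centralizer ({x} : Set G) ≤ U →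
    U ≤ centralizer ({x} : Set G) → U ≤ T ⊓ centralizer ({x} : Set G) := by
  intro U hU hSU hUx
  refine le_inf (F.syl_x U hU (fun t ht htx => hSU ⟨ht, mem_centralizer_singleton_iff.mpr htx⟩)
    fun u hu => mem_centralizer_singleton_iff.mp (hUx hu)) hUx

/-- `[W, C(x)] ≤ O(C(x))` -/
theorem zst [Finite G] {g v : G} (hv : W4 a s v) (h1 : v ≠ 1) (hg : g * x = x * g) :
    v * g * v⁻¹ * g⁻¹ ∈ core (centralizer ({x} : Set G)) :=
  FourA.Zst.zstar_sub (H := centralizer ({x} : Set G)) (S := T ⊓ centralizer ({x} : Set G))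
    (F.fr.T2.to_le inf_le_left) inf_le_right F.max_x (F.ord hv h1)
    ⟨F.fr.w4T hv, mem_centralizer_singleton_iff.mpr (F.xv hv).symm⟩
    (fun _ hc hcT => F.isol hv h1 (mem_centralizer_singleton_iff.mp hc) hcT.1) g
    (mem_centralizer_singleton_iff.mpr hg)

/-- `T_v ≤ O(C(x))` -/
theorem le_of [Finite G] {L : Subgroup G} {σ : G} (hσ : W4 a s σ) (h1 : σ ≠ 1) (t : Tor L x σ) {y : G}
    (hy : IsTo L x y) : y ∈ core (centralizer ({x} : Set G)) := by
  have h2 := F.zst hσ h1 hy.cx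
  rw [t.inv y hy.mem hy.cx hy.odd] at h2
  have h3 : y * y ∈ core (centralizer ({x} : Set G)) := by
    have h4 := inv_mem h2
    have e : (y⁻¹ * y⁻¹)⁻¹ = y * y := by rw [mul_inv_rev, inv_inv]
    rwa [e] at h4
  exact Cfsg.Agent.Intrinsic.WZero.mem_of_sq_mem hy.odd h3

/-- **the component of a bad pair** -/
theorem dt [Finite G] {v : G} (hv : W4 a s v) (h1 : v ≠ 1) (hb : Bad x v) :
    ∃ (L : Subgroup G) (σ : G), Dt x a s v σ L := by
  obtain ⟨d, hd, hdv, hdn⟩ := hb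
  have hvo := F.ord hv h1
  have hxo : orderOf x = 2 := orderOf_eq_prime (by rw [pow_two]; exact F.fr.xx) F.fr.x1
  obtain ⟨L, Tr, -⟩ := exists_triple hxo hvo (F.xv hv).symm hd (mem_c hdv) hdn
  have hc := F.cf v hv h1
  have hcL : core L = ⊥ := by
    rw [eq_bot_iff, ← hc]
    exact Tr.comp.core_le_core
  have star : ∀ k ∈ centralizer (L : Set G), k * v = v * k → k * x = x * k → k * k = 1 →
      k = 1 ∨ k = v := fun k hk hka hkx hkk => F.one x v L Tr k hkk hka hkx ((fixes_iff hcL).mpr hk)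
  have hnrm := norm_ca Tr hc star F.pgl
  have hLX : L ≤ X := F.I.perfect_le Tr.comp.perfect
  have hLv : ∀ l ∈ L, l * v = v * l := fun l hl => comm_c (Tr.comp.le hl)
  obtain ⟨s₀, hs₀⟩ := exists_isS Tr.comp F.fr.xx Tr.x_mem
  -- `s₀` is conjugate in `C(x)` to an element of `W`
  have hz2 : IsPGroup 2 (zpowers s₀) := by
    rintro ⟨y, hy⟩
    obtain ⟨k, rfl⟩ := mem_zpowers_iff.mp hy
    refine ⟨1, Subtype.ext ?_⟩
    change (s₀ ^ k) ^ 2 ^ 1 = 1
    rw [pow_one, pow_two, ← (Commute.refl s₀).mul_zpow, hs₀.sq, one_zpow]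
  obtain ⟨c, hcx, hcT⟩ := exists_conj (F.fr.T2.to_le inf_le_left) inf_le_right F.max_x hz2 (by
    rw [zpowers_le]
    exact mem_centralizer_singleton_iff.mpr hs₀.comm)
  have hcx' := mem_centralizer_singleton_iff.mp hcx
  have hσT := hcT s₀ (mem_zpowers s₀)
  obtain ⟨σ, hσ⟩ : ∃ σ, σ = c * s₀ * c⁻¹ := ⟨_, rfl⟩
  rw [← hσ] at hσT
  have hσσ : σ * σ = 1 := hσ ▸ cj_sq hs₀.sq
  have hσ1 : σ ≠ 1 := hσ ▸ cj_ne hs₀.ne
  have hσx : σ * x = x * σ := mem_centralizer_singleton_iff.mp hσT.2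
  have hσw : W4 a s σ := F.mem_w4 hσT.1 hσx hσσ (hσ ▸ F.I.XN.conj_mem _ (hLX hs₀.mem) c)
  have hσv : σ * v = v * σ := F.comm hσw hv
  have hsv : s₀ * v = v * s₀ := hLv s₀ hs₀.mem
  have hs0i : s₀⁻¹ = s₀ := inv_eq_of_mul_eq_one_left hs₀.sq
  have hmem : s₀ * σ ∈ core (centralizer ({x} : Set G)) := by
    have hc' : c⁻¹ * x = x * c⁻¹ := by
      calc c⁻¹ * x = c⁻¹ * (x * c) * c⁻¹ := by group
        _ = x * c⁻¹ := by rw [← hcx']; group
    have h2 := F.zst hσw hσ1 hc'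
    have h3 := inv_mem h2
    have e : (σ * c⁻¹ * σ⁻¹ * c⁻¹⁻¹)⁻¹ = s₀ * σ := by
      have e1 : c⁻¹ * σ * c = s₀ := by rw [hσ]; group
      calc (σ * c⁻¹ * σ⁻¹ * c⁻¹⁻¹)⁻¹ = c⁻¹ * σ * c * σ⁻¹ := by group
        _ = s₀ * σ := by rw [e1, inv_eq_of_mul_eq_one_left hσσ]
    rwa [e] at h3
  have hodd : Odd (orderOf (s₀ * σ)) := odd_of_mem (odd_card_core _) hmem
  obtain ⟨e, he, hes⟩ := S0208.result s₀ σ (orderOf_eq_prime (by rw [pow_two]; exact hs₀.sq) hs₀.ne)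
    (orderOf_eq_prime (by rw [pow_two]; exact hσσ) hσ1) hodd
  have hev : e * v = v * e := by
    have h2 : closure ({s₀, σ} : Set G) ≤ centralizer ({v} : Set G) := by
      rw [closure_le]
      rintro y (rfl | rfl)
      · exact mem_centralizer_singleton_iff.mpr hsv
      · exact mem_centralizer_singleton_iff.mpr hσv
    exact mem_centralizer_singleton_iff.mp (h2 he)
  have hσL : σ ∈ L := by
    rw [← hes]
    exact (mem_normalizer_iff.mp (hnrm e hev) _).mp hs₀.mem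
  have hS : IsS L x σ := ⟨hσL, hσx, hσσ, hσ1⟩
  have hcc := cc_of F.pgl Tr hc star (F.nx v hv L Tr) hS
  refine ⟨L, σ, hcc, Tr, hσw, hσ1, ?_, fun d hd hda hdL => faithful Tr hc star F.pgl hd hda hdL,
    fun t ht => F.le_of hσw hσ1 hcc.t ht⟩
  rintro rfl
  exact hσ1 (hcc.h.cen σ hσL (mem_centralizer_iff.mpr hLv))

end Tf

end Cfsg.Agent.UGT.FourB
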