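import Cfsg.Agent.UGT.FourB.NxSup
import Cfsg.Agent.UGT.FourB.Tf
import Cfsg.Agent.UGT.FourA.AlOne

/-!
# Leaf (L0), `T ∈ Syl₂(G)`, `x ∉ X`: the supply of `Tf`, and the case of one bad involution
-/

set_option autoImplicit false

open Cfsg Subgroup
open Cfsg.Agent.SignalizersComponents Cfsg.Agent.Lib
open Cfsg.Agent.SignalizersComponents.IntrinsicBasic
open Cfsg.Agent.Intrinsic.Basic Cfsg.Agent.Intrinsic.Cen Cfsg.Agent.Intrinsic.Diag
open Cfsg.Agent.Intrinsic.Functor (OddSol)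
open Cfsg.Agent.UGT.Triple (IsTriple sq_of_order ne_one_of_order)
open Cfsg.Agent.UGT.Res.KFacts (Pgl)
open Cfsg.Agent.UGT.FourA.Hon (OneInv fixes_iff)
open Cfsg.Agent.UGT.FourA.Top
open Cfsg.Agent.UGT.FourB.Frame
open Cfsg.Agent.UGT.FourB.OneB (W4 Bad)
open scoped commutatorElement

namespace Cfsg.Agent.UGT.FourB.TfSup

universe u

variable {G : Type u} [Group G] [Finite G] {a x d r s : G} {X L T T₁ Q P : Subgroup G}

/-- 669's frame from 45's frame -/
theorem fr_of (C : Fr a x d r s L T T₁ Q P) {u : G} (hu : u ∈ Q) (huu : u * u = 1) (hu1 : u ≠ 1)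
    (hua : u ≠ a) : OneB.Fr T x a s where
  aa := C.a2
  a1 := C.a1
  xx := C.x2
  x1 := C.x1
  ss := C.ss
  s1 := C.s1
  sa := C.a_ne_s.symm
  T2 := C.Tp
  TC := fun t ht => C.a_comm ht
  syl := fun U h1 h2 h3 => C.syl U h1 h2 fun y hy => mem_centralizer_singleton_iff.mpr (h3 y hy)
  aT := C.aT
  xT := C.xT
  sT := C.sT'
  sc := C.sT
  sylx := fun U h1 h2 h3 h4 => C.sylx U h1
    (fun t ht => h2 t ht.1 (mem_centralizer_singleton_iff.mp ht.2))
    (fun y hy => mem_centralizer_singleton_iff.mpr (h3 y hy))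
    (fun y hy => mem_centralizer_singleton_iff.mpr (h4 y hy))
  w4 := fun z hz h1 h2 => C.omega hz (fun t ht => (h1 t ht).symm) h2
  e0 := by
    intro t ht htx htt
    obtain ⟨i, j, k, h⟩ := C.eight ht htx htt
    have key : ∀ i j : Bool, W4 a s (cond i a 1 * cond j s 1) := by
      intro i j
      cases i <;> cases j <;> simp [W4]
    cases k
    · left
      rw [h]
      simpa using key i j
    · right
      rw [h]
      simp only [cond_true]
      rw [mul_assoc, C.x2, mul_one]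
      exact key i j
  hl := by
    obtain ⟨p, hp, hpx⟩ := C.exists_p
    exact ⟨p, C.PT hp, hpx⟩
  hn := by
    obtain ⟨n, hn, hnx⟩ := C.exists_n hu huu hu1 hua
    exact ⟨n, C.QT hn, hnx⟩

/-- the supply of `Tf` -/
theorem tf_of (I : Idx X x) (hcf : ∀ t ∈ X, orderOf t = 2 → core (centralizer ({t} : Set G)) = ⊥)
    (hodd : ∀ N : Subgroup G, N.Normal → Odd (Nat.card N) → N = ⊥) (hc : center G = ⊥)
    (hr : ¬ SectionalPRankLE 2 4 G) (H : Pgl G) (hO : OneInv G) (os : OddSol G)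
    (C : Fr a x d r s L T T₁ Q P) (hmax : ∀ V : Subgroup G, IsPGroup 2 V → T ≤ V → V ≤ T)
    (nas : ∀ g : G, g * a * g⁻¹ ≠ s) (naz : ∀ g : G, g * a * g⁻¹ ≠ a * s)
    (nsz : ∀ g : G, g * s * g⁻¹ ≠ a * s) : Tf X T x a s := by
  obtain ⟨u, hu, huu, hu1, hua⟩ := NxSup.exists_inv hodd hc hr H C hmax
  obtain ⟨n, hn, hnx⟩ := C.exists_n hu huu hu1 hua
  have haX : a ∈ X := by
    have h1 := I.comm_mem n x
    rw [commutatorElement_def, hnx, C.xa, mul_assoc, C.xi, C.x2, mul_one] at h1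
    exact h1
  have hsX : s ∈ X := I.perfect_le C.tri.comp.perfect C.sL
  have hF := fr_of C hu huu hu1 hua
  have hX : ∀ v, W4 a s v → v ∈ X := by
    rintro v (rfl | rfl | rfl | rfl)
    · exact one_mem _
    · exact haX
    · exact hsX
    · exact mul_mem haX hsX
  have hcf' : ∀ v, W4 a s v → v ≠ 1 → core (centralizer ({v} : Set G)) = ⊥ := fun v hv h1 =>
    hcf v (hX v hv) (orderOf_eq_prime (by rw [pow_two]; exact hF.w4sq hv) h1)
  refine
    { fr := hF
      I := I
      aX := haX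
      sX := hsX
      Tmax := hmax
      cf := hcf'
      nas := nas
      naz := naz
      nsz := nsz
      pgl := H
      one := hO
      os := os
      nx := ?_ }
  intro v hv J TJ
  obtain ⟨n, h1, h2, h3⟩ := NxSup.exists_nx hodd hc hr H TJ (fun b h1 h2 h3 h4 => hO x v J TJ b h1 h2 h3 h4)
    C.Tp hmax (fun t ht => mem_centralizer_singleton_iff.mpr (hF.w4c hv ht))
  have hcore : core J = ⊥ := by
    rw [eq_bot_iff, ← hcf' v hv (ne_one_of_order TJ.inva)]
    exact TJ.comp.core_le_core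
  exact ⟨n, (fixes_iff hcore).mp h1, h2, h3⟩

/-- a triple gives a bad pair -/
theorem bad_of {x v : G} {J : Subgroup G} (TJ : IsTriple x v J) : Bad x v := by
  obtain ⟨d, hd, hdv, hf⟩ := TJ.bad
  exact ⟨d, hd, mem_centralizer_singleton_iff.mp hdv, fun h => hf (TJ.comp.fixes_of_core h)⟩

end Cfsg.Agent.UGT.FourB.TfSup
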