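import Cfsg.Agent.UGT.FourB.Pairs

/-!
# Leaf (L0), `T ∈ Syl₂(G)`, `x ∉ X`: three bad elements of `W#`

Step (3) of #14863: not all three elements of `W#` are bad. `T2`: if `a` and another element of `W#` are bad, then `False`.
-/

set_option autoImplicit false

open Cfsg Subgroup
open Cfsg.Agent.SignalizersComponents Cfsg.Agent.Lib
open Cfsg.Agent.SignalizersComponents.IntrinsicBasic
open Cfsg.Agent.Intrinsic.Basic Cfsg.Agent.Intrinsic.Diag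
open Cfsg.Agent.Intrinsic.Functor (OddSol)
open Cfsg.Agent.UGT.Triple Cfsg.Agent.UGT.Iface Cfsg.Agent.UGT.Res.KFacts Cfsg.Agent.UGT.Res.Base
open Cfsg.Agent.UGT.Res.EFacts Cfsg.Agent.UGT.FourA.Hon Cfsg.Agent.UGT.FourA.Top
open Cfsg.Agent.UGT.ThE.Base (IsS K_conj K_le_M L_le_M L_conj comm_of_mem)
open Cfsg.Agent.UGT.FourB.OneB (W4 Fr Bad not_bad)
open Cfsg.Agent.UGT.FourA.Basic (cj_comm cj_sq cj_ne cj_eq_of_comm comm_of_cj_eq comm_cj_iff)
open Cfsg.Agent.Intrinsic.WZero (mem_of_sq_mem)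

namespace Cfsg.Agent.UGT.FourB

universe u

variable {G : Type u} [Group G]

/-- the action on a cyclic group -/
theorem cyc_comm {f τ y : G} (hf : Odd (orderOf f)) (hττ : τ * τ = 1) (hτf : τ * f * τ⁻¹ = f⁻¹)
    (h1 : f * y * f⁻¹ ∈ zpowers y) (h2 : τ * y * τ⁻¹ ∈ zpowers y) : f * y = y * f := by
  obtain ⟨k, hk⟩ := mem_zpowers_iff.mp h1
  obtain ⟨l, hl⟩ := mem_zpowers_iff.mp h2
  have hτi : τ⁻¹ = τ := inv_eq_of_mul_eq_one_left hττ
  have h3 : f * τ * y * (f * τ)⁻¹ = y ^ (k * l) := by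
    calc f * τ * y * (f * τ)⁻¹ = f * (τ * y * τ⁻¹) * f⁻¹ := by group
      _ = f * y ^ l * f⁻¹ := by rw [hl]
      _ = (f * y * f⁻¹) ^ l := (conj_zpow).symm
      _ = y ^ (k * l) := by rw [← hk, zpow_mul]
  have h4 : τ * f * y * (τ * f)⁻¹ = y ^ (k * l) := by
    calc τ * f * y * (τ * f)⁻¹ = τ * (f * y * f⁻¹) * τ⁻¹ := by group
      _ = τ * y ^ k * τ⁻¹ := by rw [hk]
      _ = (τ * y * τ⁻¹) ^ k := (conj_zpow).symm
      _ = y ^ (k * l) := by rw [← hl, ← zpow_mul, mul_comm]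
  have h5 : f * f * y * (f * f)⁻¹ = y := by
    have e1 : f * f = (f⁻¹ * f⁻¹)⁻¹ := by rw [mul_inv_rev, inv_inv]
    have e2 : f⁻¹ * f⁻¹ = (τ * f)⁻¹ * (f * τ) := by
      have e3 : τ⁻¹ * f * τ = f⁻¹ := by
        rw [← hτf, hτi]
      calc f⁻¹ * f⁻¹ = f⁻¹ * (τ⁻¹ * f * τ) := by rw [e3]
        _ = (τ * f)⁻¹ * (f * τ) := by group
    have e4 : f⁻¹ * f⁻¹ * y * (f⁻¹ * f⁻¹)⁻¹ = y := by
      rw [e2]
      calc (τ * f)⁻¹ * (f * τ) * y * ((τ * f)⁻¹ * (f * τ))⁻¹ =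
          (τ * f)⁻¹ * (f * τ * y * (f * τ)⁻¹) * (τ * f) := by group
        _ = (τ * f)⁻¹ * (τ * f * y * (τ * f)⁻¹) * (τ * f) := by rw [h3, h4]
        _ = y := by group
    calc f * f * y * (f * f)⁻¹ = f * f * (f⁻¹ * f⁻¹ * y * (f⁻¹ * f⁻¹)⁻¹) * (f * f)⁻¹ := by rw [e4]
      _ = y := by group
  have h6 : f * f ∈ centralizer ({y} : Set G) := mem_centralizer_singleton_iff.mpr (comm_of_cj_eq h5)
  exact mem_centralizer_singleton_iff.mp (mem_of_sq_mem hf h6)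

theorem exists_pow_sq {e : G} (ho : Odd (orderOf e)) : ∃ m : ℕ, (e * e) ^ m = e := by
  obtain ⟨m, hm⟩ := ho
  refine ⟨m + 1, ?_⟩
  rw [← pow_two, ← pow_mul, show 2 * (m + 1) = (2 * m + 1) + 1 by ring, pow_succ, ← hm,
    pow_orderOf_eq_one, one_mul]

theorem mem_sup_comm {H K : Subgroup G} (h : ∀ a ∈ H, ∀ b ∈ K, a * b = b * a) {g : G}
    (hg : g ∈ H ⊔ K) : ∃ a ∈ H, ∃ b ∈ K, g = a * b := by
  let P : Subgroup G :=
    { carrier := {g | ∃ a ∈ H, ∃ b ∈ K, g = a * b}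
      one_mem' := ⟨1, one_mem _, 1, one_mem _, by rw [mul_one]⟩
      mul_mem' := by
        rintro _ _ ⟨a, ha, b, hb, rfl⟩ ⟨a', ha', b', hb', rfl⟩
        refine ⟨a * a', mul_mem ha ha', b * b', mul_mem hb hb', ?_⟩
        calc a * b * (a' * b') = a * (b * a') * b' := by group
          _ = a * (a' * b) * b' := by rw [h a' ha' b hb]
          _ = a * a' * (b * b') := by group
      inv_mem' := by
        rintro _ ⟨a, ha, b, hb, rfl⟩
        refine ⟨a⁻¹, inv_mem ha, b⁻¹, inv_mem hb, ?_⟩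
        rw [mul_inv_rev]
        exact (h _ (inv_mem ha) _ (inv_mem hb)).symm }
  have h1 : H ⊔ K ≤ P := sup_le (fun a ha => ⟨a, ha, 1, one_mem _, by rw [mul_one]⟩)
    (fun b hb => ⟨1, one_mem _, b, hb, by rw [one_mul]⟩)
  exact h1 hg

variable [Finite G]

theorem norm_of_conj {K : Subgroup G} {g : G} (h : ∀ y ∈ K, g * y * g⁻¹ ∈ K) :
    g ∈ normalizer (K : Set G) := by
  have h1 : K.map (MulAut.conj g).toMonoidHom ≤ K := by
    rintro _ ⟨y, hy, rfl⟩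
    exact h y hy
  have h2 : K.map (MulAut.conj g).toMonoidHom = K :=
    Subgroup.eq_of_le_of_card_ge h1 (by rw [card_map_of_injective (MulAut.conj g).injective])
  rw [mem_normalizer_iff]
  intro y
  refine ⟨h y, fun hy => ?_⟩
  rw [← h2] at hy
  obtain ⟨z, hz, hzy⟩ := hy
  have h3 : g * z * g⁻¹ = g * y * g⁻¹ := hzy
  rwa [← mul_left_cancel (mul_right_cancel h3)]

/-- an elementary abelian characteristic subgroup -/
theorem exists_elem (OS : OddSol G) {K : Subgroup G} (hK : Odd (Nat.card K)) (hK1 : K ≠ ⊥) :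
    ∃ (p : ℕ) (A : Subgroup G), p.Prime ∧ p ≠ 2 ∧ A ≤ K ∧ A ≠ ⊥ ∧
      (∀ y ∈ A, ∀ z ∈ A, y * z = z * y) ∧ (∀ y ∈ A, y ^ p = 1) ∧
      normalizer (K : Set G) ≤ normalizer (A : Set G) := by
  obtain ⟨N, hNK, hN1, hNc, hKN⟩ := exists_abel (OS K hK) hK1
  have hN2 : Nat.card N ≠ 1 := fun h => hN1 (card_eq_one.mp h)
  obtain ⟨p, hp, hpN⟩ := Nat.exists_prime_and_dvd hN2
  let A : Subgroup G :=
    { carrier := {y | y ∈ N ∧ y ^ p = 1}
      one_mem' := ⟨one_mem _, one_pow _⟩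
      mul_mem' := by
        rintro y z ⟨hy, hy1⟩ ⟨hz, hz1⟩
        refine ⟨mul_mem hy hz, ?_⟩
        rw [(show Commute y z from hNc y hy z hz).mul_pow, hy1, hz1, one_mul]
      inv_mem' := by
        rintro y ⟨hy, hy1⟩
        exact ⟨inv_mem hy, by rw [inv_pow, hy1, inv_one]⟩ }
  have hF : Fact p.Prime := ⟨hp⟩
  refine ⟨p, A, hp, ?_, fun y hy => hNK hy.1, ?_, fun y hy z hz => hNc y hy.1 z hz.1,
    fun y hy => hy.2, hKN.trans ?_⟩
  · rintro rfl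
    have h1 := Odd.of_dvd_nat hK (card_dvd_of_le hNK)
    exact (Nat.not_even_iff_odd.mpr h1) (even_iff_two_dvd.mpr hpN)
  · intro h
    obtain ⟨⟨y, hy⟩, hyo⟩ := exists_prime_orderOf_dvd_card' p hpN
    rw [Subgroup.orderOf_mk] at hyo
    have h1 : y ∈ A := ⟨hy, by rw [← hyo, pow_orderOf_eq_one]⟩
    rw [h, mem_bot] at h1
    rw [h1, orderOf_one] at hyo
    exact hp.one_lt.ne hyo
  · intro g hg
    apply norm_of_conj
    rintro y ⟨hy, hy1⟩
    refine ⟨(mem_normalizer_iff.mp hg y).mp hy, ?_⟩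
    rw [conj_pow, hy1, mul_one, mul_inv_cancel]

/-- `g` with `x^g = xv`, `g ∈ C(v)`, normalizes `C_A(v)` -/
theorem Dt.gen_conj {x a s v σ : G} {L : Subgroup G} (D : Dt x a s v σ L) {A : Subgroup G}
    (hA : A ≤ core (centralizer ({x} : Set G))) (hab : ∀ y ∈ A, ∀ z ∈ A, y * z = z * y)
    (hn : ∀ c, c * x = x * c → ∀ y ∈ A, c * y * c⁻¹ ∈ A) {g : G} (hgv : g * v = v * g)
    (hgx : g * x * g⁻¹ = x * v) {y : G} (hy : y ∈ A) (hyv : y * v = v * y) :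
    g * y * g⁻¹ ∈ A ∧ g * y * g⁻¹ * v = v * (g * y * g⁻¹) := by
  obtain ⟨n, hnL, hnv, hnx⟩ := D.cc.nx
  have hni : n⁻¹ * v = v * n⁻¹ := by
    calc n⁻¹ * v = n⁻¹ * (v * n) * n⁻¹ := by group
      _ = v * n⁻¹ := by rw [← hnv]; group
  obtain ⟨c, hc⟩ : ∃ c, c = n⁻¹ * g := ⟨_, rfl⟩
  have hcv : c * v = v * c := by rw [hc, mul_assoc, hgv, ← mul_assoc, hni, mul_assoc]
  have hcx : c * x = x * c := by
    have h1 : c * x * c⁻¹ = x := by
      rw [hc]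
      calc n⁻¹ * g * x * (n⁻¹ * g)⁻¹ = n⁻¹ * (g * x * g⁻¹) * n := by group
        _ = n⁻¹ * (n * x * n⁻¹) * n := by rw [hgx, hnx]
        _ = x := by group
    exact comm_of_cj_eq h1
  have h1 := hn c hcx y hy
  have h2 : c * y * c⁻¹ * v = v * (c * y * c⁻¹) := by
    have h3 := cj_comm (g := c) hyv
    rwa [cj_eq_of_comm hcv] at h3
  have h3 := D.mem_to hA hab hn h1 h2
  have h4 : g * y * g⁻¹ = c * y * c⁻¹ := by
    have h5 : n * (c * y * c⁻¹) * n⁻¹ = c * y * c⁻¹ :=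
      cj_eq_of_comm (comm_of_mem h3.mem hnL).symm
    calc g * y * g⁻¹ = n * (c * y * c⁻¹) * n⁻¹ := by rw [hc]; group
      _ = c * y * c⁻¹ := h5
  rw [h4]
  exact ⟨h1, h2⟩

/-- `A`, elementary abelian -/
structure El (x : G) (p : ℕ) (A : Subgroup G) : Prop where
  pp : p.Prime
  p2 : p ≠ 2
  le : A ≤ core (centralizer ({x} : Set G))
  ab : ∀ y ∈ A, ∀ z ∈ A, y * z = z * y
  ex : ∀ y ∈ A, y ^ p = 1
  cx : ∀ c, c * x = x * c → ∀ y ∈ A, c * y * c⁻¹ ∈ A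

namespace El

variable {x a s : G} {p : ℕ} {A : Subgroup G} (E : El x p A)
include E

theorem odd : Odd (Nat.card A) := Odd.of_dvd_nat (odd_card_core _) (card_dvd_of_le E.le)

theorem oo {y : G} (hy : y ∈ A) : Odd (orderOf y) := odd_of_mem E.odd hy

theorem cyc {v σ : G} {L : Subgroup G} (D : Dt x a s v σ L) {y z : G} (hy : y ∈ A)
    (hyv : y * v = v * y) (hy1 : y ≠ 1) (hz : z ∈ A) (hzv : z * v = v * z) : z ∈ zpowers y := by
  have h1 := D.mem_to E.le E.ab E.cx hy hyv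
  have h2 := D.mem_to E.le E.ab E.cx hz hzv
  exact D.cc.t.cyc y h1.mem h1.cx z h2.mem h2.cx p E.pp E.p2 (E.ex y hy) (E.ex z hz) hy1

/-- `z` of order two on the cyclic group `C_A(v)` -/
theorem inv_or {v σ : G} {L : Subgroup G} (D : Dt x a s v σ L) {y z : G} (hy : y ∈ A)
    (hyv : y * v = v * y) (hzz : z * z = 1) (hz : z * y * z⁻¹ ∈ A)
    (hzv : z * y * z⁻¹ * v = v * (z * y * z⁻¹)) :
    (∀ w ∈ A, w * v = v * w → w * z = z * w) ∨ z * y * z⁻¹ = y⁻¹ := by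
  by_cases hq : y * (z * y * z⁻¹) = 1
  · exact Or.inr (inv_eq_of_mul_eq_one_right hq).symm
  · left
    intro w hw hwv
    have h1 : y * (z * y * z⁻¹) * v = v * (y * (z * y * z⁻¹)) := by
      rw [mul_assoc, hzv, ← mul_assoc, hyv, mul_assoc]
    obtain ⟨k, rfl⟩ := mem_zpowers_iff.mp (E.cyc D (mul_mem hy hz) h1 hq hw hwv)
    have h2 : z * (y * (z * y * z⁻¹)) * z⁻¹ = y * (z * y * z⁻¹) := by
      have h3 : z * (z * y * z⁻¹) * z⁻¹ = y := by
        calc z * (z * y * z⁻¹) * z⁻¹ = z * z * y * (z * z)⁻¹ := by group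
          _ = y := by rw [hzz]; group
      rw [FourA.Basic.cj_mul, h3]
      exact E.ab _ hz _ hy
    exact ((show Commute z (y * (z * y * z⁻¹)) from comm_of_cj_eq h2).zpow_right k).symm

end El

namespace Tf

variable {X T : Subgroup G} {x a s : G} (F : Tf X T x a s)
include F

/-- `f ∈ T_u` normalizing `C_A(v)` centralizes it: `σ(v) = u` -/
theorem cen_of {p : ℕ} {A : Subgroup G} (E : El x p A) {u v ρ σ : G} {K L : Subgroup G}
    (hu : W4 a s u) (hu1 : u ≠ 1) (hv : W4 a s v) (hv1 : v ≠ 1) (hne : u ≠ v) (Du : Dt x a s u ρ K)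
    (Dv : Dt x a s v σ L) {f y : G} (hf : IsTo K x f) (hf1 : f ≠ 1) (hy : y ∈ A)
    (hyv : y * v = v * y) (hy1 : y ≠ 1) (h : f * y * f⁻¹ * v = v * (f * y * f⁻¹)) : σ = u := by
  have hyT := Dv.mem_to E.le E.ab E.cx hy hyv
  have h1 := E.cyc Dv hy hyv hy1 (E.cx f hf.cx y hy) h
  have hρv := F.comm Du.w4 hv
  have h2 := E.cyc Dv hy hyv hy1 (E.cx ρ (F.xv Du.w4).symm y hy) (by
    have h3 := cj_comm (g := ρ) hyv
    rwa [cj_eq_of_comm hρv] at h3)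
  have h3 := cyc_comm hf.odd (F.fr.w4sq Du.w4) (Du.cc.t.inv f hf.mem hf.cx hf.odd) h1 h2
  exact (F.two hu hu1 hv hv1 hne Du Dv hf hf1 hyT hy1 h3).1

/-- case I: `A = C_A(v)` -/
theorem caseI {p : ℕ} {A : Subgroup G} (E : El x p A) {v w σ τ ρ : G} {L M K : Subgroup G}
    (hv : W4 a s v) (hv1 : v ≠ 1) (hw : W4 a s w) (hw1 : w ≠ 1) (hne : v ≠ w)
    (Dv : Dt x a s v σ L) (Dw : Dt x a s w τ M) (Du : Dt x a s (v * w) ρ K)
    (hAw : ∀ y ∈ A, y * w = w * y → y = 1)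
    (hAu : ∀ y ∈ A, y * (v * w) = v * w * y → y = 1) {y : G} (hy : y ∈ A) (hyv : y * v = v * y)
    (hy1 : y ≠ 1) : False := by
  have hww := F.fr.w4sq hw
  have hvw := F.comm hv hw
  have hu4 := F.mul hv hw
  have hu1 : v * w ≠ 1 := by
    intro h
    apply hne
    calc v = v * w * w := by rw [mul_assoc, hww, mul_one]
      _ = w := by rw [h, one_mul]
  have huv : v * w ≠ v := fun h => hw1 (mul_left_cancel (h.trans (mul_one v).symm))
  have h1 := HFAbs.inverts E.odd hww (E.cx _ (F.xv hw).symm) hAw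
  have h2 := HFAbs.inverts E.odd (F.fr.w4sq hu4) (E.cx _ (F.xv hu4).symm) hAu
  have hAv : ∀ y ∈ A, y * v = v * y := by
    intro y hy
    have h3 : v * y * v⁻¹ = y := by
      have h4 := h2 _ (inv_mem hy)
      have h5 := h1 y hy
      calc v * y * v⁻¹ = v * w * (w⁻¹ * y * w) * (v * w)⁻¹ := by group
        _ = v * w * (w * y * w⁻¹) * (v * w)⁻¹ := by rw [inv_eq_of_mul_eq_one_left hww]
        _ = y := by rw [h5, h4, inv_inv]
    exact (comm_of_cj_eq h3).symm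
  obtain ⟨f, hfM, hfx, hfo, hf1⟩ := Dw.cc.t.ne
  obtain ⟨g, hgK, hgx, hgo, hg1⟩ := Du.cc.t.ne
  have h3 := F.cen_of E hw hw1 hv hv1 hne.symm Dw Dv ⟨hfM, hfx, hfo⟩ hf1 hy hyv hy1
    (hAv _ (E.cx f hfx y hy))
  have h4 := F.cen_of E hu4 hu1 hv hv1 huv Du Dv ⟨hgK, hgx, hgo⟩ hg1 hy hyv hy1
    (hAv _ (E.cx g hgx y hy))
  apply hv1
  rw [h3] at h4
  exact (mul_eq_right.mp h4.symm)

/-- the common data of case II -/
theorem caseII_aux {p : ℕ} {A : Subgroup G} (E : El x p A) {v w σ τ : G} {L M : Subgroup G}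
    (hv : W4 a s v) (Dv : Dt x a s v σ L) (Dw : Dt x a s w τ M)
    {Hv Hw : Subgroup G} {y₁ y₂ e : G} (hy₁ : y₁ ∈ A) (hy₁v : y₁ * v = v * y₁) (hy₁1 : y₁ ≠ 1)
    (hy₂ : y₂ ∈ A) (hy₂w : y₂ * w = w * y₂) (hHv : y₁ ∈ Hv) (hHw : y₂ ∈ Hw)
    (hHH : ∀ h ∈ Hv, ∀ k ∈ Hw, h * k = k * h) (hvH : v ∈ Hw) (hwH : w ∈ Hv)
    (hdec : ∀ y ∈ A, ∃ y' ∈ zpowers y₁, ∃ y'' ∈ zpowers y₂, y = y' * y'')
    (hex : e * x = x * e) (heU : e * v * e⁻¹ ∈ Hv ⊔ Hw) :
    (∀ y ∈ A, y * v = v * y → e⁻¹ * y * e * v = v * (e⁻¹ * y * e)) ∨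
      ∀ y ∈ A, y * w = w * y → e⁻¹ * y * e * v = v * (e⁻¹ * y * e) := by
  obtain ⟨z, hz⟩ : ∃ z, z = e * v * e⁻¹ := ⟨_, rfl⟩
  rw [← hz] at heU
  have hzz : z * z = 1 := hz ▸ cj_sq (F.fr.w4sq hv)
  have hzx : z * x = x * z := by
    have h1 := cj_comm (g := e) (F.xv hv)
    rw [cj_eq_of_comm hex, ← hz] at h1
    exact h1.symm
  obtain ⟨h, hh, k, hk, hzhk⟩ := mem_sup_comm hHH heU
  have hz1 : z * y₁ * z⁻¹ ∈ A := E.cx z hzx y₁ hy₁
  have hz2 : z * y₂ * z⁻¹ ∈ A := E.cx z hzx y₂ hy₂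
  have hz1v : z * y₁ * z⁻¹ * v = v * (z * y₁ * z⁻¹) := by
    have h1 : z * y₁ * z⁻¹ = h * y₁ * h⁻¹ := by
      rw [hzhk]
      calc h * k * y₁ * (h * k)⁻¹ = h * (k * y₁ * k⁻¹) * h⁻¹ := by group
        _ = h * y₁ * h⁻¹ := by rw [cj_eq_of_comm (hHH _ hHv _ hk).symm]
    rw [h1]
    exact hHH _ (mul_mem (mul_mem hh hHv) (inv_mem hh)) _ hvH
  have hz2w : z * y₂ * z⁻¹ * w = w * (z * y₂ * z⁻¹) := by
    have h1 : z * y₂ * z⁻¹ = k * y₂ * k⁻¹ := by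
      rw [hzhk]
      calc h * k * y₂ * (h * k)⁻¹ = h * (k * y₂ * k⁻¹) * h⁻¹ := by group
        _ = k * y₂ * k⁻¹ := cj_eq_of_comm (hHH _ hh _ (mul_mem (mul_mem hk hHw) (inv_mem hk)))
    rw [h1]
    exact (hHH _ hwH _ (mul_mem (mul_mem hk hHw) (inv_mem hk))).symm
  have hcv : ∀ y, y * z = z * y → e⁻¹ * y * e * v = v * (e⁻¹ * y * e) := by
    intro y hyz
    rw [hz] at hyz
    exact comm_cj_iff.mp hyz
  rcases E.inv_or Dv hy₁ hy₁v hzz hz1 hz1v with h1 | h1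
  · exact Or.inl fun y hy hyv => hcv y (h1 y hy hyv)
  · rcases E.inv_or Dw hy₂ hy₂w hzz hz2 hz2w with h2 | h2
    · exact Or.inr fun y hy hyw => hcv y (h2 y hy hyw)
    · exfalso
      have hinv : ∀ y ∈ A, z * y * z⁻¹ = y⁻¹ := by
        intro y hy
        obtain ⟨y', hy', y'', hy'', rfl⟩ := hdec y hy
        have h3 : z * y' * z⁻¹ = y'⁻¹ := by
          obtain ⟨i, rfl⟩ := mem_zpowers_iff.mp hy'
          rw [← conj_zpow, h1, inv_zpow]
        have h4 : z * y'' * z⁻¹ = y''⁻¹ := by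
          obtain ⟨i, rfl⟩ := mem_zpowers_iff.mp hy''
          rw [← conj_zpow, h2, inv_zpow]
        have h5 : y' ∈ A := by
          obtain ⟨i, rfl⟩ := mem_zpowers_iff.mp hy'
          exact zpow_mem hy₁ i
        have h6 : y'' ∈ A := by
          obtain ⟨i, rfl⟩ := mem_zpowers_iff.mp hy''
          exact zpow_mem hy₂ i
        rw [FourA.Basic.cj_mul, h3, h4, mul_inv_rev]
        exact E.ab _ (inv_mem h5) _ (inv_mem h6)
      have h3 := hinv _ (E.cx e hex y₁ hy₁)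
      have h4 : z * (e * y₁ * e⁻¹) * z⁻¹ = e * y₁ * e⁻¹ := by
        have h5 := cj_comm (g := e) hy₁v
        rw [← hz] at h5
        exact cj_eq_of_comm h5.symm
      rw [h4] at h3
      have h5 := one_of_inv (E.oo (E.cx e hex y₁ hy₁)) h3.symm
      exact cj_ne hy₁1 h5

set_option maxHeartbeats 1000000 in
/-- case II: `A = C_A(v) × C_A(w)` -/
theorem caseII {p : ℕ} {A : Subgroup G} (E : El x p A) {v w σ τ ρ : G} {L M K : Subgroup G}
    (hv : W4 a s v) (hv1 : v ≠ 1) (hw : W4 a s w) (hw1 : w ≠ 1) (hne : v ≠ w)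
    (Dv : Dt x a s v σ L) (Dw : Dt x a s w τ M) (Du : Dt x a s (v * w) ρ K)
    (hAu : ∀ y ∈ A, y * (v * w) = v * w * y → y = 1) {y₁ y₂ : G} (hy₁ : y₁ ∈ A)
    (hy₁v : y₁ * v = v * y₁) (hy₁1 : y₁ ≠ 1) (hy₂ : y₂ ∈ A) (hy₂w : y₂ * w = w * y₂)
    (hy₂1 : y₂ ≠ 1) : False := by
  have hvv := F.fr.w4sq hv
  have hww := F.fr.w4sq hw
  have hvw := F.comm hv hw
  have hu4 := F.mul hv hw
  have hvi : v⁻¹ = v := inv_eq_of_mul_eq_one_left hvv
  have hu1 : v * w ≠ 1 := by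
    intro h
    apply hne
    calc v = v * w * w := by rw [mul_assoc, hww, mul_one]
      _ = w := by rw [h, one_mul]
  have huv : v * w ≠ v := fun h => hw1 (mul_left_cancel (h.trans (mul_one v).symm))
  have hy₁T := Dv.mem_to E.le E.ab E.cx hy₁ hy₁v
  have hy₂T := Dw.mem_to E.le E.ab E.cx hy₂ hy₂w
  have h12 := E.ab _ hy₁ _ hy₂
  obtain ⟨hτ, hcl1⟩ := F.two hv hv1 hw hw1 hne Dv Dw hy₁T hy₁1 hy₂T hy₂1 h12
  obtain ⟨hσ, hcl2⟩ := F.two hw hw1 hv hv1 hne.symm Dw Dv hy₂T hy₂1 hy₁T hy₁1 h12.symm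
  rw [hσ] at Dv
  rw [hτ] at Dw
  obtain ⟨nv, hnvL, hnvv, hnvx⟩ := Dv.cc.nx
  obtain ⟨nw, hnwM, hnww, hnwx⟩ := Dw.cc.nx
  obtain ⟨nu, hnuK, hnuu, hnux⟩ := Du.cc.nx
  have hnvw : nv * w = w * nv := (comm_of_mem Dv.cc.h.sL hnvL).symm
  have hnwv : nw * v = v * nw := (comm_of_mem Dw.cc.h.sL hnwM).symm
  have hnuρ : nu * ρ = ρ * nu := (comm_of_mem Du.cc.h.sL hnuK).symm
  -- `nu` centralizes `W`
  have hnuv : nu * v = v * nu := by
    rcases W4.third F.fr.aa F.fr.ss F.fr.sas hu4 hv Du.w4 hu1 hv1 huv Du.s1 Du.sv with h | h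
    · rw [← h]; exact hnuρ
    · have e : v = v * w * ρ := by
        rw [h]
        calc v = v * w * (v * w) * v := by rw [F.fr.w4sq hu4, one_mul]
          _ = v * w * (v * w * v) := by group
      rw [e, ← mul_assoc, hnuu, mul_assoc, hnuρ]
      group
  have hnuw : nu * w = w * nu := by
    have e : w = v * (v * w) := by rw [← mul_assoc, hvv, one_mul]
    rw [e, ← mul_assoc, hnuv, mul_assoc, hnuu]
    group
  have hinvx : ∀ {n v : G}, n * v = v * n → v * v = 1 → n * x * n⁻¹ = x * v → n⁻¹ * x * n = x * v := by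
    intro n v h1 h2 h3
    have h4 : n⁻¹ * v * n = v := by
      calc n⁻¹ * v * n = n⁻¹ * (v * n) := by group
        _ = n⁻¹ * (n * v) := by rw [h1]
        _ = v := by group
    have h5 : n⁻¹ * x * n * v = x := by
      calc n⁻¹ * x * n * v = n⁻¹ * x * n * (n⁻¹ * v * n) := by rw [h4]
        _ = n⁻¹ * (x * v) * n := by group
        _ = n⁻¹ * (n * x * n⁻¹) * n := by rw [h3]
        _ = x := by group
    calc n⁻¹ * x * n = n⁻¹ * x * n * (v * v) := by rw [h2, mul_one]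
      _ = n⁻¹ * x * n * v * v := (mul_assoc _ _ _).symm
      _ = x * v := by rw [h5]
  have hinvc : ∀ {n v : G}, n * v = v * n → n⁻¹ * v = v * n⁻¹ := by
    intro n v h
    calc n⁻¹ * v = n⁻¹ * (v * n) * n⁻¹ := by group
      _ = v * n⁻¹ := by rw [← h]; group
  -- `C_A(w)^{nu} = C_A(w)^{nv}`, `C_A(v)^{nu} = C_A(v)^{nw}`
  have key : ∀ {m n t r : G}, m * x * m⁻¹ = x * t → n⁻¹ * x * n = x * r → n * t = t * n →
      (n⁻¹ * m) * x * (n⁻¹ * m)⁻¹ = x * (r * t) := by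
    intro m n t r h1 h2 h3
    have h4 : n⁻¹ * t * n = t := by
      calc n⁻¹ * t * n = n⁻¹ * (t * n) := by group
        _ = n⁻¹ * (n * t) := by rw [h3]
        _ = t := by group
    calc (n⁻¹ * m) * x * (n⁻¹ * m)⁻¹ = n⁻¹ * (m * x * m⁻¹) * n := by group
      _ = n⁻¹ * x * n * (n⁻¹ * t * n) := by rw [h1]; group
      _ = x * (r * t) := by rw [h2, h4, mul_assoc]
  have hgen_w : ∀ y ∈ A, y * w = w * y → ∃ y' ∈ A, y' * w = w * y' ∧ nu * y * nu⁻¹ = nv * y' * nv⁻¹ := by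
    intro y hy hyw
    have h1 := key hnux (hinvx hnvv hvv hnvx) (by rw [← mul_assoc, hnvv, mul_assoc, hnvw, mul_assoc])
    have h2 : v * (v * w) = w := by rw [← mul_assoc, hvv, one_mul]
    rw [h2] at h1
    have h3 : nv⁻¹ * nu * w = w * (nv⁻¹ * nu) := by
      rw [mul_assoc, hnuw, ← mul_assoc, hinvc hnvw, mul_assoc]
    obtain ⟨h4, h5⟩ := Dw.gen_conj E.le E.ab E.cx h3 h1 hy hyw
    exact ⟨_, h4, h5, by group⟩
  have hgen_w' : ∀ y ∈ A, y * w = w * y → ∃ y' ∈ A, y' * w = w * y' ∧ nv * y * nv⁻¹ = nu * y' * nu⁻¹ := by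
    intro y hy hyw
    have h1 := key hnvx (hinvx hnuu (F.fr.w4sq hu4) hnux) hnuv
    have h2 : v * w * v = w := by rw [hvw, mul_assoc, hvv, mul_one]
    rw [h2] at h1
    have h3 : nu⁻¹ * nv * w = w * (nu⁻¹ * nv) := by
      rw [mul_assoc, hnvw, ← mul_assoc, hinvc hnuw, mul_assoc]
    obtain ⟨h4, h5⟩ := Dw.gen_conj E.le E.ab E.cx h3 h1 hy hyw
    exact ⟨_, h4, h5, by group⟩
  have hgen_v : ∀ y ∈ A, y * v = v * y → ∃ y' ∈ A, y' * v = v * y' ∧ nu * y * nu⁻¹ = nw * y' * nw⁻¹ := by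
    intro y hy hyv
    have h1 := key hnux (hinvx hnww hww hnwx) (by rw [← mul_assoc, hnwv, mul_assoc, hnww, mul_assoc])
    have h2 : w * (v * w) = v := by rw [hvw, ← mul_assoc, hww, one_mul]
    rw [h2] at h1
    have h3 : nw⁻¹ * nu * v = v * (nw⁻¹ * nu) := by
      rw [mul_assoc, hnuv, ← mul_assoc, hinvc hnwv, mul_assoc]
    obtain ⟨h4, h5⟩ := Dv.gen_conj E.le E.ab E.cx h3 h1 hy hyv
    exact ⟨_, h4, h5, by group⟩
  have hgen_v' : ∀ y ∈ A, y * v = v * y → ∃ y' ∈ A, y' * v = v * y' ∧ nw * y * nw⁻¹ = nu * y' * nu⁻¹ := by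
    intro y hy hyv
    have h1 := key hnwx (hinvx hnuu (F.fr.w4sq hu4) hnux) hnuw
    have h2 : v * w * w = v := by rw [mul_assoc, hww, mul_one]
    rw [h2] at h1
    have h3 : nu⁻¹ * nw * v = v * (nu⁻¹ * nw) := by
      rw [mul_assoc, hnwv, ← mul_assoc, hinvc hnuv, mul_assoc]
    obtain ⟨h4, h5⟩ := Dv.gen_conj E.le E.ab E.cx h3 h1 hy hyv
    exact ⟨_, h4, h5, by group⟩
  -- `H_v`, `H_w`
  have hz1 : ∀ z ∈ A, z * v = v * z → z ∈ zpowers y₁ := fun z hz hzv => E.cyc Dv hy₁ hy₁v hy₁1 hz hzv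
  have hz2 : ∀ z ∈ A, z * w = w * z → z ∈ zpowers y₂ := fun z hz hzw => E.cyc Dw hy₂ hy₂w hy₂1 hz hzw
  obtain ⟨Hv, hHv⟩ : ∃ H, H = closure ({y₁, nu * y₁ * nu⁻¹} : Set G) := ⟨_, rfl⟩
  obtain ⟨Hw, hHw⟩ : ∃ H, H = closure ({y₂, nu * y₂ * nu⁻¹} : Set G) := ⟨_, rfl⟩
  have hv1H : y₁ ∈ Hv := hHv ▸ subset_closure (by simp)
  have hv2H : nu * y₁ * nu⁻¹ ∈ Hv := hHv ▸ subset_closure (by simp)
  have hw1H : y₂ ∈ Hw := hHw ▸ subset_closure (by simp)
  have hw2H : nu * y₂ * nu⁻¹ ∈ Hw := hHw ▸ subset_closure (by simp)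
  have hzpH : ∀ {H : Subgroup G} {y : G}, y ∈ H → ∀ z ∈ zpowers y, z ∈ H := by
    intro H y hy z hz
    obtain ⟨i, rfl⟩ := mem_zpowers_iff.mp hz
    exact zpow_mem hy i
  have hzpn : ∀ {H : Subgroup G} {y : G}, nu * y * nu⁻¹ ∈ H → ∀ z ∈ zpowers y, nu * z * nu⁻¹ ∈ H := by
    intro H y hy z hz
    obtain ⟨i, rfl⟩ := mem_zpowers_iff.mp hz
    rw [← conj_zpow]
    exact zpow_mem hy i
  -- `[H_v, H_w] = 1`
  have hHH : ∀ h ∈ Hv, ∀ k ∈ Hw, h * k = k * h := by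
    have c12 : y₁ * (nu * y₂ * nu⁻¹) = nu * y₂ * nu⁻¹ * y₁ := by
      obtain ⟨y', hy', -, h1⟩ := hgen_w y₂ hy₂ hy₂w
      rw [h1]
      have h2 := cj_comm (g := nv) (E.ab _ hy₁ _ hy')
      rwa [cj_eq_of_comm (comm_of_mem hy₁T.mem hnvL).symm] at h2
    have c21 : nu * y₁ * nu⁻¹ * y₂ = y₂ * (nu * y₁ * nu⁻¹) := by
      obtain ⟨y', hy', -, h1⟩ := hgen_v y₁ hy₁ hy₁v
      rw [h1]
      have h2 := cj_comm (g := nw) (E.ab _ hy' _ hy₂)
      rwa [cj_eq_of_comm (comm_of_mem hy₂T.mem hnwM).symm] at h2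
    have c22 := cj_comm (g := nu) h12
    have hg : ∀ h ∈ ({y₁, nu * y₁ * nu⁻¹} : Set G), ∀ k ∈ Hw, h * k = k * h := by
      intro h hh k hk
      have h3 : Hw ≤ centralizer ({h} : Set G) := by
        rw [hHw, closure_le]
        intro k hk
        apply mem_centralizer_singleton_iff.mpr
        simp only [Set.mem_insert_iff, Set.mem_singleton_iff] at hh hk
        rcases hh with rfl | rfl <;> rcases hk with rfl | rfl
        · exact h12.symm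
        · exact c12.symm
        · exact c21.symm
        · exact c22.symm
      exact (mem_centralizer_singleton_iff.mp (h3 hk)).symm
    intro h hh k hk
    have h3 : Hv ≤ centralizer ({k} : Set G) := by
      rw [hHv, closure_le]
      intro h hh
      exact mem_centralizer_singleton_iff.mpr (hg h hh k hk)
    exact mem_centralizer_singleton_iff.mp (h3 hh)
  have hvH : v ∈ Hw := by
    have h1 := hcl1 nv hnvL hnvv hnvx
    obtain ⟨y', hy', hy'w, h2⟩ := hgen_w' y₂ hy₂ hy₂w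
    have h3 : closure ({y₂, nv * y₂ * nv⁻¹} : Set G) ≤ Hw := by
      rw [closure_le]
      rintro z (rfl | rfl)
      · exact hw1H
      · rw [h2]
        exact hzpn hw2H _ (hz2 y' hy' hy'w)
    exact h3 h1
  have hwH : w ∈ Hv := by
    have h1 := hcl2 nw hnwM hnww hnwx
    obtain ⟨y', hy', hy'v, h2⟩ := hgen_v' y₁ hy₁ hy₁v
    have h3 : closure ({y₁, nw * y₁ * nw⁻¹} : Set G) ≤ Hv := by
      rw [closure_le]
      rintro z (rfl | rfl)
      · exact hv1H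
      · rw [h2]
        exact hzpn hv2H _ (hz1 y' hy' hy'v)
    exact h3 h1
  -- `A = C_A(v) C_A(w)`
  have hinvu := HFAbs.inverts E.odd (F.fr.w4sq hu4) (E.cx _ (F.xv hu4).symm) hAu
  have hdec : ∀ y ∈ A, ∃ y' ∈ zpowers y₁, ∃ y'' ∈ zpowers y₂, y = y' * y'' := by
    intro y hy
    have hy' := E.cx v (F.xv hv).symm y hy
    have h1 : v * (v * y * v⁻¹) * v⁻¹ = y := by
      calc v * (v * y * v⁻¹) * v⁻¹ = v * v * y * (v * v)⁻¹ := by group
        _ = y := by rw [hvv]; group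
    have h2 : y * (v * y * v⁻¹) * v = v * (y * (v * y * v⁻¹)) := by
      have h3 : v * (y * (v * y * v⁻¹)) * v⁻¹ = y * (v * y * v⁻¹) := by
        rw [FourA.Basic.cj_mul, h1]
        exact E.ab _ hy' _ hy
      exact (comm_of_cj_eq h3).symm
    have h3 : w * y * w⁻¹ = (v * y * v⁻¹)⁻¹ := by
      have h4 := hinvu y hy
      calc w * y * w⁻¹ = v⁻¹ * (v * w * y * (v * w)⁻¹) * v := by group
        _ = v⁻¹ * y⁻¹ * v := by rw [h4]
        _ = v * y⁻¹ * v⁻¹ := by rw [hvi]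
        _ = (v * y * v⁻¹)⁻¹ := by group
    have h4 : y * (v * y * v⁻¹)⁻¹ * w = w * (y * (v * y * v⁻¹)⁻¹) := by
      have h5 : w * (v * y * v⁻¹)⁻¹ * w⁻¹ = y := by
        rw [← h3]
        calc w * (w * y * w⁻¹) * w⁻¹ = w * w * y * (w * w)⁻¹ := by group
          _ = y := by rw [hww]; group
      have h6 : w * (y * (v * y * v⁻¹)⁻¹) * w⁻¹ = y * (v * y * v⁻¹)⁻¹ := by
        rw [FourA.Basic.cj_mul, h5, h3]
        exact E.ab _ (inv_mem hy') _ hy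
      exact (comm_of_cj_eq h6).symm
    have h5 : y * y = y * (v * y * v⁻¹) * (y * (v * y * v⁻¹)⁻¹) := by
      calc y * y = y * (v * y * v⁻¹) * ((v * y * v⁻¹)⁻¹ * y) := by group
        _ = y * (v * y * v⁻¹) * (y * (v * y * v⁻¹)⁻¹) := by rw [E.ab _ (inv_mem hy') _ hy]
    obtain ⟨m, hm⟩ := exists_pow_sq (E.oo hy)
    refine ⟨_, pow_mem (hz1 _ (mul_mem hy hy') h2) m, _,
      pow_mem (hz2 _ (mul_mem hy (inv_mem hy')) h4) m, ?_⟩
    have h6 : Commute (y * (v * y * v⁻¹)) (y * (v * y * v⁻¹)⁻¹) :=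
      E.ab _ (mul_mem hy hy') _ (mul_mem hy (inv_mem hy'))
    rw [← h6.mul_pow, ← h5, hm]
  -- `e ∈ T_u`
  obtain ⟨e, heK, hex, heo, he1⟩ := Du.cc.t.ne
  have hen : e * nu = nu * e := comm_of_mem heK hnuK
  have heU : ∀ g ∈ Hv ⊔ Hw, e * g * e⁻¹ ∈ Hv ⊔ Hw := by
    have hA : ∀ y ∈ A, y ∈ Hv ⊔ Hw := by
      intro y hy
      obtain ⟨y', hy', y'', hy'', rfl⟩ := hdec y hy
      exact mul_mem (mem_sup_left (hzpH hv1H _ hy')) (mem_sup_right (hzpH hw1H _ hy''))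
    have hA' : ∀ y ∈ A, nu * y * nu⁻¹ ∈ Hv ⊔ Hw := by
      intro y hy
      obtain ⟨y', hy', y'', hy'', rfl⟩ := hdec y hy
      rw [FourA.Basic.cj_mul]
      exact mul_mem (mem_sup_left (hzpn hv2H _ hy')) (mem_sup_right (hzpn hw2H _ hy''))
    have hcc : ∀ y, e * (nu * y * nu⁻¹) * e⁻¹ = nu * (e * y * e⁻¹) * nu⁻¹ := by
      intro y
      calc e * (nu * y * nu⁻¹) * e⁻¹ = (e * nu) * y * (e * nu)⁻¹ := by group
        _ = (nu * e) * y * (nu * e)⁻¹ := by rw [hen]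
        _ = nu * (e * y * e⁻¹) * nu⁻¹ := by group
    have h1 : Hv ⊔ Hw ≤ (Hv ⊔ Hw).comap (MulAut.conj e).toMonoidHom := by
      apply sup_le
      · rw [hHv, closure_le, ← hHv]
        rintro z (rfl | rfl)
        · exact hA _ (E.cx e hex z hy₁)
        · change e * (nu * y₁ * nu⁻¹) * e⁻¹ ∈ Hv ⊔ Hw
          rw [hcc]
          exact hA' _ (E.cx e hex _ hy₁)
      · rw [hHw, closure_le, ← hHw]
        rintro z (rfl | rfl)
        · exact hA _ (E.cx e hex z hy₂)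
        · change e * (nu * y₂ * nu⁻¹) * e⁻¹ ∈ Hv ⊔ Hw
          rw [hcc]
          exact hA' _ (E.cx e hex _ hy₂)
    intro g hg
    exact h1 hg
  have hA1 := F.caseII_aux E hv Dv Dw hy₁ hy₁v hy₁1 hy₂ hy₂w hv1H hw1H hHH hvH hwH hdec hex
    (heU v (mem_sup_right hvH))
  have hA2 := F.caseII_aux E hw Dw Dv hy₂ hy₂w hy₂1 hy₁ hy₁v hw1H hv1H
    (fun h hh k hk => (hHH k hk h hh).symm) hwH hvH (fun y hy => by
      obtain ⟨y', hy', y'', hy'', h⟩ := hdec y hy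
      refine ⟨y'', hy'', y', hy', ?_⟩
      rw [h]
      exact hHH _ (hzpH hv1H _ hy') _ (hzpH hw1H _ hy'')) hex
    (sup_comm Hv Hw ▸ heU w (mem_sup_left hwH))
  -- `C_A(v) ∩ C_A(w) = 1`
  have hVW : ∀ y ∈ A, y * v = v * y → y * w = w * y → y = 1 := by
    intro y hy h1 h2
    apply hAu y hy
    rw [← mul_assoc, h1, mul_assoc, h2, mul_assoc]
  have hei : e⁻¹ * x = x * e⁻¹ := hinvc hex
  have hcj : ∀ y ∈ A, e⁻¹ * y * e ∈ A := by
    intro y hy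
    have h1 := E.cx e⁻¹ hei y hy
    rwa [inv_inv] at h1
  have hfin : e⁻¹ * y₁ * e * v = v * (e⁻¹ * y₁ * e) := by
    rcases hA1 with h1 | h1
    · exact h1 _ hy₁ hy₁v
    · rcases hA2 with h2 | h2
      · exfalso
        have h3 := hVW _ (hcj _ hy₂) (h1 _ hy₂ hy₂w) (h2 _ hy₂ hy₂w)
        apply hy₂1
        calc y₂ = e * (e⁻¹ * y₂ * e) * e⁻¹ := by group
          _ = 1 := by rw [h3]; group
      · -- `e⁻²` normalizes `C_A(v)`
        have h3 : e⁻¹ * e⁻¹ ∈ normalizer ((A ⊓ centralizer ({v} : Set G) : Subgroup G) : Set G) := by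
          apply norm_of_conj
          rintro y ⟨hy, hyv⟩
          have hyv' := mem_centralizer_singleton_iff.mp hyv
          have h4 := h1 _ (hcj y hy) (h2 y hy hyv')
          have e1 : e⁻¹ * (e⁻¹ * y * e) * e = e⁻¹ * e⁻¹ * y * (e⁻¹ * e⁻¹)⁻¹ := by
            rw [mul_inv_rev, inv_inv]
            simp only [mul_assoc]
          have h5 := hcj _ (hcj y hy)
          rw [e1] at h4 h5
          exact ⟨h5, mem_centralizer_singleton_iff.mpr h4⟩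
        have h4 : Odd (orderOf e⁻¹) := by rwa [orderOf_inv]
        have h5 := mem_of_sq_mem h4 h3
        have h6 := (mem_normalizer_iff.mp h5 y₁).mp ⟨hy₁, mem_centralizer_singleton_iff.mpr hy₁v⟩
        rw [inv_inv] at h6
        exact mem_centralizer_singleton_iff.mp h6.2
  have h1 : IsTo K x e⁻¹ := ⟨inv_mem heK, hei, by rwa [orderOf_inv]⟩
  have h2 := F.cen_of E hu4 hu1 hv hv1 huv Du Dv h1 (inv_ne_one.mpr he1) hy₁ hy₁v hy₁1
    (by rw [inv_inv]; exact hfin)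
  -- `w = vw`
  exact hv1 (mul_eq_right.mp h2.symm)

/-- **(3)**: not all elements of `W#` are bad -/
theorem three (hall : ∀ v, W4 a s v → v ≠ 1 → Bad x v) : False := by
  have hwa : W4 a s a := Or.inr (Or.inl rfl)
  have hws : W4 a s s := Or.inr (Or.inr (Or.inl rfl))
  have hodd := odd_card_core (centralizer ({x} : Set G))
  have hO1 : core (centralizer ({x} : Set G)) ≠ ⊥ := by
    intro h
    obtain ⟨d, hd, -, hdn⟩ := hall a hwa F.fr.a1
    rw [h, mem_bot] at hd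
    rw [hd] at hdn
    exact hdn (one_mem _)
  obtain ⟨p, A, hp, hp2, hAO, hA1, hab, hex, hN⟩ := exists_elem F.os hodd hO1
  have E : El x p A := ⟨hp, hp2, hAO, hab, hex, fun c hc y hy =>
    (mem_normalizer_iff.mp (hN (le_normalizer_core _ (mem_c hc))) y).mp hy⟩
  have key : ∀ v, W4 a s v → v ≠ 1 → (∃ y ∈ A, y * v = v * y ∧ y ≠ 1) → False := by
    rintro v hv hv1 ⟨y₁, hy₁, hy₁v, hy₁1⟩
    obtain ⟨w, hw, hw1, hne⟩ : ∃ w, W4 a s w ∧ w ≠ 1 ∧ v ≠ w := by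
      by_cases h : v = a
      · exact ⟨s, hws, F.fr.s1, fun h1 => F.fr.sa (h1.symm.trans h)⟩
      · exact ⟨a, hwa, F.fr.a1, h⟩
    have hvv := F.fr.w4sq hv
    have hww := F.fr.w4sq hw
    have hu4 := F.mul hv hw
    have hu1 : v * w ≠ 1 := by
      intro h
      apply hne
      calc v = v * w * w := by rw [mul_assoc, hww, mul_one]
        _ = w := by rw [h, one_mul]
    have huv : v ≠ v * w := fun h => hw1 (mul_left_cancel ((mul_one v).trans h)).symm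
    have hvu : v * (v * w) = w := by rw [← mul_assoc, hvv, one_mul]
    obtain ⟨L, σ, Dv⟩ := F.dt hv hv1 (hall v hv hv1)
    obtain ⟨M, τ, Dw⟩ := F.dt hw hw1 (hall w hw hw1)
    obtain ⟨K, ρ, Du⟩ := F.dt hu4 hu1 (hall _ hu4 hu1)
    have hy₁T := Dv.mem_to E.le E.ab E.cx hy₁ hy₁v
    by_cases h2 : ∀ y ∈ A, y * w = w * y → y = 1
    · by_cases h3 : ∀ y ∈ A, y * (v * w) = v * w * y → y = 1
      · exact F.caseI E hv hv1 hw hw1 hne Dv Dw Du h2 h3 hy₁ hy₁v hy₁1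
      · push Not at h3
        obtain ⟨y₂, hy₂, hy₂u, hy₂1⟩ := h3
        have Dw' := Dw
        rw [← hvu] at Dw'
        exact F.caseII E hv hv1 hu4 hu1 huv Dv Du Dw' (by rw [hvu]; exact h2) hy₁ hy₁v hy₁1 hy₂ hy₂u
          hy₂1
    · push Not at h2
      obtain ⟨y₂, hy₂, hy₂w, hy₂1⟩ := h2
      by_cases h3 : ∀ y ∈ A, y * (v * w) = v * w * y → y = 1
      · exact F.caseII E hv hv1 hw hw1 hne Dv Dw Du h3 hy₁ hy₁v hy₁1 hy₂ hy₂w hy₂1
      · push Not at h3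
        obtain ⟨y₃, hy₃, hy₃u, hy₃1⟩ := h3
        have hy₂T := Dw.mem_to E.le E.ab E.cx hy₂ hy₂w
        have hy₃T := Du.mem_to E.le E.ab E.cx hy₃ hy₃u
        have h4 := (F.two hw hw1 hv hv1 hne.symm Dw Dv hy₂T hy₂1 hy₁T hy₁1
          (E.ab _ hy₂ _ hy₁)).1
        have h5 := (F.two hu4 hu1 hv hv1 huv.symm Du Dv hy₃T hy₃1 hy₁T hy₁1
          (E.ab _ hy₃ _ hy₁)).1
        rw [h4] at h5
        exact hv1 (mul_eq_right.mp h5.symm)
  obtain ⟨v, hv, y, hy, hy1, hyv⟩ := HFAbs.exists_fix E.odd hA1 F.fr.aa F.fr.ss F.fr.sas.symm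
    (E.cx a F.fr.xa.symm) (E.cx s F.fr.xs.symm)
  have has1 : a * s ≠ 1 := by
    intro h
    apply F.fr.sa
    calc s = (a * a) * s := by rw [F.fr.aa, one_mul]
      _ = a * (a * s) := by group
      _ = a := by rw [h, mul_one]
  rcases hv with rfl | rfl | rfl
  · exact key _ hwa F.fr.a1 ⟨y, hy, hyv, hy1⟩
  · exact key _ hws F.fr.s1 ⟨y, hy, hyv, hy1⟩
  · exact key _ (Or.inr (Or.inr (Or.inr rfl))) has1 ⟨y, hy, hyv, hy1⟩

/-- **(T2)**: at most one element of `W#` is bad -/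
theorem false_of (hmin : ∀ N : Subgroup G, N.Normal → N ≤ X → N ≠ ⊥ → X ≤ N)
    {v w : G} (hv : W4 a s v) (hv1 : v ≠ 1) (hbv : Bad x v) (hw : W4 a s w) (hw1 : w ≠ 1)
    (hbw : Bad x w) (hne : v ≠ w) : False := by
  have hvv := F.fr.w4sq hv
  have hww := F.fr.w4sq hw
  have hu4 := F.mul hv hw
  have hu1 : v * w ≠ 1 := by
    intro h
    apply hne
    calc v = v * w * w := by rw [mul_assoc, hww, mul_one]
      _ = w := by rw [h, one_mul]
  by_cases hbu : Bad x (v * w)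
  · apply F.three
    intro z hz hz1
    by_cases hzv : z = v
    · rw [hzv]; exact hbv
    · rcases W4.third F.fr.aa F.fr.ss F.fr.sas hv hw hz hv1 hw1 hne hz1 hzv with rfl | rfl
      · exact hbw
      · exact hbu
  · obtain ⟨L, σ, Dv⟩ := F.dt hv hv1 hbv
    obtain ⟨M, τ, Dw⟩ := F.dt hw hw1 hbw
    obtain ⟨B, hC⟩ := F.block hv hv1 hw hw1 hne Dv Dw hbu
    obtain ⟨n, hn, -, hnx⟩ := Dv.cc.nx
    exact B.false_of hmin F.I.cov (F.cf _ hu4 hu1) hC ⟨n, K_le_M hn, hnx⟩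

end Tf

end Cfsg.Agent.UGT.FourB
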