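import Cfsg.Agent.UGT.FourB.Frame
import Cfsg.Agent.UGT.FourB.A1Supply

/-!
# From `Frame.Fr` to `Fm.Fm`
-/

set_option autoImplicit false

open Cfsg Subgroup
open Cfsg.Agent.SignalizersComponents Cfsg.Agent.Lib
open Cfsg.Agent.SignalizersComponents.IntrinsicBasic
open Cfsg.Agent.SignalizersComponents.PLayerAut
open Cfsg.Agent.Intrinsic.Basic Cfsg.Agent.Intrinsic.Cen Cfsg.Agent.Intrinsic.Diag
open Cfsg.Agent.Intrinsic.Lifting
open Cfsg.Agent.McLLyComp.Act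
open Cfsg.Agent.UGT.Triple Cfsg.Agent.UGT.TriBase Cfsg.Agent.UGT.Iface
open Cfsg.Agent.GH.L2Aut (Dih Inn)
open scoped commutatorElement

namespace Cfsg.Agent.UGT.FourB.Frame

variable {G : Type*} [Group G] [Finite G] {L : Subgroup G} {F : Type*} [Field F] [Finite F]
  {R : Cfsg.Agent.GH.L2Aut.Rep F (↥L ⧸ oddCore ↥L)} {a x d r s : G} {T T₁ Q P : Subgroup G}

namespace Fr

variable (H : Fr a x d r s L T T₁ Q P)
include H

omit [Finite G] in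
theorem isSyl : IsSyl (centralizer ({a} : Set G)) T :=
  ⟨H.Tp, H.TC, fun U hU hUC hTU => le_antisymm (H.syl U hU hTU hUC) hTU⟩

set_option maxHeartbeats 1000000 in
/-- `inn` of `Fm` -/
theorem inn (R : Cfsg.Agent.GH.L2Aut.Rep F (↥L ⧸ oddCore ↥L)) {t : G} (ht : t ∈ normalizer (L : Set G)) (htT : t ∈ T)
    (hI : act L ⟨t, ht⟩ ∈ Inn (↥L ⧸ oddCore ↥L)) : ∃ q ∈ Q, ∃ p ∈ P, t = q * p := by
  have h2 : Fact (Nat.Prime 2) := ⟨Nat.prime_two⟩
  have hT := H.isSyl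
  have hL := H.tri.comp
  have hLN := H.nor
  have hTN : T ≤ normalizer (L : Set G) := hT.le.trans hLN
  have hPe : P = T ⊓ L := by ext t; rw [H.Pdef, mem_inf]
  have hPL : ∀ t ∈ P, t ∈ L := fun t ht => ((H.Pdef t).mp ht).2
  have hPT : P ≤ T := fun t ht => ((H.Pdef t).mp ht).1
  have hPsyl : IsSyl L P := hPe ▸ hT.inf hL.le hLN
  let π : ↥L →* ↥L ⧸ oddCore ↥L := QuotientGroup.mk' _
  obtain ⟨P', hP'⟩ := hPsyl.exists_sylow
  have hP'' : ∀ (t : G) (ht : t ∈ L), (⟨t, ht⟩ : ↥L) ∈ P' ↔ t ∈ P := by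
    intro t ht
    rw [← hP']
    constructor
    · intro h
      exact ⟨⟨t, ht⟩, h, rfl⟩
    · rintro ⟨⟨s, hs⟩, h, rfl⟩
      exact h
  let S : Sylow 2 (↥L ⧸ oddCore ↥L) := P'.mapSurjective (QuotientGroup.mk'_surjective (oddCore ↥L))
  have hS : ∀ y, y ∈ S ↔ ∃ (p : G) (hp : p ∈ P), π ⟨p, hPL p hp⟩ = y := by
    intro y
    constructor
    · rintro ⟨⟨p, hpL⟩, hp, rfl⟩
      exact ⟨p, (hP'' p hpL).mp hp, rfl⟩
    · rintro ⟨p, hp, rfl⟩
      exact ⟨⟨p, hPL p hp⟩, (hP'' p (hPL p hp)).mpr hp, rfl⟩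
  have hact : ∀ p (hp : p ∈ P), act L ⟨p, hTN (hPT hp)⟩ = MulAut.conj (π ⟨p, hPL p hp⟩) := by
    intro p hp
    exact act_of_mem (hPL p hp)
  let A : Subgroup (MulAut (↥L ⧸ oddCore ↥L)) := (T.subgroupOf (normalizer (L : Set G))).map (act L)
  have hA : IsPGroup 2 A :=
    (hT.two.comap_of_injective (H := T) (normalizer (L : Set G)).subtype (subtype_injective _)).map _
  have hSA : (S : Subgroup (↥L ⧸ oddCore ↥L)).map MulAut.conj ≤ A := by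
    rintro _ ⟨y, hy, rfl⟩
    obtain ⟨p, hp, rfl⟩ := (hS y).mp hy
    exact ⟨⟨p, hTN (hPT hp)⟩, hPT hp, hact p hp⟩
  obtain ⟨y, hy⟩ := hI
  have h3 : MulAut.conj y ∈ A := by
    rw [hy]
    exact ⟨⟨t, ht⟩, htT, rfl⟩
  have h4 : y ∈ S := R.mem_of_conj_mem S hA hSA h3
  obtain ⟨p, hp, rfl⟩ := (hS y).mp h4
  have h5 : Fixes (t * p⁻¹) L := by
    rw [← act_eq_iff ht (hTN (hPT hp)), hact p hp]
    exact hy.symm
  exact ⟨t * p⁻¹, (H.Qdef _).mpr ⟨mul_mem htT (inv_mem (hPT hp)), h5⟩, p, hp, by group⟩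

/-- **from `Fr` to `Fm`** -/
theorem toFm (R : Cfsg.Agent.GH.L2Aut.Rep F (↥L ⧸ oddCore ↥L)) (ho : R.o1 (act L ⟨x, H.tri.x_mem⟩) = -1) :
    Fm.Fm R x a d r T Q P where
  xx := sq_of_order H.tri.invx
  aa := sq_of_order H.tri.inva
  a1 := ne_one_of_order H.tri.inva
  comp := H.tri.comp
  LN := H.nor
  syl := H.isSyl
  sylx := ⟨H.Tp.to_le inf_le_left, inf_le_inf_right _ H.TC, fun U hU hUC hTU => le_antisymm
    (le_inf (H.sylx U hU hTU (hUC.trans inf_le_left) (hUC.trans inf_le_right)) (hUC.trans inf_le_right)) hTU⟩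
  aT := H.aT
  xT := H.xT
  Qdef := H.Qdef
  Pdef := H.Pdef
  psyl := by
    have hPe : P = T ⊓ L := by ext t; rw [H.Pdef, mem_inf]
    exact hPe ▸ H.isSyl.inf H.tri.comp.le H.nor
  dih := H.dih
  xd := H.xd
  xr := H.xr
  inn := fun _ ht htT h => H.inn R ht htT h
  ox := fun _ => ho

end Fr

end Cfsg.Agent.UGT.FourB.Frame
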