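import Cfsg.Agent.UGT.FourB.T4
import Cfsg.Agent.UGT.FourA.Zst
import Cfsg.Agent.UGT.FourB.FrFm

/-!
# The world of the case `T < S`

* `rank` : no elementary abelian group of order 16 in `C(a) ∩ C(x)`, `(x, a, L)` a triple;
* `world_of` : supply of `GFun.World`;
* `syl_of` : the case `T < S` from the frame and the field facts.
-/

set_option autoImplicit false

open Cfsg Subgroup
open Cfsg.Agent.SignalizersComponents Cfsg.Agent.Lib
open Cfsg.Agent.Intrinsic.Basic Cfsg.Agent.Intrinsic.Functor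
open Cfsg.Agent.McLLyComp.Act
open Cfsg.Agent.UGT.Triple Cfsg.Agent.UGT.Iface Cfsg.Agent.UGT.Res.KFacts Cfsg.Agent.UGT.FourA.Hon

namespace Cfsg.Agent.UGT.FourB.World

universe u

variable {G : Type u} [Group G] [Finite G]

/-- the frame of a triple -/
theorem exists_fr (H : Pgl G) (O : OneInv G) {x a : G} {L : Subgroup G} (T : IsTriple x a L) :
    ∃ (F : Type) (_ : Field F) (_ : Finite F) (R : Cfsg.Agent.GH.L2Aut.Rep F (Bar L)), 5 ≤ Nat.card F ∧
      R.o1 (act L ⟨x, T.x_mem⟩) = -1 ∧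
      ∃ (T T₁ Q P : Subgroup G) (d r s : G), Frame.Fr a x d r s L T T₁ Q P := by
  obtain ⟨F, i1, i2, h5, R, ho⟩ := H.exists_rep T
  exact ⟨F, i1, i2, R, h5, ho, Frame.exists_fr T R ho (O x a L T)⟩

theorem rank (H : Pgl G) (O : OneInv G) {x a : G} {L : Subgroup G} (T : IsTriple x a L) {E : Subgroup G}
    (hE : ∀ e ∈ E, e * e = 1) (hx : x ∈ E) (ha : a ∈ E) : Nat.card E ≤ 8 := by
  obtain ⟨F, i1, i2, R, h5, ho, T', T₁, Q, P, d, r, s, C⟩ := exists_fr H O T
  exact C.card_le hE (fun e he => GTools.comm_of_sq hE he ha) (fun e he => GTools.comm_of_sq hE he hx)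

/-- **supply of `GFun.World`** -/
theorem world_of (FT : OddSol G) (H : Pgl G) (O : OneInv G)
    (half : ∀ (x a : G) (L : Subgroup G), IsTriple x a L → ∀ S : Sylow 2 G, ∃ t ∈ S, t * a ≠ a * t) :
    GFun.World G where
  FT := FT
  rk u v J hT E hE hu hv := lt_of_le_of_lt (rank H O hT hE hu hv) (by norm_num)
  nc := half
  zst K S hS a ha haS hiso :=
    FourA.Zst.zstar_sub hS.1 hS.2.1 (fun U hU hSU hUK => hS.2.2 U hU hUK hSU) ha haS hiso

/-- **the case `T < S`** -/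
theorem syl_of (FT : OddSol G) (H : Pgl G) (O : OneInv G)
    (half : ∀ (x a : G) (L : Subgroup G), IsTriple x a L → ∀ S : Sylow 2 G, ∃ t ∈ S, t * a ≠ a * t)
    {x a d r s : G} {L T T₁ Q P : Subgroup G} (C : Frame.Fr a x d r s L T T₁ Q P)
    {F : Type*} [Field F] [Finite F] {R : Cfsg.Agent.GH.L2Aut.Rep F (Bar L)}
    (ho : R.o1 (act L ⟨x, C.tri.x_mem⟩) = -1)
    (hdd : d * d ≠ 1) (hs : s ∈ zpowers d) (h4 : Nat.card F % 4 = 1) (h9 : 9 ≤ Nat.card F)
    {u : G} (hu : u ∈ Q) (huu : u * u = 1) (hu1 : u ≠ 1) (hua : u ≠ a) {X : Subgroup G}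
    (hX : X ≤ _root_.commutator G) (hi : ∀ u, u ∉ X → u * x ∈ X) : False := by
  obtain ⟨S, hS⟩ := C.Tp.exists_le_sylow
  have h1 := T4.false_of (world_of FT H O half) C (C.toFm R ho) hdd hs h4 h9 hu huu hu1 hua hX hi S hS
  obtain ⟨t, ht, hta⟩ := half x a L C.tri S
  exact hta (C.a_comm (h1 ht))

end Cfsg.Agent.UGT.FourB.World
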