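import Cfsg.Agent.UGT.L2i.OneFour
import Cfsg.Agent.UGT.FourA.Hon
import Cfsg.Agent.SignalizersComponents.StandardTools
import Cfsg.Agent.SignalizersComponents.CoprimeBasic

/-!
# NodeR, one involution in `C_{F(a)}(x)`: the normality of `L`, and the exit `m(Q) = 1`, `|Q| ≥ 4`

* `norm_of_one`: `L` is normal in `C(a)` if `a` is the only involution of `C_{F(a)}(x)`.
* `rank_of_one`: `m(Q) = 1`, `|Q| ≥ 4` implies `r(G) ≤ 4` (`O(G) = Z(G) = 1`).
* `card_or`: `|Q| = 2` or `Q` contains an involution `≠ a`, for every triple of a minimal counterexample.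
-/

set_option autoImplicit false
set_option linter.dupNamespace false

open Cfsg Subgroup
open Cfsg.Agent.SignalizersComponents Cfsg.Agent.Lib
open Cfsg.Agent.SignalizersComponents.IntrinsicBasic
open Cfsg.Agent.SignalizersComponents.PLayerAut
open Cfsg.Agent.Intrinsic.Basic Cfsg.Agent.Intrinsic.Cen Cfsg.Agent.Intrinsic.Diag
open Cfsg.Agent.McLLyComp.Act
open Cfsg.Agent.UGT.Triple (IsTriple sq_of_order ne_one_of_order)
open Cfsg.Agent.UGT.Iface (Bar IsInner IsL2 IsAlt MinCex)
open Cfsg.Agent.UGT.Res.KFacts (Pgl)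
open Cfsg.Agent.UGT.TMCBase (mem_c comm_c)
open Cfsg.Agent.Walter.SylowIn
open scoped commutatorElement

namespace Cfsg.Agent.UGT.FourB.OneQ

universe u

section core

variable {G : Type u} [Group G] {a : G} {L : Subgroup G}

/-- an element of `M` acting trivially on `M / O(M) ≅ L₂(q)` lies in `O(M)` -/
theorem mem_core {F : Type*} [Field F] [Finite F] {M : Subgroup G}
    (R : GH.L2Aut.Rep F (↥M ⧸ oddCore ↥M)) {m : G} (hm : m ∈ M) (hf : Fixes m M) : m ∈ core M := by
  have h1 : act M ⟨m, le_normalizer hm⟩ = 1 := (act_eq_one_iff (le_normalizer hm)).mpr hf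
  have h2 := act_of_mem hm
  rw [h1] at h2
  have h3 : (QuotientGroup.mk ⟨m, hm⟩ : ↥M ⧸ oddCore ↥M) = 1 :=
    R.conj_injective (by rw [← h2, map_one])
  exact (mk_eq_one_iff _).mp h3

/-- the same for a conjugate of `L` -/
theorem mem_core_cj {F : Type*} [Field F] [Finite F]
    (R : GH.L2Aut.Rep F (↥L ⧸ oddCore ↥L)) {g m : G} (hm : m ∈ cj g L) (hf : Fixes m (cj g L)) :
    m ∈ core (cj g L) := by
  rw [mem_cj] at hm
  have h1 : Fixes (g⁻¹ * m * g⁻¹⁻¹) (cj g⁻¹ (cj g L)) := hf.cj g⁻¹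
  rw [cj_inv_cj, inv_inv] at h1
  rw [core_cj, mem_cj]
  exact mem_core R hm h1

end core

variable {G : Type u} [Group G] [Finite G] {x a : G} {L : Subgroup G}

/-- **`L` is normal in `C(a)`** if `a` is the only involution of `C_{F(a)}(x)`. -/
theorem norm_of_one (H : Pgl G) (Tr : IsTriple x a L)
    (hO : ∀ b : G, b * b = 1 → b * a = a * b → b * x = x * b → Fixes b L → b = 1 ∨ b = a) :
    centralizer ({a} : Set G) ≤ normalizer (L : Set G) := by
  intro c hc
  rw [mem_normalizer_iff_cj]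
  by_contra hne
  obtain ⟨F, _, _, -, R, -⟩ := H.exists_rep Tr
  have hxx := sq_of_order Tr.invx
  have hxc : x ∈ centralizer ({a} : Set G) := mem_c Tr.comm.symm
  have ha1 := ne_one_of_order Tr.inva
  have haa := sq_of_order Tr.inva
  have hM : IsComp (centralizer ({a} : Set G)) (cj c L) := isComp_cj_of_mem Tr.comp hc
  have hML : L ≠ cj c L := fun h => hne h.symm
  have hodd : a ∉ core (centralizer ({a} : Set G)) := by
    intro h
    have h1 := Subgroup.orderOf_dvd_natCard _ h
    rw [Tr.inva] at h1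
    exact (Nat.not_even_iff_odd.mpr (odd_card_core _)) (even_iff_two_dvd.mpr h1)
  by_cases hxM : x ∈ normalizer ((cj c L : Subgroup G) : Set G)
  · obtain ⟨b, hbM, hbo, hxb⟩ := Cfsg.Agent.SignalizersComponents.StandardTools.exists_involution_commute
      (even_iff_two_dvd.mpr hM.even) hxx hxM
    rcases hO b (sq_of_order hbo) (comm_c (hM.le hbM)) hxb.symm (Tr.comp.fixes_of_mem hM hML hbM) with h | h
    · exact ne_one_of_order hbo h
    · subst h
      exact hodd (hM.core_le_core (mem_core_cj R hbM (TriBase.fixes_self' hM.le)))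
  · have hN : IsComp (centralizer ({a} : Set G)) (cj (x * c) L) := by
      rw [cj_mul]
      exact isComp_cj_of_mem hM hxc
    have hNM : cj c L ≠ cj (x * c) L := by
      intro h
      apply hxM
      rw [mem_normalizer_iff_cj, ← cj_mul, ← h]
    have hNL : L ≠ cj (x * c) L := by
      intro h
      apply hML
      have h1 : cj x L = L := mem_normalizer_iff_cj.mp Tr.x_mem
      have h2 : cj x (cj (x * c) L) = cj x L := by rw [← h]
      rw [h1, ← cj_mul, ← mul_assoc, hxx, one_mul] at h2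
      exact h2.symm
    obtain ⟨K, hK⟩ : ∃ K, K = cj c L ⊔ cj (x * c) L := ⟨_, rfl⟩
    have hxK : x ∈ normalizer (K : Set G) := by
      rw [mem_normalizer_iff_cj, hK, IntrinsicBasic.cj, Subgroup.map_sup]
      change cj x (cj c L) ⊔ cj x (cj (x * c) L) = _
      rw [← cj_mul, ← cj_mul, ← mul_assoc, hxx, one_mul, sup_comm]
    have hKe : Even (Nat.card K) := by
      rw [even_iff_two_dvd]
      exact hM.even.trans (Subgroup.card_dvd_of_le (hK ▸ le_sup_left))
    obtain ⟨b, hbK, hbo, hxb⟩ := Cfsg.Agent.SignalizersComponents.StandardTools.exists_involution_commute hKe hxx hxK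
    have hKf : K ≤ GH.L2Frame.fix L := by
      rw [hK]
      exact sup_le (fun y hy => GH.L2Frame.mem_fix.mpr (Tr.comp.fixes_of_mem hM hML hy))
        (fun y hy => GH.L2Frame.mem_fix.mpr (Tr.comp.fixes_of_mem hN hNL hy))
    have hKa : K ≤ centralizer ({a} : Set G) := hK ▸ sup_le hM.le hN.le
    rcases hO b (sq_of_order hbo) (comm_c (hKa hbK)) hxb.symm (GH.L2Frame.mem_fix.mp (hKf hbK)) with h | h
    · exact ne_one_of_order hbo h
    · subst h
      rw [hK] at hbK
      obtain ⟨m, hm, n, hn, h1⟩ := (Cfsg.Agent.SignalizersComponents.CoprimeBasic.mem_sup_iff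
        (X := cj c L) (Y := cj (x * c) L) (fun n hn => (hM.fixes_of_mem hN hNM hn).1) _).mp hbK
      have hnM := hM.fixes_of_mem hN hNM hn
      have hmN := hN.fixes_of_mem hM (Ne.symm hNM) hm
      have h2 : Fixes m (cj c L) := by
        have h3 : m = b * n⁻¹ := by rw [← h1, mul_inv_cancel_right]
        rw [h3]
        exact fixes_mul (TriBase.fixes_self' hM.le) (fixes_inv hnM)
      have h4 : Fixes n (cj (x * c) L) := by
        have h3 : n = m⁻¹ * b := by rw [← h1, inv_mul_cancel_left]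
        rw [h3]
        exact fixes_mul (fixes_inv hmN) (TriBase.fixes_self' hN.le)
      apply hodd
      have h5 := mul_mem (hM.core_le_core (mem_core_cj R hm h2)) (hN.core_le_core (mem_core_cj R hn h4))
      rwa [h1] at h5

omit [Finite G] in
/-- the centre of `M / O(M)` is trivial -/
theorem center_bot {F : Type*} [Field F] [Finite F] {M : Subgroup G}
    (R : GH.L2Aut.Rep F (↥M ⧸ oddCore ↥M)) : center (Bar M) = ⊥ := by
  rw [eq_bot_iff]
  intro z hz
  rw [mem_bot]
  apply R.conj_injective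
  rw [map_one]
  ext y
  rw [MulAut.conj_apply, MulAut.one_apply, ← mem_center_iff.mp hz y, mul_inv_cancel_right]

variable (H : Pgl G) (Tr : IsTriple x a L)
include H Tr

/-- **`m(Q) = 1`, `|Q| ≥ 4`: `r(G) ≤ 4`** -/
theorem rank_of_one (hodd : ∀ N : Subgroup G, N.Normal → Odd (Nat.card N) → N = ⊥) (hc : center G = ⊥)
    (hn : centralizer ({a} : Set G) ≤ normalizer (L : Set G)) {T : Subgroup G}
    (hT : SylIn 2 T (centralizer ({a} : Set G)))
    (h1 : ∀ q ∈ T ⊓ GH.L2Frame.fix L, q * q = 1 → q = 1 ∨ q = a)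
    (h4 : 4 ≤ Nat.card ↥(T ⊓ GH.L2Frame.fix L)) : SectionalPRankLE 2 4 G := by
  obtain ⟨F, _, _, -, R, -⟩ := H.exists_rep Tr
  have hZ := center_bot R
  obtain ⟨A, _, d, r, c, o1, o2, F⟩ := GH.L2One.HasData.frame Tr.inva
    ⟨Tr.comp, L2i.OneFour.not_evenCenter hZ, hT.le.trans hn, hT⟩ hn
    (L2i.OneFour.hasData hZ (Or.inl (H x a L Tr).1)) h1 h4
  exact L2i.OneFour.rank_of_frame hodd hc F

/-- **`|Q| = 2` or `Q` contains an involution `≠ a`**, for every triple of a minimal counterexample -/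
theorem card_or (hG : MinCex G) (hr : ¬ SectionalPRankLE 2 4 ↥(generalizedFittingSubgroup G))
    (hn : centralizer ({a} : Set G) ≤ normalizer (L : Set G)) {T : Subgroup G}
    (hT : SylIn 2 T (centralizer ({a} : Set G))) :
    (∀ q ∈ T, Fixes q L → q = 1 ∨ q = a) ∨ ∃ q ∈ T, Fixes q L ∧ q * q = 1 ∧ q ≠ 1 ∧ q ≠ a := by
  by_contra hcon
  rw [not_or] at hcon
  obtain ⟨h1, h2⟩ := hcon
  push Not at h1 h2
  obtain ⟨q, hq, hqL, hq1, hqa⟩ := h1
  have h3 : ∀ q ∈ T ⊓ GH.L2Frame.fix L, q * q = 1 → q = 1 ∨ q = a := by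
    rintro q ⟨hq, hqL⟩ hqq
    by_contra hcon
    rw [not_or] at hcon
    exact hcon.2 (h2 q hq (GH.L2Frame.mem_fix.mp hqL) hqq hcon.1)
  have hp2 : Fact (Nat.Prime 2) := ⟨Nat.prime_two⟩
  have haT : a ∈ T := by
    obtain ⟨g, hg, h4⟩ := hT.conj_le (R := zpowers a) (zpowers_le.mpr (mem_c rfl))
      (L2i.isPGroup_zp (sq_of_order Tr.inva))
    have h5 := h4 a (mem_zpowers a)
    rwa [comm_c hg, mul_inv_cancel_right] at h5
  have h4 : 4 ≤ Nat.card ↥(T ⊓ GH.L2Frame.fix L) := by
    have ha : a ∈ T ⊓ GH.L2Frame.fix L :=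
      ⟨haT, GH.L2Frame.mem_fix.mpr (TriBase.fixes_self' Tr.comp.le)⟩
    have hq' : q ∈ T ⊓ GH.L2Frame.fix L := ⟨hq, GH.L2Frame.mem_fix.mpr hqL⟩
    obtain ⟨n, hn⟩ := (hT.isPGroup.to_le (inf_le_left (b := GH.L2Frame.fix L))).exists_card_eq
    have h5 : 3 ≤ Nat.card ↥(T ⊓ GH.L2Frame.fix L) := by
      let f : Fin 3 → ↥(T ⊓ GH.L2Frame.fix L) := ![1, ⟨a, ha⟩, ⟨q, hq'⟩]
      have hf : Function.Injective f := by
        intro i j hij
        have h6 : ((f i : ↥(T ⊓ GH.L2Frame.fix L)) : G) = f j := congrArg Subtype.val hij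
        have ha1 := ne_one_of_order Tr.inva
        fin_cases i <;> fin_cases j <;> simp [f] at h6 ⊢ <;>
          first
            | exact absurd h6 ha1
            | exact absurd h6.symm ha1
            | exact absurd h6 hq1
            | exact absurd h6.symm hq1
            | exact absurd h6 hqa
            | exact absurd h6.symm hqa
      have h7 := Nat.card_le_card_of_injective f hf
      rwa [Nat.card_fin] at h7
    rw [hn] at h5 ⊢
    rcases n with _ | _ | n
    · omega
    · omega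
    · rw [pow_add]
      have := Nat.one_le_two_pow (n := n)
      omega
  exact hr (GH.Rank.of_subgroup (rank_of_one H Tr (L2i.OneFour.odd_of_minCex hG hr)
    (L2i.OneFour.center_of_minCex hG) hn hT h3 h4) _)

end Cfsg.Agent.UGT.FourB.OneQ
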