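import Cfsg.Agent.UGT.FourB.TS
import Cfsg.Agent.UGT.FourB.Three
import Cfsg.Agent.UGT.FourB.T4
import Cfsg.Agent.UGT.FourB.SupFm
import Cfsg.Agent.UGT.FourB.World
import Cfsg.Agent.UGT.FourB.TfSup
import Cfsg.Agent.UGT.FourB.Iso
import Cfsg.Agent.UGT.FourB.NotX
import Cfsg.Agent.UGT.PQ.Bridge

/-!
# NodeR, leaf (L0)

`a` is the only involution of `C_{C(a) ∩ C(x)}(L / O(L))` for all triples `(x, a, L)`: there is no triple.

* `half` : no triple whose frame has `T ∈ Syl₂(G)`;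
* `fld` : the leaf.
-/

set_option autoImplicit false

open Cfsg Subgroup
open Cfsg.Agent.SignalizersComponents Cfsg.Agent.Lib
open Cfsg.Agent.SignalizersComponents.IntrinsicBasic
open Cfsg.Agent.SignalizersComponents.PLayerAut
open Cfsg.Agent.Intrinsic.Basic Cfsg.Agent.Intrinsic.Cen Cfsg.Agent.Intrinsic.Diag
open Cfsg.Agent.Intrinsic.Functor (OddSol)
open Cfsg.Agent.McLLyComp.Act
open Cfsg.Agent.UGT.Triple Cfsg.Agent.UGT.Iface Cfsg.Agent.UGT.Res.KFacts
open Cfsg.Agent.UGT.FourA.Hon (OneInv)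
open Cfsg.Agent.UGT.FourB.OneB (W4 Bad)
open Cfsg.Agent.UGT.FourB.Frame Cfsg.Agent.UGT.FourB.TS

namespace Cfsg.Agent.UGT.FourB.Tree

universe u

local notation "Fs" => generalizedFittingSubgroup

variable {G : Type u} [Group G] [Finite G] {a x d r s : G} {L T T₁ Q P : Subgroup G}

theorem exists_frame (H : Pgl G) (hO : OneInv G) (Tr : IsTriple x a L) :
    ∃ (T T₁ Q P : Subgroup G) (d r s : G), Fr a x d r s L T T₁ Q P := by
  obtain ⟨F, _, _, -, R, ho⟩ := H.exists_rep Tr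
  exact exists_fr Tr R ho (hO x a L Tr)

/-- `T ∈ Syl₂(G)`, `m(Q) ≥ 2` -/
theorem sg_of (H : Pgl G) (hr : ¬ SectionalPRankLE 2 4 G) (C : Fr a x d r s L T T₁ Q P)
    (hT : ∀ U : Subgroup G, IsPGroup 2 U → T ≤ U → U ≤ T) (hu : ∃ u ∈ Q, u * u = 1 ∧ u ≠ 1 ∧ u ≠ a) :
    Sg a x d r s L T T₁ Q P := by
  rcases C.dich H with Cf | ⟨F, _, _, R, ho, Fm, hdd, hs, h8, h9⟩
  · obtain ⟨-, h1, h2⟩ := of_cfg C hr Cf
    exact ⟨C, hT, h1, hu, h2⟩
  · obtain ⟨u, hu, huu, hu1, hua⟩ := hu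
    have cn : ∀ g : G, (∀ t ∈ T, g * t * g⁻¹ ∈ T) → g * a * g⁻¹ = a := fun g hg => Iso.isolated C Fm hT hdd hs hg
    exact ⟨C, hT, cn, ⟨u, hu, huu, hu1, hua⟩, C.exists_hom hT (nas C hT cn) (naz C hT cn)
      (C.not_conj_x hT (nas C hT cn) (naz C hT cn) hu huu hu1 hua) hu huu hu1 hua⟩

/-- the frame is not one of a Sylow 2-subgroup of `G` -/
theorem half (hG : MinCex G) (H : Pgl G) (hO : OneInv G) (FT : OddSol G) (hr : ¬ SectionalPRankLE 2 4 G)
    (C : Fr a x d r s L T T₁ Q P) (hT : ∀ U : Subgroup G, IsPGroup 2 U → T ≤ U → U ≤ T) : False := by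
  have hodd : ∀ N : Subgroup G, N.Normal → Odd (Nat.card N) → N = ⊥ :=
    fun N hN h => PQ.Bridge.odd_of_triple hG C.tri N hN h
  have hc := L2i.OneFour.center_of_minCex hG
  have hu := NxSup.exists_inv hodd hc hr H C hT
  have S := sg_of H hr C hT hu
  have hx := S.x_not hG
  obtain ⟨Cf, htop⟩ := Res.NodeCOne.cfx_of hG H C.tri hx
  have I := FourA.Final.idx C.tri.invx hx htop
  by_cases hs : ∃ v, (v = s ∨ v = a * s) ∧ ∃ J, IsTriple x v J
  · obtain ⟨v, hv, J, TJ⟩ := hs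
    have F : Tf (Fs G) T x a s := TfSup.tf_of I (fun t ht h2 => Cf.cf ht h2) hodd hc hr H hO FT C hT
      (nas C hT S.cn) (naz C hT S.cn) (nsz C hT S.cn)
    refine F.false_of (FourA.Final.min_fs hG) (v := a) (w := v) (Or.inr (Or.inl rfl)) C.a1
      (TfSup.bad_of C.tri) (Or.inr (Or.inr hv)) ?_ (TfSup.bad_of TJ) ?_
    · exact ne_one_of_order TJ.inva
    · rcases hv with rfl | rfl
      · exact C.a_ne_s
      · exact fun h => C.s1 (left_eq_mul.mp h)
  · push Not at hs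
    exact S.t1 hG H hO (fun J => hs s (Or.inl rfl) J) (fun J => hs (a * s) (Or.inr rfl) J)

/-- **(L0)** -/
theorem fld (hG : MinCex G) (H : Pgl G) (hO : OneInv G) (FT : OddSol G) (hr : ¬ SectionalPRankLE 2 4 G)
    (hex : ∃ (x a : G) (L : Subgroup G), IsTriple x a L) : False := by
  have nc : ∀ (u v : G) (J : Subgroup G), IsTriple u v J → ∀ S : Sylow 2 G, ∃ t ∈ S, t * v ≠ v * t := by
    intro u v J TJ S
    by_contra hcon
    push Not at hcon
    obtain ⟨T, T₁, Q, P, d, r, s, C⟩ := exists_frame H hO TJ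
    exact half hG H hO FT hr C (max_of C S hcon)
  obtain ⟨x, a, L, Tr, q, hqa, hqL, hqq, hq1, hqa1⟩ := PQ.Bridge.exists_big H hG hO FT hr hex
  obtain ⟨T, T₁, Q, P, d, r, s, C⟩ := exists_frame H hO Tr
  -- an involution of `Q`
  obtain ⟨u, hu, huu, hu1, hua⟩ : ∃ u ∈ Q, u * u = 1 ∧ u ≠ 1 ∧ u ≠ a := by
    obtain ⟨g, hg, hgT⟩ := card_le_of C (V := zpowers q) (L2i.isPGroup_zp hqq)
      (zpowers_le.mpr (mem_centralizer_singleton_iff.mpr hqa))
    refine ⟨g * q * g⁻¹, (C.Qdef _).mpr ⟨hgT q (mem_zpowers q), fixes_conj hqL (C.nor hg)⟩, ?_, ?_, ?_⟩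
    · calc g * q * g⁻¹ * (g * q * g⁻¹) = g * (q * q) * g⁻¹ := by group
        _ = 1 := by rw [hqq]; group
    · intro h
      exact hq1 (by calc q = g⁻¹ * (g * q * g⁻¹) * g := by group
                      _ = 1 := by rw [h]; group)
    · intro h
      have hga : g * a = a * g := mem_centralizer_singleton_iff.mp hg
      exact hqa1 (by calc q = g⁻¹ * (g * q * g⁻¹) * g := by group
                       _ = g⁻¹ * (a * g) := by rw [h]; group
                       _ = a := by rw [← hga]; group)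
  obtain ⟨S, hTS⟩ := C.Tp.exists_le_sylow
  have hST : (S : Subgroup G) ≤ T := by
    rcases C.dich H with Cf | ⟨F, _, _, R, ho, Fm, hdd, hs, h8, h9⟩
    · exact (of_cfg C hr Cf).1 S S.2 hTS
    · exact T4.false_of (World.world_of FT H hO nc) C Fm hdd hs (by omega) h9 hu huu hu1 hua
        (le_comm hG) (hi_of hG H Tr) S hTS
  obtain ⟨t, ht, hne⟩ := nc x a L Tr S
  exact hne (C.a_comm (hST ht))

end Cfsg.Agent.UGT.FourB.Tree
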