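import Cfsg.Agent.UGT.FourB.BlkG

/-!
# Leaf (4b), section 5 (the block), (5.3), (5.4)

`Fun R R' x a s`: `Pre` with `C_W(u) = O(C(u))` for `u = a, s, a s`, and `(x, a)`, `(x, s)` bad.

* `Fun.not_conj`: `x` is not conjugate to `a` or `s`.
* `Fun.fix`: `a` fixes exactly one conjugate of the block: `g⁻¹ a g ∈ stab N N' → g ∈ stab N N'`; `Fun.fix'` the same for `s`.
-/

set_option autoImplicit false

open Cfsg Subgroup
open Cfsg.Agent.SignalizersComponents Cfsg.Agent.Lib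
open Cfsg.Agent.SignalizersComponents.IntrinsicBasic
open Cfsg.Agent.Intrinsic.Basic
open Cfsg.Agent.McLLyComp.Act
open Cfsg.Agent.UGT.Iface
open Cfsg.Agent.OddHalf.D6 hiding act
open scoped commutatorElement

namespace Cfsg.Agent.UGT.FourB.Blk

variable {G : Type*} [Group G]

variable {F F' : Type*} [Field F] [Finite F] [Field F'] [Finite F'] {N N' : Subgroup G}
  {R : GH.L2Aut.Rep F (Bar N)} {R' : GH.L2Aut.Rep F' (Bar N')} {x a s : G}

/-- the block with its functor -/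
structure Fun (R : GH.L2Aut.Rep F (Bar N)) (R' : GH.L2Aut.Rep F' (Bar N')) (x a s : G) : Prop extends
    Pre R R' x a s where
  Wa : core N ⊓ centralizer ({a} : Set G) = core (centralizer ({a} : Set G))
  Ws : core N ⊓ centralizer ({s} : Set G) = core (centralizer ({s} : Set G))
  Wz : core N ⊓ centralizer ({a * s} : Set G) = core (centralizer ({a * s} : Set G))
  bada : ∃ y ∈ core (centralizer ({x} : Set G)), y * a = a * y ∧ y ∉ core N
  bads : ∃ y ∈ core (centralizer ({x} : Set G)), y * s = s * y ∧ y ∉ core N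

theorem Fun.symm (H : Fun R R' x a s) : Fun R' R x s a where
  toPre := H.toPre.symm
  Wa := H.core_eq ▸ H.Ws
  Ws := H.core_eq ▸ H.Wa
  Wz := by rw [← H.core_eq, ← H.ac]; exact H.Wz
  bada := H.core_eq ▸ H.bads
  bads := H.core_eq ▸ H.bada

theorem mem_core_conj {u y g : G} (hy : y ∈ core (centralizer ({u} : Set G))) :
    g * y * g⁻¹ ∈ core (centralizer ({g * u * g⁻¹} : Set G)) := by
  rw [← cj_centralizer, core_cj]
  exact conj_mem_cj hy

/-- `b = c d`, `c` fixed and `d` inverted by the involution `z` -/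
theorem exists_dec [Finite G] {z b : G} {A : Subgroup G} (hzz : z * z = 1)
    (hA : Odd (Nat.card A)) (hb : b ∈ A) (hzA : ∀ y ∈ A, z * y * z⁻¹ ∈ A) :
    ∃ c ∈ A, ∃ d ∈ A, b = c * d ∧ z * c * z⁻¹ = c ∧ z * d * z⁻¹ = d⁻¹ := by
  have hzi : z⁻¹ = z := inv_eq_of_mul_eq_one_left hzz
  obtain ⟨u, hu⟩ : ∃ u, u = (z * b * z⁻¹)⁻¹ * b := ⟨_, rfl⟩
  have huA : u ∈ A := hu ▸ mul_mem (inv_mem (hzA b hb)) hb
  have hou : Odd (orderOf u) := by
    have h1 := orderOf_dvd_natCard (⟨u, huA⟩ : ↥A)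
    rw [Subgroup.orderOf_mk] at h1
    exact Odd.of_dvd_nat hA h1
  have hzu : z * u * z⁻¹ = u⁻¹ := by
    have e : z * u * z⁻¹ = ((z * z) * b * (z * z)⁻¹)⁻¹ * (z * b * z⁻¹) := by
      rw [hu]; simp only [mul_inv_rev, inv_inv, mul_assoc, inv_mul_cancel_left]
    rw [e, hzz, one_mul, inv_one, mul_one, hu]
    group
  obtain ⟨k, hk⟩ := hou
  obtain ⟨d, hd⟩ : ∃ d, d = u ^ (k + 1) := ⟨_, rfl⟩
  have hdd : d * d = u := by
    rw [hd, ← pow_add, show k + 1 + (k + 1) = orderOf u + 1 by omega, pow_succ, pow_orderOf_eq_one,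
      one_mul]
  have hzd : z * d * z⁻¹ = d⁻¹ := by
    have e : z * d * z⁻¹ = (z * u * z⁻¹) ^ (k + 1) := by rw [hd, conj_pow]
    rw [e, hzu, hd, inv_pow]
  have hdA : d ∈ A := hd ▸ pow_mem huA _
  refine ⟨b * d⁻¹, mul_mem hb (inv_mem hdA), d, hdA, by group, ?_, hzd⟩
  have e1 : z * b * z⁻¹ = b * u⁻¹ := by rw [hu]; group
  calc z * (b * d⁻¹) * z⁻¹ = (z * b * z⁻¹) * (z * d * z⁻¹)⁻¹ := by group
    _ = b * u⁻¹ * d := by rw [e1, hzd, inv_inv]
    _ = b * (d * d)⁻¹ * d := by rw [hdd]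
    _ = b * d⁻¹ := by group

namespace Pre

variable (P : Pre R R' x a s)
include P

variable [Finite G]

theorem as_ne : a * s ≠ 1 := by
  intro h
  have h1 : s = a⁻¹ := (inv_eq_of_mul_eq_one_right h).symm
  have h2 : s ∈ N' := h1 ▸ inv_mem P.aN
  have h3 := (P.actN h2).uniq (acts_of_mem P.sN)
  obtain ⟨-, h4⟩ := mk_inv P.sN P.ss P.s1
  exact h4 (R.conj_injective (by rw [← h3, map_one]))

omit [Finite G] in
theorem as_sq : a * s * (a * s) = 1 := by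
  calc a * s * (a * s) = a * (s * a) * s := by group
    _ = (a * a) * (s * s) := by rw [← P.ac]; group
    _ = 1 := by rw [P.aa, P.ss, one_mul]

/-- an involution of `C(a)` of PGL type on both members is conjugate to `x` in `C(a)` -/
theorem pglC {z : G} {α : MulAut (Bar N)} {α' : MulAut (Bar N')} (A : Acts N z α) (A' : Acts N' z α')
    (hzz : z * z = 1) (hza : z * a = a * z) (ho : R.o1 α = -1) (ho' : R'.o1 α' = -1) :
    ∃ m : G, m * a = a * m ∧ m * z * m⁻¹ = x := by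
  obtain ⟨ξ, X⟩ := exists_acts P.xN
  obtain ⟨ξ', X'⟩ := exists_acts P.xN'
  obtain ⟨h1, h2⟩ := PglType.pgl_of R (A.sq hzz) ho
  obtain ⟨h3, h4⟩ := PglType.pgl_of R (X.sq P.xx) (P.ox _ X)
  obtain ⟨h5, h6⟩ := PglType.pgl_of R' (A'.sq hzz) ho'
  obtain ⟨h7, h8⟩ := PglType.pgl_of R' (X'.sq P.xx) (P.ox' _ X')
  obtain ⟨u, hu⟩ := R.dtype_conj h1 h2 (A.sq hzz) h3 h4 (X.sq P.xx)
  obtain ⟨u', hu'⟩ := R'.dtype_conj h5 h6 (A'.sq hzz) h7 h8 (X'.sq P.xx)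
  -- the element of `N'` is chosen in `C(a)`
  obtain ⟨htt, ht1⟩ := mk_inv P.aN P.aa P.a1
  have T := acts_of_mem P.aN
  obtain ⟨t, ht⟩ : ∃ t, t = (QuotientGroup.mk ⟨a, P.aN⟩ : Bar N') := ⟨_, rfl⟩
  rw [← ht] at T htt ht1
  have hfix : ∀ {g : G} {β : MulAut (Bar N')}, Acts N' g β → g * a = a * g → β t = t := by
    intro g β B hg
    exact R'.conj_injective (by rw [← GH.L2AutPlus.conj_normal, B.comm T hg, mul_inv_cancel_right])
  have hα't := hfix A' hza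
  have hξ't := hfix X' P.xa
  have h9 : ξ' (u' * t * u'⁻¹) = u' * t * u'⁻¹ := by
    rw [← hu']
    show (MulAut.conj u' * α' * (MulAut.conj u')⁻¹) (u' * t * u'⁻¹) = _
    have e : u' * t * u'⁻¹ = MulAut.conj u' t := rfl
    rw [e, MulAut.mul_apply, MulAut.mul_apply, MulAut.inv_apply_self, hα't]
  obtain ⟨c, hc, hct⟩ := cls R' (X'.sq P.xx) (P.ox' _ X') h9 (conj_sq htt) (conj_ne ht1) hξ't htt ht1
  obtain ⟨v, hv⟩ : ∃ v, v = c * u' := ⟨_, rfl⟩
  have hvt : MulAut.conj t v = v := by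
    rw [MulAut.conj_apply]
    have e : v * t * v⁻¹ = t := by
      have e2 : v * t * v⁻¹ = c * (u' * t * u'⁻¹) * c⁻¹ := by rw [hv]; group
      rw [e2, hct]
    have e3 : v * t = t * v := mul_inv_eq_iff_eq_mul.mp e
    rw [← e3, mul_inv_cancel_right]
  have hvα : MulAut.conj v * α' * (MulAut.conj v)⁻¹ = ξ' := by
    rw [hv, map_mul]
    calc MulAut.conj c * MulAut.conj u' * α' * (MulAut.conj c * MulAut.conj u')⁻¹
        = MulAut.conj c * (MulAut.conj u' * α' * (MulAut.conj u')⁻¹) * (MulAut.conj c)⁻¹ := by group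
      _ = MulAut.conj c * ξ' * (MulAut.conj c)⁻¹ := by rw [hu']
      _ = ξ' := by
        have e : ξ' * MulAut.conj c = MulAut.conj c * ξ' := by
          rw [GH.L2AutPlus.mul_conj, hc]
        rw [← e, mul_inv_cancel_right]
  obtain ⟨n, hn, hna, hmn⟩ := (P.actN P.aN).lift P.aa (k := u) rfl
  obtain ⟨n', hn', hna', hmn'⟩ := T.lift P.aa hvt
  have B := ((acts_of_mem hn).mul (P.actN hn')).conj A
  have B' := ((P.actN' hn).mul (acts_of_mem hn')).conj A'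
  rw [mul_one, hmn, hu] at B
  rw [one_mul, hmn', hvα] at B'
  have hnn : n * n' * a = a * (n * n') := by
    calc n * n' * a = n * (n' * a) := mul_assoc _ _ _
      _ = n * (a * n') := by rw [hna']
      _ = n * a * n' := (mul_assoc _ _ _).symm
      _ = a * n * n' := by rw [hna]
      _ = a * (n * n') := mul_assoc _ _ _
  have hca : n * n' * z * (n * n')⁻¹ * a = a * (n * n' * z * (n * n')⁻¹) := by
    have h10 : Commute (n * n') a := hnn
    exact (h10.mul_left hza).mul_left h10.inv_left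
  obtain ⟨o, ho, hoa, h10⟩ := Intrinsic.Lifting.exists_conj_commute (n := 1) (m := 1) (v := a)
    (odd_card_core N) (sq_pow (conj_sq hzz)) (sq_pow P.xx) (core_norm B.mem) hca P.xa
    (P.eq_mod B X B' X')
  refine ⟨o * (n * n'), ?_, ?_⟩
  · exact (show Commute o a from hoa).mul_left hnn
  · rw [← h10]
    group

end Pre

namespace Fun

variable [Finite G] (H : Fun R R' x a s)
include H

/-- `core N` is fixed by the stabilizer of the block -/
theorem st_core {g y : G} (hg : St N N' g) (hy : y ∈ core N) : g * y * g⁻¹ ∈ core N := by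
  rcases hg with ⟨h1, -⟩ | ⟨h1, -⟩
  · exact cj_core_mem h1 hy
  · rw [H.core_eq]
    exact cj_core_mem h1 hy

/-- (5.3) -/
theorem ne_a (g : G) : x ≠ g * a * g⁻¹ := by
  intro hx
  have P := H.toPre
  have hxg : g⁻¹ * x * g = a := by rw [hx]; group
  -- `g` does not stabilize the block
  have hst : ¬ St N N' g := by
    intro h
    obtain ⟨y, hy, -, hyW⟩ := H.bada
    apply hyW
    have h1 := mem_core_conj (g := g⁻¹) hy
    rw [inv_inv, hxg, ← H.Wa] at h1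
    have h2 := H.st_core h h1.1
    have e : g * (g⁻¹ * y * g) * g⁻¹ = y := by group
    rwa [e] at h2
  have hst' : ¬ St N N' g⁻¹ := fun h => hst (by have := h.inv; rwa [inv_inv] at this)
  -- `a₁ = a^g`, `s₁ = s^g` in `C(a)`
  obtain ⟨a₁, ha₁⟩ : ∃ a₁, a₁ = g⁻¹ * a * g⁻¹⁻¹ := ⟨_, rfl⟩
  obtain ⟨s₁, hs₁⟩ : ∃ s₁, s₁ = g⁻¹ * s * g⁻¹⁻¹ := ⟨_, rfl⟩
  have hxg' : g⁻¹ * x * g⁻¹⁻¹ = a := by rw [inv_inv, hxg]
  have ha₁a : a₁ * a = a * a₁ := by
    have h1 := conj_comm (g := g⁻¹) P.xa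
    rw [hxg'] at h1
    rw [ha₁]
    exact h1.symm
  have hs₁a : s₁ * a = a * s₁ := by
    have h1 := conj_comm (g := g⁻¹) P.xs
    rw [hxg'] at h1
    rw [hs₁]
    exact h1.symm
  have ha₁s₁ : a₁ * s₁ = s₁ * a₁ := by rw [ha₁, hs₁]; exact conj_comm P.ac
  have ha₁a₁ : a₁ * a₁ = 1 := ha₁ ▸ conj_sq P.aa
  have hs₁s₁ : s₁ * s₁ = 1 := hs₁ ▸ conj_sq P.ss
  obtain ⟨na1, na2⟩ := P.Ca a₁ ha₁a
  obtain ⟨ns1, ns2⟩ := P.Ca s₁ hs₁a
  obtain ⟨α, α', A, A', hoα, hoα'⟩ := (P.two (g := g⁻¹) (ha₁ ▸ na1) (ha₁ ▸ na2)).resolve_left hst'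
  obtain ⟨σ', σ, S', S, hoσ', hoσ⟩ := (P.symm.two (g := g⁻¹) (hs₁ ▸ ns2) (hs₁ ▸ ns1)).resolve_left
    (fun h => hst' h.symm)
  rw [← ha₁] at A A'
  rw [← hs₁] at S S'
  -- `z = a₁ s₁`
  obtain ⟨z, hz⟩ : ∃ z, z = a₁ * s₁ := ⟨_, rfl⟩
  have hzg : z = g⁻¹ * (a * s) * g⁻¹⁻¹ := by rw [hz, ha₁, hs₁]; group
  have hzz : z * z = 1 := hzg ▸ conj_sq P.as_sq
  have hz1 : z ≠ 1 := hzg ▸ conj_ne P.as_ne
  have hza : z * a = a * z := by
    calc z * a = a₁ * (s₁ * a) := by rw [hz, mul_assoc]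
      _ = a₁ * a * s₁ := by rw [hs₁a, mul_assoc]
      _ = a * z := by rw [ha₁a, hz, mul_assoc]
  have Z := A.mul S
  have Z' := A'.mul S'
  rw [← hz] at Z Z'
  have hfα := R.mem_PGL_iff_fld.1 (PglType.pgl_of R (A.sq ha₁a₁) hoα).1
  have hfα' := R'.mem_PGL_iff_fld.1 (PglType.pgl_of R' (A'.sq ha₁a₁) hoα').1
  have hfσ := R.mem_PGL_iff_fld.1 (PglType.pgl_of R (S.sq hs₁s₁) hoσ).1
  have hfσ' := R'.mem_PGL_iff_fld.1 (PglType.pgl_of R' (S'.sq hs₁s₁) hoσ').1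
  obtain ⟨c, hc⟩ := R.mem_inn_iff.2 (show R.fld (α * σ) = 1 ∧ R.o1 (α * σ) = 1 from
    ⟨by rw [map_mul, hfα, hfσ, mul_one], by rw [map_mul, hoα, hoσ]; decide⟩)
  obtain ⟨c', hc'⟩ := R'.mem_inn_iff.2 (show R'.fld (α' * σ') = 1 ∧ R'.o1 (α' * σ') = 1 from
    ⟨by rw [map_mul, hfα', hfσ', mul_one], by rw [map_mul, hoα', hoσ']; decide⟩)
  rw [← hc] at Z
  rw [← hc'] at Z'
  have hc1 : c ≠ 1 := by
    rintro rfl
    rw [map_one] at Z
    obtain ⟨k, -, hk⟩ := P.symm.inN (P.symm.mem_N Z' Z) hzz hz1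
    apply P.na (g * k⁻¹)
    calc g * k⁻¹ * a * (g * k⁻¹)⁻¹ = g * k⁻¹ * (k * z * k⁻¹) * (g * k⁻¹)⁻¹ := by rw [hk]
      _ = g * z * g⁻¹ := by group
      _ = a * s := by rw [hzg]; group
  have hc1' : c' ≠ 1 := by
    rintro rfl
    rw [map_one] at Z'
    obtain ⟨k, -, hk⟩ := P.inN (P.mem_N Z Z') hzz hz1
    apply P.ns (g * k⁻¹)
    calc g * k⁻¹ * s * (g * k⁻¹)⁻¹ = g * k⁻¹ * (k * z * k⁻¹) * (g * k⁻¹)⁻¹ := by rw [hk]
      _ = g * z * g⁻¹ := by group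
      _ = a * s := by rw [hzg]; group
  -- `O(C(z)) = C_W(z)`
  obtain ⟨m, hmN, hmN', hm⟩ := P.diag Z Z' hzz hc1 hc1'
  have hmS : St N N' m⁻¹ := (St.of_mem hmN hmN').inv
  have hzW : ∀ y ∈ core (centralizer ({z} : Set G)), y ∈ core N := by
    intro y hy
    have h1 := mem_core_conj (g := m) hy
    rw [hm, ← H.Wz] at h1
    have h2 := H.st_core hmS h1.1
    have e : m⁻¹ * (m * y * m⁻¹) * m⁻¹⁻¹ = y := by group
    rwa [e] at h2
  -- `c' = a` on `N'`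
  have T := acts_of_mem P.aN
  obtain ⟨htt, ht1⟩ := mk_inv P.aN P.aa P.a1
  obtain ⟨t, ht⟩ : ∃ t, t = (QuotientGroup.mk ⟨a, P.aN⟩ : Bar N') := ⟨_, rfl⟩
  rw [← ht] at T htt ht1
  have hcc' : c' * c' = 1 := R'.conj_injective (by rw [map_mul, Z'.sq hzz, map_one])
  have hfix' : ∀ {u : G} {d : Bar N'}, Acts N' u (MulAut.conj d) → u * a₁ = a₁ * u → α' d = d := by
    intro u d D hu
    exact R'.conj_injective (by rw [← GH.L2AutPlus.conj_normal, A'.comm D hu.symm,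
      mul_inv_cancel_right])
  have hza₁ : z * a₁ = a₁ * z := by
    rw [hz, mul_assoc, ← ha₁s₁]
  have hc't : c' = t := by
    have h1 : c' * t = t * c' := R'.conj_injective (by
      rw [map_mul, map_mul]; exact Z'.comm T hza)
    refine PglType.eq_of_two R' (A'.sq ha₁a₁) hoα' (hfix' Z' hza₁) hcc' hc1' (hfix' T ha₁a.symm) htt ht1
      ⟨1, ?_⟩
    rw [pow_one, pow_two]
    calc c' * t * (c' * t) = c' * (t * c') * t := by group
      _ = (c' * c') * (t * t) := by rw [← h1]; group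
      _ = 1 := by rw [hcc', htt, one_mul]
  -- the group `A₀ = C(a) ∩ g⁻¹ W g`
  obtain ⟨D, hD⟩ : ∃ D, D = cj g⁻¹ (core N) ⊓ centralizer ({a} : Set G) := ⟨_, rfl⟩
  have hmemD : ∀ {b : G}, b ∈ D ↔ g * b * g⁻¹ ∈ core N ∧ b * a = a * b := by
    intro b
    rw [hD, mem_inf, mem_cj, mem_centralizer_singleton_iff, inv_inv]
  have hDodd : Odd (Nat.card D) := by
    have h1 : Odd (Nat.card (cj g⁻¹ (core N) : Subgroup G)) := by
      rw [← core_cj]
      exact odd_card_core _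
    exact Odd.of_dvd_nat h1 (card_dvd_of_le (hD ▸ inf_le_left))
  have hasW : a * s ∈ normalizer (core N : Set G) := by
    refine mul_mem ?_ (core_norm (le_normalizer P.sN))
    rw [P.core_eq]
    exact core_norm (le_normalizer P.aN)
  have hgz : g * z * g⁻¹ = a * s := by rw [hzg]; group
  have hzD : ∀ b ∈ D, z * b * z⁻¹ ∈ D := by
    intro b hb
    rw [hmemD] at hb ⊢
    constructor
    · have e : g * (z * b * z⁻¹) * g⁻¹ = g * z * g⁻¹ * (g * b * g⁻¹) * (g * z * g⁻¹)⁻¹ := by group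
      rw [e, hgz]
      exact (mem_normalizer_iff.mp hasW _).mp hb.1
    · have h1 : Commute z a := hza
      exact (h1.mul_left hb.2).mul_left h1.inv_left
  have hDz : ∀ b ∈ D, z * b * z⁻¹ = b → b ∈ core N := by
    intro b hb hbz
    rw [hmemD] at hb
    apply hzW
    have h1 : z * b = b * z := mul_inv_eq_iff_eq_mul.mp hbz
    have h2 : g * b * g⁻¹ ∈ core (centralizer ({a * s} : Set G)) := by
      rw [← H.Wz]
      refine ⟨hb.1, mem_centralizer_singleton_iff.mpr ?_⟩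
      rw [← hgz]
      exact conj_comm h1.symm
    have h3 := mem_core_conj (g := g⁻¹) h2
    rw [← hzg] at h3
    have e : g⁻¹ * (g * b * g⁻¹) * g⁻¹⁻¹ = b := by group
    rwa [e] at h3
  have hinv : ∀ b ∈ D, b * (z * b * z⁻¹) ∈ core N := by
    intro b hb
    obtain ⟨c₀, hc₀, d, hd, hbe, h1, h2⟩ := exists_dec hzz hDodd hb hzD
    have h3 := hDz c₀ hc₀ h1
    have e : b * (z * b * z⁻¹) = c₀ * (d * c₀ * d⁻¹) := by
      have e2 : z * b * z⁻¹ = c₀ * d⁻¹ := by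
        calc z * b * z⁻¹ = (z * c₀ * z⁻¹) * (z * d * z⁻¹) := by rw [hbe]; group
          _ = c₀ * d⁻¹ := by rw [h1, h2]
      rw [e2, hbe]
      group
    rw [e]
    refine mul_mem h3 ((mem_normalizer_iff.mp (core_norm (P.Ca d (hmemD.mp hd).2).1) c₀).mp h3)
  -- action of the elements of `D`
  have hact : ∀ b ∈ D, Acts N' b 1 ∧ ∃ d : Bar N, Acts N b (MulAut.conj d) ∧ Odd (orderOf d) ∧
      MulAut.conj c * MulAut.conj d * (MulAut.conj c)⁻¹ = (MulAut.conj d)⁻¹ := by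
    intro b hb
    have hba := (hmemD.mp hb).2
    have hbo : Odd (orderOf b) := by
      have h1 := orderOf_dvd_natCard (⟨b, hb⟩ : ↥D)
      rw [Subgroup.orderOf_mk] at h1
      exact Odd.of_dvd_nat hDodd h1
    obtain ⟨b1, b2⟩ := P.Ca b hba
    obtain ⟨β, B⟩ := exists_acts b1
    obtain ⟨β', B'⟩ := exists_acts b2
    have h1 := hinv b hb
    have h2 := (B.mul (Z.conj B)).uniq (acts_core h1)
    have h2' := (B'.mul (Z'.conj B')).uniq (acts_core (H.core_eq ▸ h1 : b * (z * b * z⁻¹) ∈ core N'))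
    have hβ' : β' = 1 := by
      rw [hc't, T.comm B' hba.symm, mul_inv_cancel_right] at h2'
      exact PglType.eq_one_of_odd_sq h2' (B'.odd hbo)
    refine ⟨hβ' ▸ B', ?_⟩
    have h3 : MulAut.conj c * β * (MulAut.conj c)⁻¹ = β⁻¹ := (inv_eq_of_mul_eq_one_right h2).symm
    have hf : R.fld β = 1 := by
      apply PglType.eq_one_of_odd_sq
      · have h4 := congrArg R.fld h3
        rw [map_mul, map_mul, map_inv, map_inv, Res.EFacts.ringAut_comm (R.fld (MulAut.conj c)),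
          mul_inv_cancel_right] at h4
        nth_rw 1 [h4]
        exact inv_mul_cancel _
      · exact Odd.of_dvd_nat (B.odd hbo) (orderOf_map_dvd _ _)
    obtain ⟨d, hd⟩ := R.mem_inn_iff.2 ⟨hf, Res.L2Fact.o1_of_odd R (B.odd hbo)⟩
    have h5 := B.odd hbo
    rw [← hd] at B h3 h5
    rw [orderOf_injective _ R.conj_injective] at h5
    exact ⟨d, B, h5, h3⟩
  -- two elements
  obtain ⟨m₁, hm₁a, hm₁⟩ := P.pglC A A' ha₁a₁ ha₁a hoα hoα'
  obtain ⟨m₂, hm₂a, hm₂⟩ := P.pglC S S' hs₁s₁ hs₁a hoσ hoσ'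
  obtain ⟨y, hy, hya, hyW⟩ := H.bada
  have key : ∀ {m u : G}, m * a = a * m → m * u * m⁻¹ = x →
      m⁻¹ * y * m⁻¹⁻¹ ∈ core (centralizer ({u} : Set G)) ∧ m⁻¹ * y * m⁻¹⁻¹ * a = a * (m⁻¹ * y * m⁻¹⁻¹) ∧
        m⁻¹ * y * m⁻¹⁻¹ ∉ core N := by
    intro m u hma hmu
    refine ⟨?_, ?_, ?_⟩
    · have h1 := mem_core_conj (g := m⁻¹) hy
      have e : m⁻¹ * x * m⁻¹⁻¹ = u := by rw [← hmu]; group
      rwa [e] at h1
    · have h1 : Commute m⁻¹ a := (show Commute m a from hma).inv_left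
      exact (h1.mul_left hya).mul_left h1.inv_left
    · intro h1
      apply hyW
      have h2 := H.st_core (St.of_mem (P.Ca m hma).1 (P.Ca m hma).2) h1
      have e : m * (m⁻¹ * y * m⁻¹⁻¹) * m⁻¹ = y := by group
      rwa [e] at h2
  obtain ⟨k1, k2, k3⟩ := key hm₁a hm₁
  obtain ⟨l1, l2, l3⟩ := key hm₂a hm₂
  obtain ⟨b₁, hb₁⟩ : ∃ b₁, b₁ = m₁⁻¹ * y * m₁⁻¹⁻¹ := ⟨_, rfl⟩
  obtain ⟨b₂, hb₂⟩ : ∃ b₂, b₂ = m₂⁻¹ * y * m₂⁻¹⁻¹ := ⟨_, rfl⟩
  rw [← hb₁] at k1 k2 k3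
  rw [← hb₂] at l1 l2 l3
  have hga₁ : g * a₁ * g⁻¹ = a := by rw [ha₁]; group
  have hgs₁ : g * s₁ * g⁻¹ = s := by rw [hs₁]; group
  have hD₁ : b₁ ∈ D := by
    rw [hmemD]
    have h1 := mem_core_conj (g := g) k1
    rw [hga₁, ← H.Wa] at h1
    exact ⟨h1.1, k2⟩
  have hD₂ : b₂ ∈ D := by
    rw [hmemD]
    have h1 := mem_core_conj (g := g) l1
    rw [hgs₁, ← H.Ws] at h1
    exact ⟨h1.1, l2⟩
  have hc₁ : b₁ * a₁ = a₁ * b₁ := mem_centralizer_singleton_iff.mp (core_le _ k1)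
  have hc₂ : b₂ * s₁ = s₁ * b₂ := mem_centralizer_singleton_iff.mp (core_le _ l1)
  obtain ⟨B₁', d₁, B₁, ho₁, hi₁⟩ := hact b₁ hD₁
  obtain ⟨B₂', d₂, B₂, ho₂, hi₂⟩ := hact b₂ hD₂
  obtain ⟨-, d₃, B₃, -, hi₃⟩ := hact (b₁ * b₂) (mul_mem hD₁ hD₂)
  have hd₁ : d₁ ≠ 1 := by
    rintro rfl
    rw [map_one] at B₁
    exact k3 (P.ker _ (acts_one_iff.mp B₁) (acts_one_iff.mp B₁'))
  have hd₂ : d₂ ≠ 1 := by
    rintro rfl
    rw [map_one] at B₂
    exact l3 (P.ker _ (acts_one_iff.mp B₂) (acts_one_iff.mp B₂'))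
  have hα₁ : α d₁ = d₁ := R.conj_injective (by
    rw [← GH.L2AutPlus.conj_normal, A.comm B₁ hc₁.symm, mul_inv_cancel_right])
  have hσ₂ : σ d₂ = d₂ := R.conj_injective (by
    rw [← GH.L2AutPlus.conj_normal, S.comm B₂ hc₂.symm, mul_inv_cancel_right])
  have h12 : d₁ * d₂ = d₂ * d₁ := by
    have h1 := B₃.uniq (B₁.mul B₂)
    rw [h1] at hi₃
    have h2 : MulAut.conj c * (MulAut.conj d₁ * MulAut.conj d₂) * (MulAut.conj c)⁻¹ =
        (MulAut.conj d₁)⁻¹ * (MulAut.conj d₂)⁻¹ := by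
      rw [← hi₁, ← hi₂]
      group
    rw [h2, ← mul_inv_rev, inv_inj] at hi₃
    exact R.conj_injective (by rw [map_mul, map_mul]; exact hi₃.symm)
  have hα₂ := cen_odd R (A.sq ha₁a₁) hoα hα₁ ho₁ hd₁ h12
  have h5 : MulAut.conj c * MulAut.conj d₂ * (MulAut.conj c)⁻¹ = MulAut.conj d₂ := by
    rw [hc, GH.L2AutPlus.conj_normal, MulAut.mul_apply, hσ₂, hα₂]
  rw [h5, ← map_inv] at hi₂
  exact hd₂ (PglType.eq_one_of_eq_inv (R.conj_injective hi₂) ho₂)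

/-- (5.3) -/
theorem ne_s (g : G) : x ≠ g * s * g⁻¹ := H.symm.ne_a g

/-- (5.4): `a` fixes exactly one conjugate of the block -/
theorem fix {g : G} (h : St N N' (g⁻¹ * a * g)) : St N N' g := by
  have e : g⁻¹ * a * g = g⁻¹ * a * g⁻¹⁻¹ := by group
  rw [e] at h
  rcases H.toPre.two' h with h1 | ⟨α, α', A, A', h1, h2⟩
  · have := h1.inv
    rwa [inv_inv] at this
  · exfalso
    obtain ⟨m, hm⟩ := H.toPre.pgl A A' (conj_sq H.aa) h1 h2
    apply H.ne_a (m * g⁻¹)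
    rw [← hm]
    group

/-- (5.4): `s` fixes exactly one conjugate of the block -/
theorem fix_s {g : G} (h : St N N' (g⁻¹ * s * g)) : St N N' g := (H.symm.fix h.symm).symm

/-- (5.4) for the subgroup `stab N N'` -/
theorem fix_stab (g : G) (h : g⁻¹ * a * g ∈ stab N N') : g ∈ stab N N' := H.fix h

end Fun

end Cfsg.Agent.UGT.FourB.Blk
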