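import Cfsg.Agent.UGT.FourB.BlkK

/-!
# Leaf (4b), section 5 (the block), (5.2)

`Pre R R' x a s`: the block `{N, N'}`, `N = L W ∋ s`, `N' = J W ∋ a`, `O(N) = O(N') = W`, `[N, N'] ≤ W`, `x` of PGL type on both.

* `Pre.two`: `z = g a g⁻¹` normalizes `N` and `N'`: `g` stabilizes `{N, N'}` or `z` is of PGL type on both.
* `Pre.swap`: `z = g a g⁻¹` does not interchange `N` and `N'`.
-/

set_option autoImplicit false

open Cfsg Subgroup
open Cfsg.Agent.SignalizersComponents Cfsg.Agent.Lib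
open Cfsg.Agent.SignalizersComponents.IntrinsicBasic
open Cfsg.Agent.Intrinsic.Basic
open Cfsg.Agent.McLLyComp.Act
open Cfsg.Agent.UGT.Iface
open Cfsg.Agent.OddHalf.D6 hiding act
open scoped commutatorElement

namespace Cfsg.Agent.UGT.FourB.Blk

variable {G : Type*} [Group G]

/-- `g` stabilizes the block `{N, N'}` -/
def St (N N' : Subgroup G) (g : G) : Prop := (cj g N = N ∧ cj g N' = N') ∨ (cj g N = N' ∧ cj g N' = N)

theorem St.mul {N N' : Subgroup G} {g h : G} (hg : St N N' g) (hh : St N N' h) : St N N' (g * h) := by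
  unfold St at *
  rw [cj_mul, cj_mul]
  rcases hh with ⟨h1, h2⟩ | ⟨h1, h2⟩ <;> rcases hg with ⟨h3, h4⟩ | ⟨h3, h4⟩
  · left; rw [h1, h2, h3, h4]; exact ⟨rfl, rfl⟩
  · right; rw [h1, h2, h3, h4]; exact ⟨rfl, rfl⟩
  · right; rw [h1, h2, h3, h4]; exact ⟨rfl, rfl⟩
  · left; rw [h1, h2, h3, h4]; exact ⟨rfl, rfl⟩

theorem St.inv {N N' : Subgroup G} {g : G} (hg : St N N' g) : St N N' g⁻¹ := by
  rcases hg with ⟨h3, h4⟩ | ⟨h3, h4⟩
  · left
    constructor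
    · nth_rw 1 [← h3]; exact cj_inv_cj g N
    · nth_rw 1 [← h4]; exact cj_inv_cj g N'
  · right
    constructor
    · rw [← h4]; exact cj_inv_cj g N'
    · rw [← h3]; exact cj_inv_cj g N

theorem St.symm {N N' : Subgroup G} {g : G} (hg : St N N' g) : St N' N g := by
  rcases hg with ⟨h3, h4⟩ | ⟨h3, h4⟩
  · exact Or.inl ⟨h4, h3⟩
  · exact Or.inr ⟨h4, h3⟩

theorem St.of_mem {N N' : Subgroup G} {g : G} (h : g ∈ normalizer (N : Set G))
    (h' : g ∈ normalizer (N' : Set G)) : St N N' g :=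
  Or.inl ⟨mem_normalizer_iff_cj.mp h, mem_normalizer_iff_cj.mp h'⟩

/-- the stabilizer of the block -/
def stab (N N' : Subgroup G) : Subgroup G where
  carrier := {g | St N N' g}
  mul_mem' := St.mul
  one_mem' := Or.inl ⟨cj_one N, cj_one N'⟩
  inv_mem' := St.inv

theorem mem_stab {N N' : Subgroup G} {g : G} : g ∈ stab N N' ↔ St N N' g := Iff.rfl

/-- the block -/
structure Pre {F F' : Type*} [Field F] [Finite F] [Field F'] [Finite F'] {N N' : Subgroup G}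
    (R : GH.L2Aut.Rep F (Bar N)) (R' : GH.L2Aut.Rep F' (Bar N')) (x a s : G) : Prop where
  xx : x * x = 1
  aa : a * a = 1
  ss : s * s = 1
  a1 : a ≠ 1
  s1 : s ≠ 1
  xa : x * a = a * x
  xs : x * s = s * x
  ac : a * s = s * a
  sN : s ∈ N
  aN : a ∈ N'
  xN : x ∈ normalizer (N : Set G)
  xN' : x ∈ normalizer (N' : Set G)
  ox : ∀ α, Acts N x α → R.o1 α = -1
  ox' : ∀ α, Acts N' x α → R'.o1 α = -1
  core_eq : core N = core N'
  comm : ∀ n ∈ N, ∀ n' ∈ N', n * n' * n⁻¹ * n'⁻¹ ∈ core N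
  ker : ∀ g, Fixes g N → Fixes g N' → g ∈ core N
  star : ∀ k, k * k = 1 → k * x = x * k → k * s = s * k → Fixes k N' → k = 1 ∨ k = s
  star' : ∀ k, k * k = 1 → k * x = x * k → k * a = a * k → Fixes k N → k = 1 ∨ k = a
  Ca : ∀ c, c * a = a * c → c ∈ normalizer (N : Set G) ∧ c ∈ normalizer (N' : Set G)
  Cs : ∀ c, c * s = s * c → c ∈ normalizer (N : Set G) ∧ c ∈ normalizer (N' : Set G)
  na : ∀ g : G, g * a * g⁻¹ ≠ a * s
  ns : ∀ g : G, g * s * g⁻¹ ≠ a * s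
  sw : ∀ g : G, g * a * g⁻¹ = s → cj g N = N' ∧ cj g N' = N

variable {F F' : Type*} [Field F] [Finite F] [Field F'] [Finite F'] {N N' : Subgroup G}
  {R : GH.L2Aut.Rep F (Bar N)} {R' : GH.L2Aut.Rep F' (Bar N')} {x a s : G}

theorem sq_pow {g : G} (h : g * g = 1) : g ^ 2 ^ 1 = 1 := by rw [pow_one, pow_two, h]

theorem conj_sq {g h : G} (hh : h * h = 1) : g * h * g⁻¹ * (g * h * g⁻¹) = 1 := by
  calc g * h * g⁻¹ * (g * h * g⁻¹) = g * (h * h) * g⁻¹ := by group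
    _ = 1 := by rw [hh]; group

theorem conj_ne {g h : G} (hh : h ≠ 1) : g * h * g⁻¹ ≠ 1 := by
  intro h1
  apply hh
  calc h = g⁻¹ * (g * h * g⁻¹) * g := by group
    _ = 1 := by rw [h1]; group

theorem conj_comm {g h k : G} (hh : h * k = k * h) :
    g * h * g⁻¹ * (g * k * g⁻¹) = g * k * g⁻¹ * (g * h * g⁻¹) := by
  calc g * h * g⁻¹ * (g * k * g⁻¹) = g * (h * k) * g⁻¹ := by group
    _ = g * (k * h) * g⁻¹ := by rw [hh]
    _ = g * k * g⁻¹ * (g * h * g⁻¹) := by group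

theorem conj_eq {A : Type*} [Group A] (u c : A) :
    MulAut.conj u * MulAut.conj c * (MulAut.conj u)⁻¹ = MulAut.conj (u * c * u⁻¹) := by
  rw [← map_inv, ← map_mul, ← map_mul]

/-- elements of the core act trivially -/
theorem acts_core {K : Subgroup G} {o : G} (ho : o ∈ core K) : Acts K o 1 := by
  have h := acts_of_mem (core_le K ho)
  rwa [(mk_eq_one_iff (core_le K ho)).mpr ho, map_one] at h

theorem ord_conj (g h : G) : orderOf (g * h * g⁻¹) = orderOf h :=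
  orderOf_injective (MulAut.conj g).toMonoidHom (MulAut.conj g).injective h

/-- `i`, `ρ (ρ i ρ⁻¹) ρ⁻¹ = i (ρ i ρ⁻¹) w`: `i` is inner -/
theorem inner_key {K : Subgroup G} {E : Type*} [Field E] [Finite E] (S : GH.L2Aut.Rep E (Bar K))
    {i ρ w : G} (hii : i * i = 1) (h : ρ * (ρ * i * ρ⁻¹) * ρ⁻¹ = i * (ρ * i * ρ⁻¹) * w)
    (hw : Odd (orderOf w)) (k1 : i ∈ normalizer (K : Set G)) (k2 : ρ ∈ normalizer (K : Set G))
    (k3 : w ∈ normalizer (K : Set G)) : ∃ c, Acts K i (MulAut.conj c) := by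
  obtain ⟨αi, Ai⟩ := exists_acts k1
  obtain ⟨αρ, Aρ⟩ := exists_acts k2
  obtain ⟨αw, Aw⟩ := exists_acts k3
  have h1 := Aρ.conj (Aρ.conj Ai)
  rw [h] at h1
  have h2 := (Ai.mul (Aρ.conj Ai)).mul Aw
  have h3 := h1.uniq h2
  have h4 := Ai.sq hii
  have h5 := Aw.odd hw
  have hf : S.fld αi = 1 := char_one S.fld Res.EFacts.ringAut_comm h4 h3 h5
  have ho : S.o1 αi = 1 := char_one S.o1 mul_comm h4 h3 h5
  obtain ⟨c, hc⟩ := S.mem_inn_iff.2 ⟨hf, ho⟩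
  exact ⟨c, hc ▸ Ai⟩

theorem core_norm {K : Subgroup G} {g : G} (h : g ∈ normalizer (K : Set G)) :
    g ∈ normalizer (core K : Set G) := normalizer_le_normalizer_core K h

namespace Pre

variable (P : Pre R R' x a s)
include P

theorem symm : Pre R' R x s a where
  xx := P.xx
  aa := P.ss
  ss := P.aa
  a1 := P.s1
  s1 := P.a1
  xa := P.xs
  xs := P.xa
  ac := P.ac.symm
  sN := P.aN
  aN := P.sN
  xN := P.xN'
  xN' := P.xN
  ox := P.ox'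
  ox' := P.ox
  core_eq := P.core_eq.symm
  comm n hn n' hn' := by
    have h1 := inv_mem (P.comm n' hn' n hn)
    rw [P.core_eq] at h1
    have e : n * n' * n⁻¹ * n'⁻¹ = (n' * n * n'⁻¹ * n⁻¹)⁻¹ := by group
    rw [e]
    exact h1
  ker g h1 h2 := P.core_eq ▸ P.ker g h2 h1
  star := P.star'
  star' := P.star
  Ca c hc := ⟨(P.Cs c hc).2, (P.Cs c hc).1⟩
  Cs c hc := ⟨(P.Ca c hc).2, (P.Ca c hc).1⟩
  na g hg := P.ns g (by rw [hg, P.ac])
  ns g hg := P.na g (by rw [hg, P.ac])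
  sw g hg := by
    have h1 : g⁻¹ * a * g⁻¹⁻¹ = s := by rw [← hg]; group
    obtain ⟨h2, h3⟩ := P.sw _ h1
    exact ⟨by rw [← h2]; exact cj_cj_inv g N, by rw [← h3]; exact cj_cj_inv g N'⟩

theorem normN' {n : G} (hn : n ∈ N) : n ∈ normalizer (N' : Set G) := by
  have key : ∀ m ∈ N, ∀ y ∈ N', m * y * m⁻¹ ∈ N' := by
    intro m hm y hy
    have h1 := P.comm m hm y hy
    rw [P.core_eq] at h1
    have e : m * y * m⁻¹ = (m * y * m⁻¹ * y⁻¹) * y := by group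
    rw [e]
    exact mul_mem (core_le _ h1) hy
  rw [mem_normalizer_iff]
  intro y
  refine ⟨key n hn y, fun h => ?_⟩
  have h1 := key n⁻¹ (inv_mem hn) _ h
  have e : n⁻¹ * (n * y * n⁻¹) * n⁻¹⁻¹ = y := by group
  rwa [e] at h1

theorem actN' {n : G} (hn : n ∈ N) : Acts N' n 1 :=
  acts_one_iff.mpr ⟨P.normN' hn, fun y hy => by
    rw [commutatorElement_def, ← P.core_eq]
    exact P.comm n hn y hy⟩

theorem actN {n : G} (hn : n ∈ N') : Acts N n 1 := P.symm.actN' hn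

theorem eq_mod {g h : G} {α : MulAut (Bar N)} {β : MulAut (Bar N')} (A : Acts N g α) (B : Acts N h α)
    (A' : Acts N' g β) (B' : Acts N' h β) : g⁻¹ * h ∈ core N := by
  apply P.ker
  · have h1 := A.inv.mul B
    rw [inv_mul_cancel] at h1
    exact acts_one_iff.mp h1
  · have h1 := A'.inv.mul B'
    rw [inv_mul_cancel] at h1
    exact acts_one_iff.mp h1

theorem mem_N {g : G} {c : Bar N} (A : Acts N g (MulAut.conj c)) (A' : Acts N' g 1) : g ∈ N := by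
  obtain ⟨⟨n, hn⟩, rfl⟩ := QuotientGroup.mk_surjective c
  have h1 := core_le N (P.eq_mod A (acts_of_mem hn) A' (P.actN' hn))
  have e : g = n * (g⁻¹ * n)⁻¹ := by group
  rw [e]
  exact mul_mem hn (inv_mem h1)

variable [Finite G]

theorem conj_mod {u v : G} (huu : u * u = 1) (hvv : v * v = 1) (hu : u ∈ normalizer (N : Set G))
    (h : u⁻¹ * v ∈ core N) : ∃ o ∈ core N, o * u * o⁻¹ = v :=
  Intrinsic.Lifting.exists_conj_eq (n := 1) (m := 1) (odd_card_core N) (sq_pow huu) (sq_pow hvv)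
    (core_norm hu) h

omit P in
theorem _root_.Cfsg.Agent.UGT.FourB.Blk.mk_inv {K : Subgroup G} {i : G} (hi : i ∈ K) (hii : i * i = 1)
    (hi1 : i ≠ 1) : (QuotientGroup.mk ⟨i, hi⟩ : Bar K) * QuotientGroup.mk ⟨i, hi⟩ = 1 ∧
      (QuotientGroup.mk ⟨i, hi⟩ : Bar K) ≠ 1 := by
  constructor
  · rw [← QuotientGroup.mk_mul]
    have : (⟨i, hi⟩ : ↥K) * ⟨i, hi⟩ = 1 := Subtype.ext hii
    rw [this, QuotientGroup.mk_one]
  · intro h
    exact hi1 (eq_one_of_mem_core_sq ((mk_eq_one_iff hi).mp h) hii)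

/-- the involutions of `N` are conjugate to `s` -/
theorem inN {i : G} (hi : i ∈ N) (hii : i * i = 1) (hi1 : i ≠ 1) : ∃ n ∈ N, n * i * n⁻¹ = s := by
  obtain ⟨h1, h2⟩ := mk_inv hi hii hi1
  obtain ⟨h3, h4⟩ := mk_inv P.sN P.ss P.s1
  obtain ⟨u, hu⟩ := R.inv_conj h1 h2 h3 h4
  obtain ⟨⟨n, hn⟩, rfl⟩ := QuotientGroup.mk_surjective u
  have h5 : (n * i * n⁻¹)⁻¹ * s ∈ core N := (mk_eq_iff (mul_mem (mul_mem hn hi) (inv_mem hn)) P.sN).mp hu
  obtain ⟨o, ho, h6⟩ := P.conj_mod (conj_sq hii) P.ss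
    (le_normalizer (mul_mem (mul_mem hn hi) (inv_mem hn))) h5
  refine ⟨o * n, mul_mem (core_le N ho) hn, ?_⟩
  rw [← h6]
  group

/-- an involution inducing non trivial inner automorphisms on both members is conjugate to `a s` -/
theorem diag {i : G} {c : Bar N} {c' : Bar N'} (A : Acts N i (MulAut.conj c))
    (A' : Acts N' i (MulAut.conj c')) (hii : i * i = 1) (hc : c ≠ 1) (hc' : c' ≠ 1) :
    ∃ g, g ∈ normalizer (N : Set G) ∧ g ∈ normalizer (N' : Set G) ∧ g * i * g⁻¹ = a * s := by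
  obtain ⟨h3, h4⟩ := mk_inv P.sN P.ss P.s1
  obtain ⟨h5, h6⟩ := mk_inv P.aN P.aa P.a1
  have hcc : c * c = 1 := R.conj_injective (by rw [map_mul, A.sq hii, map_one])
  have hcc' : c' * c' = 1 := R'.conj_injective (by rw [map_mul, A'.sq hii, map_one])
  obtain ⟨u, hu⟩ := R.inv_conj hcc hc h3 h4
  obtain ⟨u', hu'⟩ := R'.inv_conj hcc' hc' h5 h6
  obtain ⟨⟨n, hn⟩, rfl⟩ := QuotientGroup.mk_surjective u
  obtain ⟨⟨n', hn'⟩, rfl⟩ := QuotientGroup.mk_surjective u'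
  have B := ((acts_of_mem hn).mul (P.actN hn')).conj A
  have B' := ((P.actN' hn).mul (acts_of_mem hn')).conj A'
  rw [mul_one, conj_eq, hu] at B
  rw [one_mul, conj_eq, hu'] at B'
  have C := (P.actN P.aN).mul (acts_of_mem P.sN)
  have C' := (acts_of_mem P.aN).mul (P.actN' P.sN)
  rw [one_mul] at C
  rw [mul_one] at C'
  obtain ⟨o, ho, h7⟩ := P.conj_mod (conj_sq hii) (by
    calc a * s * (a * s) = a * (s * a) * s := by group
      _ = (a * a) * (s * s) := by rw [← P.ac]; group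
      _ = 1 := by rw [P.aa, P.ss, one_mul]) B.mem (P.eq_mod B C B' C')
  have ho' : o ∈ core N' := P.core_eq ▸ ho
  refine ⟨o * (n * n'), ?_, ?_, ?_⟩
  · exact mul_mem (le_normalizer (core_le N ho)) (mul_mem (le_normalizer hn) (P.actN hn').mem)
  · exact mul_mem (le_normalizer (core_le N' ho')) (mul_mem (P.actN' hn).mem (le_normalizer hn'))
  · rw [← h7]
    group

/-- an involution of PGL type on both members is conjugate to `x` -/
theorem pgl {z : G} {α : MulAut (Bar N)} {α' : MulAut (Bar N')} (A : Acts N z α) (A' : Acts N' z α')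
    (hzz : z * z = 1) (ho : R.o1 α = -1) (ho' : R'.o1 α' = -1) : ∃ g : G, g * z * g⁻¹ = x := by
  obtain ⟨ξ, X⟩ := exists_acts P.xN
  obtain ⟨ξ', X'⟩ := exists_acts P.xN'
  obtain ⟨h1, h2⟩ := PglType.pgl_of R (A.sq hzz) ho
  obtain ⟨h3, h4⟩ := PglType.pgl_of R (X.sq P.xx) (P.ox _ X)
  obtain ⟨h5, h6⟩ := PglType.pgl_of R' (A'.sq hzz) ho'
  obtain ⟨h7, h8⟩ := PglType.pgl_of R' (X'.sq P.xx) (P.ox' _ X')
  obtain ⟨u, hu⟩ := R.dtype_conj h1 h2 (A.sq hzz) h3 h4 (X.sq P.xx)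
  obtain ⟨u', hu'⟩ := R'.dtype_conj h5 h6 (A'.sq hzz) h7 h8 (X'.sq P.xx)
  obtain ⟨⟨n, hn⟩, rfl⟩ := QuotientGroup.mk_surjective u
  obtain ⟨⟨n', hn'⟩, rfl⟩ := QuotientGroup.mk_surjective u'
  have B := ((acts_of_mem hn).mul (P.actN hn')).conj A
  have B' := ((P.actN' hn).mul (acts_of_mem hn')).conj A'
  rw [mul_one, hu] at B
  rw [one_mul, hu'] at B'
  obtain ⟨o, ho, h7⟩ := P.conj_mod (conj_sq hzz) P.xx B.mem (P.eq_mod B X B' X')
  refine ⟨o * (n * n'), ?_⟩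
  rw [← h7]
  group

/-- no involution is inner on `N` and of PGL type on `N'` -/
theorem mixed {z : G} {c : Bar N} {α' : MulAut (Bar N')} (A : Acts N z (MulAut.conj c))
    (A' : Acts N' z α') (hzz : z * z = 1) (hc : c ≠ 1) (ho' : R'.o1 α' = -1) : False := by
  obtain ⟨ξ, X⟩ := exists_acts P.xN
  obtain ⟨ξ', X'⟩ := exists_acts P.xN'
  obtain ⟨h3, h4⟩ := mk_inv P.sN P.ss P.s1
  have hcc : c * c = 1 := R.conj_injective (by rw [map_mul, A.sq hzz, map_one])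
  obtain ⟨u, hu⟩ := R.inv_conj hcc hc h3 h4
  obtain ⟨h5, h6⟩ := PglType.pgl_of R' (A'.sq hzz) ho'
  obtain ⟨h7, h8⟩ := PglType.pgl_of R' (X'.sq P.xx) (P.ox' _ X')
  obtain ⟨u', hu'⟩ := R'.dtype_conj h5 h6 (A'.sq hzz) h7 h8 (X'.sq P.xx)
  obtain ⟨⟨n, hn⟩, rfl⟩ := QuotientGroup.mk_surjective u
  obtain ⟨⟨n', hn'⟩, rfl⟩ := QuotientGroup.mk_surjective u'
  have B := ((acts_of_mem hn).mul (P.actN hn')).conj A
  have B' := ((P.actN' hn).mul (acts_of_mem hn')).conj A'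
  rw [mul_one, conj_eq, hu] at B
  rw [one_mul, hu'] at B'
  obtain ⟨z₁, hz₁⟩ : ∃ z₁, z₁ = n * n' * z * (n * n')⁻¹ := ⟨_, rfl⟩
  rw [← hz₁] at B B'
  have S := acts_of_mem P.sN
  obtain ⟨σ, hσ⟩ : ∃ σ, σ = MulAut.conj (QuotientGroup.mk ⟨s, P.sN⟩ : Bar N) := ⟨_, rfl⟩
  rw [← hσ] at S B
  have S' := P.actN' P.sN
  have hz1 : z₁ * z₁ = 1 := hz₁ ▸ conj_sq hzz
  -- commutes with `x`
  have C := X.conj B
  have C' := X'.conj B'
  rw [X.comm S P.xs, mul_inv_cancel_right] at C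
  rw [mul_inv_cancel_right] at C'
  obtain ⟨o, ho, hox⟩ := Intrinsic.Lifting.exists_commute (n := 1) (odd_card_core N) (sq_pow P.xx)
    (core_norm P.xN) (P.eq_mod B C B' C')
  obtain ⟨z₂, hz₂⟩ : ∃ z₂, z₂ = z₁ * o := ⟨_, rfl⟩
  rw [← hz₂] at hox
  have B2 := B.mul (acts_core ho)
  have B2' := B'.mul (acts_core (P.core_eq ▸ ho : o ∈ core N'))
  rw [mul_one, ← hz₂] at B2 B2'
  -- commutes with `s`
  have D := S.conj B2
  have D' := S'.conj B2'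
  rw [mul_inv_cancel_right] at D
  rw [one_mul, inv_one, mul_one] at D'
  obtain ⟨W2, hW2⟩ : ∃ W2, W2 = core N ⊓ centralizer ({x} : Set G) := ⟨_, rfl⟩
  have hWo : Odd (Nat.card W2) := Odd.of_dvd_nat (odd_card_core N) (card_dvd_of_le (hW2 ▸ inf_le_left))
  have hsC : s ∈ centralizer ({x} : Set G) := mem_centralizer_singleton_iff.mpr P.xs.symm
  have hsW : s ∈ normalizer (W2 : Set G) := by
    have key : ∀ y ∈ W2, s * y * s⁻¹ ∈ W2 := by
      intro y hy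
      rw [hW2] at hy ⊢
      exact ⟨(mem_normalizer_iff.mp (core_norm (le_normalizer P.sN)) y).mp hy.1,
        (centralizer ({x} : Set G)).mul_mem ((centralizer ({x} : Set G)).mul_mem hsC hy.2)
          ((centralizer ({x} : Set G)).inv_mem hsC)⟩
    have hsi : s⁻¹ = s := inv_eq_of_mul_eq_one_left P.ss
    rw [mem_normalizer_iff]
    intro y
    refine ⟨key y, fun h => ?_⟩
    have h9 := key _ h
    have e : s * (s * y * s⁻¹) * s⁻¹ = (s * s) * y * (s * s)⁻¹ := by group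
    rwa [e, P.ss, one_mul, inv_one, mul_one] at h9
  have hz2C : z₂ ∈ centralizer ({x} : Set G) := mem_centralizer_singleton_iff.mpr hox.symm
  obtain ⟨o₂, ho₂, hos⟩ := Intrinsic.Lifting.exists_commute (n := 1) hWo (sq_pow P.ss) hsW
    (show z₂⁻¹ * (s * z₂ * s⁻¹) ∈ W2 by
      rw [hW2]
      exact ⟨P.eq_mod B2 D B2' D', (centralizer ({x} : Set G)).mul_mem
        ((centralizer ({x} : Set G)).inv_mem hz2C) ((centralizer ({x} : Set G)).mul_mem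
          ((centralizer ({x} : Set G)).mul_mem hsC hz2C) ((centralizer ({x} : Set G)).inv_mem hsC))⟩)
  rw [hW2] at ho₂
  obtain ⟨z₃, hz₃⟩ : ∃ z₃, z₃ = z₂ * o₂ := ⟨_, rfl⟩
  rw [← hz₃] at hos
  have hz3C : z₃ ∈ centralizer ({x} : Set G) := hz₃ ▸ mul_mem hz2C ho₂.2
  have B3 := B2.mul (acts_core ho₂.1)
  have B3' := B2'.mul (acts_core (P.core_eq ▸ ho₂.1 : o₂ ∈ core N'))
  rw [mul_one, ← hz₃] at B3 B3'
  -- an involution
  have hsq : z₃ * z₃ ∈ core N := by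
    have h9 := P.eq_mod Acts.one (B3.mul B3 |> fun h => (by rwa [S.sq P.ss] at h)) Acts.one
      (B3'.mul B3' |> fun h => (by rwa [X'.sq P.xx] at h))
    rwa [inv_one, one_mul] at h9
  obtain ⟨k, hk1, hk2⟩ := Intrinsic.Lifting.exists_two_part (n := 1) (odd_card_core N)
    (show z₃ ^ 2 ^ 1 ∈ core N by rw [pow_one, pow_two]; exact hsq)
  obtain ⟨z₄, hz₄⟩ : ∃ z₄, z₄ = z₃ ^ k := ⟨_, rfl⟩
  rw [← hz₄] at hk1 hk2
  rw [pow_one, pow_two] at hk1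
  have B4 := B3.mul (acts_core hk2)
  have B4' := B3'.mul (acts_core (P.core_eq ▸ hk2 : z₃⁻¹ * z₄ ∈ core N'))
  rw [mul_one, mul_inv_cancel_left] at B4 B4'
  have h4x : z₄ * x = x * z₄ := by
    have h9 : Commute z₃ x := mem_centralizer_singleton_iff.mp hz3C
    rw [hz₄]
    exact h9.pow_left k
  have h4s : z₄ * s = s * z₄ := by
    have h9 : Commute z₃ s := hos.symm
    rw [hz₄]
    exact h9.pow_left k
  have h5' : Fixes (x * z₄) N' := by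
    rw [← acts_one_iff]
    have h9 := X'.mul B4'
    rwa [X'.sq P.xx] at h9
  have K := X.mul B4
  have hoK : R.o1 (ξ * σ) = -1 := by rw [map_mul, P.ox _ X, hσ, R.o1_conj, mul_one]
  rcases P.star (x * z₄) (by
    calc x * z₄ * (x * z₄) = x * (z₄ * x) * z₄ := by group
      _ = (x * x) * (z₄ * z₄) := by rw [h4x]; group
      _ = 1 := by rw [P.xx, hk1, one_mul]) (by
    calc x * z₄ * x = x * (z₄ * x) := by group
      _ = x * (x * z₄) := by rw [h4x]) (by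
    calc x * z₄ * s = x * (z₄ * s) := by group
      _ = x * s * z₄ := by rw [h4s]; group
      _ = s * (x * z₄) := by rw [P.xs]; group) h5' with h9 | h9
  · rw [h9] at K
    rw [K.uniq Acts.one, map_one] at hoK
    exact absurd hoK (by decide)
  · rw [h9] at K
    rw [K.uniq S, hσ, R.o1_conj] at hoK
    exact absurd hoK (by decide)

omit [Finite G] in
/-- an element taking one of `a`, `s` to one of `a`, `s` stabilizes the block -/
theorem st_of {k t t' : G} (ht : t = a ∨ t = s) (ht' : t' = a ∨ t' = s) (h : k * t * k⁻¹ = t') :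
    St N N' k := by
  have key : ∀ {u : G}, k * u * k⁻¹ = u → k * u = u * k := by
    intro u hu
    nth_rw 2 [← hu]
    group
  rcases ht with rfl | rfl <;> rcases ht' with rfl | rfl
  · obtain ⟨h1, h2⟩ := P.Ca k (key h)
    exact St.of_mem h1 h2
  · obtain ⟨h1, h2⟩ := P.sw k h
    exact Or.inr ⟨h1, h2⟩
  · obtain ⟨h1, h2⟩ := P.symm.sw k h
    exact Or.inr ⟨h2, h1⟩
  · obtain ⟨h1, h2⟩ := P.Cs k (key h)
    exact St.of_mem h1 h2

theorem to_as {i : G} (hi : i ∈ N ∨ i ∈ N') (hii : i * i = 1) (hi1 : i ≠ 1) :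
    ∃ m : G, St N N' m ∧ (m * i * m⁻¹ = a ∨ m * i * m⁻¹ = s) := by
  rcases hi with h | h
  · obtain ⟨n, hn, h1⟩ := P.inN h hii hi1
    exact ⟨n, St.of_mem (le_normalizer hn) (P.normN' hn), Or.inr h1⟩
  · obtain ⟨n, hn, h1⟩ := P.symm.inN h hii hi1
    exact ⟨n, St.of_mem (P.symm.normN' hn) (le_normalizer hn), Or.inl h1⟩

/-- an involution in a member of the block and of its conjugate -/
theorem same {g i : G} (hii : i * i = 1) (hi1 : i ≠ 1) (h1 : i ∈ N ∨ i ∈ N')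
    (h2 : g⁻¹ * i * g ∈ N ∨ g⁻¹ * i * g ∈ N') : St N N' g := by
  have e1 : g⁻¹ * i * g = g⁻¹ * i * g⁻¹⁻¹ := by group
  obtain ⟨m, hm, h3⟩ := P.to_as h1 hii hi1
  obtain ⟨m₂, hm₂, h4⟩ := P.to_as h2 (by rw [e1]; exact conj_sq hii) (by rw [e1]; exact conj_ne hi1)
  have h5 : St N N' (m * g * m₂⁻¹) := P.st_of h4 h3 (by group)
  have e : g = m⁻¹ * (m * g * m₂⁻¹) * m₂ := by group
  rw [e]
  exact (hm.inv.mul h5).mul hm₂

/-- `i`, `ρ i ρ⁻¹`, ... in `C(z)`: `i` is inner on the members of the block of `z` -/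
theorem inner {g z i ρ w : G}
    (hC : ∀ c, c * z = z * c → g⁻¹ * c * g ∈ normalizer (N : Set G) ∧ g⁻¹ * c * g ∈ normalizer (N' : Set G))
    (hii : i * i = 1) (hi : i * z = z * i) (hρ : ρ * z = z * ρ)
    (h : ρ * (ρ * i * ρ⁻¹) * ρ⁻¹ = i * (ρ * i * ρ⁻¹) * w) (hw : Odd (orderOf w)) :
    (∃ c, Acts N (g⁻¹ * i * g) (MulAut.conj c)) ∧ ∃ c', Acts N' (g⁻¹ * i * g) (MulAut.conj c') := by
  have hCi : ∀ {c d : G}, c * z = z * c → d * z = z * d → c * d * z = z * (c * d) := by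
    intro c d hc hd
    rw [mul_assoc, hd, ← mul_assoc, hc, mul_assoc]
  have hCinv : ∀ {c : G}, c * z = z * c → c⁻¹ * z = z * c⁻¹ := by
    intro c hc
    exact (show Commute c z from hc).inv_left
  have hw' : w = (i * (ρ * i * ρ⁻¹))⁻¹ * (ρ * (ρ * i * ρ⁻¹) * ρ⁻¹) := by rw [h]; group
  have hj := hCi (hCi hρ hi) (hCinv hρ)
  have hwz : w * z = z * w := by
    rw [hw']
    exact hCi (hCinv (hCi hi hj)) (hCi (hCi hρ hj) (hCinv hρ))
  have e1 : g⁻¹ * ρ * g * (g⁻¹ * ρ * g * (g⁻¹ * i * g) * (g⁻¹ * ρ * g)⁻¹) * (g⁻¹ * ρ * g)⁻¹ =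
      g⁻¹ * i * g * (g⁻¹ * ρ * g * (g⁻¹ * i * g) * (g⁻¹ * ρ * g)⁻¹) * (g⁻¹ * w * g) := by
    calc g⁻¹ * ρ * g * (g⁻¹ * ρ * g * (g⁻¹ * i * g) * (g⁻¹ * ρ * g)⁻¹) * (g⁻¹ * ρ * g)⁻¹
        = g⁻¹ * (ρ * (ρ * i * ρ⁻¹) * ρ⁻¹) * g := by group
      _ = g⁻¹ * (i * (ρ * i * ρ⁻¹) * w) * g := by rw [h]
      _ = _ := by group
  have hii' : g⁻¹ * i * g * (g⁻¹ * i * g) = 1 := by
    have e2 : g⁻¹ * i * g = g⁻¹ * i * g⁻¹⁻¹ := by group
    rw [e2]
    exact conj_sq hii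
  have hwo : Odd (orderOf (g⁻¹ * w * g)) := by
    have e2 : g⁻¹ * w * g = g⁻¹ * w * g⁻¹⁻¹ := by group
    rw [e2, ord_conj]
    exact hw
  obtain ⟨a1, a2⟩ := hC i hi
  obtain ⟨b1, b2⟩ := hC ρ hρ
  obtain ⟨c1, c2⟩ := hC w hwz
  exact ⟨inner_key R hii' e1 hwo a1 b1 c1, inner_key R' hii' e1 hwo a2 b2 c2⟩

/-- `z` trivial or of field type on `N` -/
theorem caseA {g z : G} (hzz : z * z = 1)
    (hC : ∀ c, c * z = z * c → g⁻¹ * c * g ∈ normalizer (N : Set G) ∧ g⁻¹ * c * g ∈ normalizer (N' : Set G))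
    {α : MulAut (Bar N)} (A : Acts N z α) (h1 : α = 1 ∨ R.fld α ≠ 1) : St N N' g := by
  obtain ⟨e, f, r, hee, he1, hef, hrf, he, hr⟩ := a4 R (A.sq hzz) h1
  obtain ⟨i, hi, hii, hzi, hmi⟩ := A.lift_inv hzz he hee
  obtain ⟨ρ, hρ, hzρ, hmρ⟩ := A.lift hzz hr
  have hi1 : i ≠ 1 := by
    rintro rfl
    apply he1
    rw [← hmi]
    exact (mk_eq_one_iff hi).mpr (one_mem _)
  have hj : ρ * i * ρ⁻¹ ∈ N := mul_mem (mul_mem hρ hi) (inv_mem hρ)
  have hmj : (QuotientGroup.mk ⟨ρ * i * ρ⁻¹, hj⟩ : Bar N) = f := by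
    rw [← hef, ← hmi, ← hmρ]; rfl
  obtain ⟨w, hw⟩ : ∃ w, w = (i * (ρ * i * ρ⁻¹))⁻¹ * (ρ * (ρ * i * ρ⁻¹) * ρ⁻¹) := ⟨_, rfl⟩
  have hwW : w ∈ core N := by
    rw [hw, ← mk_eq_iff (mul_mem hi hj) (mul_mem (mul_mem hρ hj) (inv_mem hρ))]
    have e1 : (QuotientGroup.mk ⟨i * (ρ * i * ρ⁻¹), mul_mem hi hj⟩ : Bar N) =
        QuotientGroup.mk ⟨i, hi⟩ * QuotientGroup.mk ⟨ρ * i * ρ⁻¹, hj⟩ := rfl
    have e2 : (QuotientGroup.mk ⟨ρ * (ρ * i * ρ⁻¹) * ρ⁻¹, mul_mem (mul_mem hρ hj) (inv_mem hρ)⟩ : Bar N) =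
        QuotientGroup.mk ⟨ρ, hρ⟩ * QuotientGroup.mk ⟨ρ * i * ρ⁻¹, hj⟩ * (QuotientGroup.mk ⟨ρ, hρ⟩)⁻¹ := rfl
    rw [e1, e2, hmi, hmj, hmρ, hrf]
  obtain ⟨⟨c, B⟩, ⟨c', B'⟩⟩ := P.inner hC hii hzi.symm hzρ.symm (w := w) (by rw [hw]; group)
    (odd_of_mem_core hwW)
  by_cases hc : c = 1
  · rw [hc, map_one] at B
    exact P.same hii hi1 (Or.inl hi) (Or.inr (P.symm.mem_N B' B))
  by_cases hc' : c' = 1
  · rw [hc', map_one] at B'
    exact P.same hii hi1 (Or.inl hi) (Or.inl (P.mem_N B B'))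
  exfalso
  have e1 : g⁻¹ * i * g = g⁻¹ * i * g⁻¹⁻¹ := by group
  obtain ⟨m, -, -, h2⟩ := P.diag B B' (by rw [e1]; exact conj_sq hii) hc hc'
  obtain ⟨n, hn, h3⟩ := P.inN hi hii hi1
  apply P.ns (m * g⁻¹ * n⁻¹)
  rw [← h2, ← h3]
  group

omit P [Finite G] in
theorem _root_.Cfsg.Agent.UGT.FourB.Blk.cj_core_mem {K K' : Subgroup G} {z u : G} [Finite G]
    (h : cj z K = K') (hu : u ∈ core K) : z * u * z⁻¹ ∈ core K' := by
  rw [← h, core_cj]
  exact conj_mem_cj hu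

/-- `z` does not interchange `N` and `N'` -/
theorem swap {g : G} (h1 : cj (g * a * g⁻¹) N = N') (h2 : cj (g * a * g⁻¹) N' = N) : False := by
  obtain ⟨z, hz⟩ : ∃ z, z = g * a * g⁻¹ := ⟨_, rfl⟩
  rw [← hz] at h1 h2
  have hzz : z * z = 1 := hz ▸ conj_sq P.aa
  have hzi : z⁻¹ = z := inv_eq_of_mul_eq_one_left hzz
  have hC : ∀ c, c * z = z * c → g⁻¹ * c * g ∈ normalizer (N : Set G) ∧
      g⁻¹ * c * g ∈ normalizer (N' : Set G) := by
    intro c hc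
    apply P.Ca
    have e1 : g⁻¹ * c * g = g⁻¹ * c * g⁻¹⁻¹ := by group
    have e2 : a = g⁻¹ * z * g⁻¹⁻¹ := by rw [hz]; group
    rw [e1, e2]
    exact conj_comm hc
  obtain ⟨e, f, r, hee, he1, hef, hrf, -, -⟩ := a4 R (α := 1) (mul_one _) (Or.inl rfl)
  obtain ⟨⟨n, hn⟩, rfl⟩ := QuotientGroup.mk_surjective e
  obtain ⟨⟨m, hm⟩, rfl⟩ := QuotientGroup.mk_surjective r
  have hn' : z * n * z⁻¹ ∈ N' := h1 ▸ conj_mem_cj hn
  have hm' : z * m * z⁻¹ ∈ N' := h1 ▸ conj_mem_cj hm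
  have hp : m * n * m⁻¹ ∈ N := mul_mem (mul_mem hm hn) (inv_mem hm)
  have hnn : n * n ∈ core N := (mk_eq_one_iff (mul_mem hn hn)).mp hee
  have hn1 : n ∉ core N := fun h => he1 ((mk_eq_one_iff hn).mpr h)
  have hrel : (n * (m * n * m⁻¹))⁻¹ * (m * (m * n * m⁻¹) * m⁻¹) ∈ core N := by
    rw [← mk_eq_iff (mul_mem hn hp) (mul_mem (mul_mem hm hp) (inv_mem hm))]
    rw [← hef] at hrf
    exact hrf.symm
  obtain ⟨W, hW⟩ : ∃ W, W = core N := ⟨_, rfl⟩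
  have hWN : ∀ {u : G}, u ∈ core N → z * u * z⁻¹ ∈ core N' := fun hu => cj_core_mem h1 hu
  have hzW : z ∈ normalizer (core N : Set G) := by
    rw [mem_normalizer_iff_cj, ← core_cj, h1, ← P.core_eq]
  -- the lift of a diagonal element
  have dia : ∀ {l : G} (hl : l ∈ N) (hl' : z * l * z⁻¹ ∈ N'),
      (l * (z * l * z⁻¹))⁻¹ * (z * (l * (z * l * z⁻¹)) * z⁻¹) ∈ core N ∧
      Acts N (l * (z * l * z⁻¹)) (MulAut.conj (QuotientGroup.mk ⟨l, hl⟩)) ∧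
      Acts N' (l * (z * l * z⁻¹)) (MulAut.conj (QuotientGroup.mk ⟨z * l * z⁻¹, hl'⟩)) := by
    intro l hl hl'
    refine ⟨?_, ?_, ?_⟩
    · have h3 := P.symm.comm _ (inv_mem hl') _ (inv_mem hl)
      rw [← P.core_eq] at h3
      have e3 : z * (l * (z * l * z⁻¹)) * z⁻¹ = z * l * z⁻¹ * ((z * z) * l * (z * z)⁻¹) := by group
      rw [e3, hzz, one_mul, inv_one, mul_one]
      have e4 : (l * (z * l * z⁻¹))⁻¹ * (z * l * z⁻¹ * l) =
          (z * l * z⁻¹)⁻¹ * l⁻¹ * (z * l * z⁻¹)⁻¹⁻¹ * l⁻¹⁻¹ := by group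
      rw [e4]
      exact h3
    · have h3 := (acts_of_mem hl).mul (P.actN hl')
      rwa [mul_one] at h3
    · have h3 := (P.actN' hl).mul (acts_of_mem hl')
      rwa [one_mul] at h3
  obtain ⟨d1, d2, d3⟩ := dia hn hn'
  obtain ⟨d4, d5, d6⟩ := dia hm hm'
  -- lifts
  have hsq : n * (z * n * z⁻¹) * (n * (z * n * z⁻¹)) ∈ core N := by
    have h3 : (QuotientGroup.mk ⟨z * n * z⁻¹, hn'⟩ : Bar N') * QuotientGroup.mk ⟨z * n * z⁻¹, hn'⟩ = 1 := by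
      refine (mk_eq_one_iff (mul_mem hn' hn')).mpr ?_
      have e3 : z * n * z⁻¹ * (z * n * z⁻¹) = z * (n * n) * z⁻¹ := by group
      rw [e3]
      exact hWN hnn
    have h4 := d2.mul d2
    have h5 := d3.mul d3
    rw [← map_mul, hee, map_one] at h4
    rw [← map_mul, h3, map_one] at h5
    have h6 := P.eq_mod Acts.one h4 Acts.one h5
    rwa [inv_one, one_mul] at h6
  obtain ⟨o, ho, hii, hzi'⟩ := Intrinsic.Lifting.exists_involution (n := 1) (odd_card_core N)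
    (sq_pow hzz) hzW (core_norm d2.mem) hsq d1
  obtain ⟨o', ho', hzρ⟩ := Intrinsic.Lifting.exists_commute (n := 1) (odd_card_core N)
    (sq_pow hzz) hzW d4
  obtain ⟨i, hi⟩ : ∃ i, i = n * (z * n * z⁻¹) * o := ⟨_, rfl⟩
  obtain ⟨ρ, hρ⟩ : ∃ ρ, ρ = m * (z * m * z⁻¹) * o' := ⟨_, rfl⟩
  rw [← hi] at hii hzi'
  rw [← hρ] at hzρ
  have Ai := d2.mul (acts_core ho)
  have Ai' := d3.mul (acts_core (P.core_eq ▸ ho : o ∈ core N'))
  have Aρ := d5.mul (acts_core ho')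
  have Aρ' := d6.mul (acts_core (P.core_eq ▸ ho' : o' ∈ core N'))
  rw [mul_one, ← hi] at Ai Ai'
  rw [mul_one, ← hρ] at Aρ Aρ'
  obtain ⟨w, hw⟩ : ∃ w, w = (i * (ρ * i * ρ⁻¹))⁻¹ * (ρ * (ρ * i * ρ⁻¹) * ρ⁻¹) := ⟨_, rfl⟩
  have hwW : w ∈ core N := by
    rw [hw]
    have h3 := Ai.mul (Aρ.conj Ai)
    have h4 := Aρ.conj (Aρ.conj Ai)
    have h5 := Ai'.mul (Aρ'.conj Ai')
    have h6 := Aρ'.conj (Aρ'.conj Ai')
    rw [conj_eq, conj_eq] at h4 h6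
    rw [conj_eq, ← map_mul] at h3 h5
    refine P.eq_mod h3 ?_ h5 ?_
    · convert h4 using 2
      exact ((mk_eq_iff (mul_mem hn hp) (mul_mem (mul_mem hm hp) (inv_mem hm))).mpr hrel)
    · convert h6 using 2
      have hp' : z * m * z⁻¹ * (z * n * z⁻¹) * (z * m * z⁻¹)⁻¹ ∈ N' :=
        mul_mem (mul_mem hm' hn') (inv_mem hm')
      refine ((mk_eq_iff (mul_mem hn' hp') (mul_mem (mul_mem hm' hp') (inv_mem hm'))).mpr ?_)
      have h7 := hWN hrel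
      convert h7 using 1
      group
  have hwo := odd_of_mem_core hwW
  obtain ⟨⟨c, B⟩, ⟨c', B'⟩⟩ := P.inner hC hii hzi'.symm hzρ.symm (w := w) (by rw [hw]; group) hwo
  have e1 : ∀ k : G, g⁻¹ * k * g = g⁻¹ * k * g⁻¹⁻¹ := fun k => by group
  have hi1 : i ≠ 1 := by
    rintro rfl
    apply he1
    exact R.conj_injective ((Ai.uniq Acts.one).trans (map_one _).symm)
  have hii' : g⁻¹ * i * g * (g⁻¹ * i * g) = 1 := by rw [e1]; exact conj_sq hii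
  have hi1' : g⁻¹ * i * g ≠ 1 := by rw [e1]; exact conj_ne hi1
  -- `i` is conjugate to `a s`
  obtain ⟨v, -, -, hv⟩ := P.diag Ai Ai' hii he1 (by
    intro h3
    apply hn1
    have h4 := (mk_eq_one_iff hn').mp h3
    have h5 := cj_core_mem h2 h4
    have e5 : z * (z * n * z⁻¹) * z⁻¹ = (z * z) * n * (z * z)⁻¹ := by group
    rwa [e5, hzz, one_mul, inv_one, mul_one] at h5)
  have hc : c ≠ 1 := by
    rintro rfl
    rw [map_one] at B
    obtain ⟨k, -, hk⟩ := P.symm.inN (P.symm.mem_N B' B) hii' hi1'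
    apply P.na (v * g * k⁻¹)
    rw [← hv, ← hk]
    group
  have hc' : c' ≠ 1 := by
    rintro rfl
    rw [map_one] at B'
    obtain ⟨k, -, hk⟩ := P.inN (P.mem_N B B') hii' hi1'
    apply P.ns (v * g * k⁻¹)
    rw [← hv, ← hk]
    group
  -- the contradiction on `N'`
  obtain ⟨γ, Γ⟩ := exists_acts (hC ρ hzρ.symm).2
  have T := acts_of_mem P.aN
  obtain ⟨htt, ht1⟩ := mk_inv P.aN P.aa P.a1
  obtain ⟨t, ht⟩ : ∃ t, t = (QuotientGroup.mk ⟨a, P.aN⟩ : Bar N') := ⟨_, rfl⟩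
  rw [← ht] at T htt ht1
  have e2 : a = g⁻¹ * z * g⁻¹⁻¹ := by rw [hz]; group
  have hca : ∀ {k : G}, z * k = k * z → g⁻¹ * k * g * a = a * (g⁻¹ * k * g) := by
    intro k hk
    rw [e1 k, e2]
    exact conj_comm hk.symm
  have hcc' : c' * c' = 1 := R'.conj_injective (by rw [map_mul, B'.sq hii', map_one])
  have hct : c' * t = t * c' := R'.conj_injective (by
    rw [map_mul, map_mul]; exact B'.comm T (hca hzi'))
  have hγt : γ t = t := R'.conj_injective (by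
    rw [← GH.L2AutPlus.conj_normal, Γ.comm T (hca hzρ), mul_inv_cancel_right])
  have J' := Γ.conj B'
  rw [GH.L2AutPlus.conj_normal] at J'
  have K' := Γ.conj J'
  rw [GH.L2AutPlus.conj_normal] at K'
  have M' := (B'.mul J').mul K'
  rw [← map_mul, ← map_mul] at M'
  refine no_swap R' htt ht1 hcc' hc' hct hγt ?_
  have h3 := M'.odd (by
    obtain ⟨j, hj⟩ : ∃ j, j = ρ * (ρ * i * ρ⁻¹) * ρ⁻¹ := ⟨_, rfl⟩
    have hjj : j * j = 1 := hj ▸ conj_sq (conj_sq hii)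
    have e6 : g⁻¹ * i * g * (g⁻¹ * ρ * g * (g⁻¹ * i * g) * (g⁻¹ * ρ * g)⁻¹) *
        (g⁻¹ * ρ * g * (g⁻¹ * ρ * g * (g⁻¹ * i * g) * (g⁻¹ * ρ * g)⁻¹) * (g⁻¹ * ρ * g)⁻¹) =
        g⁻¹ * (i * (ρ * i * ρ⁻¹) * j) * g := by rw [hj]; group
    have e7 : i * (ρ * i * ρ⁻¹) * j = j * w⁻¹ * j⁻¹ := by
      have e8 : i * (ρ * i * ρ⁻¹) = j * w⁻¹ := by rw [hw, ← hj]; group
      rw [e8, inv_eq_of_mul_eq_one_left hjj]
    rw [e6, e7]
    have e9 : g⁻¹ * (j * w⁻¹ * j⁻¹) * g = g⁻¹ * j * w⁻¹ * (g⁻¹ * j)⁻¹ := by group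
    rw [e9, ord_conj, orderOf_inv]
    exact hwo)
  rwa [orderOf_injective _ R'.conj_injective] at h3

/-- (5.2), `z` normalizes `N` and `N'` -/
theorem two {g : G} (hN : g * a * g⁻¹ ∈ normalizer (N : Set G))
    (hN' : g * a * g⁻¹ ∈ normalizer (N' : Set G)) : St N N' g ∨
      ∃ α α', Acts N (g * a * g⁻¹) α ∧ Acts N' (g * a * g⁻¹) α' ∧ R.o1 α = -1 ∧ R'.o1 α' = -1 := by
  obtain ⟨z, hz⟩ : ∃ z, z = g * a * g⁻¹ := ⟨_, rfl⟩
  rw [← hz] at hN hN' ⊢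
  have hzz : z * z = 1 := hz ▸ conj_sq P.aa
  have hC : ∀ c, c * z = z * c → g⁻¹ * c * g ∈ normalizer (N : Set G) ∧
      g⁻¹ * c * g ∈ normalizer (N' : Set G) := by
    intro c hc
    apply P.Ca
    have e1 : g⁻¹ * c * g = g⁻¹ * c * g⁻¹⁻¹ := by group
    have e2 : a = g⁻¹ * z * g⁻¹⁻¹ := by rw [hz]; group
    rw [e1, e2]
    exact conj_comm hc
  obtain ⟨α, A⟩ := exists_acts hN
  obtain ⟨α', A'⟩ := exists_acts hN'
  by_cases h1 : α = 1 ∨ R.fld α ≠ 1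
  · exact Or.inl (P.caseA hzz hC A h1)
  by_cases h2 : α' = 1 ∨ R'.fld α' ≠ 1
  · exact Or.inl (P.symm.caseA hzz (fun c hc => ⟨(hC c hc).2, (hC c hc).1⟩) A' h2).symm
  right
  push Not at h1 h2
  rcases Int.units_eq_one_or (R.o1 α) with ho | ho
  · exfalso
    obtain ⟨c, hc⟩ := R.mem_inn_iff.2 ⟨h1.2, ho⟩
    have hc1 : c ≠ 1 := by
      rintro rfl
      exact h1.1 (by rw [← hc, map_one])
    rw [← hc] at A
    rcases Int.units_eq_one_or (R'.o1 α') with ho' | ho'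
    · obtain ⟨c', hc'⟩ := R'.mem_inn_iff.2 ⟨h2.2, ho'⟩
      have hc1' : c' ≠ 1 := by
        rintro rfl
        exact h2.1 (by rw [← hc', map_one])
      rw [← hc'] at A'
      obtain ⟨m, -, -, hm⟩ := P.diag A A' hzz hc1 hc1'
      apply P.na (m * g)
      rw [← hm, hz]
      group
    · exact P.mixed A A' hzz hc1 ho'
  rcases Int.units_eq_one_or (R'.o1 α') with ho' | ho'
  · exfalso
    obtain ⟨c', hc'⟩ := R'.mem_inn_iff.2 ⟨h2.2, ho'⟩
    have hc1' : c' ≠ 1 := by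
      rintro rfl
      exact h2.1 (by rw [← hc', map_one])
    rw [← hc'] at A'
    exact P.symm.mixed A' A hzz hc1' ho
  exact ⟨α, α', A, A', ho, ho'⟩

/-- (5.2) -/
theorem two' {g : G} (h : St N N' (g * a * g⁻¹)) : St N N' g ∨
      ∃ α α', Acts N (g * a * g⁻¹) α ∧ Acts N' (g * a * g⁻¹) α' ∧ R.o1 α = -1 ∧ R'.o1 α' = -1 := by
  rcases h with ⟨h1, h2⟩ | ⟨h1, h2⟩
  · exact P.two (mem_normalizer_iff_cj.mpr h1) (mem_normalizer_iff_cj.mpr h2)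
  · exact (P.swap h1 h2).elim

end Pre

end Cfsg.Agent.UGT.FourB.Blk
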