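import Cfsg.Agent.UGT.Res.TorFacts
import Cfsg.Agent.GH.L2Good

/-!
# Leaf (4b), section 5 (the block): facts on `Aut(L)`, `L ≅ PSL(2,F)`, and the relation `Acts`

* `a4`: the fixed points of `α`, `α² = 1`, `α = 1` or of field type, contain `A₄`.
* `cls`: the involutions fixed by `α` of PGL type are conjugate under fixed points.
* `cen_odd`: commuting elements of odd order, one fixed by `α` of PGL type: so is the other.
* `no_swap`: three involutions `p, γ p, γ² p` of `C(t)`, `γ t = t`, have no product of odd order.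
* `Acts N g α`: `g` normalizes `N` and induces `α` on `N / O(N)`.
-/

set_option autoImplicit false

open Cfsg Subgroup
open Cfsg.Agent.SignalizersComponents Cfsg.Agent.Lib
open Cfsg.Agent.SignalizersComponents.IntrinsicBasic
open Cfsg.Agent.Intrinsic.Basic
open Cfsg.Agent.McLLyComp.Act
open Cfsg.Agent.UGT.Iface
open Cfsg.Agent.OddHalf.D6 hiding act

namespace Cfsg.Agent.UGT.FourB.Blk

/-! ### automorphisms -/

section aut

variable {F : Type*} [Field F] [Finite F] {L : Type*} [Group L] (R : GH.L2Aut.Rep F L)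

/-- fixed points contain `A₄` -/
theorem a4 {α : MulAut L} (h : α * α = 1) (h1 : α = 1 ∨ R.fld α ≠ 1) :
    ∃ e f r : L, e * e = 1 ∧ e ≠ 1 ∧ r * e * r⁻¹ = f ∧ r * f * r⁻¹ = e * f ∧ α e = e ∧ α r = r := by
  rcases h1 with rfl | h1
  · obtain ⟨a, b, hab⟩ := R.exists_four
    obtain ⟨Φ, y, δ, -, -, -, -, -, -, h1, h2, -⟩ := R.exists_frame hab
    exact ⟨a, b, y, hab.aa, hab.a1, h1, h2, rfl, rfl⟩
  · obtain ⟨a, b, y, h2, h3, h4, h5, h6, h7⟩ := (GH.L2AutPlus.autPlus_psl R).field_four α h h1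
    exact ⟨a, b, y, h2.aa, h2.a1, h6, h7, h3, h5⟩

/-- involutions fixed by `α` of PGL type -/
theorem cls {α : MulAut L} (h : α * α = 1) (ho : R.o1 α = -1) {t u : L} (ht : α t = t)
    (htt : t * t = 1) (ht1 : t ≠ 1) (hu : α u = u) (huu : u * u = 1) (hu1 : u ≠ 1) :
    ∃ c : L, α c = c ∧ c * t * c⁻¹ = u := by
  have := R.finite
  obtain ⟨B, v, hcomm, h2, h3, h4, -, -, -⟩ := PglType.fix_data R h ho
  have htB : t ∉ B := fun hB => ht1 (h2 t hB htt)
  have huB : u ∉ B := fun hB => hu1 (h2 u hB huu)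
  have hb := h4 t u ht hu htB huB
  obtain ⟨b, hbe⟩ : ∃ b, b = t * u := ⟨_, rfl⟩
  rw [← hbe] at hb
  obtain ⟨k, hk⟩ := Res.TorFacts.odd_of_no_inv h2 hb
  obtain ⟨d, hd⟩ : ∃ d, d = b ^ (k + 1) := ⟨_, rfl⟩
  have hdd : d * d = b := by
    rw [hd, ← pow_add, show k + 1 + (k + 1) = orderOf b + 1 by omega, pow_succ, pow_orderOf_eq_one,
      one_mul]
  have hαd : α d = d := by
    rw [hd, map_pow, hbe, map_mul, ht, hu]
  have hdB : d ∈ B := hd ▸ pow_mem hb _
  have htd : t * d * t⁻¹ = d⁻¹ := by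
    rcases h3 t ht with h5 | ⟨-, h5⟩
    · exact absurd h5 htB
    · exact h5 d hdB
  have hti : t⁻¹ = t := inv_eq_of_mul_eq_one_left htt
  refine ⟨d⁻¹, by rw [map_inv, hαd], ?_⟩
  calc d⁻¹ * t * d⁻¹⁻¹ = (t * d * t⁻¹) * t * d := by rw [htd, inv_inv]
    _ = t * (d * d) := by group
    _ = (t * t) * u := by rw [hdd, hbe]; group
    _ = u := by rw [htt, one_mul]

/-- commuting elements of odd order -/
theorem cen_odd {α : MulAut L} (h : α * α = 1) (ho : R.o1 α = -1) {b c : L} (hb : α b = b)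
    (hbo : Odd (orderOf b)) (hb1 : b ≠ 1) (hbc : b * c = c * b) : α c = c := by
  have h1 : b * b ≠ 1 := fun h2 => hb1 (PglType.eq_one_of_odd_sq h2 hbo)
  have h2 := Res.PGLFacts.comm_pgl R (PglType.pgl_of R h ho).1 (R.conj_mem_PGL c) h1 hb (by
    rw [MulAut.conj_apply, ← hbc, mul_inv_cancel_right])
  exact R.conj_injective (GH.L2Aut.Rep.conj_comm_iff.mp h2.symm)

include R in
/-- no three involutions -/
theorem no_swap {t p : L} {γ : MulAut L} (htt : t * t = 1) (ht1 : t ≠ 1) (hpp : p * p = 1)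
    (hp1 : p ≠ 1) (hpt : p * t = t * p) (hγ : γ t = t) (ho : Odd (orderOf (p * γ p * γ (γ p)))) :
    False := by
  have hφ1 : MulAut.conj t ≠ 1 := fun h => ht1 (R.conj_injective (by rw [h, map_one]))
  have hφφ : MulAut.conj t * MulAut.conj t = 1 := by rw [← map_mul, htt, map_one]
  obtain ⟨B, v, -, -, h3, h4, h5, -⟩ := R.cent_data (R.conj_mem_PGL t) hφ1 hφφ
  have hfix : ∀ y : L, y * t = t * y → MulAut.conj t y = y := by
    intro y hy
    rw [MulAut.conj_apply, ← hy, mul_inv_cancel_right]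
  have hγc : ∀ y : L, y * t = t * y → γ y * t = t * γ y := by
    intro y hy
    have := congrArg γ hy
    rwa [map_mul, map_mul, hγ] at this
  have hB : ∀ y : L, y ∈ B → y * y = 1 → y ≠ 1 → y = t := by
    intro y hy hyy hy1
    rcases h3 y hy hyy with h6 | h6
    · exact absurd h6 hy1
    · exact R.conj_injective h6
  have hq1 := hγc p hpt
  have hq2 := hγc _ hq1
  by_cases hpB : p ∈ B
  · have h6 := hB p hpB hpp hp1
    rw [h6, hγ, hγ, htt, one_mul] at ho
    exact ht1 (PglType.eq_one_of_odd_sq htt ho)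
  have hnB : ∀ y : L, y * t = t * y → y * y = 1 → y ≠ 1 → y ∉ B → γ y ∉ B := by
    intro y hy hyy hy1 hyB h6
    have h7 := hB _ h6 (by rw [← map_mul, hyy, map_one]) (fun h8 => hy1 (γ.injective (by
      rw [h8, map_one])))
    have h8 : y = t := γ.injective (by rw [h7, hγ])
    have h9 : γ y = y := by rw [h7, h8]
    rw [h9] at h6
    exact hyB h6
  have h1B := hnB p hpt hpp hp1 hpB
  have hp1' : γ p ≠ 1 := fun h8 => hp1 (γ.injective (by rw [h8, map_one]))
  have h2B := hnB _ hq1 (by rw [← map_mul, hpp, map_one]) hp1' h1B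
  have h6 := h5 p (γ p) (hfix p hpt) (hfix _ hq1) hpB h1B
  obtain ⟨q, hq⟩ : ∃ q, q = p * γ p * γ (γ p) := ⟨_, rfl⟩
  have hqB : q ∉ B := by
    intro h7
    apply h2B
    have h8 : γ (γ p) = (p * γ p)⁻¹ * q := by rw [hq]; group
    rw [h8]
    exact mul_mem (inv_mem h6) h7
  have hqt : MulAut.conj t q = q := by
    rw [hq, map_mul, map_mul, hfix p hpt, hfix _ hq1, hfix _ hq2]
  rw [← hq] at ho
  rcases h4 q hqt with h7 | ⟨h7, -⟩
  · exact hqB h7
  · apply hqB
    rw [PglType.eq_one_of_odd_sq h7 ho]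
    exact one_mem _

end aut

/-- characters vanish on `i`, `ρ j ρ⁻¹ = i j w`, `w` of odd order -/
theorem char_one {H A : Type*} [Group H] [Group A] (ψ : H →* A) (hA : ∀ a b : A, a * b = b * a)
    {i j ρ w : H} (hi : i * i = 1) (h : ρ * j * ρ⁻¹ = i * j * w) (hw : Odd (orderOf w)) : ψ i = 1 := by
  have h1 : ψ j = ψ i * ψ j * ψ w := by
    have h2 := congrArg ψ h
    rw [map_mul, map_mul, map_mul, map_mul, map_inv] at h2
    calc ψ j = ψ ρ * ψ j * (ψ ρ)⁻¹ := by rw [hA (ψ ρ), mul_inv_cancel_right]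
      _ = ψ i * ψ j * ψ w := h2
  have h2 : ψ i = (ψ w)⁻¹ := by
    rw [eq_inv_iff_mul_eq_one]
    have h3 : ψ i * ψ w * ψ j = ψ j := by
      calc ψ i * ψ w * ψ j = ψ i * (ψ w * ψ j) := mul_assoc _ _ _
        _ = ψ i * (ψ j * ψ w) := by rw [hA (ψ w)]
        _ = ψ i * ψ j * ψ w := (mul_assoc _ _ _).symm
        _ = ψ j := h1.symm
    exact mul_eq_right.mp h3
  apply PglType.eq_one_of_odd_sq
  · rw [← map_mul, hi, map_one]
  · rw [h2, orderOf_inv]
    exact Odd.of_dvd_nat hw (orderOf_map_dvd ψ w)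

/-! ### `Acts` -/

variable {G : Type*} [Group G]

/-- `g` normalizes `N` and induces `α` on `N / O(N)` -/
def Acts (N : Subgroup G) (g : G) (α : MulAut (Bar N)) : Prop :=
  ∃ h : g ∈ normalizer (N : Set G), act N ⟨g, h⟩ = α

variable {N : Subgroup G} {g h : G} {α β : MulAut (Bar N)}

theorem Acts.mem (A : Acts N g α) : g ∈ normalizer (N : Set G) := A.1

theorem exists_acts (hg : g ∈ normalizer (N : Set G)) : ∃ α, Acts N g α := ⟨_, hg, rfl⟩

theorem Acts.uniq (A : Acts N g α) (B : Acts N g β) : α = β := by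
  obtain ⟨_, rfl⟩ := A
  obtain ⟨_, rfl⟩ := B
  rfl

theorem Acts.mul (A : Acts N g α) (B : Acts N h β) : Acts N (g * h) (α * β) := by
  obtain ⟨hg, rfl⟩ := A
  obtain ⟨hh, rfl⟩ := B
  exact ⟨mul_mem hg hh, act_mul hg hh⟩

theorem Acts.inv (A : Acts N g α) : Acts N g⁻¹ α⁻¹ := by
  obtain ⟨hg, rfl⟩ := A
  exact ⟨inv_mem hg, act_inv hg⟩

theorem Acts.one : Acts N 1 1 := ⟨one_mem _, map_one (act N)⟩

theorem Acts.conj (A : Acts N g α) (B : Acts N h β) : Acts N (g * h * g⁻¹) (α * β * α⁻¹) :=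
  (A.mul B).mul A.inv

theorem Acts.pow (A : Acts N g α) (n : ℕ) : Acts N (g ^ n) (α ^ n) := by
  induction n with
  | zero => rw [pow_zero, pow_zero]; exact Acts.one
  | succ n ih => rw [pow_succ, pow_succ]; exact ih.mul A

theorem acts_of_mem (hg : g ∈ N) :
    Acts N g (MulAut.conj (QuotientGroup.mk ⟨g, hg⟩ : Bar N)) :=
  ⟨le_normalizer hg, act_of_mem hg⟩

theorem acts_one_iff : Acts N g 1 ↔ Fixes g N := by
  constructor
  · rintro ⟨hg, h1⟩
    exact (act_eq_one_iff hg).mp h1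
  · intro h1
    exact ⟨h1.1, (act_eq_one_iff h1.1).mpr h1⟩

theorem Acts.sq (A : Acts N g α) (hg : g * g = 1) : α * α = 1 := by
  have h1 := A.mul A
  rw [hg] at h1
  exact h1.uniq Acts.one

theorem Acts.comm (A : Acts N g α) (B : Acts N h β) (hc : g * h = h * g) : α * β = β * α := by
  have h1 := A.mul B
  rw [hc] at h1
  exact h1.uniq (B.mul A)

theorem Acts.odd (A : Acts N g α) (hg : Odd (orderOf g)) : Odd (orderOf α) := by
  refine Odd.of_dvd_nat hg (orderOf_dvd_of_pow_eq_one ?_)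
  have h1 := A.pow (orderOf g)
  rw [pow_orderOf_eq_one] at h1
  exact h1.uniq Acts.one

/-- fixed points -/
theorem Acts.apply (A : Acts N g α) {n : G} (hn : n ∈ N) :
    α (QuotientGroup.mk ⟨n, hn⟩) = QuotientGroup.mk ⟨g * n * g⁻¹, conj_mem A.1 hn⟩ := by
  obtain ⟨hg, rfl⟩ := A
  exact act_mk hg hn

theorem odd_of_mem_core [Finite G] {K : Subgroup G} (h : g ∈ core K) : Odd (orderOf g) := by
  have h1 := orderOf_dvd_natCard (⟨g, h⟩ : ↥(core K))
  rw [Subgroup.orderOf_mk] at h1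
  exact Odd.of_dvd_nat (odd_card_core K) h1

/-- an automorphism fixing `k` lifts to an element commuting with the involution `z` -/
theorem Acts.lift [Finite G] (A : Acts N g α) (hg : g * g = 1) {k : Bar N} (hk : α k = k) :
    ∃ (n : G) (hn : n ∈ N), g * n = n * g ∧ (QuotientGroup.mk ⟨n, hn⟩ : Bar N) = k := by
  obtain ⟨⟨c, hc⟩, rfl⟩ := QuotientGroup.mk_surjective k
  rw [A.apply hc] at hk
  have h1 := (mk_eq_iff hc (conj_mem A.1 hc)).mp hk.symm
  obtain ⟨o, ho, hco⟩ := Intrinsic.Lifting.exists_commute (n := 1) (odd_card_core N)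
    (by rw [pow_one, pow_two]; exact hg) (normalizer_le_normalizer_core N A.1) h1
  have hoL := core_le N ho
  refine ⟨c * o, mul_mem hc hoL, hco, ?_⟩
  rw [mk_eq_iff (mul_mem hc hoL) hc]
  have : (c * o)⁻¹ * c = o⁻¹ := by group
  rw [this]
  exact inv_mem ho

/-- the same for an involution `k` -/
theorem Acts.lift_inv [Finite G] (A : Acts N g α) (hg : g * g = 1) {k : Bar N} (hk : α k = k)
    (hkk : k * k = 1) : ∃ (n : G) (hn : n ∈ N), n * n = 1 ∧ g * n = n * g ∧
      (QuotientGroup.mk ⟨n, hn⟩ : Bar N) = k := by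
  obtain ⟨⟨c, hc⟩, rfl⟩ := QuotientGroup.mk_surjective k
  rw [A.apply hc] at hk
  have h1 := (mk_eq_iff hc (conj_mem A.1 hc)).mp hk.symm
  obtain ⟨o, ho, hoo, hco⟩ := Intrinsic.Lifting.exists_involution (n := 1) (odd_card_core N)
    (by rw [pow_one, pow_two]; exact hg) (normalizer_le_normalizer_core N A.1)
    (le_normalizer_core N hc) ((mk_eq_one_iff (mul_mem hc hc)).mp hkk) h1
  have hoL := core_le N ho
  refine ⟨c * o, mul_mem hc hoL, hoo, hco, ?_⟩
  rw [mk_eq_iff (mul_mem hc hoL) hc]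
  have : (c * o)⁻¹ * c = o⁻¹ := by group
  rw [this]
  exact inv_mem ho

end Cfsg.Agent.UGT.FourB.Blk
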