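import Cfsg.Agent.UGT.FourB.Half
import Cfsg.Agent.UGT.FourA.Basic
import Cfsg.Agent.Intrinsic.Lifting

/-!
# Leaf (L0), `L × J`, `T ∈ Syl₂(G)`: fusion of `a` and `s` in `M = N(L) = N(J)`

`[L, J] = 1`, `x` of PGL type on both, `s ∈ L`, `a ∈ J`, `C(a), C(s) ≤ M`, `C(LJ)` odd. `delta`: `a^G ∩ M ⊆ J`;
`sigma`: `s^G ∩ M ⊆ L` (`b ∈ a^G ∩ M` of field type on `L`: `C_L(b) ≥ D₈` with commutator `s*`; `b = a^h`, `C_T(b)^{1/h} ≤ T` puts
`s*^{1/h}` in `T' ≤ LJ`, so in `L`: `(s*, b) ~ (s, a)`).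
-/

set_option autoImplicit false

open Subgroup
open Cfsg.Agent.UGT.ThE.Base (K_conj K_le_M L_le_M L_conj comm_of_mem)
open Cfsg.Agent.UGT.FourA.Basic (cj_mul cj_comm cj_sq cj_ne cj_eq_of_comm comm_of_cj_eq comm_cj_iff)

namespace Cfsg.Agent.UGT.FourB

variable {G : Type*} [Group G]

/-- `L × J` in `M = N(L) = N(J)` -/
structure Block (X L J T : Subgroup G) (x a s : G) : Prop where
  XN : X.Normal
  xX : x ∉ X
  aX : a ∈ X
  sX : s ∈ X
  hL : Half L x s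
  hJ : Half J x a
  LJ : ∀ l ∈ L, ∀ j ∈ J, l * j = j * l
  NN : normalizer (L : Set G) = normalizer (J : Set G)
  Ca : ∀ c, c * a = a * c → c ∈ normalizer (L : Set G)
  Cs : ∀ c, c * s = s * c → c ∈ normalizer (L : Set G)
  starL : ∀ k ∈ centralizer (L : Set G), k * a = a * k → k * x = x * k → k * k = 1 → k = 1 ∨ k = a
  starJ : ∀ k ∈ centralizer (J : Set G), k * s = s * k → k * x = x * k → k * k = 1 → k = 1 ∨ k = s
  odd : ∀ k ∈ centralizer (L : Set G), k ∈ centralizer (J : Set G) → k * k = 1 → k = 1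
  T2 : IsPGroup 2 T
  Tmax : ∀ U : Subgroup G, IsPGroup 2 U → T ≤ U → U ≤ T
  Ta : ∀ t ∈ T, t * a = a * t
  Ts : ∀ t ∈ T, t * s = s * t
  nas : ∀ g : G, g * a * g⁻¹ ≠ s
  naz : ∀ g : G, g * a * g⁻¹ ≠ a * s
  nsz : ∀ g : G, g * s * g⁻¹ ≠ a * s

namespace Block

variable {X L J T : Subgroup G} {x a s : G} (H : Block X L J T x a s)
include H

theorem as_comm : a * s = s * a := (H.LJ s H.hL.sL a H.hJ.sL).symm

theorem symm : Block X J L T x s a where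
  XN := H.XN
  xX := H.xX
  aX := H.sX
  sX := H.aX
  hL := H.hJ
  hJ := H.hL
  LJ := fun j hj l hl => (H.LJ l hl j hj).symm
  NN := H.NN.symm
  Ca := fun c hc => H.NN ▸ H.Cs c hc
  Cs := fun c hc => H.NN ▸ H.Ca c hc
  starL := H.starJ
  starJ := H.starL
  odd := fun k h1 h2 => H.odd k h2 h1
  T2 := H.T2
  Tmax := H.Tmax
  Ta := H.Ts
  Ts := H.Ta
  nas := fun g hg => H.nas g⁻¹ (by rw [← hg]; group)
  naz := fun g hg => H.nsz g (by rw [hg, H.as_comm])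
  nsz := fun g hg => H.naz g (by rw [hg, H.as_comm])

theorem JC {j : G} (hj : j ∈ J) : j ∈ centralizer (L : Set G) :=
  mem_centralizer_iff.mpr fun l hl => H.LJ l hl j hj

theorem LC {l : G} (hl : l ∈ L) : l ∈ centralizer (J : Set G) :=
  mem_centralizer_iff.mpr fun j hj => (H.LJ l hl j hj).symm

theorem disj {w : G} (h1 : w ∈ L) (h2 : w ∈ J) : w = 1 := H.hL.cen w h1 (H.JC h2)

theorem JM {j : G} (hj : j ∈ J) : j ∈ normalizer (L : Set G) := K_le_M (H.JC hj)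

theorem LMJ {l : G} (hl : l ∈ L) : l ∈ normalizer (J : Set G) := K_le_M (H.LC hl)

theorem xs_ne : s ≠ 1 := H.hL.s1

/-- `[t, u] ∈ LJ` for `t, u ∈ T` -/
theorem commT [Finite G] {t u : G} (ht : t ∈ T) (hu : u ∈ T) :
    ∃ l ∈ L, ∃ j ∈ J, t * u * t⁻¹ * u⁻¹ = l * j := by
  have htL := H.Ca t (H.Ta t ht)
  have huL := H.Ca u (H.Ta u hu)
  have htJ : t ∈ normalizer (J : Set G) := H.NN ▸ htL
  have huJ : u ∈ normalizer (J : Set G) := H.NN ▸ huL
  obtain ⟨l, hl, hlc⟩ := H.hL.out t htL u huL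
  obtain ⟨j, hj, hjc⟩ := H.hJ.out t htJ u huJ
  obtain ⟨w, hw⟩ : ∃ w, w = t * u * t⁻¹ * u⁻¹ := ⟨_, rfl⟩
  rw [← hw] at hlc hjc ⊢
  have hwT : w ∈ T := hw ▸ T.mul_mem (T.mul_mem (T.mul_mem ht hu) (T.inv_mem ht)) (T.inv_mem hu)
  -- `e = w l j ∈ C(LJ)`
  obtain ⟨e, he⟩ : ∃ e, e = w * l * j := ⟨_, rfl⟩
  have heL : e ∈ centralizer (L : Set G) := he ▸ mul_mem hlc (H.JC hj)
  have heJ : e ∈ centralizer (J : Set G) := by
    rw [he, mul_assoc, H.LJ l hl j hj, ← mul_assoc]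
    exact mul_mem hjc (H.LC hl)
  have hw2 : w = e * (l * j)⁻¹ := by rw [he]; group
  have hec : Commute e (l * j)⁻¹ := by
    apply Commute.inv_right
    exact (show Commute e l from (comm_of_mem hl heL).symm).mul_right (comm_of_mem hj heJ).symm
  -- `e` is a 2-element
  obtain ⟨n, hn⟩ := H.T2 ⟨w, hwT⟩
  have hn' : w ^ 2 ^ n = 1 := congrArg Subtype.val hn
  have h1 : e ^ 2 ^ n = (l * j) ^ 2 ^ n := by
    have h2 : (e * (l * j)⁻¹) ^ 2 ^ n = e ^ 2 ^ n * ((l * j)⁻¹) ^ 2 ^ n := hec.mul_pow _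
    rw [← hw2, hn', inv_pow] at h2
    exact (mul_inv_eq_one.mp h2.symm)
  have hlj : Commute l j := H.LJ l hl j hj
  have h2 : e ^ 2 ^ n = 1 := by
    have h3 : l ^ 2 ^ n ∈ centralizer (L : Set G) := by
      have h4 : l ^ 2 ^ n = e ^ 2 ^ n * (j ^ 2 ^ n)⁻¹ := by
        rw [h1, hlj.mul_pow]; group
      rw [h4]
      exact mul_mem (pow_mem heL _) (inv_mem (H.JC (J.pow_mem hj _)))
    have h5 := H.hL.cen _ (L.pow_mem hl _) h3
    have h6 : j ^ 2 ^ n ∈ centralizer (J : Set G) := by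
      have h4 : j ^ 2 ^ n = e ^ 2 ^ n := by rw [h1, hlj.mul_pow, h5, one_mul]
      rw [h4]
      exact pow_mem heJ _
    rw [h1, hlj.mul_pow, h5, H.hJ.cen _ (J.pow_mem hj _) h6, one_mul]
  have h3 : ∀ m : ℕ, ∀ f : G, f ∈ centralizer (L : Set G) → f ∈ centralizer (J : Set G) →
      f ^ 2 ^ m = 1 → f = 1 := by
    intro m
    induction m with
    | zero => intro f _ _ hf; rwa [pow_zero, pow_one] at hf
    | succ m ih =>
      intro f hfL hfJ hf
      apply ih f hfL hfJ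
      apply H.odd _ (pow_mem hfL _) (pow_mem hfJ _)
      rw [← pow_add, ← two_mul, ← pow_succ']
      exact hf
  refine ⟨l⁻¹, inv_mem hl, j⁻¹, inv_mem hj, ?_⟩
  have h4 := h3 n e heL heJ h2
  rw [hw2, h4, one_mul, hlj.eq]
  group

/-- the elements of odd order of `C(LJ)` -/
theorem odd_order [Finite G] {e : G} (hL : e ∈ centralizer (L : Set G))
    (hJ : e ∈ centralizer (J : Set G)) : Odd (orderOf e) := by
  rw [← Nat.not_even_iff_odd]
  intro h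
  obtain ⟨k, hk⟩ := h
  have h1 := orderOf_pos e
  have h2 : e ^ k = 1 := by
    apply H.odd _ (pow_mem hL _) (pow_mem hJ _)
    rw [← pow_add, ← hk, pow_orderOf_eq_one]
  have h3 := Nat.le_of_dvd (by omega) (orderOf_dvd_of_pow_eq_one h2)
  omega

/-- an involution `lj` -/
theorem inv_lj {l j : G} (hl : l ∈ L) (hj : j ∈ J) (h : l * j * (l * j) = 1) :
    l * l = 1 ∧ j * j = 1 := by
  have hlj := H.LJ l hl j hj
  have h1 : (l * l) * (j * j) = 1 := by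
    calc (l * l) * (j * j) = l * (l * j) * j := by group
      _ = l * (j * l) * j := by rw [hlj]
      _ = l * j * (l * j) := by group
      _ = 1 := h
  have h2 : l * l = 1 := by
    apply H.disj (mul_mem hl hl)
    rw [mul_eq_one_iff_eq_inv.mp h1]
    exact inv_mem (mul_mem hj hj)
  refine ⟨h2, ?_⟩
  rwa [h2, one_mul] at h1

/-- product of an involution of `L` and an involution of `J` -/
theorem conj_z {i j : G} (hi : i ∈ L) (hii : i * i = 1) (hi1 : i ≠ 1) (hj : j ∈ J) (hjj : j * j = 1)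
    (hj1 : j ≠ 1) : ∃ g : G, g * (i * j) * g⁻¹ = a * s := by
  obtain ⟨l, hl, h1⟩ := H.hL.inv i hi hii hi1
  obtain ⟨k, hk, h2⟩ := H.hJ.inv j hj hjj hj1
  refine ⟨l * k, ?_⟩
  have h3 : k * i * k⁻¹ = i := cj_eq_of_comm (H.LJ i hi k hk).symm
  have h4 : l * a * l⁻¹ = a := cj_eq_of_comm (H.LJ l hl a H.hJ.sL)
  calc l * k * (i * j) * (l * k)⁻¹ = l * (k * i * k⁻¹) * l⁻¹ * (l * (k * j * k⁻¹) * l⁻¹) := by group
    _ = s * a := by rw [h3, h2, h1, h4]
    _ = a * s := H.as_comm.symm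

/-- `C_T(b)` for `b ∈ a^G`, a 2-generator 2-subgroup of `C(b)` -/
theorem derived [Finite G] {h p r : G} (hp : p * (h * a * h⁻¹) = h * a * h⁻¹ * p)
    (hr : r * (h * a * h⁻¹) = h * a * h⁻¹ * r) (h2 : IsPGroup 2 (closure {p, r})) :
    ∃ g : G, g * (h * a * h⁻¹) * g⁻¹ = a ∧
      ∃ l ∈ L, ∃ j ∈ J, g * (p * r * p⁻¹ * r⁻¹) * g⁻¹ = l * j := by
  have hF : Fact (Nat.Prime 2) := ⟨Nat.prime_two⟩
  obtain ⟨D, hD⟩ : ∃ D, D = (closure {p, r}).map (MulAut.conj h⁻¹).toMonoidHom := ⟨_, rfl⟩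
  have hDC : D ≤ centralizer ({a} : Set G) := by
    rw [hD, map_le_iff_le_comap, closure_le]
    rintro y (rfl | rfl)
    · change h⁻¹ * y * (h⁻¹)⁻¹ ∈ centralizer ({a} : Set G)
      rw [mem_centralizer_singleton_iff, inv_inv]
      exact comm_cj_iff.mp hp
    · change h⁻¹ * y * (h⁻¹)⁻¹ ∈ centralizer ({a} : Set G)
      rw [mem_centralizer_singleton_iff, inv_inv]
      exact comm_cj_iff.mp hr
  have hD2 : IsPGroup 2 D := hD ▸ h2.map _
  have hTC : T ≤ centralizer ({a} : Set G) := fun t ht =>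
    mem_centralizer_singleton_iff.mpr (H.Ta t ht)
  -- Sylow in `C(a)`
  obtain ⟨P, hP⟩ := (H.T2.comap_of_injective (centralizer ({a} : Set G)).subtype
    (centralizer ({a} : Set G)).subtype_injective).exists_le_sylow
  obtain ⟨Q, hQ⟩ := (hD2.comap_of_injective (centralizer ({a} : Set G)).subtype
    (centralizer ({a} : Set G)).subtype_injective).exists_le_sylow
  obtain ⟨c, hc⟩ := MulAction.exists_smul_eq (centralizer ({a} : Set G)) Q P
  have hPT : ∀ y ∈ (P : Subgroup _), ((y : centralizer ({a} : Set G)) : G) ∈ T := by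
    intro y hy
    have h3 := H.Tmax ((P : Subgroup _).map (centralizer ({a} : Set G)).subtype) (P.2.map _)
      (fun t ht => ⟨⟨t, hTC ht⟩, hP ht, rfl⟩)
    exact h3 ⟨y, hy, rfl⟩
  have hDT : ∀ y ∈ D, (c : G) * y * (c : G)⁻¹ ∈ T := by
    intro y hy
    have h3 : (⟨y, hDC hy⟩ : centralizer ({a} : Set G)) ∈ (Q : Subgroup _) := hQ hy
    have h4 : c * ⟨y, hDC hy⟩ * c⁻¹ ∈ (P : Subgroup _) := by
      rw [← hc]
      exact ⟨_, h3, rfl⟩
    exact hPT _ h4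
  have hmem : ∀ y ∈ closure {p, r}, (c : G) * h⁻¹ * y * ((c : G) * h⁻¹)⁻¹ ∈ T := by
    intro y hy
    have h3 : h⁻¹ * y * (h⁻¹)⁻¹ ∈ D := by
      rw [hD]
      exact ⟨y, hy, rfl⟩
    have h4 := hDT _ h3
    have e : (c : G) * h⁻¹ * y * ((c : G) * h⁻¹)⁻¹ = c * (h⁻¹ * y * (h⁻¹)⁻¹) * (c : G)⁻¹ := by group
    rw [e]
    exact h4
  refine ⟨c * h⁻¹, ?_, ?_⟩
  · have h3 : (c : G) * a = a * c := mem_centralizer_singleton_iff.mp c.2
    calc (c : G) * h⁻¹ * (h * a * h⁻¹) * ((c : G) * h⁻¹)⁻¹ = c * a * (c : G)⁻¹ := by group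
      _ = a := by rw [h3]; group
  · obtain ⟨l, hl, j, hj, h5⟩ := H.commT (hmem p (subset_closure (by simp)))
      (hmem r (subset_closure (by simp)))
    refine ⟨l, hl, j, hj, ?_⟩
    rw [← h5]
    group

/-- `b ∈ a^G` of field type on `L` -/
theorem fld_L [Finite G] {h p r : G} (hpL : p ∈ L) (hrL : r ∈ L)
    (hp : p * (h * a * h⁻¹) = h * a * h⁻¹ * p) (hr : r * (h * a * h⁻¹) = h * a * h⁻¹ * r)
    (h2 : IsPGroup 2 (closure {p, r})) (hw : p * r * p⁻¹ * r⁻¹ * (p * r * p⁻¹ * r⁻¹) = 1)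
    (hw1 : p * r * p⁻¹ * r⁻¹ ≠ 1) : h * a * h⁻¹ ∈ J := by
  obtain ⟨g, hg, l, hl, j, hj, h3⟩ := H.derived hp hr h2
  obtain ⟨b, hb⟩ : ∃ b, b = h * a * h⁻¹ := ⟨_, rfl⟩
  obtain ⟨w, hwd⟩ : ∃ w, w = p * r * p⁻¹ * r⁻¹ := ⟨_, rfl⟩
  rw [← hb] at hg ⊢
  rw [← hwd] at hw hw1 h3
  have hwL : w ∈ L := hwd ▸ mul_mem (mul_mem (mul_mem hpL hrL) (inv_mem hpL)) (inv_mem hrL)
  have h4 : l * j * (l * j) = 1 := by rw [← h3]; exact cj_sq hw
  obtain ⟨hll, hjj⟩ := H.inv_lj hl hj h4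
  obtain ⟨l₂, hl₂, h5⟩ := H.hL.inv w hwL hw hw1
  -- `s` is conjugate to `lj`
  have h6 : (g * l₂⁻¹) * s * (g * l₂⁻¹)⁻¹ = l * j := by
    rw [← h3, ← h5]; group
  have hj1 : j = 1 := by
    by_contra hj1
    by_cases hl1 : l = 1
    · rw [hl1, one_mul] at h6
      obtain ⟨k, hk, h7⟩ := H.hJ.inv j hj hjj hj1
      apply H.nas (k * (g * l₂⁻¹))⁻¹
      calc (k * (g * l₂⁻¹))⁻¹ * a * (k * (g * l₂⁻¹))⁻¹⁻¹
          = (g * l₂⁻¹)⁻¹ * (k⁻¹ * a * k) * (g * l₂⁻¹) := by group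
        _ = (g * l₂⁻¹)⁻¹ * j * (g * l₂⁻¹) := by rw [← h7]; group
        _ = s := by rw [← h6]; group
    · obtain ⟨k, h7⟩ := H.conj_z hl hll hl1 hj hjj hj1
      apply H.nsz (k * (g * l₂⁻¹))
      rw [← h7, ← h6]; group
  rw [hj1, mul_one] at h6 h3
  have hl1 : l ≠ 1 := by
    rintro rfl
    exact cj_ne hw1 h3
  obtain ⟨l₁, hl₁, h7⟩ := H.hL.inv l hl hll hl1
  obtain ⟨g₁, hg₁⟩ : ∃ g₁, g₁ = l₁ * g * l₂⁻¹ := ⟨_, rfl⟩
  have h8 : g₁ * s = s * g₁ := by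
    apply comm_of_cj_eq
    calc g₁ * s * g₁⁻¹ = l₁ * ((g * l₂⁻¹) * s * (g * l₂⁻¹)⁻¹) * l₁⁻¹ := by rw [hg₁]; group
      _ = s := by rw [h6, h7]
  have h9 : g₁ * (l₂ * b * l₂⁻¹) * g₁⁻¹ = a := by
    calc g₁ * (l₂ * b * l₂⁻¹) * g₁⁻¹ = l₁ * (g * b * g⁻¹) * l₁⁻¹ := by rw [hg₁]; group
      _ = a := by rw [hg, cj_eq_of_comm (H.LJ l₁ hl₁ a H.hJ.sL)]
  have h10 : g₁⁻¹ ∈ normalizer (J : Set G) := H.NN ▸ inv_mem (H.Cs g₁ h8)
  have h11 : l₂ * b * l₂⁻¹ ∈ J := by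
    have h12 := L_conj h10 H.hJ.sL
    have e : g₁⁻¹ * a * g₁⁻¹⁻¹ = l₂ * b * l₂⁻¹ := by rw [← h9]; group
    rwa [e] at h12
  have h12 := L_conj (H.LMJ (inv_mem hl₂)) h11
  have e : l₂⁻¹ * (l₂ * b * l₂⁻¹) * l₂⁻¹⁻¹ = b := by group
  rwa [e] at h12

/-- `b ∈ a^G` of field type on `J` -/
theorem fld_J [Finite G] {h p r : G} (hpJ : p ∈ J) (hrJ : r ∈ J)
    (hp : p * (h * a * h⁻¹) = h * a * h⁻¹ * p) (hr : r * (h * a * h⁻¹) = h * a * h⁻¹ * r)
    (h2 : IsPGroup 2 (closure {p, r})) (hw : p * r * p⁻¹ * r⁻¹ * (p * r * p⁻¹ * r⁻¹) = 1)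
    (hw1 : p * r * p⁻¹ * r⁻¹ ≠ 1) : h * a * h⁻¹ ∈ J := by
  obtain ⟨g, hg, l, hl, j, hj, h3⟩ := H.derived hp hr h2
  obtain ⟨b, hb⟩ : ∃ b, b = h * a * h⁻¹ := ⟨_, rfl⟩
  obtain ⟨w, hwd⟩ : ∃ w, w = p * r * p⁻¹ * r⁻¹ := ⟨_, rfl⟩
  rw [← hb] at hg ⊢
  rw [← hwd] at hw hw1 h3
  have hwJ : w ∈ J := hwd ▸ mul_mem (mul_mem (mul_mem hpJ hrJ) (inv_mem hpJ)) (inv_mem hrJ)
  have h4 : l * j * (l * j) = 1 := by rw [← h3]; exact cj_sq hw
  obtain ⟨hll, hjj⟩ := H.inv_lj hl hj h4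
  obtain ⟨j₂, hj₂, h5⟩ := H.hJ.inv w hwJ hw hw1
  -- `a` is conjugate to `lj`
  have h6 : (g * j₂⁻¹) * a * (g * j₂⁻¹)⁻¹ = l * j := by
    rw [← h3, ← h5]; group
  have hl1 : l = 1 := by
    by_contra hl1
    by_cases hj1 : j = 1
    · rw [hj1, mul_one] at h6
      obtain ⟨k, hk, h7⟩ := H.hL.inv l hl hll hl1
      apply H.nas (k * (g * j₂⁻¹))
      calc k * (g * j₂⁻¹) * a * (k * (g * j₂⁻¹))⁻¹
          = k * ((g * j₂⁻¹) * a * (g * j₂⁻¹)⁻¹) * k⁻¹ := by group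
        _ = s := by rw [h6, h7]
    · obtain ⟨k, h7⟩ := H.conj_z hl hll hl1 hj hjj hj1
      apply H.naz (k * (g * j₂⁻¹))
      rw [← h7, ← h6]; group
  rw [hl1, one_mul] at h6 h3
  have hj1 : j ≠ 1 := by
    rintro rfl
    exact cj_ne hw1 h3
  obtain ⟨j₁, hj₁, h7⟩ := H.hJ.inv j hj hjj hj1
  obtain ⟨g₁, hg₁⟩ : ∃ g₁, g₁ = j₁ * g * j₂⁻¹ := ⟨_, rfl⟩
  have h8 : g₁ * a = a * g₁ := by
    apply comm_of_cj_eq
    calc g₁ * a * g₁⁻¹ = j₁ * ((g * j₂⁻¹) * a * (g * j₂⁻¹)⁻¹) * j₁⁻¹ := by rw [hg₁]; group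
      _ = a := by rw [h6, h7]
  have h9 : g₁ * (j₂ * b * j₂⁻¹) * g₁⁻¹ = j₁ * a * j₁⁻¹ := by
    calc g₁ * (j₂ * b * j₂⁻¹) * g₁⁻¹ = j₁ * (g * b * g⁻¹) * j₁⁻¹ := by rw [hg₁]; group
      _ = j₁ * a * j₁⁻¹ := by rw [hg]
  have h10 : g₁⁻¹ ∈ normalizer (J : Set G) := H.NN ▸ inv_mem (H.Ca g₁ h8)
  have h11 : j₂ * b * j₂⁻¹ ∈ J := by
    have h12 := L_conj h10 (mul_mem (mul_mem hj₁ H.hJ.sL) (inv_mem hj₁))
    have e : g₁⁻¹ * (j₁ * a * j₁⁻¹) * g₁⁻¹⁻¹ = j₂ * b * j₂⁻¹ := by rw [← h9]; group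
    rwa [e] at h12
  have e : b = j₂⁻¹ * (j₂ * b * j₂⁻¹) * j₂ := by group
  rw [e]
  exact mul_mem (mul_mem (inv_mem hj₂) h11) hj₂

/-- an involution of `C(J)` is not of PGL type on `L` -/
theorem not_pgl [Finite G] {b : G} (hbJ : b ∈ centralizer (J : Set G)) (hbb : b * b = 1) {l : G}
    (hl : l ∈ L) (h : l * b * l⁻¹ * x ∈ centralizer (L : Set G)) : False := by
  obtain ⟨c, hc⟩ : ∃ c, c = l * b * l⁻¹ := ⟨_, rfl⟩
  have hcJ : c ∈ centralizer (J : Set G) :=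
    hc ▸ mul_mem (mul_mem (H.LC hl) hbJ) (inv_mem (H.LC hl))
  have hcc : c * c = 1 := hc ▸ cj_sq hbb
  rw [← hc] at h
  have hxi : x⁻¹ = x := inv_eq_of_mul_eq_one_left H.hL.xx
  have hci : c⁻¹ = c := inv_eq_of_mul_eq_one_left hcc
  have hxJ : x ∈ normalizer (J : Set G) := H.hJ.xN
  -- `Z = C(LJ)`
  obtain ⟨Z, hZ⟩ : ∃ Z, Z = centralizer (L : Set G) ⊓ centralizer (J : Set G) := ⟨_, rfl⟩
  have hZodd : Odd (Nat.card Z) := by
    rw [← Nat.not_even_iff_odd, even_iff_two_dvd]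
    intro h2
    have hF : Fact (Nat.Prime 2) := ⟨Nat.prime_two⟩
    obtain ⟨k, hk⟩ := exists_prime_orderOf_dvd_card' (G := Z) 2 h2
    have h3 : k * k = 1 := by rw [← pow_two, ← hk, pow_orderOf_eq_one]
    have h4 : (k : G) = 1 := by
      have h5 : (k : G) ∈ centralizer (L : Set G) ⊓ centralizer (J : Set G) := hZ ▸ k.2
      exact H.odd _ h5.1 h5.2 (congrArg Subtype.val h3)
    have h5 : k = 1 := Subtype.ext h4
    rw [h5, orderOf_one] at hk
    exact absurd hk (by norm_num)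
  have hxZ : x ∈ normalizer (Z : Set G) := by
    rw [mem_normalizer_iff]
    have key : ∀ y ∈ Z, x * y * x⁻¹ ∈ Z := by
      intro y hy
      rw [hZ] at hy ⊢
      exact ⟨K_conj H.hL.xN hy.1, K_conj hxJ hy.2⟩
    intro y
    refine ⟨key y, fun hy => ?_⟩
    have h3 := key _ hy
    have e : x * (x * y * x⁻¹) * x⁻¹ = y := by
      calc x * (x * y * x⁻¹) * x⁻¹ = (x * x) * y * (x * x)⁻¹ := by group
        _ = y := by rw [H.hL.xx]; group
    rwa [e] at h3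
  have hcx : c⁻¹ * (x * c * x⁻¹) ∈ Z := by
    rw [hZ]
    have e : c⁻¹ * (x * c * x⁻¹) = (c * x) * (c * x) := by rw [hci, hxi]; group
    refine mem_inf.mpr ⟨?_, ?_⟩
    · rw [e]; exact mul_mem h h
    · exact mul_mem (inv_mem hcJ) (K_conj hxJ hcJ)
  obtain ⟨o, ho, hco⟩ := Intrinsic.Lifting.exists_commute (n := 1) hZodd
    (by rw [pow_one, pow_two]; exact H.hL.xx) hxZ hcx
  rw [hZ] at ho
  -- `d = c o`
  obtain ⟨d, hd⟩ : ∃ d, d = c * o := ⟨_, rfl⟩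
  rw [← hd] at hco
  have hdJ : d ∈ centralizer (J : Set G) := hd ▸ mul_mem hcJ ho.2
  have hcN : c ∈ normalizer (L : Set G) := by
    have h3 : c = c * x * x := by rw [mul_assoc, H.hL.xx, mul_one]
    rw [h3]
    exact mul_mem (K_le_M h) H.hL.xN
  have hcs : c * s = s * c := by
    have h3 := comm_of_mem H.hL.sL h
    calc c * s = c * (x * x) * s := by rw [H.hL.xx, mul_one]
      _ = (c * x) * (x * s) := by group
      _ = (c * x) * s * x := by rw [← H.hL.sx]; group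
      _ = s * (c * x) * x := by rw [h3]
      _ = s * c * (x * x) := by group
      _ = s * c := by rw [H.hL.xx, mul_one]
  have hdd : d * d ∈ Z := by
    have e : d * d = (c * o * c⁻¹) * o * (c * c) := by
      rw [hd, hcc, hci]; group
    rw [e, hcc, mul_one, hZ]
    refine mul_mem ?_ (mem_inf.mpr ho)
    exact mem_inf.mpr ⟨K_conj hcN ho.1, mul_mem (mul_mem hcJ ho.2) (inv_mem hcJ)⟩
  rw [hZ] at hdd
  have hoo := H.odd_order hdd.1 hdd.2
  obtain ⟨m, hm⟩ : ∃ m, m = orderOf (d * d) := ⟨_, rfl⟩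
  rw [← hm] at hoo
  obtain ⟨f, hf⟩ : ∃ f, f = d ^ m := ⟨_, rfl⟩
  have hff : f * f = 1 := by
    rw [hf, ← pow_add, ← two_mul, pow_mul, pow_two, hm, pow_orderOf_eq_one]
  have hfJ : f ∈ centralizer (J : Set G) := hf ▸ pow_mem hdJ _
  have hfx : f * x = x * f := by
    rw [hf]
    exact (show Commute d x from hco.symm).pow_left m
  -- `f x ∈ C(L)`
  have hdxL : d * x ∈ centralizer (L : Set G) := by
    have e : d * x = c * x * (x⁻¹ * o * x⁻¹⁻¹) := by rw [hd]; group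
    rw [e]
    exact mul_mem h (K_conj (inv_mem H.hL.xN) ho.1)
  have hfxL : f * x ∈ centralizer (L : Set G) := by
    obtain ⟨k, hk⟩ := hoo
    have h3 : f = (d * d) ^ k * d := by
      rw [hf, hk, pow_succ, pow_mul, pow_two]
    rw [h3, mul_assoc]
    exact mul_mem (pow_mem hdd.1 _) hdxL
  have hfs : f * s = s * f := by
    have h3 := comm_of_mem H.hL.sL hfxL
    calc f * s = f * (x * x) * s := by rw [H.hL.xx, mul_one]
      _ = (f * x) * (x * s) := by group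
      _ = (f * x) * s * x := by rw [← H.hL.sx]; group
      _ = s * (f * x) * x := by rw [h3]
      _ = s * f * (x * x) := by group
      _ = s * f := by rw [H.hL.xx, mul_one]
  rcases H.starJ f hfJ hfs hfx hff with h3 | h3
  · apply H.hL.xLK 1 (one_mem _)
    rw [mul_one]
    rwa [h3, one_mul] at hfxL
  · apply H.hL.xLK s H.hL.sL
    rw [← H.hL.sx, ← h3]
    exact hfxL

/-- a conjugate of `a` in `M` is in `J` -/
theorem delta [Finite G] (g : G) (hg : g * a * g⁻¹ ∈ normalizer (L : Set G)) : g * a * g⁻¹ ∈ J := by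
  obtain ⟨b, hb⟩ : ∃ b, b = g * a * g⁻¹ := ⟨_, rfl⟩
  have hbb : b * b = 1 := hb ▸ cj_sq H.hJ.ss
  have hb1 : b ≠ 1 := hb ▸ cj_ne H.hJ.s1
  have hbX : b ∈ X := hb ▸ H.XN.conj_mem a H.aX g
  have hbJ : b ∈ normalizer (J : Set G) := by rw [← H.NN, hb]; exact hg
  have hbL : b ∈ normalizer (L : Set G) := by rw [hb]; exact hg
  by_contra hJ
  rw [← hb] at hJ
  -- types
  have tL : b ∈ centralizer (L : Set G) ∨ (∃ i ∈ L, i * i = 1 ∧ b * i ∈ centralizer (L : Set G)) ∨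
      ∃ l ∈ L, l * b * l⁻¹ * x ∈ centralizer (L : Set G) := by
    rcases H.hL.typ b hbL hbb with h | h | h | ⟨p, hp, r, hr, h1, h2, h3, h4, h5⟩
    · exact Or.inl h
    · exact Or.inr (Or.inl h)
    · exact Or.inr (Or.inr h)
    · rw [hb] at h1 h2 hJ
      exact absurd (H.fld_L hp hr h1 h2 h3 h4 h5) hJ
  have tJ : b ∈ centralizer (J : Set G) ∨ (∃ i ∈ J, i * i = 1 ∧ b * i ∈ centralizer (J : Set G)) ∨
      ∃ l ∈ J, l * b * l⁻¹ * x ∈ centralizer (J : Set G) := by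
    rcases H.hJ.typ b hbJ hbb with h | h | h | ⟨p, hp, r, hr, h1, h2, h3, h4, h5⟩
    · exact Or.inl h
    · exact Or.inr (Or.inl h)
    · exact Or.inr (Or.inr h)
    · rw [hb] at h1 h2 hJ
      exact absurd (H.fld_J hp hr h1 h2 h3 h4 h5) hJ
  -- `b i` for an inner `b`
  have inn : ∀ i : G, i * i = 1 → b * i = i * b → b * i * (b * i) = 1 := by
    intro i hii h
    calc b * i * (b * i) = b * (i * b) * i := by group
      _ = (b * b) * (i * i) := by rw [← h]; group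
      _ = 1 := by rw [hbb, hii, one_mul]
  have comL : ∀ i ∈ L, i * i = 1 → b * i ∈ centralizer (L : Set G) → b * i = i * b := by
    intro i hi hii h
    have h1 := comm_of_mem hi h
    calc b * i = (i * i) * (b * i) := by rw [hii, one_mul]
      _ = i * (i * (b * i)) := by group
      _ = i * (b * i * i) := by rw [h1]
      _ = i * b * (i * i) := by group
      _ = i * b := by rw [hii, mul_one]
  have comJ : ∀ i ∈ J, i * i = 1 → b * i ∈ centralizer (J : Set G) → b * i = i * b := by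
    intro i hi hii h
    have h1 := comm_of_mem hi h
    calc b * i = (i * i) * (b * i) := by rw [hii, one_mul]
      _ = i * (i * (b * i)) := by group
      _ = i * (b * i * i) := by rw [h1]
      _ = i * b * (i * i) := by group
      _ = i * b := by rw [hii, mul_one]
  rcases tL with hL1 | ⟨i, hi, hii, hiC⟩ | ⟨l, hl, hlC⟩
  · rcases tJ with h1 | ⟨j, hj, hjj, hjC⟩ | ⟨j, hj, hjC⟩
    · exact hb1 (H.odd b hL1 h1 hbb)
    · have h2 := comJ j hj hjj hjC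
      have h3 := H.odd (b * j) (mul_mem hL1 (H.JC hj)) hjC (inn j hjj h2)
      apply hJ
      rw [mul_eq_one_iff_eq_inv.mp h3]
      exact inv_mem hj
    · exact H.symm.not_pgl hL1 hbb hj hjC
  · have h2 := comL i hi hii hiC
    by_cases hi1 : i = 1
    · subst hi1
      rw [mul_one] at hiC
      rcases tJ with h1 | ⟨j, hj, hjj, hjC⟩ | ⟨j, hj, hjC⟩
      · exact hb1 (H.odd b hiC h1 hbb)
      · have h2 := comJ j hj hjj hjC
        have h3 := H.odd (b * j) (mul_mem hiC (H.JC hj)) hjC (inn j hjj h2)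
        apply hJ
        rw [mul_eq_one_iff_eq_inv.mp h3]
        exact inv_mem hj
      · exact H.symm.not_pgl hiC hbb hj hjC
    rcases tJ with h1 | ⟨j, hj, hjj, hjC⟩ | ⟨j, hj, hjC⟩
    · -- `b = i`
      have h3 := H.odd (b * i) hiC (mul_mem h1 (H.LC hi)) (inn i hii h2)
      have h4 : b = i := by
        rw [mul_eq_one_iff_eq_inv.mp h3, inv_eq_of_mul_eq_one_left hii]
      obtain ⟨k, hk, h5⟩ := H.hL.inv i hi hii hi1
      apply H.nas (k * g)
      rw [← h5, ← h4, hb]; group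
    · have h3 := comJ j hj hjj hjC
      by_cases hj1 : j = 1
      · subst hj1
        rw [mul_one] at hjC
        have h3 := H.odd (b * i) hiC (mul_mem hjC (H.LC hi)) (inn i hii h2)
        have h4 : b = i := by
          rw [mul_eq_one_iff_eq_inv.mp h3, inv_eq_of_mul_eq_one_left hii]
        obtain ⟨k, hk, h5⟩ := H.hL.inv i hi hii hi1
        apply H.nas (k * g)
        rw [← h5, ← h4, hb]; group
      -- `b = i j`
      have hij := H.LJ i hi j hj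
      have h4 : b * (i * j) = 1 := by
        apply H.odd
        · rw [← mul_assoc]
          exact mul_mem hiC (H.JC hj)
        · rw [hij, ← mul_assoc]
          exact mul_mem hjC (H.LC hi)
        · calc b * (i * j) * (b * (i * j)) = b * i * (j * b) * (i * j) := by group
            _ = b * i * (b * j) * (i * j) := by rw [h3]
            _ = b * (i * b) * (j * i) * j := by group
            _ = b * (b * i) * (i * j) * j := by rw [h2, hij]
            _ = (b * b) * (i * i) * (j * j) := by group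
            _ = 1 := by rw [hbb, hii, hjj]; group
      have h5 : b = i * j := by
        have h6 : (i * j) * (i * j) = 1 := by
          calc (i * j) * (i * j) = i * (j * i) * j := by group
            _ = (i * i) * (j * j) := by rw [← hij]; group
            _ = 1 := by rw [hii, hjj, one_mul]
        rw [mul_eq_one_iff_eq_inv.mp h4, inv_eq_of_mul_eq_one_left h6]
      obtain ⟨k, h6⟩ := H.conj_z hi hii hi1 hj hjj hj1
      apply H.naz (k * g)
      rw [← h6, ← h5, hb]; group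
    · -- `b i` is of PGL type on `J`
      refine H.symm.not_pgl hiC (inn i hii h2) hj ?_
      have e : j * (b * i) * j⁻¹ * x = (j * b * j⁻¹ * x) * (x⁻¹ * (j * i * j⁻¹) * x⁻¹⁻¹) := by group
      rw [e, cj_eq_of_comm (H.LJ i hi j hj).symm]
      exact mul_mem hjC (K_conj (inv_mem H.hJ.xN) (H.LC hi))
  · rcases tJ with h1 | ⟨j, hj, hjj, hjC⟩ | ⟨j, hj, hjC⟩
    · exact H.not_pgl h1 hbb hl hlC
    · have h2 := comJ j hj hjj hjC
      refine H.not_pgl hjC (inn j hjj h2) hl ?_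
      have e : l * (b * j) * l⁻¹ * x = (l * b * l⁻¹ * x) * (x⁻¹ * (l * j * l⁻¹) * x⁻¹⁻¹) := by group
      rw [e, cj_eq_of_comm (H.LJ l hl j hj)]
      exact mul_mem hlC (K_conj (inv_mem H.hL.xN) (H.JC hj))
    · -- `b ~ x`
      obtain ⟨c, hc⟩ : ∃ c, c = l * (j * b * j⁻¹) * l⁻¹ := ⟨_, rfl⟩
      have hcX : c ∈ X := hc ▸ H.XN.conj_mem _ (H.XN.conj_mem b hbX j) l
      have hcc : c * c = 1 := hc ▸ cj_sq (cj_sq hbb)
      have h1 : c * x ∈ centralizer (L : Set G) := by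
        have e : c * x = l * b * l⁻¹ * x * (x⁻¹ * (l * ((b⁻¹ * j * b⁻¹⁻¹) * j⁻¹) * l⁻¹) * x⁻¹⁻¹) := by
          rw [hc]; group
        rw [e]
        refine mul_mem hlC (K_conj (inv_mem H.hL.xN) (K_conj (L_le_M hl) ?_))
        exact mul_mem (K_conj (inv_mem hbL) (H.JC hj)) (inv_mem (H.JC hj))
      have h2 : c * x ∈ centralizer (J : Set G) := by
        have e : c * x = l * ((j * b * j⁻¹ * x) * (x⁻¹ * l⁻¹ * x⁻¹⁻¹)) := by
          rw [hc]; group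
        rw [e]
        exact mul_mem (H.LC hl) (mul_mem hjC (K_conj (inv_mem H.hJ.xN) (H.LC (inv_mem hl))))
      obtain ⟨e, he⟩ : ∃ e, e = c * x := ⟨_, rfl⟩
      rw [← he] at h1 h2
      have hoo := H.odd_order h1 h2
      have hxi : x⁻¹ = x := inv_eq_of_mul_eq_one_left H.hL.xx
      have hce : c = e * x := by rw [he, mul_assoc, H.hL.xx, mul_one]
      have hxe : x * e * x⁻¹ = e⁻¹ := by
        rw [he, mul_inv_rev, inv_eq_of_mul_eq_one_left hcc, hxi]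
        calc x * (c * x) * x = x * c * (x * x) := by group
          _ = x * c := by rw [H.hL.xx, mul_one]
      obtain ⟨k, hk⟩ := hoo
      -- `f = e ^ (k + 1)`, `f * f = e`
      obtain ⟨f, hf⟩ : ∃ f, f = e ^ (k + 1) := ⟨_, rfl⟩
      have hff : f * f = e := by
        have h3 : k + 1 + (k + 1) = orderOf e + 1 := by omega
        rw [hf, ← pow_add, h3, pow_succ, pow_orderOf_eq_one, one_mul]
      have hxf : x * f * x⁻¹ = f⁻¹ := by
        have h3 : x * f * x⁻¹ = (x * e * x⁻¹) ^ (k + 1) := by rw [hf, conj_pow]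
        rw [h3, hxe, hf, inv_pow]
      have h3 : f * x * f⁻¹ = c := by
        calc f * x * f⁻¹ = f * x * (x * f * x⁻¹) := by rw [hxf]
          _ = f * (x * x) * f * x⁻¹ := by group
          _ = (f * f) * x⁻¹ := by rw [H.hL.xx, mul_one]
          _ = c := by rw [hff, hxi, hce]
      apply H.xX
      have h4 : x = f⁻¹ * c * f⁻¹⁻¹ := by rw [← h3]; group
      rw [h4]
      exact H.XN.conj_mem c hcX f⁻¹

/-- a conjugate of `s` in `M` is in `L` -/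
theorem sigma [Finite G] (g : G) (hg : g * s * g⁻¹ ∈ normalizer (L : Set G)) : g * s * g⁻¹ ∈ L :=
  H.symm.delta g (H.NN ▸ hg)

end Block

end Cfsg.Agent.UGT.FourB
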