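import Cfsg.Agent.UGT.FourA.Zst
import Cfsg.Agent.Intrinsic.Lifting
import Cfsg.Agent.UGT.Parity
import Cfsg.Agent.UGT.TriBase
import Cfsg.Agent.UGT.HFAbs
import Cfsg.Agent.UGT.RankOneRep

/-!
# Part (4b), section 3: `B = {a}`

`Fr T x a s`: the 2-local frame of section 1 (`T ∈ Syl₂(C(a))`, `C_T(x) ∈ Syl₂(C(a, x))`, `Ω₁(Z(T)) = {1, a, s, as}`,
`Ω₁(C_T(x)) = ⟨a, s, x⟩`, `x ~ xs`, `x ~ xa` under `T`). `One x a s`: `a` is the only involution `v` of
`{a, s, as}` with `O(C(x)) ∩ C(v) ≰ O(C(v))`.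

* `not_conj` (3.1): `x ≁ a`;
* `mem_w4`, `syl_x`, `zst` (3.2): `a^G ∩ E₀ ⊆ W₄`, `C_T(x) ∈ Syl₂(C(x))`, `[a, C(x)] ≤ O(C(x))`;
* `eq_of_w4` (3.3): `a^G ∩ W₄ = {a}`;
* `exists_conj`, `exists_hom` (3.4): `a^G ∩ C(x) = a^{C(x)}`; a character of `C(a)` gives a homomorphism of `G`;
* `core_le_a`, `cent_le_a` (3.5): if the cores of `C(s)`, `C(as)`, `C(a)` are trivial then `C(x) ≤ C(a)`.
-/

set_option autoImplicit false

open Cfsg Subgroup
open Cfsg.Agent.SignalizersComponents Cfsg.Agent.Lib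
open Cfsg.Agent.SignalizersComponents.IntrinsicBasic
open Cfsg.Agent.Intrinsic.Basic Cfsg.Agent.Intrinsic.Cen
open Cfsg.Agent.McLLyComp.Act
open Cfsg.Agent.UGT.Triple Cfsg.Agent.UGT.TriBase
open scoped commutatorElement

namespace Cfsg.Agent.UGT.FourB.OneB

variable {G : Type*} [Group G]

/-- membership in the four-group `{1, a, s, as}` -/
def W4 (a s z : G) : Prop := z = 1 ∨ z = a ∨ z = s ∨ z = a * s

/-- the frame of section 1 -/
structure Fr (T : Subgroup G) (x a s : G) : Prop where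
  aa : a * a = 1
  a1 : a ≠ 1
  xx : x * x = 1
  x1 : x ≠ 1
  ss : s * s = 1
  s1 : s ≠ 1
  sa : s ≠ a
  T2 : IsPGroup 2 T
  TC : ∀ t ∈ T, t * a = a * t
  syl : ∀ U : Subgroup G, IsPGroup 2 U → T ≤ U → (∀ u ∈ U, u * a = a * u) → U ≤ T
  aT : a ∈ T
  xT : x ∈ T
  sT : s ∈ T
  sc : ∀ t ∈ T, t * s = s * t
  sylx : ∀ U : Subgroup G, IsPGroup 2 U → (∀ t ∈ T, t * x = x * t → t ∈ U) →
    (∀ u ∈ U, u * a = a * u) → (∀ u ∈ U, u * x = x * u) → U ≤ T
  w4 : ∀ z ∈ T, (∀ t ∈ T, t * z = z * t) → z * z = 1 → W4 a s z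
  e0 : ∀ t ∈ T, t * x = x * t → t * t = 1 → W4 a s t ∨ W4 a s (t * x)
  hl : ∃ l ∈ T, l * x * l⁻¹ = x * s
  hn : ∃ n ∈ T, n * x * n⁻¹ = x * a

/-- `(x, v)` is a bad pair: `O(C(x)) ∩ C(v) ≰ O(C(v))` -/
def Bad (x v : G) : Prop :=
  ∃ d ∈ core (centralizer ({x} : Set G)), d * v = v * d ∧ d ∉ core (centralizer ({v} : Set G))

/-- `B = {a}` -/
structure One (x a s : G) : Prop where
  bad : Bad x a
  one : ∀ v, W4 a s v → v ≠ 1 → v ≠ a → ¬ Bad x v

theorem cj_core_mem {v d : G} (g : G) (hd : d ∈ core (centralizer ({v} : Set G))) :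
    g * d * g⁻¹ ∈ core (centralizer ({g * v * g⁻¹} : Set G)) := by
  rw [← IntrinsicBasic.cj_centralizer g v, core_cj]
  exact conj_mem_cj hd

theorem cj_core_iff {v d g : G} : g * d * g⁻¹ ∈ core (centralizer ({g * v * g⁻¹} : Set G)) ↔
    d ∈ core (centralizer ({v} : Set G)) := by
  constructor
  · intro h
    have h1 := cj_core_mem g⁻¹ h
    have e1 : g⁻¹ * (g * d * g⁻¹) * g⁻¹⁻¹ = d := by group
    have e2 : g⁻¹ * (g * v * g⁻¹) * g⁻¹⁻¹ = v := by group
    rwa [e1, e2] at h1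
  · exact cj_core_mem g

theorem cj_comm {g y z : G} (h : y * z = z * y) :
    (g * y * g⁻¹) * (g * z * g⁻¹) = (g * z * g⁻¹) * (g * y * g⁻¹) := by
  calc (g * y * g⁻¹) * (g * z * g⁻¹) = g * (y * z) * g⁻¹ := by group
    _ = g * (z * y) * g⁻¹ := by rw [h]
    _ = _ := by group

theorem cj_eq {g y : G} (h : g * y = y * g) : g * y * g⁻¹ = y := by rw [h]; group

theorem Bad.cj {x v : G} (h : Bad x v) (g : G) : Bad (g * x * g⁻¹) (g * v * g⁻¹) := by
  obtain ⟨d, hd, hc, hn⟩ := h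
  exact ⟨g * d * g⁻¹, cj_core_mem g hd, cj_comm hc, fun h => hn (cj_core_iff.mp h)⟩

theorem Bad.cj' {x v g : G} (h : Bad x v) (hg : g * x = x * g) : Bad x (g * v * g⁻¹) := by
  have h1 := h.cj g
  rwa [cj_eq hg] at h1

theorem not_bad {x v : G} (h : ¬ Bad x v) {d : G} (hd : d ∈ core (centralizer ({x} : Set G)))
    (hc : d * v = v * d) : d ∈ core (centralizer ({v} : Set G)) := by
  by_contra h1
  exact h ⟨d, hd, hc, h1⟩

namespace Fr

variable {T T' : Subgroup G} {x a s s' : G}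

section basic

variable (F : Fr T x a s)
include F

theorem xi : x⁻¹ = x := inv_eq_of_mul_eq_one_left F.xx

theorem sas : s * a = a * s := F.TC s F.sT

theorem xs : x * s = s * x := F.sc x F.xT

theorem xa : x * a = a * x := F.TC x F.xT

/-- the elements of `W₄` are central in `T` -/
theorem w4c {v t : G} (hv : W4 a s v) (ht : t ∈ T) : t * v = v * t := by
  rcases hv with rfl | rfl | rfl | rfl
  · rw [mul_one, one_mul]
  · exact F.TC t ht
  · exact F.sc t ht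
  · rw [← mul_assoc, F.TC t ht, mul_assoc, F.sc t ht, mul_assoc]

theorem w4T {v : G} (hv : W4 a s v) : v ∈ T := by
  rcases hv with rfl | rfl | rfl | rfl
  · exact T.one_mem
  · exact F.aT
  · exact F.sT
  · exact T.mul_mem F.aT F.sT

theorem w4sq {v : G} (hv : W4 a s v) : v * v = 1 := by
  rcases hv with rfl | rfl | rfl | rfl
  · exact one_mul 1
  · exact F.aa
  · exact F.ss
  · calc a * s * (a * s) = a * (s * a) * s := by group
      _ = a * (a * s) * s := by rw [F.sas]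
      _ = (a * a) * (s * s) := by group
      _ = 1 := by rw [F.aa, F.ss, one_mul]

theorem not_w4_x : ¬ W4 a s x := by
  intro h
  obtain ⟨l, hl, h1⟩ := F.hl
  rw [cj_eq (F.w4c h hl)] at h1
  exact F.s1 (mul_left_cancel (h1.symm.trans (mul_one x).symm))

/-- all `x w`, `w ∈ W₄`, are conjugate to `x` -/
theorem conj_x {w : G} (hw : W4 a s w) : ∃ g ∈ T, g * x * g⁻¹ = x * w := by
  obtain ⟨l, hl, h1⟩ := F.hl
  obtain ⟨n, hn, h2⟩ := F.hn
  rcases hw with rfl | rfl | rfl | rfl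
  · exact ⟨1, T.one_mem, by group⟩
  · exact ⟨n, hn, h2⟩
  · exact ⟨l, hl, h1⟩
  · refine ⟨l * n, T.mul_mem hl hn, ?_⟩
    calc l * n * x * (l * n)⁻¹ = l * (n * x * n⁻¹) * l⁻¹ := by group
      _ = l * (x * a) * l⁻¹ := by rw [h2]
      _ = (l * x * l⁻¹) * (l * a * l⁻¹) := by group
      _ = x * s * a := by rw [h1, cj_eq (F.TC l hl)]
      _ = x * (a * s) := by rw [mul_assoc, F.sas]

end basic

/-- **(3.1)**: `x` is not conjugate to `a` (the frame of `(a; x)` is the contradiction) -/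
theorem not_conj (F : Fr T x a s) (F' : Fr T' a x s') (hTT : ∀ t ∈ T, t * x = x * t → t ∈ T')
    (hB : One x a s) : False := by
  have hsT' : s ∈ T' := hTT s F.sT F.xs.symm
  have key : ∀ y, W4 x s' y → y ≠ 1 → y ≠ x → W4 a s (a * y) → False := by
    intro y hy hy1 hyx hay
    have hv : ∃ g, g * x = x * g ∧ g * a * g⁻¹ = a * y := by
      obtain ⟨g, hg, h1⟩ := F'.conj_x hy
      exact ⟨g, F'.TC g hg, h1⟩
    obtain ⟨g, hg, h1⟩ := hv
    have h2 := hB.bad.cj' hg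
    rw [h1] at h2
    refine hB.one _ hay ?_ ?_ h2
    · intro h3
      rw [h3] at h1
      apply F.a1
      calc a = g⁻¹ * (g * a * g⁻¹) * g := by group
        _ = 1 := by rw [h1]; group
    · intro h3
      exact hy1 (mul_left_cancel (h3.trans (mul_one a).symm))
  have hsx : s ≠ x := fun h => F.not_w4_x (h ▸ Or.inr (Or.inr (Or.inl rfl)))
  rcases F'.e0 s hsT' F.sas F.ss with h | h
  · exact key s h F.s1 hsx (Or.inr (Or.inr (Or.inr rfl)))
  · refine key (s * a) h ?_ ?_ ?_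
    · intro h1
      apply F.sa
      calc s = s * (a * a) := by rw [F.aa, mul_one]
        _ = s * a * a := by group
        _ = a := by rw [h1, one_mul]
    · intro h1
      exact F.not_w4_x (h1 ▸ Or.inr (Or.inr (Or.inr F.sas)))
    · refine Or.inr (Or.inr (Or.inl ?_))
      rw [F.sas, ← mul_assoc, F.aa, one_mul]

/-! ### (3.2) -/

section two

variable (F : Fr T x a s) (hxD : ∀ g : G, g * a * g⁻¹ ≠ x)
include F hxD

/-- **(3.2)**: `a^G ∩ C_T(x) ⊆ W₄` -/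
theorem mem_w4 {g : G} (hT : g * a * g⁻¹ ∈ T) (hx : g * a * g⁻¹ * x = x * (g * a * g⁻¹)) :
    W4 a s (g * a * g⁻¹) := by
  have hsq : g * a * g⁻¹ * (g * a * g⁻¹) = 1 := by
    calc g * a * g⁻¹ * (g * a * g⁻¹) = g * (a * a) * g⁻¹ := by group
      _ = 1 := by rw [F.aa]; group
  rcases F.e0 _ hT hx hsq with h | h
  · exact h
  · exfalso
    obtain ⟨k, -, h1⟩ := F.conj_x h
    refine hxD (k⁻¹ * g) ?_
    have h2 : k * x * k⁻¹ = g * a * g⁻¹ := by
      rw [h1, ← mul_assoc, ← hx, mul_assoc, F.xx, mul_one]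
    calc k⁻¹ * g * a * (k⁻¹ * g)⁻¹ = k⁻¹ * (g * a * g⁻¹) * k := by group
      _ = k⁻¹ * (k * x * k⁻¹) * k := by rw [h2]
      _ = x := by group

variable (hB : One x a s)
include hB

/-- elements of `C(x)` fusing `a` into `T` centralize `a` -/
theorem isol {g : G} (hg : g * x = x * g) (hT : g * a * g⁻¹ ∈ T) : g * a * g⁻¹ = a := by
  have hx : g * a * g⁻¹ * x = x * (g * a * g⁻¹) := by
    have h1 := cj_comm (g := g) F.xa
    rw [cj_eq hg] at h1
    exact h1.symm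
  have h1 := F.mem_w4 hxD hT hx
  by_contra hne
  refine hB.one _ h1 ?_ hne (hB.bad.cj' hg)
  intro h2
  apply F.a1
  calc a = g⁻¹ * (g * a * g⁻¹) * g := by group
    _ = 1 := by rw [h2]; group

/-- **(3.2)**: `C_T(x)` is a Sylow 2-subgroup of `C(x)` -/
theorem syl_x [Finite G] (U : Subgroup G) (hU : IsPGroup 2 U) (h1 : ∀ t ∈ T, t * x = x * t → t ∈ U)
    (h2 : ∀ u ∈ U, u * x = x * u) : U ≤ T := by
  obtain ⟨R, hR⟩ : ∃ R, R = T ⊓ centralizer ({x} : Set G) := ⟨_, rfl⟩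
  have hRm : ∀ t, t ∈ R ↔ t ∈ T ∧ t * x = x * t := by
    intro t
    rw [hR, mem_inf, mem_centralizer_singleton_iff]
  have hRU : R ≤ U := fun t ht => h1 t ((hRm t).mp ht).1 ((hRm t).mp ht).2
  by_contra hne
  have hUR : ¬ U ≤ R := fun h => hne (h.trans (hR ▸ inf_le_left))
  obtain ⟨n, hnU, hnR, h3, h4⟩ := RankOneR.exists_norm hU hRU hUR
  have haR : a ∈ R := (hRm a).mpr ⟨F.aT, F.xa.symm⟩
  have h5 : n * a * n⁻¹ = a := F.isol hxD hB (h2 n hnU) ((hRm _).mp (h3 a haR)).1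
  have hna : n * a = a * n := by
    calc n * a = n * a * n⁻¹ * n := by group
      _ = a * n := by rw [h5]
  obtain ⟨V, hV⟩ : ∃ V, V = U ⊓ centralizer ({a} : Set G) := ⟨_, rfl⟩
  have h6 : V ≤ T := by
    refine F.sylx V (hV ▸ hU.to_le inf_le_left) ?_ ?_ ?_
    · intro t ht htx
      rw [hV]
      exact ⟨h1 t ht htx, mem_centralizer_singleton_iff.mpr (F.TC t ht)⟩
    · intro u hu
      rw [hV] at hu
      exact mem_centralizer_singleton_iff.mp hu.2
    · intro u hu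
      rw [hV] at hu
      exact h2 u hu.1
  refine hnR ((hRm n).mpr ⟨h6 ?_, h2 n hnU⟩)
  rw [hV]
  exact ⟨hnU, mem_centralizer_singleton_iff.mpr hna⟩

/-- **(3.2)**: `[a, C(x)] ≤ O(C(x))` -/
theorem zst [Finite G] {g : G} (hg : g * x = x * g) : a * g * a⁻¹ * g⁻¹ ∈ core (centralizer ({x} : Set G)) := by
  refine FourA.Zst.zstar_sub (H := centralizer ({x} : Set G)) (S := T ⊓ centralizer ({x} : Set G))
    (F.T2.to_le inf_le_left) inf_le_right ?_
    (orderOf_eq_prime (by rw [pow_two]; exact F.aa) F.a1)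
    ⟨F.aT, mem_centralizer_singleton_iff.mpr F.xa.symm⟩ ?_ g
    (mem_centralizer_singleton_iff.mpr hg)
  · intro U hU hSU hUx
    refine le_inf (F.syl_x hxD hB U hU (fun t ht htx => hSU ⟨ht, mem_centralizer_singleton_iff.mpr htx⟩)
      fun u hu => mem_centralizer_singleton_iff.mp (hUx hu)) hUx
  · intro c hc hcT
    exact F.isol hxD hB (mem_centralizer_singleton_iff.mp hc) hcT.1

end two

/-! ### (3.3) -/

/-- **(B5)**, a fact on `A = L / O(L)`: an inner involution `i` commuting with `α`, `α² = 1`, does not centralize both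
`C_A(α)` and `C_A(α i)` -/
def B5 (A : Type*) [Group A] : Prop :=
  ∀ α : MulAut A, α * α = 1 → ∀ i : A, i * i = 1 → i ≠ 1 → α i = i →
    ∃ c, (α c = c ∨ α c = i * c * i⁻¹) ∧ i * c ≠ c * i

theorem isSyl_cj {E R : Subgroup G} (h : IsSyl E R) (g : G) : IsSyl (cj g E) (cj g R) := by
  refine ⟨isPGroup_cj h.two, cj_mono h.le, fun R' h1 h2 h3 => ?_⟩
  have h4 : cj g⁻¹ R' ≤ E := by
    have := cj_mono (g := g⁻¹) h2
    rwa [cj_inv_cj] at this
  have h5 : R ≤ cj g⁻¹ R' := by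
    have := cj_mono (g := g⁻¹) h3
    rwa [cj_inv_cj] at this
  have h6 := h.max _ (isPGroup_cj h1) h4 h5
  rw [← h6, cj_cj_inv]

section three

variable [Finite G] (F : Fr T x a s)
include F

omit [Finite G] in
theorem isSyl_a : IsSyl (centralizer ({a} : Set G)) T where
  two := F.T2
  le := fun t ht => mem_centralizer_singleton_iff.mpr (F.TC t ht)
  max := fun R' h1 h2 h3 => le_antisymm
    (F.syl R' h1 h3 fun _ hu => mem_centralizer_singleton_iff.mp (h2 hu)) h3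

/-- conjugates of `a` in `W₄` are conjugate under `N(T)` -/
theorem exists_norm_conj {g : G} (h : W4 a s (g * a * g⁻¹)) :
    ∃ n, (∀ t ∈ T, n * t * n⁻¹ ∈ T) ∧ (∀ t ∈ T, n⁻¹ * t * n ∈ T) ∧ n * a * n⁻¹ = g * a * g⁻¹ := by
  have h1 := isSyl_cj F.isSyl_a g
  rw [IntrinsicBasic.cj_centralizer] at h1
  obtain ⟨c, hc, h2⟩ := h1.conj F.T2 (fun t ht => mem_centralizer_singleton_iff.mpr (F.w4c h ht))
  rw [← cj_mul] at h2
  have h3 : T = cj (c * g) T := Subgroup.eq_of_le_of_card_ge h2 (by rw [card_cj])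
  have hc' : c * (g * a * g⁻¹) = g * a * g⁻¹ * c := mem_centralizer_singleton_iff.mp hc
  refine ⟨c * g, fun t ht => ?_, fun t ht => ?_, ?_⟩
  · rw [h3]
    exact conj_mem_cj ht
  · rw [h3] at ht
    exact mem_cj.mp ht
  · calc c * g * a * (c * g)⁻¹ = c * (g * a * g⁻¹) * c⁻¹ := by group
      _ = g * a * g⁻¹ := cj_eq hc'

omit F in
/-- `y` an involution of `N(L)` whose centralizer in `L` is centralized by `s` modulo `O(L)` -/
theorem lift_aux {L : Subgroup G} (hsL : s ∈ L) {y : G} (hy : y * y = 1) (hyN : y ∈ normalizer (L : Set G))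
    (hcom : ∀ c ∈ L, c * y = y * c → s * c * s⁻¹ * c⁻¹ ∈ core L) {c : ↥L ⧸ oddCore ↥L}
    (hc : act L ⟨y, hyN⟩ c = c) :
    (QuotientGroup.mk (⟨s, hsL⟩ : ↥L) : ↥L ⧸ oddCore ↥L) * c = c * QuotientGroup.mk ⟨s, hsL⟩ := by
  obtain ⟨⟨p, hpL⟩, rfl⟩ := QuotientGroup.mk_surjective c
  rw [act_mk hyN hpL, mk_eq_iff] at hc
  have hc' : p⁻¹ * (y * p * y⁻¹) ∈ core L := by
    have := inv_mem hc
    convert this using 1
    group
  obtain ⟨o, ho, h1⟩ := Intrinsic.Lifting.exists_commute (odd_card_core L) (n := 1)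
    (by rw [pow_one, pow_two, hy]) (normalizer_le_normalizer_core L hyN) hc'
  have hpo : p * o ∈ L := L.mul_mem hpL (core_le L ho)
  have h2 := hcom _ hpo h1.symm
  have h3 : (QuotientGroup.mk (⟨p * o, hpo⟩ : ↥L) : ↥L ⧸ oddCore ↥L) = QuotientGroup.mk ⟨p, hpL⟩ := by
    rw [mk_eq_iff]
    have e : (p * o)⁻¹ * p = o⁻¹ := by group
    rw [e]
    exact inv_mem ho
  rw [← h3]
  change (QuotientGroup.mk (⟨s * (p * o), L.mul_mem hsL hpo⟩ : ↥L) : ↥L ⧸ oddCore ↥L) =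
    QuotientGroup.mk ⟨p * o * s, L.mul_mem hpo hsL⟩
  rw [mk_eq_iff]
  have h4 := conj_mem_core (x := (p * o * s)⁻¹) (le_normalizer (L.inv_mem (L.mul_mem hpo hsL))) (inv_mem h2)
  have h5 := inv_mem h4
  have e : (s * (p * o))⁻¹ * (p * o * s) = (p * o * s)⁻¹ * (s * (p * o) * s⁻¹ * (p * o)⁻¹)⁻¹ * (p * o * s)⁻¹⁻¹ := by
    group
  rw [e]
  exact h4

variable (hxD : ∀ g : G, g * a * g⁻¹ ≠ x) (hB : One x a s)
include hxD hB

/-- **(3.3)**: `a^G ∩ W₄ = {a}` -/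
theorem eq_of_w4 {L : Subgroup G} (hL : IsComp (centralizer ({a} : Set G)) L)
    (hLn : centralizer ({a} : Set G) ≤ normalizer (L : Set G)) (hsL : s ∈ L)
    (b5 : B5 (↥L ⧸ oddCore ↥L)) {g : G} (h : W4 a s (g * a * g⁻¹)) : g * a * g⁻¹ = a := by
  by_contra hne
  obtain ⟨n, hn1, hn2, hn3⟩ := F.exists_norm_conj h
  rw [← hn3] at h hne
  obtain ⟨x', hx'⟩ : ∃ x', x' = n⁻¹ * x * n := ⟨_, rfl⟩
  obtain ⟨a', ha'⟩ : ∃ a', a' = n⁻¹ * a * n := ⟨_, rfl⟩
  have hx'T : x' ∈ T := hx' ▸ hn2 x F.xT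
  have ha'T : a' ∈ T := ha' ▸ hn2 a F.aT
  have ex : n * x' * n⁻¹ = x := by rw [hx']; group
  have ea : n * a' * n⁻¹ = a := by rw [ha']; group
  have hx'2 : x' * x' = 1 := by
    rw [hx']
    calc n⁻¹ * x * n * (n⁻¹ * x * n) = n⁻¹ * (x * x) * n := by group
      _ = 1 := by rw [F.xx]; group
  have ha'2 : a' * a' = 1 := by
    rw [ha']
    calc n⁻¹ * a * n * (n⁻¹ * a * n) = n⁻¹ * (a * a) * n := by group
      _ = 1 := by rw [F.aa]; group
  have ha'c : ∀ t ∈ T, t * a' = a' * t := by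
    intro t ht
    have h1 := F.TC _ (hn1 t ht)
    rw [ha']
    calc t * (n⁻¹ * a * n) = n⁻¹ * (n * t * n⁻¹ * a) * n := by group
      _ = n⁻¹ * (a * (n * t * n⁻¹)) * n := by rw [h1]
      _ = n⁻¹ * a * n * t := by group
  have hW : W4 a s a' := F.w4 a' ha'T ha'c ha'2
  have ha'1 : a' ≠ 1 := by
    intro h1
    apply F.a1
    rw [← ea, h1]
    group
  have ha'a : a' ≠ a := by
    intro h1
    apply hne
    rw [h1] at ea
    exact ea
  have hW' : a' = s ∨ a' = a * s := by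
    rcases hW with h1 | h1 | h1 | h1
    · exact absurd h1 ha'1
    · exact absurd h1 ha'a
    · exact Or.inl h1
    · exact Or.inr h1
  have hv1 : n * a * n⁻¹ ≠ 1 := by
    intro h1
    apply F.a1
    calc a = n⁻¹ * (n * a * n⁻¹) * n := by group
      _ = 1 := by rw [h1]; group
  -- `[a', C(x') ∩ C(a)] ≤ O(C(a))`
  have hk : ∀ c, c * x' = x' * c → c * a = a * c → a' * c * a'⁻¹ * c⁻¹ ∈ core (centralizer ({a} : Set G)) := by
    intro c h1 h2
    have h3 := cj_comm (g := n) h1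
    rw [ex] at h3
    have h4 := F.zst hxD hB h3
    have h5 := cj_comm (g := n) h2
    have h6 : a * (n * a * n⁻¹) = n * a * n⁻¹ * a := F.w4c h F.aT
    have h7 : a * (n * c * n⁻¹) * a⁻¹ * (n * c * n⁻¹)⁻¹ * (n * a * n⁻¹) =
        n * a * n⁻¹ * (a * (n * c * n⁻¹) * a⁻¹ * (n * c * n⁻¹)⁻¹) := by
      have c1 : Commute a (n * a * n⁻¹) := h6
      have c2 : Commute (n * c * n⁻¹) (n * a * n⁻¹) := h5
      exact ((c1.mul_left c2).mul_left c1.inv_left).mul_left c2.inv_left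
    have h8 := not_bad (hB.one _ h hv1 hne) h4 h7
    rw [← cj_core_iff (g := n)]
    convert h8 using 1
    rw [ha']
    group
  -- the same for `x' a'`
  obtain ⟨m, hm, hmx⟩ := F.hn
  have hmT : n⁻¹ * m * n ∈ T := hn2 m hm
  have hk2 : ∀ c, c * (x' * a') = x' * a' * c → c * a = a * c →
      a' * c * a'⁻¹ * c⁻¹ ∈ core (centralizer ({a} : Set G)) := by
    intro c h1 h2
    obtain ⟨m', hm'⟩ : ∃ m', m' = n⁻¹ * m * n := ⟨_, rfl⟩
    rw [← hm'] at hmT
    have e1 : m' * x' * m'⁻¹ = x' * a' := by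
      rw [hm', hx', ha']
      calc n⁻¹ * m * n * (n⁻¹ * x * n) * (n⁻¹ * m * n)⁻¹ = n⁻¹ * (m * x * m⁻¹) * n := by group
        _ = n⁻¹ * (x * a) * n := by rw [hmx]
        _ = n⁻¹ * x * n * (n⁻¹ * a * n) := by group
    have h3 : m'⁻¹ * c * m' * x' = x' * (m'⁻¹ * c * m') := by
      calc m'⁻¹ * c * m' * x' = m'⁻¹ * (c * (m' * x' * m'⁻¹)) * m' := by group
        _ = m'⁻¹ * (m' * x' * m'⁻¹ * c) * m' := by rw [e1, h1]
        _ = x' * (m'⁻¹ * c * m') := by group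
    have h4 : m'⁻¹ * c * m' * a = a * (m'⁻¹ * c * m') := by
      have c1 : Commute m' a := F.TC m' hmT
      have c2 : Commute c a := h2
      exact (c1.inv_left.mul_left c2).mul_left c1
    have h5 := hk _ h3 h4
    have h6 := conj_mem_core (x := m') (le_normalizer (mem_centralizer_singleton_iff.mpr (F.TC m' hmT))) h5
    convert h6 using 1
    have c1 : m' * a' = a' * m' := ha'c m' hmT
    have c2 : m' * a' * m'⁻¹ = a' := cj_eq c1
    calc a' * c * a'⁻¹ * c⁻¹ = (m' * a' * m'⁻¹) * c * (m' * a' * m'⁻¹)⁻¹ * c⁻¹ := by rw [c2]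
      _ = m' * (a' * (m'⁻¹ * c * m') * a'⁻¹ * (m'⁻¹ * c * m')⁻¹) * m'⁻¹ := by group
  have hLa : ∀ l ∈ L, l * a = a * l := fun l hl => mem_centralizer_singleton_iff.mp (hL.le hl)
  have hact : ∀ l ∈ L, a' * l * a'⁻¹ = s * l * s⁻¹ := by
    intro l hl
    rcases hW' with h1 | h1
    · rw [h1]
    · rw [h1]
      have h2 := hLa _ (L.mul_mem (L.mul_mem hsL hl) (L.inv_mem hsL))
      calc a * s * l * (a * s)⁻¹ = a * (s * l * s⁻¹) * a⁻¹ := by group
        _ = s * l * s⁻¹ := cj_eq h2.symm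
  have hcore : ∀ c ∈ L, a' * c * a'⁻¹ * c⁻¹ ∈ core (centralizer ({a} : Set G)) → s * c * s⁻¹ * c⁻¹ ∈ core L := by
    intro c hc h1
    rw [hact c hc] at h1
    have h2 : L ⊓ core (centralizer ({a} : Set G)) ≤ core L := by
      refine le_core inf_le_left ?_ ?_
      · intro l hl
        have h3 : l ∈ normalizer (core (centralizer ({a} : Set G)) : Set G) :=
          le_normalizer_core _ (hL.le hl)
        have h4 : l ∈ normalizer (L : Set G) := le_normalizer hl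
        rw [mem_normalizer_iff] at h3 h4 ⊢
        intro y
        rw [mem_inf, mem_inf, h3 y, h4 y]
      · exact Odd.of_dvd_nat (odd_card_core _) (card_dvd_of_le inf_le_right)
    exact h2 ⟨L.mul_mem (L.mul_mem (L.mul_mem hsL hc) (L.inv_mem hsL)) (L.inv_mem hc), h1⟩
  have hTN : ∀ t ∈ T, t ∈ normalizer (L : Set G) := fun t ht =>
    hLn (mem_centralizer_singleton_iff.mpr (F.TC t ht))
  obtain ⟨i, hi⟩ : ∃ i : ↥L ⧸ oddCore ↥L, i = QuotientGroup.mk ⟨s, hsL⟩ := ⟨_, rfl⟩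
  have hii : i * i = 1 := by
    rw [hi]
    change (QuotientGroup.mk (⟨s * s, L.mul_mem hsL hsL⟩ : ↥L) : ↥L ⧸ oddCore ↥L) = 1
    rw [mk_eq_one_iff, F.ss]
    exact one_mem _
  have hi1 : i ≠ 1 := by
    rw [hi, Ne, mk_eq_one_iff]
    intro h1
    exact F.s1 (eq_one_of_mem_core_sq h1 F.ss)
  have hαα : act L ⟨x', hTN x' hx'T⟩ * act L ⟨x', hTN x' hx'T⟩ = 1 := by
    rw [← map_mul]
    have : (⟨x', hTN x' hx'T⟩ : ↥(normalizer (L : Set G))) * ⟨x', hTN x' hx'T⟩ = 1 := Subtype.ext hx'2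
    rw [this, map_one]
  have hαi : act L ⟨x', hTN x' hx'T⟩ i = i := by
    rw [hi, act_mk (hTN x' hx'T) hsL, mk_eq_iff, cj_eq (F.sc x' hx'T), inv_mul_cancel]
    exact one_mem _
  obtain ⟨c, hc, hic⟩ := b5 _ hαα i hii hi1 hαi
  apply hic
  rcases hc with hc | hc
  · rw [hi]
    exact lift_aux hsL hx'2 (hTN x' hx'T)
      (fun c hcL h1 => hcore c hcL (hk c h1 (hLa c hcL))) hc
  · rw [hi]
    have hxa2 : x' * a' * (x' * a') = 1 := by
      calc x' * a' * (x' * a') = x' * (a' * x') * a' := by group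
        _ = x' * (x' * a') * a' := by rw [ha'c x' hx'T]
        _ = (x' * x') * (a' * a') := by group
        _ = 1 := by rw [hx'2, ha'2, one_mul]
    have hN : x' * a' ∈ normalizer (L : Set G) := mul_mem (hTN x' hx'T) (hTN a' ha'T)
    refine lift_aux hsL hxa2 hN (fun c hcL h1 => hcore c hcL (hk2 c h1 (hLa c hcL))) ?_
    have h1 : act L ⟨x' * a', hN⟩ = act L ⟨x', hTN x' hx'T⟩ * act L ⟨a', hTN a' ha'T⟩ := by
      rw [← map_mul]
      rfl
    have h2 : act L ⟨a', hTN a' ha'T⟩ c = i * c * i⁻¹ := by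
      obtain ⟨⟨p, hpL⟩, rfl⟩ := QuotientGroup.mk_surjective c
      rw [act_mk, hi]
      change (QuotientGroup.mk (⟨a' * p * a'⁻¹, _⟩ : ↥L) : ↥L ⧸ oddCore ↥L) = QuotientGroup.mk (⟨s * p * s⁻¹, _⟩ : ↥L)
      congr 1
      exact Subtype.ext (hact p hpL)
    rw [h1, MulAut.mul_apply, h2, map_mul, map_mul, map_inv, hαi, hc]
    have h3 : i⁻¹ = i := inv_eq_of_mul_eq_one_left hii
    rw [h3]
    calc i * (i * c * i) * i = (i * i) * c * (i * i) := by group
      _ = c := by rw [hii, one_mul, mul_one]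

/-! ### (3.4) -/

omit [Finite G] in
/-- an involution of `C(x)` conjugate to `a` is conjugate to an element of `C_T(x)` -/
theorem isSyl_x [Finite G] : IsSyl (centralizer ({x} : Set G)) (T ⊓ centralizer ({x} : Set G)) where
  two := F.T2.to_le inf_le_left
  le := inf_le_right
  max := fun R' h1 h2 h3 => le_antisymm
    (le_inf (F.syl_x hxD hB R' h1 (fun _ ht htx => h3 ⟨ht, mem_centralizer_singleton_iff.mpr htx⟩)
      fun _ hu => mem_centralizer_singleton_iff.mp (h2 hu)) h2) h3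

/-- **(3.4)**: `a^G ∩ C(x) = a^{C(x)}` -/
theorem exists_conj (h33 : ∀ g : G, W4 a s (g * a * g⁻¹) → g * a * g⁻¹ = a) {g : G}
    (hg : g * a * g⁻¹ * x = x * (g * a * g⁻¹)) : ∃ c, c * x = x * c ∧ c * a * c⁻¹ = g * a * g⁻¹ := by
  obtain ⟨d, hd⟩ : ∃ d, d = g * a * g⁻¹ := ⟨_, rfl⟩
  have hdd : d * d = 1 := by
    rw [hd]
    calc g * a * g⁻¹ * (g * a * g⁻¹) = g * (a * a) * g⁻¹ := by group
      _ = 1 := by rw [F.aa]; group
  rw [← hd] at hg
  have h1 : IsPGroup 2 (zpowers d) := by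
    rintro ⟨y, hy⟩
    obtain ⟨k, rfl⟩ := mem_zpowers_iff.mp hy
    refine ⟨1, Subtype.ext ?_⟩
    change (d ^ k) ^ 2 ^ 1 = 1
    rw [pow_one, pow_two, ← (Commute.refl d).mul_zpow, hdd, one_zpow]
  obtain ⟨c, hc, h2⟩ := (F.isSyl_x hxD hB).conj h1 (by
    rw [zpowers_le]
    exact mem_centralizer_singleton_iff.mpr hg)
  have h3 := mem_cj.mp (h2 (mem_zpowers d))
  have hcx : c * x = x * c := mem_centralizer_singleton_iff.mp hc
  have h4 : c⁻¹ * d * c = (c⁻¹ * g) * a * (c⁻¹ * g)⁻¹ := by rw [hd]; group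
  rw [h4] at h3
  have h5 := F.mem_w4 hxD h3.1 (mem_centralizer_singleton_iff.mp h3.2)
  have h6 := h33 _ h5
  refine ⟨c, hcx, ?_⟩
  calc c * a * c⁻¹ = c * (c⁻¹ * g * a * (c⁻¹ * g)⁻¹) * c⁻¹ := by rw [h6]
    _ = g * a * g⁻¹ := by group

/-- a conjugate of `a` centralized by `C_T(x)` is `a` -/
theorem eq_of_fix (h33 : ∀ g : G, W4 a s (g * a * g⁻¹) → g * a * g⁻¹ = a) {g : G}
    (hg : ∀ t ∈ T, t * x = x * t → t * (g * a * g⁻¹) = g * a * g⁻¹ * t) : g * a * g⁻¹ = a := by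
  have hx := hg x F.xT rfl
  have hdd : g * a * g⁻¹ * (g * a * g⁻¹) = 1 := by
    calc g * a * g⁻¹ * (g * a * g⁻¹) = g * (a * a) * g⁻¹ := by group
      _ = 1 := by rw [F.aa]; group
  have h1 := RankOneR.mem_of_central (G := G) (H := centralizer ({x} : Set G))
    (T := T ⊓ centralizer ({x} : Set G)) (F.T2.to_le inf_le_left) inf_le_right
    (fun V hV h2 h3 => le_inf (F.syl_x hxD hB V hV
      (fun t ht htx => h2 ⟨ht, mem_centralizer_singleton_iff.mpr htx⟩)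
      fun _ hu => mem_centralizer_singleton_iff.mp (h3 hu)) h3) hdd
    (mem_centralizer_singleton_iff.mpr hx.symm)
    (fun t ht => hg t ht.1 (mem_centralizer_singleton_iff.mp ht.2))
  exact h33 g (F.mem_w4 hxD h1.1 hx.symm)

open Cfsg.Agent.UGT.Parity in
/-- **(3.4)**: a character of `C(a)` with `χ(x) = -1` gives a homomorphism of `G` with value `-1` at `x` -/
theorem exists_hom (h33 : ∀ g : G, W4 a s (g * a * g⁻¹) → g * a * g⁻¹ = a)
    (χ : ↥(centralizer ({a} : Set G)) →* ℤˣ)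
    (hχ : ∀ hx : x ∈ centralizer ({a} : Set G), χ ⟨x, hx⟩ = -1) : ∃ f : G →* ℤˣ, f x = -1 := by
  classical
  obtain ⟨C, hC⟩ : ∃ C, C = centralizer ({a} : Set G) := ⟨_, rfl⟩
  subst hC
  have hxC : x ∈ centralizer ({a} : Set G) := mem_centralizer_singleton_iff.mpr F.xa
  let ev : (G ⧸ centralizer ({a} : Set G)) → G → Prop := fun ω h =>
    ∀ g : G, (QuotientGroup.mk g : G ⧸ centralizer ({a} : Set G)) = ω →
      ∀ hc : g⁻¹ * h * g ∈ centralizer ({a} : Set G), χ ⟨g⁻¹ * h * g, hc⟩ = 1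
  have hev : ∀ (g h : G) (hc : g⁻¹ * h * g ∈ centralizer ({a} : Set G)),
      ev (QuotientGroup.mk g) h ↔ χ ⟨g⁻¹ * h * g, hc⟩ = 1 := by
    intro g h hc
    refine ⟨fun h1 => h1 g rfl hc, fun h1 k hk hk' => ?_⟩
    have h2 : k⁻¹ * g ∈ centralizer ({a} : Set G) := QuotientGroup.eq.mp hk
    have h3 : (⟨k⁻¹ * h * k, hk'⟩ : ↥(centralizer ({a} : Set G))) =
        ⟨k⁻¹ * g, h2⟩ * ⟨g⁻¹ * h * g, hc⟩ * ⟨k⁻¹ * g, h2⟩⁻¹ := by
      apply Subtype.ext
      change k⁻¹ * h * k = k⁻¹ * g * (g⁻¹ * h * g) * (k⁻¹ * g)⁻¹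
      group
    rw [h3, map_mul, map_mul, map_inv, h1, mul_one, mul_inv_cancel]
  have hstab : ∀ (g h : G), h • (QuotientGroup.mk g : G ⧸ centralizer ({a} : Set G)) = QuotientGroup.mk g ↔
      g⁻¹ * h * g ∈ centralizer ({a} : Set G) := by
    intro g h
    change (QuotientGroup.mk (h * g) : G ⧸ centralizer ({a} : Set G)) = QuotientGroup.mk g ↔ _
    rw [eq_comm, QuotientGroup.eq, mul_assoc]
  have hpar : IsParity ev := by
    constructor
    · intro ω h k hh hk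
      obtain ⟨g, rfl⟩ := QuotientGroup.mk_surjective ω
      have h1 := (hstab g h).mp hh
      have h2 := (hstab g k).mp hk
      have e : g⁻¹ * (h * k) * g = g⁻¹ * h * g * (g⁻¹ * k * g) := by group
      have h3 : g⁻¹ * (h * k) * g ∈ centralizer ({a} : Set G) := e ▸ mul_mem h1 h2
      rw [hev g _ h3, hev g _ h1, hev g _ h2]
      have h4 : (⟨g⁻¹ * (h * k) * g, h3⟩ : ↥(centralizer ({a} : Set G))) =
          ⟨g⁻¹ * h * g, h1⟩ * ⟨g⁻¹ * k * g, h2⟩ := Subtype.ext e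
      rw [h4, map_mul]
      rcases Int.units_eq_one_or (χ ⟨g⁻¹ * h * g, h1⟩) with h5 | h5 <;>
        rcases Int.units_eq_one_or (χ ⟨g⁻¹ * k * g, h2⟩) with h6 | h6 <;> rw [h5, h6] <;> decide
    · intro ω h k hk
      obtain ⟨g, rfl⟩ := QuotientGroup.mk_surjective ω
      have h1 := (hstab g k).mp hk
      have e : (h * g)⁻¹ * (h * k * h⁻¹) * (h * g) = g⁻¹ * k * g := by group
      have h2 : (h * g)⁻¹ * (h * k * h⁻¹) * (h * g) ∈ centralizer ({a} : Set G) := e ▸ h1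
      change ev (QuotientGroup.mk (h * g)) (h * k * h⁻¹) ↔ _
      rw [hev (h * g) _ h2, hev g _ h1]
      have h3 : (⟨(h * g)⁻¹ * (h * k * h⁻¹) * (h * g), h2⟩ : ↥(centralizer ({a} : Set G))) =
          ⟨g⁻¹ * k * g, h1⟩ := Subtype.ext e
      rw [h3]
  obtain ⟨f, hf⟩ := exists_hom_fixed hpar
  refine ⟨f, ?_⟩
  rw [hf x (T ⊓ centralizer ({x} : Set G)) F.xx (F.T2.to_le inf_le_left) inf_le_right]
  have hcard : Nat.card {ω : G ⧸ centralizer ({a} : Set G) // (x • ω = ω ∧ ¬ ev ω x) ∧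
      ∀ t ∈ T ⊓ centralizer ({x} : Set G), t • ω = ω} = 1 := by
    rw [Nat.card_eq_one_iff_unique]
    have hx1 : (1 : G)⁻¹ * x * 1 ∈ centralizer ({a} : Set G) := by simpa using hxC
    refine ⟨⟨fun p q => Subtype.ext ?_⟩, ⟨⟨QuotientGroup.mk 1, ⟨(hstab 1 x).mpr hx1, ?_⟩, fun t ht => ?_⟩⟩⟩
    · have key : ∀ ω : G ⧸ centralizer ({a} : Set G),
          (∀ t ∈ T ⊓ centralizer ({x} : Set G), t • ω = ω) → ω = QuotientGroup.mk 1 := by
        intro ω hω
        obtain ⟨g, rfl⟩ := QuotientGroup.mk_surjective ω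
        have h1 : g * a * g⁻¹ = a := by
          refine F.eq_of_fix hxD hB h33 fun t ht htx => ?_
          have h2 := mem_centralizer_singleton_iff.mp
            ((hstab g t).mp (hω t ⟨ht, mem_centralizer_singleton_iff.mpr htx⟩))
          calc t * (g * a * g⁻¹) = g * (g⁻¹ * t * g * a) * g⁻¹ := by group
            _ = g * (a * (g⁻¹ * t * g)) * g⁻¹ := by rw [h2]
            _ = g * a * g⁻¹ * t := by group
        rw [QuotientGroup.eq, mul_one, inv_mem_iff, mem_centralizer_singleton_iff]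
        calc g * a = g * a * g⁻¹ * g := by group
          _ = a * g := by rw [h1]
      rw [key p.1 p.2.2, key q.1 q.2.2]
    · rw [hev 1 x hx1]
      have h1 : (⟨(1 : G)⁻¹ * x * 1, hx1⟩ : ↥(centralizer ({a} : Set G))) = ⟨x, hxC⟩ :=
        Subtype.ext (by simp)
      rw [h1, hχ hxC]
      decide
    · rw [hstab]
      have h1 : (1 : G)⁻¹ * t * 1 = t := by group
      rw [h1]
      exact mem_centralizer_singleton_iff.mpr (F.TC t ht.1)
  rw [hcard, pow_one]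

/-! ### (3.5), the case of trivial cores -/

omit hxD in
/-- if the cores of `C(s)` and `C(as)` are trivial then `O(C(x)) ≤ C(a)` -/
theorem core_le_a (hc : ∀ v, W4 a s v → v ≠ 1 → core (centralizer ({v} : Set G)) = ⊥) {d : G}
    (hd : d ∈ core (centralizer ({x} : Set G))) : d * a = a * d := by
  have hN : ∀ v, W4 a s v → ∀ d ∈ core (centralizer ({x} : Set G)), v * d * v⁻¹ ∈ core (centralizer ({x} : Set G)) := by
    intro v hv d hd
    refine conj_mem_core (le_normalizer (mem_centralizer_singleton_iff.mpr ?_)) hd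
    exact (F.w4c hv F.xT).symm
  have hws : W4 a s s := Or.inr (Or.inr (Or.inl rfl))
  have hwas : W4 a s (a * s) := Or.inr (Or.inr (Or.inr rfl))
  have has1 : a * s ≠ 1 := by
    intro h
    apply F.sa
    calc s = (a * a) * s := by rw [F.aa, one_mul]
      _ = a * (a * s) := by group
      _ = a := by rw [h, mul_one]
  have hasa : a * s ≠ a := fun h => F.s1 (mul_left_cancel (h.trans (mul_one a).symm))
  have hfix : ∀ v, W4 a s v → v ≠ 1 → v ≠ a → ∀ d ∈ core (centralizer ({x} : Set G)), d * v = v * d → d = 1 := by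
    intro v hv h1 h2 d hd h
    have h3 := not_bad (hB.one v hv h1 h2) hd h
    rw [hc v hv h1] at h3
    exact mem_bot.mp h3
  have hodd := odd_card_core (centralizer ({x} : Set G))
  have h1 := HFAbs.inverts hodd F.ss (hN s hws) (hfix s hws F.s1 F.sa) d hd
  have h2 := HFAbs.inverts hodd (F.w4sq hwas) (hN _ hwas) (hfix _ hwas has1 hasa) d hd
  have h3 : a * (s * d * s⁻¹) * a⁻¹ = d⁻¹ := by
    rw [← h2]
    group
  rw [h1] at h3
  have h4 : a * d * a⁻¹ = d := by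
    calc a * d * a⁻¹ = (a * d⁻¹ * a⁻¹)⁻¹ := by group
      _ = d := by rw [h3, inv_inv]
  calc d * a = a * d * a⁻¹ * a := by rw [h4]
    _ = a * d := by group

/-- **(3.5)**: if the cores of `C(v)`, `v ∈ W₄#`, are trivial then `C(x) ≤ C(a)` -/
theorem cent_le_a (hc : ∀ v, W4 a s v → v ≠ 1 → core (centralizer ({v} : Set G)) = ⊥) {g : G}
    (hg : g * x = x * g) : g * a = a * g := by
  obtain ⟨e, he⟩ : ∃ e, e = a * g * a⁻¹ * g⁻¹ := ⟨_, rfl⟩
  have h1 : e ∈ core (centralizer ({x} : Set G)) := he ▸ F.zst hxD hB hg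
  have h2 := F.core_le_a hB hc h1
  have hai : a⁻¹ = a := inv_eq_of_mul_eq_one_left F.aa
  have h3 : g * a * g⁻¹ = a * e := by
    rw [he, hai]
    calc g * a * g⁻¹ = (a * a) * (g * a * g⁻¹) := by rw [F.aa, one_mul]
      _ = _ := ?_
    -- `a e = a a g a g⁻¹`
    group
  have h4 : e * e = 1 := by
    have h5 : g * a * g⁻¹ * (g * a * g⁻¹) = 1 := by
      calc g * a * g⁻¹ * (g * a * g⁻¹) = g * (a * a) * g⁻¹ := by group
        _ = 1 := by rw [F.aa]; group
    rw [h3] at h5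
    calc e * e = (a * a) * (e * e) := by rw [F.aa, one_mul]
      _ = a * (a * e) * e := by group
      _ = a * (e * a) * e := by rw [h2]
      _ = a * e * (a * e) := by group
      _ = 1 := h5
  have h5 : e = 1 := eq_one_of_mem_core_sq h1 h4
  rw [h5, mul_one] at h3
  calc g * a = g * a * g⁻¹ * g := by group
    _ = a * g := by rw [h3]

/-- **(3.5)**: then `a` is the only conjugate of `a` in `C(x)` -/
theorem fix_eq (h33 : ∀ g : G, W4 a s (g * a * g⁻¹) → g * a * g⁻¹ = a)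
    (hc : ∀ v, W4 a s v → v ≠ 1 → core (centralizer ({v} : Set G)) = ⊥) {g : G}
    (hg : g * a * g⁻¹ * x = x * (g * a * g⁻¹)) : g * a * g⁻¹ = a := by
  obtain ⟨c, h1, h2⟩ := F.exists_conj hxD hB h33 hg
  rw [← h2]
  exact cj_eq (F.cent_le_a hxD hB hc h1)

end three

end Fr

end Cfsg.Agent.UGT.FourB.OneB
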