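import Cfsg.Agent.UGT.FourB.Lemma
import Cfsg.Agent.UGT.FourB.OneB
import Cfsg.Agent.UGT.FourA.Hon
import Cfsg.Agent.UGT.Res.Base
import Cfsg.Agent.SignalizersComponents.StandardTools

/-!
# Leaf (L0): the component of a bad pair

`(x, v, L)` a triple with `O(C(v)) = 1`, type `PSL(2,F)`, `x` of PGL type, `OneInv`: `L` is normal in `C(v)`, `L` is the only
component of `C(v)` moved by `O(C(x)) ∩ C(v)`, and `O(C(x)) ∩ C(v)` is faithful on `L`.
-/

set_option autoImplicit false

open Cfsg Subgroup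
open Cfsg.Agent.SignalizersComponents Cfsg.Agent.Lib
open Cfsg.Agent.SignalizersComponents.IntrinsicBasic
open Cfsg.Agent.Intrinsic.Basic Cfsg.Agent.Intrinsic.Diag
open Cfsg.Agent.UGT.Triple Cfsg.Agent.UGT.Iface Cfsg.Agent.UGT.Res.KFacts Cfsg.Agent.UGT.Res.Base
open Cfsg.Agent.UGT.Res.EFacts Cfsg.Agent.UGT.FourA.Hon
open Cfsg.Agent.UGT.ThE.Base (IsS)

namespace Cfsg.Agent.UGT.FourB

universe u

variable {G : Type u} [Group G] [Finite G]

/-- a `Rep` of `L` itself -/
theorem exists_cf (H : Pgl G) {x a : G} {L : Subgroup G} (T : IsTriple x a L) (hc : core L = ⊥) :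
    ∃ (F : Type) (_ : Field F) (_ : Finite F) (R : GH.L2Aut.Rep F ↥L), 5 ≤ Nat.card F ∧ Cf R x := by
  obtain ⟨F, i1, i2, h5, R, ho⟩ := H.exists_rep T
  refine ⟨F, i1, i2, tr R (barEquiv hc), h5, sq_of_order T.invx, T.x_mem, fun h => ?_⟩
  rw [← congr_act hc, (tr_o1_fld R (barEquiv hc) _).1]
  exact ho

/-- an involution of `L` commuting with `x` -/
theorem exists_isS {L : Subgroup G} {H : Subgroup G} (hL : IsComp H L) {x : G} (hxx : x * x = 1)
    (hx : x ∈ normalizer (L : Set G)) : ∃ s, IsS L x s := by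
  obtain ⟨w, hwL, hwo, hxw⟩ := StandardTools.exists_involution_commute
    (even_iff_two_dvd.mpr hL.even) hxx hx
  exact ⟨w, hwL, hxw.symm, sq_of_order hwo, ne_one_of_order hwo⟩

section

variable {x a : G} {L : Subgroup G} (Tr : IsTriple x a L)
  (hc : core (centralizer ({a} : Set G)) = ⊥)
  (star : ∀ k ∈ centralizer (L : Set G), k * a = a * k → k * x = x * k → k * k = 1 → k = 1 ∨ k = a)
include Tr hc star

/-- no second centerless component in `C(a)` -/
theorem no_comp {M : Subgroup G} (hM : IsComp (centralizer ({a} : Set G)) M) (hML : L ≠ M)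
    (hZ : ∀ z ∈ M, z ∈ centralizer (M : Set G) → z = 1) : False := by
  have hLa : ∀ l ∈ L, l * a = a * l := fun l hl => comm_c (Tr.comp.le hl)
  have haL : a ∈ centralizer (L : Set G) := mem_centralizer_iff.mpr hLa
  have hcore : ∀ {M : Subgroup G}, IsComp (centralizer ({a} : Set G)) M → core M = ⊥ := fun hM => by
    rw [eq_bot_iff, ← hc]
    exact hM.core_le_core
  have hcen : ∀ {M N : Subgroup G}, IsComp (centralizer ({a} : Set G)) M →
      IsComp (centralizer ({a} : Set G)) N → M ≠ N → ∀ y ∈ N, y ∈ centralizer (M : Set G) :=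
    fun hM hN hne y hy => (fixes_iff (hcore hM)).mp (hM.fixes_of_mem hN hne hy)
  have hxc : x ∈ centralizer ({a} : Set G) := mem_c Tr.comm.symm
  have hMC := hcen Tr.comp hM hML
  have hMa : ∀ m ∈ M, m * a = a * m := fun m hm => comm_c (hM.le hm)
  have haM : a ∈ centralizer (M : Set G) := mem_centralizer_iff.mpr hMa
  have ha1 : a ≠ 1 := ne_one_of_order Tr.inva
  have hxx := sq_of_order Tr.invx
  have hxi : x⁻¹ = x := inv_eq_of_mul_eq_one_left hxx
  by_cases hxM : x ∈ normalizer (M : Set G)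
  · obtain ⟨w, hw⟩ := exists_isS hM hxx hxM
    rcases star w (hMC w hw.mem) (hMa w hw.mem) hw.comm hw.sq with h | h
    · exact hw.ne h
    · apply ha1
      rw [← h]
      exact hZ w hw.mem (h ▸ haM)
  · obtain ⟨z, hzM, hzo⟩ : ∃ z ∈ M, orderOf z = 2 := by
      have h2 : Fact (Nat.Prime 2) := ⟨Nat.prime_two⟩
      obtain ⟨⟨z, hz⟩, hzo⟩ := exists_prime_orderOf_dvd_card' 2 hM.even
      rw [Subgroup.orderOf_mk] at hzo
      exact ⟨z, hz, hzo⟩
    have hzz := sq_of_order hzo
    have hz1 := ne_one_of_order hzo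
    obtain ⟨N, hNdef⟩ : ∃ N, N = IntrinsicBasic.cj x M := ⟨_, rfl⟩
    have hN : IsComp (centralizer ({a} : Set G)) N := hNdef ▸ isComp_cj_of_mem hM hxc
    have hNM : M ≠ N := fun h => hxM (mem_normalizer_iff_cj.mpr (by rw [← hNdef, ← h]))
    have hNL : L ≠ N := by
      intro h
      apply hML
      have h1 : IntrinsicBasic.cj x⁻¹ N = M := by rw [hNdef, cj_inv_cj]
      rw [← h, hxi, mem_normalizer_iff_cj.mp Tr.x_mem] at h1
      exact h1
    have hzN : x * z * x⁻¹ ∈ N := by rw [hNdef]; exact conj_mem_cj hzM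
    obtain ⟨z', hz'⟩ : ∃ z', z' = x * z * x⁻¹ := ⟨_, rfl⟩
    rw [← hz'] at hzN
    have hz'C := hcen hM hN hNM z' hzN
    have hzz' : z * z' = z' * z := mem_centralizer_iff.mp hz'C z hzM
    have hz'z' : z' * z' = 1 := by
      rw [hz']
      calc x * z * x⁻¹ * (x * z * x⁻¹) = x * (z * z) * x⁻¹ := by group
        _ = 1 := by rw [hzz]; group
    have e1 : x * z' * x⁻¹ = z := by
      rw [hz', hxi]
      calc x * (x * z * x) * x = (x * x) * z * (x * x) := by group
        _ = z := by rw [hxx]; group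
    have h1 : z * z' * x = x * (z * z') := by
      have h2 : x * (z * z') * x⁻¹ = z * z' := by
        calc x * (z * z') * x⁻¹ = (x * z * x⁻¹) * (x * z' * x⁻¹) := by group
          _ = z * z' := by rw [e1, ← hz', hzz']
      calc z * z' * x = x * (z * z') * x⁻¹ * x := by rw [h2]
        _ = x * (z * z') := by group
    have h2 : z * z' * (z * z') = 1 := by
      calc z * z' * (z * z') = z * (z' * z) * z' := by group
        _ = z * (z * z') * z' := by rw [hzz']
        _ = (z * z) * (z' * z') := by group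
        _ = 1 := by rw [hzz, hz'z', one_mul]
    have hNa : z' * a = a * z' := comm_c (hN.le hzN)
    have h3 : z * z' * a = a * (z * z') := by
      rw [mul_assoc, hNa, ← mul_assoc, hMa z hzM, mul_assoc]
    rcases star (z * z') (mul_mem (hMC z hzM) (hcen Tr.comp hN hNL z' hzN)) h3 h1 h2 with h | h
    · apply hz1
      apply hZ z hzM
      rw [mul_eq_one_iff_eq_inv.mp h]
      exact inv_mem hz'C
    · apply hz1
      apply hZ z hzM
      have h4 : z = a * z'⁻¹ := by rw [← h]; group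
      rw [h4]
      exact mul_mem haM (inv_mem hz'C)

/-- `L` is the only component of a triple `(x, a, ·)` -/
theorem uniq (H : Pgl G) {M : Subgroup G} (Tr' : IsTriple x a M) : L = M := by
  by_contra hne
  have hcM : core M = ⊥ := by
    rw [eq_bot_iff, ← hc]
    exact Tr'.comp.core_le_core
  obtain ⟨F, _, _, R, -, -⟩ := exists_cf H Tr' hcM
  exact no_comp Tr hc star Tr'.comp hne fun z hz h => eq_one_of_mem_centralizer R hz h

/-- **(6)** `L` is normal in `C(a)` -/
theorem norm_ca (H : Pgl G) : ∀ c : G, c * a = a * c → c ∈ normalizer (L : Set G) := by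
  intro c hca
  by_contra hcN
  have hcL : core L = ⊥ := by
    rw [eq_bot_iff, ← hc]
    exact Tr.comp.core_le_core
  obtain ⟨F, _, _, R, -, -⟩ := exists_cf H Tr hcL
  obtain ⟨M, hMdef⟩ : ∃ M, M = IntrinsicBasic.cj c L := ⟨_, rfl⟩
  have hM : IsComp (centralizer ({a} : Set G)) M := hMdef ▸ isComp_cj_of_mem Tr.comp (mem_c hca)
  refine no_comp Tr hc star hM (fun h => hcN (mem_normalizer_iff_cj.mpr (by rw [← hMdef, ← h]))) ?_
  intro z hz hzC
  rw [hMdef] at hz
  obtain ⟨l, hl, rfl⟩ := hz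
  have h1 : l ∈ centralizer (L : Set G) := by
    rw [mem_centralizer_iff] at hzC ⊢
    intro y hy
    have h2 := hzC (c * y * c⁻¹) (by rw [hMdef]; exact conj_mem_cj hy)
    have h3 : (MulAut.conj c).toMonoidHom l = c * l * c⁻¹ := rfl
    rw [h3] at h2
    have h4 : c * (y * l) * c⁻¹ = c * (l * y) * c⁻¹ := by
      calc c * (y * l) * c⁻¹ = c * y * c⁻¹ * (c * l * c⁻¹) := by group
        _ = c * l * c⁻¹ * (c * y * c⁻¹) := h2
        _ = _ := by group
    exact mul_left_cancel (mul_right_cancel h4)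
  rw [eq_one_of_mem_centralizer R hl h1, map_one]

/-- `O(C(x)) ∩ C(a)` is faithful on `L` -/
theorem faithful (H : Pgl G) {d : G} (hd : d ∈ core (centralizer ({x} : Set G))) (hda : d * a = a * d)
    (hdL : d ∈ centralizer (L : Set G)) : d = 1 := by
  by_contra hd1
  have hcL : core L = ⊥ := by
    rw [eq_bot_iff, ← hc]
    exact Tr.comp.core_le_core
  obtain ⟨J, hJ, hf⟩ := exists_triple Tr.invx Tr.inva Tr.comm hd (mem_c hda) (by
    rw [hc, mem_bot]
    exact hd1)
  apply hf
  rw [← uniq Tr hc star H hJ, fixes_iff hcL]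
  exact hdL

end

/-- the data of the bad pair `(x, v)` -/
theorem cc_of (H : Pgl G) {x v σ : G} {L : Subgroup G} (Tr : IsTriple x v L)
    (hc : core (centralizer ({v} : Set G)) = ⊥)
    (star : ∀ k ∈ centralizer (L : Set G), k * v = v * k → k * x = x * k → k * k = 1 → k = 1 ∨ k = v)
    (hn : ∃ n ∈ centralizer (L : Set G), n * v = v * n ∧ n * x * n⁻¹ = x * v) (hs : IsS L x σ) :
    CC x v σ L := by
  have hcL : core L = ⊥ := by
    rw [eq_bot_iff, ← hc]
    exact Tr.comp.core_le_core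
  obtain ⟨F, _, _, R, h5, C⟩ := exists_cf H Tr hcL
  exact ⟨Half.of_cf C hs, Tor.of_cf C hs h5, fun l hl => comm_c (Tr.comp.le hl),
    norm_ca Tr hc star H, star, FourA.Facts.xs C hs, hn⟩

end Cfsg.Agent.UGT.FourB
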