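import Cfsg.Agent.UGT.Res.WFun

/-!
# The functor `v ↦ O(C(v))` on elementary abelian groups of order at least 16 (UGT, leaf (4b), section 2, (2.1))

`Bal G`: commuting involutions `u`, `v` contained in an elementary abelian 2-group of order at least 16 satisfy
`O(C(u)) ∩ C(v) ≤ O(C(v))`; the cores are solvable. `Wf F = ⟨O(C(v)) : v ∈ F#⟩`.

* `Wf_eq`: `Wf U = Wf F` for `U ≤ F`, `|U| ≥ 4`, `|F| ≥ 16`; `odd_Wf`; `Wf_inf : Wf F ∩ C(v) = O(C(v))`;
  `normalizer_le : N(U) ≤ N(Wf F)`; `le_of_odd`: `F`-invariant subgroups of odd order normalize `Wf F`.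
-/

set_option autoImplicit false
set_option linter.unusedSectionVars false

open Cfsg Subgroup
open Cfsg.Agent.SignalizersComponents Cfsg.Agent.Lib
open Cfsg.Agent.SignalizersComponents.IntrinsicBasic
open Cfsg.Agent.Intrinsic.Basic Cfsg.Agent.Intrinsic.Cen Cfsg.Agent.Intrinsic.Diag
open Cfsg.Agent.McLLyComp.Act
open Cfsg.Agent.UGT.Triple Cfsg.Agent.UGT.PumpGen Cfsg.Agent.UGT.TriBase
open Cfsg.Agent.UGT.Res.Base Cfsg.Agent.UGT.Res.CoreFree Cfsg.Agent.UGT.Res.WFun
open scoped commutatorElement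

namespace Cfsg.Agent.UGT.FourB.Core

/-- commuting involutions in an elementary abelian group of order at least 16 are balanced; solvable cores -/
structure Bal (G : Type*) [Group G] : Prop where
  bal : ∀ F : Subgroup G, IsElementaryAbelian 2 F → 16 ≤ Nat.card ↥F → ∀ u ∈ F, u ≠ 1 → ∀ v ∈ F, v ≠ 1 →
    core (centralizer ({u} : Set G)) ⊓ centralizer ({v} : Set G) ≤ core (centralizer ({v} : Set G))
  solv : ∀ a : G, orderOf a = 2 → Group.IsSolvable ↥(core (centralizer ({a} : Set G)))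

variable {G : Type*} [Group G]

/-- `⟨O(C(v)) : v ∈ F#⟩` -/
def Wf (F : Subgroup G) : Subgroup G :=
  ⨆ v : {v : G // v ∈ F ∧ v ≠ 1}, core (centralizer ({(v : G)} : Set G))

theorem le_Wf {F : Subgroup G} {v : G} (hv : v ∈ F) (h1 : v ≠ 1) :
    core (centralizer ({v} : Set G)) ≤ Wf F :=
  le_iSup (fun v : {v : G // v ∈ F ∧ v ≠ 1} => core (centralizer ({(v : G)} : Set G))) ⟨v, hv, h1⟩

theorem Wf_le {F K : Subgroup G} (h : ∀ v ∈ F, v ≠ 1 → core (centralizer ({v} : Set G)) ≤ K) : Wf F ≤ K :=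
  iSup_le fun v => h v v.2.1 v.2.2

theorem Wf_mono {E F : Subgroup G} (h : E ≤ F) : Wf E ≤ Wf F :=
  Wf_le fun _ hv h1 => le_Wf (h hv) h1

variable [Finite G]

theorem core_le_delta {v : G} (h2 : v * v = 1) :
    core (centralizer ({v} : Set G)) ≤ signalizerDelta 2 (zpowers v) := by
  intro c hc
  refine mem_iInf.mpr ?_
  rintro ⟨e, he, he1⟩
  change c ∈ core (centralizer ({e} : Set G))
  rcases (mem_zpowers_of_sq h2).mp he with rfl | rfl
  · exact absurd rfl he1
  · exact hc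

theorem card_zpowers_eq {v : G} (h2 : v * v = 1) (h1 : v ≠ 1) : Nat.card ↥(zpowers v) = 2 := by
  rw [Nat.card_zpowers]
  exact orderOf_eq_prime (by rw [pow_two]; exact h2) h1

theorem WW_eq_Wf {F : Subgroup G} (hF : IsElementaryAbelian 2 F) :
    KFamily.WW (fun D => signalizerDelta 2 D) F (2 ^ 1) = Wf F := by
  have hp : Fact (Nat.Prime 2) := ⟨Nat.prime_two⟩
  apply le_antisymm
  · refine iSup_le ?_
    rintro ⟨D, hD, hc⟩
    have h1 : ∃ d ∈ D, d ≠ 1 := by
      by_contra hcon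
      push Not at hcon
      have h2 : D = ⊥ := by
        rw [eq_bot_iff]
        exact fun d hd => mem_bot.mpr (hcon d hd)
      rw [h2, card_bot] at hc
      norm_num at hc
    obtain ⟨d, hd, hd1⟩ := h1
    exact (S1299.delta_le 2 hd hd1).trans (le_Wf (hD hd) hd1)
  · refine Wf_le fun v hv h1 => ?_
    have h2 := sq_of_el hF hv
    refine (core_le_delta h2).trans ?_
    exact KFamily.le_WW (X := fun D => signalizerDelta 2 D) ((zpowers_le).mpr hv) (by
      rw [card_zpowers_eq h2 h1]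
      norm_num)

theorem fam (T : Bal G) {F : Subgroup G} (hF : IsElementaryAbelian 2 F) (h16 : 16 ≤ Nat.card ↥F) :
    KFamily.Fam 2 1 F (centralizerPPrimeCore 2) (fun D => signalizerDelta 2 D) := by
  have hp : Fact (Nat.Prime 2) := ⟨Nat.prime_two⟩
  refine KFamily.ofDelta (by norm_num) hF (by norm_num; omega)
    (fun a ha h1 => T.solv a (order_of_el hF ha h1)) fun D hD hc e he he1 => ?_
  have h1 : ∃ d ∈ D, d ≠ 1 := by
    by_contra hcon
    push Not at hcon
    have h2 : D = ⊥ := by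
      rw [eq_bot_iff]
      exact fun d hd => mem_bot.mpr (hcon d hd)
    rw [h2, card_bot] at hc
    norm_num at hc
  obtain ⟨d, hd, hd1⟩ := h1
  exact (inf_le_inf_right _ (S1299.delta_le 2 hd hd1)).trans (T.bal F hF h16 d (hD hd) hd1 e he he1)

/-- `W_U = W_F` -/
theorem Wf_eq (T : Bal G) {F U : Subgroup G} (hF : IsElementaryAbelian 2 F) (h16 : 16 ≤ Nat.card ↥F)
    (hU : U ≤ F) (h4 : 4 ≤ Nat.card ↥U) : Wf U = Wf F := by
  have hp : Fact (Nat.Prime 2) := ⟨Nat.prime_two⟩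
  rw [← WW_eq_Wf hF, ← WW_eq_Wf (el_mono hF hU)]
  exact (fam T hF h16).WW_eq hU (by norm_num; exact h4)

/-- `W_F` has odd order -/
theorem odd_Wf (T : Bal G) {F : Subgroup G} (hF : IsElementaryAbelian 2 F) (h16 : 16 ≤ Nat.card ↥F) :
    Odd (Nat.card ↥(Wf F)) := by
  have h1 := (fam T hF h16).odd
  rw [WW_eq_Wf hF] at h1
  rwa [← even_iff_two_dvd, Nat.not_even_iff_odd] at h1

/-- `C_W(v) = O(C(v))` -/
theorem Wf_inf (T : Bal G) {F : Subgroup G} (hF : IsElementaryAbelian 2 F) (h16 : 16 ≤ Nat.card ↥F) {v : G}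
    (hv : v ∈ F) (h1 : v ≠ 1) : Wf F ⊓ centralizer ({v} : Set G) = core (centralizer ({v} : Set G)) := by
  apply le_antisymm
  · have h2 := (fam T hF h16).inf_singleton_le hv h1
    rw [WW_eq_Wf hF] at h2
    exact h2
  · exact le_inf (le_Wf hv h1) (Cfsg.Agent.Intrinsic.Basic.core_le _)

theorem cj_Wf (g : G) (E : Subgroup G) : cj g (Wf E) = Wf (cj g E) := by
  have hp : Fact (Nat.Prime 2) := ⟨Nat.prime_two⟩
  have key : ∀ (g : G) (E : Subgroup G), cj g (Wf E) ≤ Wf (cj g E) := by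
    intro g E z hz
    rw [mem_cj] at hz
    have h2 : Wf E ≤ cj g⁻¹ (Wf (cj g E)) := by
      refine Wf_le fun v hv hv1 => ?_
      have h3 : g * v * g⁻¹ ∈ cj g E := by
        rw [mem_cj]
        have h4 : g⁻¹ * (g * v * g⁻¹) * g = v := by group
        rwa [h4]
      have h5 : g * v * g⁻¹ ≠ 1 := fun h => hv1 (by
        have h6 : v = g⁻¹ * (g * v * g⁻¹) * g := by group
        rw [h6, h]
        group)
      have h6 : core (centralizer ({v} : Set G)) = cj g⁻¹ (core (centralizer ({g * v * g⁻¹} : Set G))) := by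
        have h7 : g⁻¹ * (g * v * g⁻¹) * g⁻¹⁻¹ = v := by group
        have h8 := Dichotomy.CoreTools.core_conj 2 (g * v * g⁻¹) g⁻¹
        rw [h7] at h8
        exact h8
      rw [h6]
      exact cj_mono (le_Wf h3 h5)
    have h3 := h2 hz
    rw [mem_cj] at h3
    have h4 : g⁻¹⁻¹ * (g⁻¹ * z * g) * g⁻¹ = z := by group
    rwa [h4] at h3
  refine le_antisymm (key g E) ?_
  have h1 := cj_mono (g := g) (key g⁻¹ (cj g E))
  rwa [cj_inv_cj, cj_cj_inv] at h1

theorem mem_normalizer_Wf {E : Subgroup G} {g : G} (h : Wf (cj g E) = Wf E) :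
    g ∈ normalizer (Wf E : Set G) := by
  rw [mem_normalizer_iff_cj, cj_Wf, h]

/-- `N(U) ≤ N(W_F)` -/
theorem normalizer_le (T : Bal G) {F U : Subgroup G} (hF : IsElementaryAbelian 2 F)
    (h16 : 16 ≤ Nat.card ↥F) (hU : U ≤ F) (h4 : 4 ≤ Nat.card ↥U) :
    normalizer (U : Set G) ≤ normalizer (Wf F : Set G) := by
  intro g hg
  rw [← Wf_eq T hF h16 hU h4]
  exact mem_normalizer_Wf (by rw [mem_normalizer_iff_cj.mp hg])

/-- `C(U) ≤ N(W_F)` -/
theorem centralizer_le (T : Bal G) {F U : Subgroup G} (hF : IsElementaryAbelian 2 F)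
    (h16 : 16 ≤ Nat.card ↥F) (hU : U ≤ F) (h4 : 4 ≤ Nat.card ↥U) :
    centralizer (U : Set G) ≤ normalizer (Wf F : Set G) :=
  (centralizer_le_normalizer' U).trans (normalizer_le T hF h16 hU h4)

/-- an `F`-invariant subgroup of odd order lies in `N(W_F)` -/
theorem le_of_odd (T : Bal G) {F N : Subgroup G} (hF : IsElementaryAbelian 2 F)
    (h16 : 16 ≤ Nat.card ↥F) (hN : Odd (Nat.card ↥N)) (hn : F ≤ normalizer (N : Set G)) :
    N ≤ normalizer (Wf F : Set G) := by
  have hp : Fact (Nat.Prime 2) := ⟨Nat.prime_two⟩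
  have hF1 : F ≠ ⊥ := by
    rintro rfl
    rw [card_bot] at h16
    omega
  have hN2 : ¬ 2 ∣ Nat.card ↥N := by
    rwa [← even_iff_two_dvd, Nat.not_even_iff_odd]
  rw [← Lib.CoprimeHyperplane.iSup_centralizer_hyperplane hF hF1 hN2 hn]
  refine iSup_le fun B => inf_le_right.trans ?_
  have h8 : 4 ≤ Nat.card ↥B.1 := by
    have := relIndex_mul_relIndex ⊥ B.1 F bot_le B.2.1
    rw [relIndex_bot_left, relIndex_bot_left, B.2.2] at this
    omega
  exact centralizer_le T hF h16 B.2.1 h8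

/-- `N ≤ ⟨C_N(u) : u ∈ U#⟩` for `U` a four-group acting on the group `N` of odd order -/
theorem le_of_four {U N K : Subgroup G} (hU : IsElementaryAbelian 2 U) (h4 : 4 ≤ Nat.card ↥U)
    (hN : Odd (Nat.card ↥N)) (hn : U ≤ normalizer (N : Set G))
    (h : ∀ u ∈ U, u ≠ 1 → N ⊓ centralizer ({u} : Set G) ≤ K) : N ≤ K := by
  have hp : Fact (Nat.Prime 2) := ⟨Nat.prime_two⟩
  have hN2 : ¬ 2 ∣ Nat.card ↥N := by
    rwa [← even_iff_two_dvd, Nat.not_even_iff_odd]
  refine (CoprimeGen.le_iSup_centralizer_ne_one hU (by norm_num; exact h4) hN2 hn).trans (iSup_le ?_)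
  rintro ⟨a, ha, ha1⟩
  exact h a ha ha1

end Cfsg.Agent.UGT.FourB.Core
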