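import Cfsg.Agent.UGT.FourB.Trans
import Mathlib.GroupTheory.Focal

/-!
# A strongly closed subgroup of index 2

`S` a Sylow 2-subgroup, `T = C_S(a)` of index 2, `S - T` interchanges two commuting subgroups `P`, `J` of `T`,
`D ∋ a` a class of involutions with `D ∩ S ⊆ P ∪ J`: `T` is strongly closed in `S`.
-/

set_option autoImplicit false

namespace Cfsg.Agent.UGT.FourB.Ctl

open Subgroup Cfsg.Agent.Lib.EssDefs Cfsg.Agent.Lib.GoldschmidtFusion Cfsg.Agent.Lib.EssBridge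
  Cfsg.Agent.UGT.FourB.Trans

universe u

variable {G : Type u} [Group G]

/-- The data. `T = C_S(a)`. -/
structure Sw (S P J : Subgroup G) (D : Set G) (a z : G) : Prop where
  aS : a ∈ S
  aD : a ∈ D
  aa : a * a = 1
  zS : z ∈ S
  zc : ∀ s ∈ S, z * s = s * z
  zz : z * z = 1
  sw : ∀ s ∈ S, s * a * s⁻¹ = a ∨ s * a * s⁻¹ = a * z
  conj : ∀ d ∈ D, ∀ g : G, g * d * g⁻¹ ∈ D
  sub : ∀ d ∈ D, d ∈ S → d ∈ P ∨ d ∈ J
  disj : ∀ d ∈ D, d ∈ P → d ∉ J
  nP : ∀ t ∈ S, t * a = a * t → ∀ d ∈ P, t * d * t⁻¹ ∈ P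
  nJ : ∀ t ∈ S, t * a = a * t → ∀ d ∈ J, t * d * t⁻¹ ∈ J
  wP : ∀ u ∈ S, u * a ≠ a * u → ∀ d ∈ P, u * d * u⁻¹ ∈ J
  wJ : ∀ u ∈ S, u * a ≠ a * u → ∀ d ∈ J, u * d * u⁻¹ ∈ P
  com : ∀ d ∈ P, ∀ e ∈ J, d * e = e * d
  mix : ∀ d ∈ D, d ∈ P → ∀ e ∈ D, e ∈ J → d * e ∉ D
  inP : ∀ d ∈ D, d ∈ P → ∀ e ∈ D, e ∈ P → d * e = e * d → d ≠ e → d * e ∈ D
  inJ : ∀ d ∈ D, d ∈ J → ∀ e ∈ D, e ∈ J → d * e = e * d → d ≠ e → d * e ∈ D
  zC : ∀ y ∈ S, y * a ≠ a * y → y * y = 1 → z ∈ ⁅S ⊓ centralizer {y}, S ⊓ centralizer {y}⁆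

/-- the relation "in different parts" -/
def Rel (D : Set G) (d e : G) : Prop := d * e = e * d ∧ d ≠ e ∧ d * e ∉ D

theorem Rel.conj {D : Set G} (hD : ∀ d ∈ D, ∀ g : G, g * d * g⁻¹ ∈ D) {d e : G} (h : Rel D d e) (g : G) :
    Rel D (g * d * g⁻¹) (g * e * g⁻¹) := by
  obtain ⟨h1, h2, h3⟩ := h
  have e1 : ∀ x y : G, g * x * g⁻¹ * (g * y * g⁻¹) = g * (x * y) * g⁻¹ := fun x y => by group
  refine ⟨by rw [e1, e1, h1], fun h4 => h2 ?_, fun h4 => h3 ?_⟩
  · have h5 := congrArg (fun t => g⁻¹ * t * g) h4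
    simpa [mul_assoc] using h5
  · rw [e1] at h4
    have h5 := hD _ h4 g⁻¹
    simpa [mul_assoc] using h5

namespace Sw

variable {S P J : Subgroup G} {D : Set G} {a z : G}

theorem comm_iff {s : G} : s * a * s⁻¹ = a ↔ s * a = a * s := by
  constructor
  · intro h
    calc s * a = s * a * s⁻¹ * s := by group
      _ = a * s := by rw [h]
  · intro h
    rw [h]; group

/-- the elements of `S` commuting with `a` form a subgroup of index at most 2 -/
theorem mul_comm_of (h : Sw S P J D a z) {s t : G} (hs : s ∈ S) (ht : t ∈ S) (h1 : s * a ≠ a * s)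
    (h2 : t * a ≠ a * t) : s * t * a = a * (s * t) := by
  have e1 : s * a * s⁻¹ = a * z := (h.sw s hs).resolve_left fun hh => h1 (comm_iff.1 hh)
  have e2 : t * a * t⁻¹ = a * z := (h.sw t ht).resolve_left fun hh => h2 (comm_iff.1 hh)
  rw [← comm_iff]
  calc s * t * a * (s * t)⁻¹ = s * (t * a * t⁻¹) * s⁻¹ := by group
    _ = s * a * z * s⁻¹ := by rw [e2]; group
    _ = s * a * (z * s⁻¹) := by group
    _ = s * a * (s⁻¹ * z) := by rw [h.zc _ (inv_mem hs)]
    _ = (s * a * s⁻¹) * z := by group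
    _ = a * (z * z) := by rw [e1]; group
    _ = a := by rw [h.zz, mul_one]

/-- Elements of `S - T` interchange the parts; elements of `T` do not. -/
theorem rel_of_not (h : Sw S P J D a z) {y d : G} (hy : y ∈ S) (hya : y * a ≠ a * y) (hd : d ∈ D) (hdS : d ∈ S) :
    Rel D d (y * d * y⁻¹) := by
  have hd' := h.conj d hd y
  rcases h.sub d hd hdS with h1 | h1
  · have h2 := h.wP y hy hya d h1
    refine ⟨h.com _ h1 _ h2, fun h3 => h.disj d hd h1 (h3 ▸ h2), h.mix _ hd h1 _ hd' h2⟩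
  · have h2 := h.wJ y hy hya d h1
    refine ⟨(h.com _ h2 _ h1).symm, fun h3 => h.disj d hd (h3 ▸ h2) h1, fun h3 => ?_⟩
    rw [← h.com _ h2 _ h1] at h3
    exact h.mix _ hd' h2 _ hd h1 h3

theorem not_rel_of (h : Sw S P J D a z) {t d : G} (ht : t ∈ S) (hta : t * a = a * t) (hd : d ∈ D) (hdS : d ∈ S) :
    ¬ Rel D d (t * d * t⁻¹) := by
  rintro ⟨h1, h2, h3⟩
  have hd' := h.conj d hd t
  rcases h.sub d hd hdS with h4 | h4
  · exact h3 (h.inP _ hd h4 _ hd' (h.nP t ht hta d h4) h1 h2)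
  · exact h3 (h.inJ _ hd h4 _ hd' (h.nJ t ht hta d h4) h1 h2)

/-- Case A: `X` contains an element of `D`. -/
theorem inv_of_mem (h : Sw S P J D a z) {X : Subgroup G} (hX : X ≤ S) {d : G} (hd : d ∈ D) (hdX : d ∈ X) {n : G}
    (hn : n ∈ normalizer (X : Set G)) {x : G} (hx : x ∈ X) (hxa : x * a = a * x) :
    n * x * n⁻¹ * a = a * (n * x * n⁻¹) := by
  by_contra hcon
  have hnx : n * x * n⁻¹ ∈ X := (mem_normalizer_iff.1 hn x).1 hx
  have hnd : n * d * n⁻¹ ∈ X := (mem_normalizer_iff.1 hn d).1 hdX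
  have h1 := h.rel_of_not (hX hnx) hcon (h.conj d hd n) (hX hnd)
  have h2 := h1.conj h.conj n⁻¹
  have e1 : n⁻¹ * (n * d * n⁻¹) * n⁻¹⁻¹ = d := by group
  have e2 : n⁻¹ * (n * x * n⁻¹ * (n * d * n⁻¹) * (n * x * n⁻¹)⁻¹) * n⁻¹⁻¹ = x * d * x⁻¹ := by group
  rw [e1, e2] at h2
  exact h.not_rel_of (hX hx) hxa hd (hX hdX) h2

/-- `a` acts as a transvection on every subgroup `X ∋ z` of `S`. -/
theorem tr (h : Sw S P J D a z) {X : Subgroup G} (hX : X ≤ S) (hz : z ∈ X) : Tr X a z := by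
  have hact : ∀ x ∈ X, a * x * a⁻¹ = x ∨ a * x * a⁻¹ = z * x := by
    intro x hx
    rcases h.sw x (hX hx) with h1 | h1
    · left
      rw [comm_iff] at h1
      rw [← h1]; group
    · right
      have e1 : x * a = a * z * x := by
        calc x * a = x * a * x⁻¹ * x := by group
          _ = a * z * x := by rw [h1]
      have e2 : a⁻¹ * x * a = z * x := by
        calc a⁻¹ * x * a = a⁻¹ * (x * a) := by group
          _ = z * x := by rw [e1]; group
      have ea : a⁻¹ = a := by rw [inv_eq_iff_mul_eq_one]; exact h.aa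
      rw [ea] at e2 ⊢
      exact e2
  have hmem : ∀ x ∈ X, a * x * a⁻¹ ∈ X := by
    intro x hx
    rcases hact x hx with h1 | h1
    · rw [h1]; exact hx
    · rw [h1]; exact mul_mem hz hx
  refine ⟨?_, hz, h.zz, fun x hx => h.zc x (hX hx), (h.zc a h.aS).symm, hact⟩
  rw [mem_normalizer_iff]
  intro x
  refine ⟨hmem x, fun hx => ?_⟩
  have h1 := hmem _ hx
  have e : a * (a * x * a⁻¹) * a⁻¹ = (a * a) * x * (a * a)⁻¹ := by group
  rw [e, h.aa, one_mul, inv_one, mul_one] at h1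
  exact h1

theorem comm_le (h : Sw S P J D a z) {t : G} (ht : t ∈ ⁅S, S⁆) : t * a = a * t := by
  have h1 : ⁅S, S⁆ ≤ S ⊓ centralizer {a} := by
    rw [commutator_le]
    intro s hs t ht
    refine mem_inf.2 ⟨?_, ?_⟩
    · rw [commutatorElement_def]
      exact mul_mem (mul_mem (mul_mem hs ht) (inv_mem hs)) (inv_mem ht)
    · rw [mem_centralizer_singleton_iff]
      -- both orders agree
      by_cases h1 : s * a = a * s <;> by_cases h2 : t * a = a * t
      · have c1 : Commute s a := h1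
        have c2 : Commute t a := h2
        rw [commutatorElement_def]
        exact ((((c1.mul_left c2).mul_left c1.inv_left).mul_left c2.inv_left))
      · have c1 : Commute s a := h1
        have h3 : (t * s⁻¹) * a ≠ a * (t * s⁻¹) := by
          intro hh
          apply h2
          have c3 : Commute (t * s⁻¹) a := hh
          have c4 := c3.mul_left c1
          have e : t * s⁻¹ * s = t := by group
          rw [e] at c4
          exact c4
        have h4 : t⁻¹ * a ≠ a * t⁻¹ := fun hh => h2 (by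
          have c : Commute t⁻¹ a := hh
          exact (Commute.inv_left_iff.1 c))
        have h5 := h.mul_comm_of (mul_mem ht (inv_mem hs)) (inv_mem ht) h3 h4
        have c5 : Commute (t * s⁻¹ * t⁻¹) a := h5
        have e : s * t * s⁻¹ * t⁻¹ = s * (t * s⁻¹ * t⁻¹) := by group
        rw [commutatorElement_def, e]
        exact c1.mul_left c5
      · have c2 : Commute t a := h2
        have h3 : s * t * a ≠ a * (s * t) := by
          intro hh
          apply h1
          have c3 : Commute (s * t) a := hh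
          have c4 := c3.mul_left c2.inv_left
          have e : s * t * t⁻¹ = s := by group
          rw [e] at c4
          exact c4
        have h4 : s⁻¹ * a ≠ a * s⁻¹ := fun hh => h1 (by
          have c : Commute s⁻¹ a := hh
          exact (Commute.inv_left_iff.1 c))
        have h5 := h.mul_comm_of (mul_mem hs ht) (inv_mem hs) h3 h4
        have c5 : Commute (s * t * s⁻¹) a := h5
        rw [commutatorElement_def]
        exact c5.mul_left c2.inv_left
      · have h3 := h.mul_comm_of hs ht h1 h2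
        have h4 : s⁻¹ * a ≠ a * s⁻¹ := fun hh => h1 (by
          have c : Commute s⁻¹ a := hh
          exact (Commute.inv_left_iff.1 c))
        have h5 : t⁻¹ * a ≠ a * t⁻¹ := fun hh => h2 (by
          have c : Commute t⁻¹ a := hh
          exact (Commute.inv_left_iff.1 c))
        have h6 := h.mul_comm_of (inv_mem hs) (inv_mem ht) h4 h5
        have c3 : Commute (s * t) a := h3
        have c6 : Commute (s⁻¹ * t⁻¹) a := h6
        have e : s * t * s⁻¹ * t⁻¹ = s * t * (s⁻¹ * t⁻¹) := by group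
        rw [commutatorElement_def, e]
        exact c3.mul_left c6
  exact mem_centralizer_singleton_iff.1 (h1 ht).2


/-- a fixed point modulo `X` -/
theorem exists_fixed [Finite G] {P0 X C : Subgroup G} (hP : IsPGroup 2 P0) (hXC : X ≤ C) (hCP : C ≤ P0) (hne : ¬ C ≤ X)
    (haa : a * a = 1) (haX : a ∈ normalizer (X : Set G)) (haC : ∀ c ∈ C, a * c * a⁻¹ ∈ C) :
    ∃ y ∈ C, y ∈ normalizer (X : Set G) ∧ y ∉ X ∧ y * y ∈ X ∧ y * a * y⁻¹ * a⁻¹ ∈ X := by
  have : Fact (Nat.Prime 2) := ⟨Nat.prime_two⟩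
  have hXn : ∀ g ∈ normalizer (X : Set G), ∀ x ∈ X, g * x * g⁻¹ ∈ X := fun g hg x hx => (mem_normalizer_iff.1 hg x).1 hx
  set Y := C ⊓ normalizer (X : Set G) with hY
  have hXY : X ≤ Y := le_inf hXC le_normalizer
  have hYX : ¬ Y ≤ X := fun hh => hne (Hex.SE.eq_of_inf_normalizer_le hP hXC hCP hh).le
  have hN : (X.subgroupOf Y).Normal := (normal_subgroupOf_iff_le_normalizer hXY).2 inf_le_right
  have hpg : IsPGroup 2 (↥Y ⧸ X.subgroupOf Y) := (hP.to_le (inf_le_left.trans hCP)).to_quotient _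
  have hnt : Nontrivial (↥Y ⧸ X.subgroupOf Y) := by
    obtain ⟨y, hy, hyX⟩ := SetLike.not_le_iff_exists.1 hYX
    refine ⟨⟨QuotientGroup.mk ⟨y, hy⟩, 1, fun hh => hyX ?_⟩⟩
    rw [QuotientGroup.eq_one_iff, mem_subgroupOf] at hh
    exact hh
  have hc : Nontrivial (center (↥Y ⧸ X.subgroupOf Y)) := hpg.center_nontrivial
  have hcp : IsPGroup 2 (center (↥Y ⧸ X.subgroupOf Y)) := hpg.to_subgroup _
  obtain ⟨⟨q, hq⟩, hq2⟩ : ∃ q : center (↥Y ⧸ X.subgroupOf Y), orderOf q = 2 := by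
    refine exists_prime_orderOf_dvd_card' 2 ?_
    obtain ⟨n, hn⟩ := hcp.exists_card_eq
    rcases Nat.eq_zero_or_pos n with h0 | h0
    · rw [h0, pow_zero, Nat.card_eq_one_iff_unique] at hn
      exact absurd hn.1 (not_subsingleton_iff_nontrivial.2 hc)
    · rw [hn]; exact dvd_pow_self 2 (by omega)
  obtain ⟨⟨v, hvY⟩, rfl⟩ := QuotientGroup.mk_surjective q
  have hv2 : v * v ∈ X := by
    have h1 := pow_orderOf_eq_one (⟨QuotientGroup.mk ⟨v, hvY⟩, hq⟩ : center (↥Y ⧸ X.subgroupOf Y))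
    rw [hq2, Subtype.ext_iff] at h1
    have h2 : (QuotientGroup.mk (⟨v, hvY⟩ ^ 2) : ↥Y ⧸ X.subgroupOf Y) = 1 := h1
    rw [QuotientGroup.eq_one_iff, mem_subgroupOf] at h2
    have h3 : v ^ 2 ∈ X := h2
    rwa [pow_two] at h3
  have hvX : v ∉ X := by
    intro hh
    have h1 : (⟨QuotientGroup.mk ⟨v, hvY⟩, hq⟩ : center (↥Y ⧸ X.subgroupOf Y)) = 1 := by
      apply Subtype.ext
      change (QuotientGroup.mk ⟨v, hvY⟩ : ↥Y ⧸ X.subgroupOf Y) = 1
      rw [QuotientGroup.eq_one_iff, mem_subgroupOf]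
      exact hh
    rw [h1, orderOf_one] at hq2
    exact absurd hq2 (by norm_num)
  have hvc : ∀ w ∈ Y, w⁻¹ * v⁻¹ * w * v ∈ X := by
    intro w hw
    have h1 := (mem_center_iff.1 hq) (QuotientGroup.mk ⟨w, hw⟩)
    have h2 : (QuotientGroup.mk ((⟨v, hvY⟩ * ⟨w, hw⟩)⁻¹ * (⟨w, hw⟩ * ⟨v, hvY⟩)) : ↥Y ⧸ X.subgroupOf Y) = 1 := by
      rw [QuotientGroup.mk_mul, QuotientGroup.mk_inv, QuotientGroup.mk_mul, QuotientGroup.mk_mul, h1, inv_mul_cancel]
    rw [QuotientGroup.eq_one_iff, mem_subgroupOf] at h2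
    have h3 : (v * w)⁻¹ * (w * v) ∈ X := h2
    have e : w⁻¹ * v⁻¹ * w * v = (v * w)⁻¹ * (w * v) := by group
    rw [e]; exact h3
  have hvC : v ∈ C := hvY.1
  have hvN : v ∈ normalizer (X : Set G) := hvY.2
  have ea : a⁻¹ = a := by rw [inv_eq_iff_mul_eq_one]; exact haa
  by_cases hva : v * a * v⁻¹ * a⁻¹ ∈ X
  · exact ⟨v, hvC, hvN, hvX, hv2, hva⟩
  · set w := a * v * a⁻¹ with hw
    have hwC : w ∈ C := haC v hvC
    have hwN : w ∈ normalizer (X : Set G) := mul_mem (mul_mem haX hvN) (inv_mem haX)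
    have hw2 : w * w ∈ X := by
      have e : w * w = a * (v * v) * a⁻¹ := by rw [hw]; group
      rw [e]; exact hXn a haX _ hv2
    have hcm : w⁻¹ * v⁻¹ * w * v ∈ X := hvc w ⟨hwC, hwN⟩
    have hav : a * w * a⁻¹ = v := by
      have e : a * w * a⁻¹ = (a * a) * v * (a * a)⁻¹ := by rw [hw]; group
      rw [e, haa]; group
    have hvwN : v * w ∈ normalizer (X : Set G) := mul_mem hvN hwN
    refine ⟨v * w, mul_mem hvC hwC, hvwN, fun hh => hva ?_, ?_, ?_⟩
    · have e : v * a * v⁻¹ * a⁻¹ = (v * w) * (w * w)⁻¹ := by rw [hw]; group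
      rw [e]
      exact mul_mem hh (inv_mem hw2)
    · have e : v * w * (v * w) = (v * v) * (w * w) * (w⁻¹ * (w⁻¹ * v⁻¹ * w * v) * w⁻¹⁻¹) := by group
      rw [e]
      exact mul_mem (mul_mem hv2 hw2) (hXn _ (inv_mem hwN) _ hcm)
    · have e : v * w * a * (v * w)⁻¹ * a⁻¹ = v * w * (a * (v * w) * a⁻¹)⁻¹ := by group
      have e2 : a * (v * w) * a⁻¹ = w * v := by
        calc a * (v * w) * a⁻¹ = (a * v * a⁻¹) * (a * w * a⁻¹) := by group
          _ = w * v := by rw [hav]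
      have e3 : v * w * (w * v)⁻¹ = (v * w) * (w⁻¹ * v⁻¹ * w * v)⁻¹ * (v * w)⁻¹ := by group
      rw [e, e2, e3]
      exact hXn _ hvwN _ (inv_mem hcm)

/-- Case B: an essential subgroup contains an element of `D`. -/
theorem exists_mem_D [Finite G] {P0 : Subgroup G} (hP : IsPGroup 2 P0) (h : Sw P0 P J D a z) {X : Subgroup G}
    (hE : Ess 2 P0 X) : ∃ d ∈ D, d ∈ X := by
  by_contra hcon
  push Not at hcon
  obtain ⟨H, hE⟩ := hE
  have hXP : X ≤ P0 := hE.lt.le
  have hzX : z ∈ X := by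
    apply hE.cent
    refine mem_inf.2 ⟨?_, h.zS⟩
    rw [mem_centralizer_iff]
    exact fun x hx => (h.zc x (hXP hx)).symm
  have haX : a ∉ X := hcon a h.aD
  have ht := h.tr hXP hzX
  obtain ⟨m, hm, hmH⟩ : ∃ m ∈ normalizer (X : Set G), m ∉ H := by
    by_contra hc
    push Not at hc
    exact hE.ne (le_antisymm hE.le hc)
  have hnc := not_comm hE ht h.aS haX ht h.aS haX hm hmH
  have ht' := ht.conj hm
  set z' := m * z * m⁻¹ with hz'
  have hz'X : z' ∈ X := ht'.dX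
  have hz'a : z' * a ≠ a * z' := fun hh => hnc hh.symm
  have hz2 : z' * z' = 1 := ht'.dd
  set C := P0 ⊓ centralizer {z'} with hC
  have hXC : X ≤ C := by
    intro x hx
    refine mem_inf.2 ⟨hXP hx, ?_⟩
    rw [mem_centralizer_singleton_iff]
    exact (ht'.dc x hx).symm
  have hzC := h.zC z' (hXP hz'X) hz'a hz2
  have hne : ¬ C ≤ X := by
    intro hCX
    have h1 : z ∈ ⁅X, X⁆ := commutator_mono hCX hCX hzC
    have h2 : z' ∈ ⁅X, X⁆ := by
      have e : (⁅X, X⁆ : Subgroup G).map (MulAut.conj m).toMonoidHom = ⁅X, X⁆ := by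
        rw [map_commutator, mem_normalizer_iff_map_conj.1 hm]
      rw [← e]
      exact ⟨z, h1, rfl⟩
    exact hz'a (h.comm_le (commutator_mono hXP hXP h2))
  -- `a` normalises `C`
  have haz : a * z' * a⁻¹ = z * z' := by
    rcases ht.act z' hz'X with h1 | h1
    · exact absurd (comm_iff.1 h1) (fun hh => hz'a hh.symm)
    · exact h1
  have haC : ∀ c ∈ C, a * c * a⁻¹ ∈ C := by
    intro c hc
    refine mem_inf.2 ⟨mul_mem (mul_mem h.aS hc.1) (inv_mem h.aS), ?_⟩
    have hcz : c * z' = z' * c := mem_centralizer_singleton_iff.1 hc.2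
    have e1 : c * (a * z' * a⁻¹) = a * z' * a⁻¹ * c := by
      rw [haz]
      calc c * (z * z') = (c * z) * z' := by group
        _ = z * (c * z') := by rw [← h.zc c hc.1]; group
        _ = z * z' * c := by rw [hcz]; group
    have haz' : a * z' * a⁻¹ = a⁻¹ * z' * a := by
      have ea : a⁻¹ = a := by rw [inv_eq_iff_mul_eq_one]; exact h.aa
      rw [ea]
    rw [haz'] at e1
    rw [mem_centralizer_singleton_iff]
    calc a * c * a⁻¹ * z' = a * (c * (a⁻¹ * z' * a)) * a⁻¹ := by group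
      _ = a * (a⁻¹ * z' * a * c) * a⁻¹ := by rw [e1]
      _ = z' * (a * c * a⁻¹) := by group
  obtain ⟨y, hyC, hyN, hyX, hyy, hya⟩ := exists_fixed hP hXC inf_le_left hne h.aa ht.nrm haC
  have hay : a * y ∉ X := by
    intro hh
    have h1 := hXC hh
    have h2 : a ∈ C := by
      have := mul_mem h1 (inv_mem hyC)
      simpa using this
    exact hz'a (mem_centralizer_singleton_iff.1 h2.2).symm
  exact no_four hE ht h.aS haX hyC.1 hyN hyX hyy hya hay (by rw [h.aa]; exact one_mem X)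

/-- **`C_S(a)` is strongly closed in `S`.** -/
theorem strongly_closed [Finite G] (P0 : Sylow 2 G) (h : Sw (P0 : Subgroup G) P J D a z) {x : G}
    (hx : x ∈ (P0 : Subgroup G)) (hxa : x * a = a * x) {g : G} (hg : g * x * g⁻¹ ∈ (P0 : Subgroup G)) :
    g * x * g⁻¹ * a = a * (g * x * g⁻¹) := by
  have : Fact (Nat.Prime 2) := ⟨Nat.prime_two⟩
  have hgen : Gen (P0 : Subgroup G) (fun X => X = P0 ∨ Ess 2 (P0 : Subgroup G) X) (zpowers x) g :=
    gen_of_conj P0 _ (Or.inl rfl) (fun X hX => Or.inr hX) (by rw [zpowers_le]; exact hx) (zpowers_map_conj_le hg)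
  have hP : IsPGroup 2 (P0 : Subgroup G) := P0.isPGroup'
  have key : ∀ X : Subgroup G, X ≤ P0 → (X = P0 ∨ Ess 2 (P0 : Subgroup G) X) → ∃ d ∈ D, d ∈ X := by
    rintro X hX (rfl | hE)
    · exact ⟨a, h.aD, h.aS⟩
    · exact h.exists_mem_D hP hE
  have h1 := hgen.invariant (fun y => y * a = a * y) (fun X hXP hX n hn y hy => by
    obtain ⟨d, hd, hdX⟩ := key X hXP hX
    apply propext
    constructor
    · intro h2
      have hny : n * y * n⁻¹ ∈ X := (mem_normalizer_iff.1 hn y).1 hy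
      have h3 := h.inv_of_mem hXP hd hdX (inv_mem hn) hny h2
      have e : n⁻¹ * (n * y * n⁻¹) * n⁻¹⁻¹ = y := by group
      rwa [e] at h3
    · exact h.inv_of_mem hXP hd hdX hn hy) x (mem_zpowers x)
  have h2 : (g * x * g⁻¹ * a = a * (g * x * g⁻¹)) = (x * a = a * x) := h1
  rw [h2]
  exact hxa

/-- `S ∩ G' ≤ T` -/
theorem comm_of_mem_commutator [Finite G] (P0 : Sylow 2 G) (h : Sw (P0 : Subgroup G) P J D a z) {x : G}
    (hx : x ∈ (P0 : Subgroup G)) (hxc : x ∈ _root_.commutator G) : x * a = a * x := by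
  have : Fact (Nat.Prime 2) := ⟨Nat.prime_two⟩
  have h1 : x ∈ (P0 : Subgroup G).focalSubgroup := by
    rw [← commutator_inf_eq_focalSubgroup (P := P0)]
    exact mem_inf.2 ⟨hxc, hx⟩
  have h2 : (P0 : Subgroup G).focalSubgroup ≤ (P0 : Subgroup G) ⊓ centralizer {a} := by
    rw [focalSubgroup_def, closure_le]
    rintro _ ⟨hxu, y, hy, u, rfl⟩
    rw [commutatorElement_def] at hxu ⊢
    refine ⟨hxu, ?_⟩
    have huy : u * y⁻¹ * u⁻¹ ∈ (P0 : Subgroup G) := by
      have := mul_mem (inv_mem hy) hxu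
      simpa [mul_assoc] using this
    have e : y * u * y⁻¹ * u⁻¹ = y * (u * y⁻¹ * u⁻¹) := by group
    change y * u * y⁻¹ * u⁻¹ ∈ centralizer {a}
    rw [mem_centralizer_singleton_iff, e]
    by_cases hya : y * a = a * y
    · have c1 : Commute y a := hya
      have c2 : Commute y⁻¹ a := c1.inv_left
      have c3 : Commute (u * y⁻¹ * u⁻¹) a := h.strongly_closed P0 (inv_mem hy) c2 huy
      exact c1.mul_left c3
    · have h3 : u * y⁻¹ * u⁻¹ * a ≠ a * (u * y⁻¹ * u⁻¹) := by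
        intro hh
        have h4 := h.strongly_closed P0 (g := u⁻¹) huy hh
          (by have e1 : u⁻¹ * (u * y⁻¹ * u⁻¹) * u⁻¹⁻¹ = y⁻¹ := by group
              rw [e1]; exact inv_mem hy)
        have e1 : u⁻¹ * (u * y⁻¹ * u⁻¹) * u⁻¹⁻¹ = y⁻¹ := by group
        rw [e1] at h4
        have c : Commute y⁻¹ a := h4
        exact hya (Commute.inv_left_iff.1 c)
      exact h.mul_comm_of hy huy hya h3
  exact mem_centralizer_singleton_iff.1 (h2 h1).2

/-- **The end.** -/
theorem false_of [Finite G] (P0 : Sylow 2 G) (h : Sw (P0 : Subgroup G) P J D a z) {X : Subgroup G}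
    (hX : X ≤ _root_.commutator G) {u : G} (hu : u ∈ (P0 : Subgroup G)) (hua : u * a ≠ a * u)
    (hi : u ∉ X → ∃ x ∈ (P0 : Subgroup G), x * a = a * x ∧ u * x ∈ X) : False := by
  by_cases huX : u ∈ X
  · exact hua (h.comm_of_mem_commutator P0 hu (hX huX))
  · obtain ⟨x, hx, hxa, hux⟩ := hi huX
    have h1 := h.comm_of_mem_commutator P0 (mul_mem hu hx) (hX hux)
    apply hua
    have c1 : Commute (u * x) a := h1
    have c2 : Commute x a := hxa
    have c3 := c1.mul_left c2.inv_left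
    have e : u * x * x⁻¹ = u := by group
    rw [e] at c3
    exact c3

end Sw

end Cfsg.Agent.UGT.FourB.Ctl
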