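import Cfsg.Agent.UGT.FourB.Prin

/-!
# (4b), section 6: the END

`a` fixes exactly one point of `G ⧸ M`, `M0 ≤ M` of index `≤ 2`, `C(a) ≤ M0 = C(a) K`; two sign characters
`lam`, `eps` of `M0` with the values `-1`, `1` at `x`. Transfer (PRIN) gives a contradiction.
-/

set_option autoImplicit false

namespace Cfsg.Agent.UGT.FourB.End

open Subgroup Cfsg.Agent.UGT.FourB.Prin

universe u v

variable {G : Type u} [Group G] {A : Type v} [CommGroup A]

/-- `ψ` is multiplicative on the subgroup `M`. -/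
def MulOn (M : Subgroup G) (ψ : G → A) : Prop := ∀ y ∈ M, ∀ z ∈ M, ψ (y * z) = ψ y * ψ z

namespace MulOn

variable {M M0 : Subgroup G} {ψ : G → A}

theorem one (h : MulOn M ψ) : ψ 1 = 1 := by
  have h1 := h 1 (one_mem _) 1 (one_mem _)
  rw [mul_one] at h1
  exact (mul_eq_left.mp h1.symm)

theorem mono (h : MulOn M ψ) (h0 : M0 ≤ M) : MulOn M0 ψ := fun y hy z hz => h y (h0 hy) z (h0 hz)

theorem inv (h : MulOn M ψ) {y : G} (hy : y ∈ M) : ψ y⁻¹ = (ψ y)⁻¹ := by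
  have h1 := h y hy y⁻¹ (inv_mem hy)
  rw [mul_inv_cancel, h.one] at h1
  exact (inv_eq_of_mul_eq_one_right h1.symm).symm

theorem pow (h : MulOn M ψ) {y : G} (hy : y ∈ M) (n : ℕ) : ψ (y ^ n) = ψ y ^ n := by
  induction n with
  | zero => rw [pow_zero, pow_zero, h.one]
  | succ n ih => rw [pow_succ, h _ (pow_mem hy n) _ hy, ih, pow_succ]

theorem conj (h : MulOn M ψ) {y z : G} (hy : y ∈ M) (hz : z ∈ M) : ψ (z * y * z⁻¹) = ψ y := by
  rw [h _ (mul_mem hz hy) _ (inv_mem hz), h _ hz _ hy, h.inv hz, mul_comm (ψ z), mul_inv_cancel_right]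

theorem mul {φ : G → A} (h : MulOn M ψ) (h' : MulOn M φ) : MulOn M (fun g => ψ g * φ g) := by
  intro y hy z hz
  change ψ (y * z) * φ (y * z) = _
  rw [h y hy z hz, h' y hy z hz]
  exact mul_mul_mul_comm _ _ _ _

/-- The homomorphism on `M`. -/
def hom (h : MulOn M ψ) : M →* A where
  toFun y := ψ y
  map_one' := h.one
  map_mul' y z := h y y.2 z z.2

theorem hom_apply (h : MulOn M ψ) {y : G} (hy : y ∈ M) : h.hom ⟨y, hy⟩ = ψ y := rfl

theorem ev_eq (h : MulOn M ψ) {x g : G} (hg : x⁻¹ * g * x ∈ M) : ev h.hom x g = ψ (x⁻¹ * g * x) := by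
  rw [ev_of_mem _ hg]
  rfl

end MulOn

/-- `M0 ≤ M` has index at most `2`. -/
structure Two (M M0 : Subgroup G) : Prop where
  le : M0 ≤ M
  mul : ∀ y ∈ M, ∀ z ∈ M, y ∉ M0 → z ∉ M0 → y * z ∈ M0

namespace Two

variable {M M0 : Subgroup G}

theorem conj_mem (h : Two M M0) {y z : G} (hy : y ∈ M0) (hz : z ∈ M) : z * y * z⁻¹ ∈ M0 := by
  by_cases hz0 : z ∈ M0
  · exact mul_mem (mul_mem hz0 hy) (inv_mem hz0)
  · apply h.mul _ (mul_mem hz (h.le hy)) _ (inv_mem hz)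
    · intro h1
      apply hz0
      have : z = z * y * y⁻¹ := by group
      rw [this]; exact mul_mem h1 (inv_mem hy)
    · intro h1
      exact hz0 (by simpa using inv_mem h1)

theorem conj_mem' (h : Two M M0) {y z : G} (hy : y ∈ M0) (hz : z ∈ M) : z⁻¹ * y * z ∈ M0 := by
  have := h.conj_mem hy (inv_mem hz)
  rwa [inv_inv] at this

theorem inv_mul_mem (h : Two M M0) {y z : G} (hy : y ∈ M) (hz : z ∈ M) (hy0 : y ∉ M0) (hz0 : z ∉ M0) :
    y⁻¹ * z ∈ M0 := by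
  apply h.mul _ (inv_mem hy) _ hz _ hz0
  intro h1
  exact hy0 (by simpa using inv_mem h1)

/-- Extension of a character over index `2`. -/
theorem exists_ext (h : Two M M0) {ψ : G → A} (hψ : MulOn M0 ψ) {σ : G} (hσ : σ ∈ M) (hσ0 : σ ∉ M0)
    (hinv : ∀ m ∈ M0, ψ (σ * m * σ⁻¹) = ψ m) {α : A} (hα : α * α = ψ (σ * σ)) :
    ∃ ψ' : G → A, MulOn M ψ' ∧ (∀ m ∈ M0, ψ' m = ψ m) ∧ ∀ m ∈ M, m ∉ M0 → ψ' m = α * ψ (σ⁻¹ * m) := by
  classical
  have hin : ∀ m, m ∈ M0 → (if m ∈ M0 then ψ m else α * ψ (σ⁻¹ * m)) = ψ m := fun m hm => if_pos hm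
  have hout : ∀ m, m ∉ M0 → (if m ∈ M0 then ψ m else α * ψ (σ⁻¹ * m)) = α * ψ (σ⁻¹ * m) :=
    fun m hm => if_neg hm
  refine ⟨fun m => if m ∈ M0 then ψ m else α * ψ (σ⁻¹ * m), ?_, hin, fun m _ => hout m⟩
  have hss : σ * σ ∈ M0 := h.mul σ hσ σ hσ hσ0 hσ0
  intro y hy z hz
  dsimp only
  by_cases hy0 : y ∈ M0 <;> by_cases hz0 : z ∈ M0
  · rw [hin _ (mul_mem hy0 hz0), hin _ hy0, hin _ hz0, hψ y hy0 z hz0]
  · have h1 : y * z ∉ M0 := fun h2 => hz0 (by simpa using mul_mem (inv_mem hy0) h2)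
    rw [hout _ h1, hin _ hy0, hout _ hz0]
    have h3 : σ⁻¹ * y * σ ∈ M0 := h.conj_mem' hy0 hσ
    have h4 : σ⁻¹ * z ∈ M0 := h.inv_mul_mem hσ hz hσ0 hz0
    have e : σ⁻¹ * (y * z) = σ⁻¹ * y * σ * (σ⁻¹ * z) := by group
    rw [e, hψ _ h3 _ h4]
    have h5 := hinv _ h3
    have e2 : σ * (σ⁻¹ * y * σ) * σ⁻¹ = y := by group
    rw [e2] at h5
    rw [← h5, mul_left_comm]
  · have h1 : y * z ∉ M0 := fun h2 => hy0 (by
      have := mul_mem h2 (inv_mem hz0)
      simpa using this)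
    rw [hout _ h1, hout _ hy0, hin _ hz0, ← mul_assoc, hψ _ (h.inv_mul_mem hσ hy hσ0 hy0) _ hz0, mul_assoc]
  · have h1 : y * z ∈ M0 := h.mul y hy z hz hy0 hz0
    have hm := h.inv_mul_mem hσ hy hσ0 hy0
    have hm' := h.inv_mul_mem hσ hz hσ0 hz0
    rw [hin _ h1, hout _ hy0, hout _ hz0]
    have e : y * z = σ * (σ⁻¹ * y) * σ⁻¹ * (σ * σ) * (σ⁻¹ * z) := by group
    have h3 := h.conj_mem hm hσ
    rw [e, hψ _ (mul_mem h3 hss) _ hm', hψ _ h3 _ hss, hinv _ hm, ← hα]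
    rw [mul_mul_mul_comm, mul_comm (ψ (σ⁻¹ * y)), mul_assoc]

end Two

/-- The data of section 6. -/
structure Data (X M M0 K : Subgroup G) (a x : G) (lam eps : G → ℤˣ) : Prop where
  perf : ⁅X, X⁆ = X
  cover : ∀ g : G, g ∈ X ∨ g * x ∈ X
  two : Two M M0
  aa : a * a = 1
  fix : ∀ g : G, g⁻¹ * a * g ∈ M → g ∈ M
  cent : ∀ g : G, g * a = a * g → g ∈ M0
  xa : x * a = a * x
  xx : x * x = 1
  KM : K ≤ M0
  KX : K ≤ X
  Kperf : ∀ f : G → ℤˣ, MulOn K f → ∀ k ∈ K, f k = 1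
  dec : ∀ m ∈ M0, ∃ c k, c * a = a * c ∧ k ∈ K ∧ m = c * k
  hlam : MulOn M0 lam
  heps : MulOn M0 eps
  lamx : lam x = -1
  epsx : eps x = 1
  lamσ : ∀ σ ∈ M, σ ∉ M0 → lam (σ * x * σ⁻¹) = -1
  epsσ : ∀ σ ∈ M, σ ∉ M0 → eps (σ * x * σ⁻¹) = 1
  hf : ∃ f ∈ M0, eps f = -1

theorem triv_of_perf {X : Subgroup G} (h : ⁅X, X⁆ = X) (f : G →* A) {y : G} (hy : y ∈ X) : f y = 1 := by
  have h1 : ⁅X, X⁆ ≤ f.ker := by
    rw [commutator_le]
    intro p _ q _
    rw [MonoidHom.mem_ker, map_commutatorElement, commutatorElement_eq_one_iff_mul_comm, mul_comm]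
  rw [h] at h1
  exact h1 hy

theorem units_cases (u : ℤˣ) : u = 1 ∨ u = -1 := Int.units_eq_one_or u

namespace Data

variable {X M M0 K : Subgroup G} {a x : G} {lam eps : G → ℤˣ}

theorem aM0 (D : Data X M M0 K a x lam eps) : a ∈ M0 := D.cent a rfl

theorem xM0 (D : Data X M M0 K a x lam eps) : x ∈ M0 := D.cent x D.xa

/-- (P1): every sign character of `M` is trivial on `M0 ∩ X`. -/
theorem triv [Finite G] (D : Data X M M0 K a x lam eps) {χ : G → ℤˣ} (hχ : MulOn M χ) {m : G} (hm : m ∈ M0)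
    (hmX : m ∈ X) : χ m = 1 := by
  obtain ⟨c, k, hc, hk, rfl⟩ := D.dec m hm
  have hcM : c ∈ M := D.two.le (D.cent c hc)
  have hcX : c ∈ X := by
    have := mul_mem hmX (inv_mem (D.KX hk))
    rwa [mul_inv_cancel_right] at this
  rw [hχ c hcM k (D.two.le (D.KM hk)), D.Kperf χ (hχ.mono (D.KM.trans D.two.le)) k hk, mul_one]
  have h1 := p1_sign hχ.hom D.aa D.fix (D.two.le D.aM0) hc hcM
  rw [hχ.hom_apply hcM] at h1
  rw [← h1]
  exact triv_of_perf D.perf _ hcX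

/-- a field element in `X`. -/
theorem exists_f (D : Data X M M0 K a x lam eps) : ∃ f ∈ M0, f ∈ X ∧ eps f = -1 := by
  obtain ⟨f, hf, hfe⟩ := D.hf
  rcases D.cover f with h1 | h1
  · exact ⟨f, hf, h1, hfe⟩
  · exact ⟨f * x, mul_mem hf D.xM0, h1, by rw [D.heps f hf x D.xM0, D.epsx, hfe, mul_one]⟩

/-- `eps` does not extend to `M`. -/
theorem not_ext_eps [Finite G] (D : Data X M M0 K a x lam eps) {χ : G → ℤˣ} (hχ : MulOn M χ)
    (h : ∀ m ∈ M0, χ m = eps m) : False := by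
  obtain ⟨f, hf, hfX, hfe⟩ := D.exists_f
  have h1 := D.triv hχ hf hfX
  rw [h f hf, hfe] at h1
  exact absurd h1 (by decide)

/-- If `x ∈ X`, a character with the value `-1` at `x` does not extend to `M`. -/
theorem not_ext [Finite G] (D : Data X M M0 K a x lam eps) (hx : x ∈ X) {χ : G → ℤˣ} (hχ : MulOn M χ)
    (h : χ x = -1) : False := by
  have h1 := D.triv hχ D.xM0 hx
  rw [h] at h1
  exact absurd h1 (by decide)

/-- the characters of `M0` moved by `σ` agree with the old ones, if they do at `x`. -/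
theorem inv_of [Finite G] (D : Data X M M0 K a x lam eps) {ψ : G → ℤˣ} (hψ : MulOn M0 ψ) {σ : G} (hσ : σ ∈ M)
    (hσ0 : σ ∉ M0) (hx : ψ (σ * x * σ⁻¹) = ψ x) : ∀ m ∈ M0, ψ (σ * m * σ⁻¹) = ψ m := by
  have hss : σ * σ ∈ M0 := D.two.mul σ hσ σ hσ hσ0 hσ0
  have hψ' : MulOn M0 (fun g => ψ (σ * g * σ⁻¹)) := by
    intro y hy z hz
    have e : σ * (y * z) * σ⁻¹ = σ * y * σ⁻¹ * (σ * z * σ⁻¹) := by group
    change ψ (σ * (y * z) * σ⁻¹) = _
    rw [e]
    exact hψ _ (D.two.conj_mem hy hσ) _ (D.two.conj_mem hz hσ)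
  have hχ : MulOn M0 (fun g => ψ g * ψ (σ * g * σ⁻¹)) := hψ.mul hψ'
  have hss' : ψ (σ * (σ * σ) * σ⁻¹) = ψ (σ * σ) := by
    have e : σ * (σ * σ) * σ⁻¹ = σ * σ := by group
    rw [e]
  obtain ⟨χ', h1, h2, -⟩ := D.two.exists_ext hχ hσ hσ0 (α := 1) (by
    intro m hm
    have h3 : ψ (σ * (σ * m * σ⁻¹) * σ⁻¹) = ψ m := by
      have e : σ * (σ * m * σ⁻¹) * σ⁻¹ = σ * σ * m * (σ * σ)⁻¹ := by group
      rw [e]
      exact hψ.conj hm hss
    change ψ (σ * m * σ⁻¹) * ψ (σ * (σ * m * σ⁻¹) * σ⁻¹) = ψ m * ψ (σ * m * σ⁻¹)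
    rw [h3, mul_comm]) (by
    change (1 : ℤˣ) * 1 = ψ (σ * σ) * ψ (σ * (σ * σ) * σ⁻¹)
    rw [hss', Int.units_mul_self, Int.units_mul_self])
  have key : ∀ m ∈ M0, m ∈ X → ψ m * ψ (σ * m * σ⁻¹) = 1 := by
    intro m hm hmX
    have h3 := D.triv h1 hm hmX
    rw [h2 m hm] at h3
    exact h3
  have key2 : ∀ m ∈ M0, ψ m * ψ (σ * m * σ⁻¹) = 1 := by
    intro m hm
    rcases D.cover m with h3 | h3
    · exact key m hm h3
    · have h4 := key _ (mul_mem hm D.xM0) h3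
      have h5 := hχ m hm x D.xM0
      dsimp only at h5
      rw [h5, hx, Int.units_mul_self (ψ x), mul_one] at h4
      exact h4
  intro m hm
  have h3 := key2 m hm
  have h4 := Int.units_mul_self (ψ m)
  exact mul_left_cancel (h3.trans h4.symm)

/-- elements outside `M0` have `eps (σ ^ 2) = -1`. -/
theorem eps_sq [Finite G] (D : Data X M M0 K a x lam eps) {σ : G} (hσ : σ ∈ M) (hσ0 : σ ∉ M0) :
    eps (σ * σ) = -1 := by
  rcases units_cases (eps (σ * σ)) with h | h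
  · exfalso
    obtain ⟨χ, h1, h2, -⟩ := D.two.exists_ext D.heps hσ hσ0
      (D.inv_of D.heps hσ hσ0 (by rw [D.epsσ σ hσ hσ0, D.epsx])) (α := 1) (by rw [h, mul_one])
    exact D.not_ext_eps h1 h2
  · exact h

/-- **(4b), the END, `x ∈ X`.** -/
theorem false_of_mem [Finite G] (D : Data X M M0 K a x lam eps) (hx : x ∈ X) : False := by
  by_cases hM : M ≤ M0
  · exact D.not_ext hx (D.hlam.mono hM) D.lamx
  · obtain ⟨σ, hσ, hσ0⟩ := SetLike.not_le_iff_exists.1 hM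
    have hle := D.eps_sq hσ hσ0
    have hil := D.inv_of D.hlam hσ hσ0 (by rw [D.lamσ σ hσ hσ0, D.lamx])
    have hie := D.inv_of D.heps hσ hσ0 (by rw [D.epsσ σ hσ hσ0, D.epsx])
    rcases units_cases (lam (σ * σ)) with h | h
    · obtain ⟨χ, h1, h2, -⟩ := D.two.exists_ext D.hlam hσ hσ0 hil (α := 1) (by rw [h, mul_one])
      exact D.not_ext hx h1 (by rw [h2 x D.xM0, D.lamx])
    · obtain ⟨χ, h1, h2, -⟩ := D.two.exists_ext (D.hlam.mul D.heps) hσ hσ0 (by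
        intro m hm
        change lam (σ * m * σ⁻¹) * eps (σ * m * σ⁻¹) = lam m * eps m
        rw [hil m hm, hie m hm]) (α := 1) (by
        change (1 : ℤˣ) * 1 = lam (σ * σ) * eps (σ * σ)
        rw [h, hle]; rfl)
      refine D.not_ext hx h1 ?_
      rw [h2 x D.xM0]
      change lam x * eps x = -1
      rw [D.lamx, D.epsx, mul_one]

/-- elements of `M` of order dividing `2 * n` lie in `M0`. -/
theorem mem_of_pow [Finite G] (D : Data X M M0 K a x lam eps) {n : ℕ}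
    (hord : ∀ y ∈ M0, eps y = -1 → y ^ n ≠ 1) {y : G} (hy : y ∈ M) (hyn : y ^ (2 * n) = 1) : y ∈ M0 := by
  by_contra hy0
  have h1 := D.eps_sq hy hy0
  refine hord (y * y) (D.two.mul y hy y hy hy0 hy0) h1 ?_
  rw [← pow_two, ← pow_mul]
  exact hyn

/-- the embedding of the signs into the cyclic group of order four. -/
def jj (u : ℤˣ) : Multiplicative (ZMod 4) := if u = 1 then 1 else Multiplicative.ofAdd 2

theorem jj_mul (u v : ℤˣ) : jj (u * v) = jj u * jj v := by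
  rcases units_cases u with rfl | rfl <;> rcases units_cases v with rfl | rfl <;> decide

theorem jj_sq (u : ℤˣ) : jj u * jj u = 1 := by
  rcases units_cases u with rfl | rfl <;> decide

theorem jj_neg : jj (-1) = Multiplicative.ofAdd (2 : ZMod 4) := by decide

theorem jj_one : jj 1 = 1 := by decide

/-- **(4b), the END, second form** (used for `x ∉ X`). `h` acts as a pure field automorphism of maximal
`2`-power order `2 * n` on both members, `b` is an involution of `L` centralised by it. -/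
theorem false_of_field [Finite G] (D : Data X M M0 K a x lam eps) {n : ℕ}
    (hord : ∀ y ∈ M0, eps y = -1 → y ^ n ≠ 1)
    {h b : G} (hh : h ∈ M0) (hhn : h ^ (2 * n) = 1) (heh : eps h = -1) (hbb : b * b = 1) (hb : b ∈ M)
    (hfixb : ∀ g : G, g⁻¹ * b * g ∈ M → g ∈ M) (hbh : h * b = b * h) : False := by
  by_cases hM : M ≤ M0
  · exact D.not_ext_eps (D.heps.mono hM) (fun _ _ => rfl)
  obtain ⟨σ, hσ, hσ0⟩ := SetLike.not_le_iff_exists.1 hM
  have hle := D.eps_sq hσ hσ0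
  have hie := D.inv_of D.heps hσ hσ0 (by rw [D.epsσ σ hσ hσ0, D.epsx])
  have hn : 0 < n := by
    rcases Nat.eq_zero_or_pos n with h1 | h1
    · exfalso
      obtain ⟨f, hf, hfe⟩ := D.hf
      refine hord f hf hfe ?_
      rw [h1, pow_zero]
    · exact h1
  have hψ : MulOn M0 (fun g => jj (eps g)) := by
    intro y hy z hz
    change jj (eps (y * z)) = _
    rw [D.heps y hy z hz, jj_mul]
  obtain ⟨τ, hτ, hτ0, -⟩ := D.two.exists_ext hψ hσ hσ0 (by
    intro m hm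
    change jj (eps (σ * m * σ⁻¹)) = jj (eps m)
    rw [hie m hm]) (α := Multiplicative.ofAdd (1 : ZMod 4)) (by
    change _ = jj (eps (σ * σ))
    rw [hle]
    decide)
  have hsq : ∀ y ∈ M0, τ y * τ y = 1 := by
    intro y hy
    rw [hτ0 y hy]
    exact jj_sq _
  -- the values `V h`, `V x`
  have key : ∀ (g y : G), y ^ (2 * n) = 1 → g⁻¹ * y * g ∈ M → ev hτ.hom g y * ev hτ.hom g y = 1 := by
    intro g y hy hgy
    rw [hτ.ev_eq hgy]
    apply hsq
    apply D.mem_of_pow hord hgy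
    have e : (g⁻¹ * y * g) ^ (2 * n) = g⁻¹ * y ^ (2 * n) * g := by
      have := conj_pow (i := 2 * n) (a := g⁻¹) (b := y)
      rw [inv_inv] at this
      exact this
    rw [e, hy, mul_one, inv_mul_cancel]
  have hcomm : ∀ {p q : G}, p * q = q * p → p ^ (2 * n) = 1 → q ^ (2 * n) = 1 → ∀ k : ℕ,
      (p ^ k * q) ^ (2 * n) = 1 := by
    intro p q hpq hp hq k
    have h1 : Commute (p ^ k) q := (show Commute p q from hpq).pow_left k
    rw [h1.mul_pow, hq, ← pow_mul, mul_comm k, pow_mul, hp, one_pow, one_mul]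
  have two_pow : ∀ {q : G}, q * q = 1 → q ^ (2 * n) = 1 := by
    intro q hq
    rw [pow_mul, pow_two, hq, one_pow]
  have hVh : MonoidHom.transfer hτ.hom h = jj (eps h) := by
    rw [p2 hτ.hom hbb hfixb hb hbh (fun g k _ hk => key g _ (by
      rw [← pow_mul, mul_comm, pow_mul, hhn, one_pow]) hk)
      (fun g k _ hk => key g _ (hcomm hbh hhn (two_pow hbb) k) hk) (D.two.le hh)]
    rw [hτ.hom_apply, hτ0 h hh]
  have hVx : MonoidHom.transfer hτ.hom x = jj (eps x) := by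
    rw [p2 hτ.hom D.aa D.fix (D.two.le D.aM0) D.xa (fun g k _ hk => key g _ (by
      rw [← pow_mul, mul_comm, pow_mul, two_pow D.xx, one_pow]) hk)
      (fun g k _ hk => key g _ (hcomm D.xa (two_pow D.xx) (two_pow D.aa) k) hk) (D.two.le D.xM0)]
    rw [hτ.hom_apply, hτ0 x D.xM0]
  rw [heh] at hVh
  rw [D.epsx, jj_one] at hVx
  rcases D.cover h with h1 | h1
  · have h2 := triv_of_perf D.perf (MonoidHom.transfer hτ.hom) h1
    rw [hVh] at h2
    exact absurd h2 (by decide)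
  · have h2 := triv_of_perf D.perf (MonoidHom.transfer hτ.hom) h1
    rw [map_mul, hVh, hVx, mul_one] at h2
    exact absurd h2 (by decide)

end Data

end Cfsg.Agent.UGT.FourB.End
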