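import Mathlib.GroupTheory.SpecificGroups.Cyclic
import Mathlib.Tactic

/-!
# The sign character of a homomorphism into a cyclic group
-/

set_option autoImplicit false

namespace Cfsg.Agent.UGT.FourB.Sign

open Subgroup

/-- a finite cyclic group has at most one involution -/
theorem inv_unique {C : Type*} [Group C] [Finite C] [IsCyclic C] {u v : C} (hu : u * u = 1) (hv : v * v = 1)
    (hu1 : u ≠ 1) (hv1 : v ≠ 1) : u = v := by
  classical
  cases nonempty_fintype C
  by_contra hne
  have h1 := IsCyclic.card_pow_eq_one_le (α := C) (n := 2) (by norm_num)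
  have h2 : ({1, u, v} : Finset C) ⊆ Finset.univ.filter (fun c : C => c ^ 2 = 1) := by
    intro c hc
    rw [Finset.mem_filter]
    refine ⟨Finset.mem_univ _, ?_⟩
    simp only [Finset.mem_insert, Finset.mem_singleton] at hc
    rcases hc with rfl | rfl | rfl
    · exact one_pow 2
    · rw [pow_two]; exact hu
    · rw [pow_two]; exact hv
  have h3 : ({1, u, v} : Finset C).card = 3 := by
    rw [Finset.card_eq_three]
    exact ⟨1, u, v, hu1.symm, hv1.symm, hne, rfl⟩
  have h4 := Finset.card_le_card h2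
  omega

/-- the sign character of a homomorphism into a cyclic group: `ε y = -1` iff the image of `y` has the full `2`-part
of the order of the image. -/
theorem exists_sign {M C : Type*} [Group M] [Group C] [Finite C] [IsCyclic C] (φ : M →* C)
    (hf : ∃ f : M, 2 ∣ orderOf (φ f)) :
    ∃ (m k : ℕ) (ε : M →* ℤˣ), Odd k ∧ (∀ y, ε y = -1 → φ y ^ 2 ^ m ≠ 1) ∧
      (∀ y, φ y ^ (k * 2 ^ (m + 1)) = 1) ∧ (∃ y, ε y = -1) ∧ ∀ y, φ y = 1 → ε y = 1 := by
  classical
  obtain ⟨f, hf⟩ := hf
  set N := Nat.card φ.range with hN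
  have hNpos : N ≠ 0 := Nat.card_pos.ne'
  have hpow : ∀ y, φ y ^ N = 1 := by
    intro y
    have h1 : (⟨φ y, y, rfl⟩ : φ.range) ^ N = 1 := pow_card_eq_one'
    exact congrArg Subtype.val h1
  have h2N : 2 ∣ N := hf.trans (orderOf_dvd_of_pow_eq_one (hpow f))
  obtain ⟨j, k, hk, hjk⟩ := Nat.exists_eq_two_pow_mul_odd hNpos
  obtain ⟨m, rfl⟩ : ∃ m, j = m + 1 := by
    rcases j with _ | m
    · exfalso
      rw [pow_zero, one_mul] at hjk
      rw [hjk] at h2N
      exact (Nat.not_even_iff_odd.2 hk) (even_iff_two_dvd.2 h2N)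
    · exact ⟨m, rfl⟩
  have hN2 : N = 2 ^ m * k * 2 := by rw [hjk, pow_succ]; ring
  have hcomm : ∀ p q : C, p * q = q * p := by
    intro p q
    obtain ⟨g, hg⟩ := IsCyclic.exists_generator (α := C)
    obtain ⟨i, rfl⟩ := mem_zpowers_iff.1 (hg p)
    obtain ⟨l, rfl⟩ := mem_zpowers_iff.1 (hg q)
    rw [← zpow_add, ← zpow_add, add_comm]
  have hmulpow : ∀ p q : C, ∀ n : ℕ, (p * q) ^ n = p ^ n * q ^ n := fun p q n =>
    (show Commute p q from hcomm p q).mul_pow n
  have hsq : ∀ y, φ y ^ (2 ^ m * k) * φ y ^ (2 ^ m * k) = 1 := by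
    intro y
    rw [← pow_two, ← pow_mul, ← hN2, hpow]
  let ε : M →* ℤˣ :=
    { toFun := fun y => if φ y ^ (2 ^ m * k) = 1 then 1 else -1
      map_one' := by rw [map_one, one_pow, if_pos rfl]
      map_mul' := by
        intro y z
        rw [map_mul, hmulpow]
        by_cases hy : φ y ^ (2 ^ m * k) = 1 <;> by_cases hz : φ z ^ (2 ^ m * k) = 1
        · rw [if_pos hy, if_pos hz, hy, hz, mul_one, if_pos rfl, mul_one]
        · rw [if_pos hy, if_neg hz, hy, one_mul, if_neg hz, one_mul]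
        · rw [if_neg hy, if_pos hz, hz, mul_one, if_neg hy, mul_one]
        · rw [if_neg hy, if_neg hz]
          have h1 := inv_unique (hsq y) (hsq z) hy hz
          rw [h1, hsq z, if_pos rfl]
          rfl }
  have hε : ∀ y, ε y = if φ y ^ (2 ^ m * k) = 1 then 1 else -1 := fun _ => rfl
  refine ⟨m, k, ε, hk, ?_, ?_, ?_, ?_⟩
  · intro y hy h1
    rw [hε, if_pos (by rw [pow_mul, h1, one_pow])] at hy
    exact absurd hy (by decide)
  · intro y
    have e : k * 2 ^ (m + 1) = N := by rw [hjk, mul_comm]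
    rw [e, hpow]
  · obtain ⟨⟨z, y, rfl⟩, hz⟩ := IsCyclic.exists_generator (α := φ.range)
    refine ⟨y, ?_⟩
    rw [hε, if_neg]
    intro h1
    have h2 : orderOf (⟨φ y, y, rfl⟩ : φ.range) = N := orderOf_eq_card_of_forall_mem_zpowers hz
    have h3 : (⟨φ y, y, rfl⟩ : φ.range) ^ (2 ^ m * k) = 1 := Subtype.ext h1
    have h4 := orderOf_dvd_of_pow_eq_one h3
    rw [h2, hN2] at h4
    have h5 : 0 < 2 ^ m * k := by
      have := hk.pos
      positivity
    have h6 := Nat.le_of_dvd h5 h4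
    omega
  · intro y hy
    rw [hε, hy, one_pow, if_pos rfl]

end Cfsg.Agent.UGT.FourB.Sign
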