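import Cfsg.Agent.UGT.FourB.End
import Cfsg.Agent.UGT.FourB.Sign
import Cfsg.Agent.UGT.Res.WSupB

/-!
# (4b), section 6: the instance

`N = L W`, `N' = J W`, `M* = {g | {N, N'}ᵍ = {N, N'}}`, `M0 = N(N) ∩ N(N')`; `lam`, `eps` come from the action of `M0`
on `N / O(N) ≅ PSL(2,q)`.
-/

set_option autoImplicit false

open Cfsg Subgroup
open Cfsg.Agent.SignalizersComponents Cfsg.Agent.Lib
open Cfsg.Agent.SignalizersComponents.IntrinsicBasic
open Cfsg.Agent.Intrinsic.Basic Cfsg.Agent.Intrinsic.Cen Cfsg.Agent.Intrinsic.Diag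
open Cfsg.Agent.McLLyComp.Act
open Cfsg.Agent.UGT.Triple Cfsg.Agent.UGT.PumpGen Cfsg.Agent.UGT.TriBase
open Cfsg.Agent.UGT.Res.Base
open Cfsg.Agent.UGT.Res.WSupB Cfsg.Agent.UGT.FourB.End Cfsg.Agent.UGT.FourB.Sign
open scoped commutatorElement

namespace Cfsg.Agent.UGT.FourB.EndRep

local notation "LRep" => Cfsg.Agent.GH.L2Aut.Rep

universe u

/-! ## The type of an involution does not depend on the representation -/

theorem o1_indep {F F' : Type*} [Field F] [Finite F] [Field F'] [Finite F'] {L : Type*} [Group L]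
    (R : LRep F L) (R' : LRep F' L) {α : MulAut L} (h : α * α = 1) (ho : R.o1 α = -1) : R'.o1 α = -1 := by
  have hf : R.fld α = 1 := by
    by_contra h1
    have h2 := R.o1_of_sq h h1
    rw [ho] at h2
    exact absurd h2 (by decide)
  have hI : α ∉ (MulAut.conj : L →* MulAut L).range := by
    intro h1
    have h2 := (R.mem_inn_iff.1 h1).2
    rw [ho] at h2
    exact absurd h2 (by decide)
  rcases Int.units_eq_one_or (R'.o1 α) with h1 | h1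
  · exfalso
    have h2 : R'.fld α ≠ 1 := fun h3 => hI (R'.mem_inn_iff.2 ⟨h3, h1⟩)
    obtain ⟨S, hS⟩ := R'.ftype_syl (fun h3 => h2 (R'.mem_PGL_iff_fld.1 h3)) h
    obtain ⟨a, b, ha, hb, hab⟩ := R'.exists_four_mem S
    exact R.dtype_no_four (R.mem_PGL_iff_fld.2 hf) hI hab (hS a ha) (hS b hb)
  · exact h1

theorem fld_of_o1 {F : Type*} [Field F] [Finite F] {L : Type*} [Group L]
    (R : LRep F L) {α : MulAut L} (h : α * α = 1) (ho : R.o1 α = -1) : R.fld α = 1 := by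
  by_contra h1
  have h2 := R.o1_of_sq h h1
  rw [ho] at h2
  exact absurd h2 (by decide)

variable {G : Type u} [Group G] [Finite G]

/-! ## Transport of the representation along a conjugation -/

omit [Finite G] in
theorem cjQuot_mk (g : G) (K : Subgroup G) {k : G} (hk : k ∈ K) (hk' : g * k * g⁻¹ ∈ cj g K) :
    cjQuot g K (QuotientGroup.mk ⟨k, hk⟩) = QuotientGroup.mk ⟨g * k * g⁻¹, hk'⟩ := rfl

omit [Finite G] in
theorem cj_mem {g k : G} {K : Subgroup G} (hk : k ∈ K) : g * k * g⁻¹ ∈ cj g K := ⟨k, hk, rfl⟩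

omit [Finite G] in
/-- a representation of `N' / O(N')` in which `act N' g` corresponds to `act N (σ g σ⁻¹)`. -/
theorem exists_conj {F : Type*} [Field F] [Finite F] {N N' : Subgroup G} {σ : G} (hσ : cj σ N' = N)
    (R : LRep F (↥N ⧸ oddCore ↥N)) :
    ∃ R' : LRep F (↥N' ⧸ oddCore ↥N'), ∀ (g : G) (h' : g ∈ normalizer (N' : Set G))
      (h : σ * g * σ⁻¹ ∈ normalizer (N : Set G)),
      R'.o1 (act N' ⟨g, h'⟩) = R.o1 (act N ⟨σ * g * σ⁻¹, h⟩) ∧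
      R'.fld (act N' ⟨g, h'⟩) = R.fld (act N ⟨σ * g * σ⁻¹, h⟩) := by
  subst hσ
  let e := (cjQuot σ N').symm
  have key : ∀ (g : G) (h' : g ∈ normalizer (N' : Set G)) (h : σ * g * σ⁻¹ ∈ normalizer (cj σ N' : Set G))
      (l : ↥(cj σ N') ⧸ oddCore ↥(cj σ N')), act N' ⟨g, h'⟩ (e l) = e (act (cj σ N') ⟨σ * g * σ⁻¹, h⟩ l) := by
    intro g h' h l
    apply (cjQuot σ N').injective
    rw [MulEquiv.apply_symm_apply]
    obtain ⟨l', rfl⟩ := (cjQuot σ N').surjective l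
    change cjQuot σ N' (act N' ⟨g, h'⟩ ((cjQuot σ N').symm (cjQuot σ N' l'))) = _
    rw [MulEquiv.symm_apply_apply]
    obtain ⟨⟨k, hk⟩, rfl⟩ := QuotientGroup.mk_surjective l'
    rw [act_mk h' hk, cjQuot_mk σ N' (conj_mem h' hk) (cj_mem (conj_mem h' hk)), cjQuot_mk σ N' hk (cj_mem hk),
      act_mk h (cj_mem hk)]
    congr 1
    apply Subtype.ext
    change σ * (g * k * g⁻¹) * σ⁻¹ = σ * g * σ⁻¹ * (σ * k * σ⁻¹) * (σ * g * σ⁻¹)⁻¹
    group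
  exact ⟨tr R e, fun g h' h => ⟨o1_tr R e (key g h' h), fld_tr R e (key g h' h)⟩⟩

/-! ## The stabilizer of the pair -/

/-- `g` stabilizes the pair `{N, N'}` -/
def Sw (N N' : Subgroup G) (g : G) : Prop := (cj g N = N ∧ cj g N' = N') ∨ (cj g N = N' ∧ cj g N' = N)

omit [Finite G] in
theorem cj_one (N : Subgroup G) : cj 1 N = N := by
  ext y
  rw [mem_cj]
  simp

omit [Finite G] in
theorem cj_inv_of {g : G} {N N' : Subgroup G} (h : cj g N = N') : cj g⁻¹ N' = N := by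
  rw [← h, ← cj_mul, inv_mul_cancel, cj_one]

/-- the stabilizer `M*` of the pair -/
def Mst (N N' : Subgroup G) : Subgroup G where
  carrier := {g | Sw N N' g}
  one_mem' := Or.inl ⟨cj_one N, cj_one N'⟩
  mul_mem' := by
    rintro y z (⟨h1, h2⟩ | ⟨h1, h2⟩) (⟨h3, h4⟩ | ⟨h3, h4⟩)
    · left; rw [cj_mul, cj_mul, h3, h4, h1, h2]; exact ⟨rfl, rfl⟩
    · right; rw [cj_mul, cj_mul, h3, h4, h1, h2]; exact ⟨rfl, rfl⟩
    · right; rw [cj_mul, cj_mul, h3, h4, h1, h2]; exact ⟨rfl, rfl⟩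
    · left; rw [cj_mul, cj_mul, h3, h4, h1, h2]; exact ⟨rfl, rfl⟩
  inv_mem' := by
    rintro y (⟨h1, h2⟩ | ⟨h1, h2⟩)
    · left; exact ⟨cj_inv_of h1, cj_inv_of h2⟩
    · right; exact ⟨cj_inv_of h2, cj_inv_of h1⟩

/-- `M0` -/
def Mz (N N' : Subgroup G) : Subgroup G := normalizer (N : Set G) ⊓ normalizer (N' : Set G)

omit [Finite G] in
theorem mem_Mz {N N' : Subgroup G} {g : G} : g ∈ Mz N N' ↔ cj g N = N ∧ cj g N' = N' := by
  change g ∈ normalizer (N : Set G) ∧ g ∈ normalizer (N' : Set G) ↔ _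
  rw [mem_normalizer_iff_cj, mem_normalizer_iff_cj]

omit [Finite G] in
theorem mem_Mst {N N' : Subgroup G} {g : G} : g ∈ Mst N N' ↔ Sw N N' g := Iff.rfl

omit [Finite G] in
theorem swap_of {N N' : Subgroup G} {g : G} (h : g ∈ Mst N N') (h0 : g ∉ Mz N N') :
    cj g N = N' ∧ cj g N' = N := by
  rcases h with h1 | h1
  · exact absurd (mem_Mz.2 h1) h0
  · exact h1

omit [Finite G] in
theorem two_pair (N N' : Subgroup G) : Two (Mst N N') (Mz N N') where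
  le := fun _ h => Or.inl (mem_Mz.1 h)
  mul := by
    intro y hy z hz hy0 hz0
    obtain ⟨h1, h2⟩ := swap_of hy hy0
    obtain ⟨h3, h4⟩ := swap_of hz hz0
    rw [mem_Mz, cj_mul, cj_mul, h3, h4, h1, h2]
    exact ⟨rfl, rfl⟩

/-! ## The hypotheses -/

variable {F F' : Type*} [Field F] [Finite F] [Field F'] [Finite F'] {N N' : Subgroup G}

/-- The hypotheses of section 6. -/
structure Hyp (R : LRep F (↥N ⧸ oddCore ↥N)) (R' : LRep F' (↥N' ⧸ oddCore ↥N')) (X : Subgroup G) (x a s : G) :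
    Prop where
  perf : ⁅X, X⁆ = X
  cover : ∀ g : G, g ∈ X ∨ g * x ∈ X
  aa : a * a = 1
  xx : x * x = 1
  ss : s * s = 1
  s1 : s ∉ core N
  xa : x * a = a * x
  sN : s ∈ N
  xN : x ∈ normalizer (N : Set G)
  xN' : x ∈ normalizer (N' : Set G)
  ox : R.o1 (act N ⟨x, xN⟩) = -1
  ox' : R'.o1 (act N' ⟨x, xN'⟩) = -1
  core : core N = core N'
  comm : ∀ n ∈ N, ∀ n' ∈ N', n * n' * n⁻¹ * n'⁻¹ ∈ Intrinsic.Basic.core N
  ker : ∀ g, Fixes g N → Fixes g N' → g ∈ Intrinsic.Basic.core N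
  Ca : ∀ c, c * a = a * c → c ∈ normalizer (N : Set G) ∧ c ∈ normalizer (N' : Set G)
  dec : ∀ m, m ∈ normalizer (N : Set G) → m ∈ normalizer (N' : Set G) → ∃ c k, c * a = a * c ∧ k ∈ N' ∧ m = c * k
  NX' : N' ≤ X
  perf' : ⁅N', N'⁆ ⊔ Intrinsic.Basic.core N' = N'
  fixa : ∀ g, Sw N N' (g⁻¹ * a * g) → Sw N N' g
  fixs : ∀ g, Sw N N' (g⁻¹ * s * g) → Sw N N' g
  fld : ∃ (f : G) (hf : f ∈ normalizer (N : Set G)), f ∈ normalizer (N' : Set G) ∧
    2 ∣ orderOf (R.fld (act N ⟨f, hf⟩))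

/-! ## The characters -/

open Classical in
/-- a character of `Aut(N / O(N))` as a function on `G` -/
noncomputable def lft {A : Type*} [CommGroup A] (N : Subgroup G) (χ : MulAut (↥N ⧸ oddCore ↥N) →* A) (g : G) : A :=
  if h : g ∈ normalizer (N : Set G) then χ (act N ⟨g, h⟩) else 1

omit [Finite G] in
theorem lft_of {A : Type*} [CommGroup A] {N : Subgroup G} {χ : MulAut (↥N ⧸ oddCore ↥N) →* A} {g : G}
    (h : g ∈ normalizer (N : Set G)) : lft N χ g = χ (act N ⟨g, h⟩) := dif_pos h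

omit [Finite G] in
theorem lft_mulOn {A : Type*} [CommGroup A] {N : Subgroup G} (χ : MulAut (↥N ⧸ oddCore ↥N) →* A) :
    MulOn (normalizer (N : Set G)) (lft N χ) := by
  intro y hy z hz
  rw [lft_of hy, lft_of hz, lft_of (mul_mem hy hz), act_mul hy hz, map_mul]

open Classical in
/-- a character of a subgroup as a function on `G` -/
noncomputable def sft {A : Type*} [CommGroup A] {M : Subgroup G} (χ : M →* A) (g : G) : A :=
  if h : g ∈ M then χ ⟨g, h⟩ else 1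

omit [Finite G] in
theorem sft_of {A : Type*} [CommGroup A] {M : Subgroup G} {χ : M →* A} {g : G}
    (h : g ∈ M) : sft χ g = χ ⟨g, h⟩ := dif_pos h

omit [Finite G] in
theorem sft_mulOn {A : Type*} [CommGroup A] {M : Subgroup G} (χ : M →* A) : MulOn M (sft χ) := by
  intro y hy z hz
  rw [sft_of hy, sft_of hz, sft_of (mul_mem hy hz), ← map_mul]
  rfl

/-- the field part, on `M0` -/
noncomputable def phi (R : LRep F (↥N ⧸ oddCore ↥N)) (N' : Subgroup G) : ↥(Mz N N') →* (F ≃+* F) :=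
  (R.fld.comp (act N)).comp (Subgroup.inclusion (inf_le_left : Mz N N' ≤ normalizer (N : Set G)))

omit [Finite G] in
theorem phi_apply (R : LRep F (↥N ⧸ oddCore ↥N)) {g : G} (hg : g ∈ Mz N N') :
    phi R N' ⟨g, hg⟩ = R.fld (act N ⟨g, hg.1⟩) := rfl

/-- a group with odd core and no other abelian quotient of exponent two has no signs -/
theorem sign_trivial {K : Subgroup G} (hK : ⁅K, K⁆ ⊔ Intrinsic.Basic.core K = K) (f : G → ℤˣ) (hf : MulOn K f) :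
    ∀ k ∈ K, f k = 1 := by
  have h1 : K ≤ hf.hom.ker.map K.subtype := by
    conv_lhs => rw [← hK]
    refine sup_le ?_ ?_
    · rw [commutator_le]
      intro p hp q hq
      refine ⟨⁅(⟨p, hp⟩ : ↥K), (⟨q, hq⟩ : ↥K)⁆, ?_, rfl⟩
      change _ ∈ hf.hom.ker
      rw [MonoidHom.mem_ker, map_commutatorElement, commutatorElement_eq_one_iff_mul_comm, mul_comm]
    · intro c hc
      have hcK : c ∈ K := core_le K hc
      refine ⟨⟨c, hcK⟩, ?_, rfl⟩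
      change _ ∈ hf.hom.ker
      rw [MonoidHom.mem_ker, hf.hom_apply hcK]
      rcases Int.units_eq_one_or (f c) with h | h
      · exact h
      · exfalso
        have h2 : Odd (Nat.card (Intrinsic.Basic.core K)) := odd_card_core K
        have h3 : c ^ Nat.card (Intrinsic.Basic.core K) = 1 := by
          have h4 : (⟨c, hc⟩ : Intrinsic.Basic.core K) ^ Nat.card (Intrinsic.Basic.core K) = 1 := pow_card_eq_one'
          exact congrArg Subtype.val h4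
        have h5 := hf.pow hcK (Nat.card (Intrinsic.Basic.core K))
        rw [h3, hf.one, h, h2.neg_one_pow] at h5
        exact absurd h5 (by decide)
  intro k hk
  obtain ⟨⟨y, hy⟩, h2, rfl⟩ := h1 hk
  exact h2

namespace Hyp

variable {R : LRep F (↥N ⧸ oddCore ↥N)} {R' : LRep F' (↥N' ⧸ oddCore ↥N')} {X : Subgroup G} {x a s : G}

omit [Finite G] in
theorem fix_N (H : Hyp R R' X x a s) {n' : G} (hn' : n' ∈ N') : Fixes n' N := by
  have key : ∀ n' ∈ N', ∀ n ∈ N, n' * n * n'⁻¹ ∈ N := by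
    intro n' hn' n hn
    have h1 := core_le N (H.comm n⁻¹ (inv_mem hn) n' hn')
    rw [inv_inv] at h1
    have h2 := mul_mem hn h1
    have e : n * (n⁻¹ * n' * n * n'⁻¹) = n' * n * n'⁻¹ := by group
    rwa [e] at h2
  have hnorm : n' ∈ normalizer (N : Set G) := by
    rw [mem_normalizer_iff]
    intro n
    refine ⟨fun h => key n' hn' n h, fun h => ?_⟩
    have h2 := key n'⁻¹ (inv_mem hn') _ h
    have e : n'⁻¹ * (n' * n * n'⁻¹) * n'⁻¹⁻¹ = n := by group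
    rwa [e] at h2
  rw [fixes_iff_conj]
  refine ⟨hnorm, fun y hy => ?_⟩
  have h1 := H.comm y⁻¹ (inv_mem hy) n' hn'
  rw [inv_inv] at h1
  have e : y⁻¹ * n' * y * n'⁻¹ = y⁻¹ * (n' * y * n'⁻¹) := by group
  rwa [e] at h1

omit [Finite G] in
theorem fix_N' (H : Hyp R R' X x a s) {n : G} (hn : n ∈ N) : Fixes n N' := by
  have key : ∀ n ∈ N, ∀ n' ∈ N', n * n' * n⁻¹ ∈ N' := by
    intro n hn n' hn'
    have h1 := H.comm n hn n' hn'
    rw [H.core] at h1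
    have h2 := mul_mem (core_le N' h1) hn'
    have e : n * n' * n⁻¹ * n'⁻¹ * n' = n * n' * n⁻¹ := by group
    rwa [e] at h2
  have hnorm : n ∈ normalizer (N' : Set G) := by
    rw [mem_normalizer_iff]
    intro n'
    refine ⟨fun h => key n hn n' h, fun h => ?_⟩
    have h2 := key n⁻¹ (inv_mem hn) _ h
    have e : n⁻¹ * (n * n' * n⁻¹) * n⁻¹⁻¹ = n' := by group
    rwa [e] at h2
  rw [fixes_iff_conj]
  refine ⟨hnorm, fun y hy => ?_⟩
  have h1 := H.comm n hn y hy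
  rw [H.core] at h1
  have h2 := conj_mem_core (le_normalizer (inv_mem hy)) h1
  rw [inv_inv] at h2
  have e : y⁻¹ * (n * y * n⁻¹ * y⁻¹) * y = y⁻¹ * (n * y * n⁻¹) := by group
  rwa [e] at h2

omit [Finite G] in
theorem N'_le (H : Hyp R R' X x a s) : N' ≤ Mz N N' := fun _ hn => ⟨(H.fix_N hn).1, le_normalizer hn⟩

omit [Finite G] in
theorem N_le (H : Hyp R R' X x a s) : N ≤ Mz N N' := fun _ hn => ⟨le_normalizer hn, (H.fix_N' hn).1⟩

omit [Finite G] in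
theorem act_xx (H : Hyp R R' X x a s) : act N ⟨x, H.xN⟩ * act N ⟨x, H.xN⟩ = 1 := by
  rw [← act_mul H.xN H.xN, act_eq_one_iff]
  have : x * x = 1 := H.xx
  rw [this]
  exact fixes_one N

omit [Finite G] in
theorem act_xx' (H : Hyp R R' X x a s) : act N' ⟨x, H.xN'⟩ * act N' ⟨x, H.xN'⟩ = 1 := by
  rw [← act_mul H.xN' H.xN', act_eq_one_iff]
  have : x * x = 1 := H.xx
  rw [this]
  exact fixes_one N'

omit [Finite G] in
theorem fx (H : Hyp R R' X x a s) : R.fld (act N ⟨x, H.xN⟩) = 1 := fld_of_o1 R H.act_xx H.ox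

omit [Finite G] in
/-- the values at `σ x σ⁻¹` -/
theorem swap_x (H : Hyp R R' X x a s) {σ : G} (hσ : σ ∈ Mst N N') (hσ0 : σ ∉ Mz N N') :
    ∃ h : σ * x * σ⁻¹ ∈ normalizer (N : Set G), R.o1 (act N ⟨σ * x * σ⁻¹, h⟩) = -1 ∧
      R.fld (act N ⟨σ * x * σ⁻¹, h⟩) = 1 := by
  obtain ⟨-, h2⟩ := swap_of hσ hσ0
  have h : σ * x * σ⁻¹ ∈ normalizer (N : Set G) :=
    ((two_pair N N').conj_mem ⟨H.xN, H.xN'⟩ hσ).1
  obtain ⟨R2, hR2⟩ := exists_conj h2 R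
  obtain ⟨h3, h4⟩ := hR2 x H.xN' h
  have h5 : R2.o1 (act N' ⟨x, H.xN'⟩) = -1 := o1_indep R' R2 H.act_xx' H.ox'
  exact ⟨h, by rw [← h3, h5], by rw [← h4]; exact fld_of_o1 R2 H.act_xx' h5⟩

/-- the data of `End` -/
theorem data (H : Hyp R R' X x a s) {ε : ↥(Mz N N') →* ℤˣ} (h1 : ∃ y, ε y = -1)
    (h2 : ∀ y, phi R N' y = 1 → ε y = 1) :
    Data X (Mst N N') (Mz N N') N' a x (lft N R.o1) (sft ε) where
  perf := H.perf
  cover := H.cover
  two := two_pair N N'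
  aa := H.aa
  fix := fun g hg => H.fixa g hg
  cent := fun g hg => H.Ca g hg
  xa := H.xa
  xx := H.xx
  KM := H.N'_le
  KX := H.NX'
  Kperf := fun f hf => sign_trivial H.perf' f hf
  dec := fun m hm => H.dec m hm.1 hm.2
  hlam := (lft_mulOn R.o1).mono inf_le_left
  heps := sft_mulOn ε
  lamx := by rw [lft_of H.xN, H.ox]
  epsx := by
    rw [sft_of (⟨H.xN, H.xN'⟩ : x ∈ Mz N N')]
    exact h2 _ H.fx
  lamσ := by
    intro σ hσ hσ0
    obtain ⟨h, h3, -⟩ := H.swap_x hσ hσ0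
    rw [lft_of h, h3]
  epsσ := by
    intro σ hσ hσ0
    obtain ⟨h, -, h4⟩ := H.swap_x hσ hσ0
    have h5 : σ * x * σ⁻¹ ∈ Mz N N' := (two_pair N N').conj_mem ⟨H.xN, H.xN'⟩ hσ
    rw [sft_of h5]
    exact h2 _ h4
  hf := by
    obtain ⟨⟨y, hy⟩, h3⟩ := h1
    exact ⟨y, hy, by rw [sft_of hy]; exact h3⟩

omit [Finite G] in
theorem exists_eps (H : Hyp R R' X x a s) : ∃ (m k : ℕ) (ε : ↥(Mz N N') →* ℤˣ), Odd k ∧
    (∀ y, ε y = -1 → phi R N' y ^ 2 ^ m ≠ 1) ∧ (∀ y, phi R N' y ^ (k * 2 ^ (m + 1)) = 1) ∧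
    (∃ y, ε y = -1) ∧ ∀ y, phi R N' y = 1 → ε y = 1 := by
  have hc : IsCyclic (F ≃+* F) := Cfsg.Agent.LieRecognition.FieldSemilinear.isCyclic_ringAut F
  have hfin : Finite (F ≃+* F) := Finite.of_injective (fun σ : F ≃+* F => (σ : F → F)) DFunLike.coe_injective
  obtain ⟨f, hf, hf', h2⟩ := H.fld
  exact exists_sign (phi R N') ⟨⟨f, hf, hf'⟩, h2⟩

/-- **section 6, `x ∈ X`** -/
theorem false_of_mem (H : Hyp R R' X x a s) (hx : x ∈ X) : False := by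
  obtain ⟨m, k, ε, -, -, -, h1, h2⟩ := H.exists_eps
  exact (H.data h1 h2).false_of_mem hx

/-- an element of `Aut (PSL(2,q))` with `o1 = 1` is inner times field -/
theorem exists_inner {F L : Type*} [Field F] [Finite F] [Group L] (R : LRep F L) {α : MulAut L} (h : R.o1 α = 1) :
    ∃ l : L, (MulAut.conj l)⁻¹ * α = R.fa (R.fld α) := by
  have h1 : α * (R.fa (R.fld α))⁻¹ ∈ (MulAut.conj : L →* MulAut L).range := by
    rw [R.mem_inn_iff]
    constructor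
    · rw [map_mul, map_inv, R.fld_fa, mul_inv_cancel]
    · rw [map_mul, map_inv, R.o1_fa, h, mul_inv_cancel]
  obtain ⟨l, hl⟩ := h1
  refine ⟨l, ?_⟩
  rw [hl, mul_inv_rev, inv_inv, inv_mul_cancel_right]

/-- an involution of `L` fixed by all field automorphisms -/
theorem exists_fixed {F L : Type*} [Field F] [Finite F] [Group L] (R : LRep F L) :
    ∃ b : L, b * b = 1 ∧ b ≠ 1 ∧ ∀ τ : F ≃+* F, R.fa τ b = b := by
  have h1 : (1 : F) ≠ 0 := one_ne_zero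
  refine ⟨R.π (Cfsg.Agent.Lib.SL2Mat.wm 1 h1), ?_, ?_, fun τ => ?_⟩
  · rw [← map_mul, R.ker]
    right
    have hn : ∀ i j, Cfsg.Agent.Lib.SL2Mat.ent (-1 : Matrix.SpecialLinearGroup (Fin 2) F) i j =
        -Cfsg.Agent.Lib.SL2Mat.ent 1 i j := fun _ _ => rfl
    apply Cfsg.Agent.Lib.SL2Mat.ext_ent <;> rw [Cfsg.Agent.Lib.SL2Mat.ent_mul, hn]
    · rw [Cfsg.Agent.Lib.SL2Mat.ent_one_00, Cfsg.Agent.Lib.SL2Mat.wm_00, Cfsg.Agent.Lib.SL2Mat.wm_01,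
        Cfsg.Agent.Lib.SL2Mat.wm_10]
      simp
    · rw [Cfsg.Agent.Lib.SL2Mat.ent_one_01, Cfsg.Agent.Lib.SL2Mat.wm_00, Cfsg.Agent.Lib.SL2Mat.wm_11]
      simp
    · rw [Cfsg.Agent.Lib.SL2Mat.ent_one_10, Cfsg.Agent.Lib.SL2Mat.wm_00, Cfsg.Agent.Lib.SL2Mat.wm_11]
      simp
    · rw [Cfsg.Agent.Lib.SL2Mat.ent_one_11, Cfsg.Agent.Lib.SL2Mat.wm_11, Cfsg.Agent.Lib.SL2Mat.wm_01,
        Cfsg.Agent.Lib.SL2Mat.wm_10]
      simp
  · intro h2
    rw [R.ker] at h2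
    rcases h2 with h2 | h2
    · have h3 := congrArg (fun y => Cfsg.Agent.Lib.SL2Mat.ent y 0 0) h2
      simp [Cfsg.Agent.Lib.SL2Mat.wm, Cfsg.Agent.Lib.SL2Mat.ent, Cfsg.Agent.Lib.SL2Mat.mk] at h3
    · have h3 := congrArg (fun y => Cfsg.Agent.Lib.SL2Mat.ent y 0 0) h2
      simp [Cfsg.Agent.Lib.SL2Mat.wm, Cfsg.Agent.Lib.SL2Mat.ent, Cfsg.Agent.Lib.SL2Mat.mk] at h3
  · rw [R.fa_apply]
    congr 1
    rw [Cfsg.Agent.Lib.SL2Mat.wm_eq, map_mul, map_mul, Cfsg.Agent.Lib.SL2Mat.fieldAut_lo,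
      Cfsg.Agent.Lib.SL2Mat.fieldAut_up, map_neg, map_inv₀, map_one]

/-- **section 6, second form: `W = 1`** (used for `x ∉ X`) -/
theorem false_of_core (H : Hyp R R' X x a s) (hW : Intrinsic.Basic.core N = ⊥) : False := by
  obtain ⟨m, k, ε, hk, hε1, hε2, hε3, hε4⟩ := H.exists_eps
  have D := H.data hε3 hε4
  by_cases hM : Mst N N' ≤ Mz N N'
  · exact D.not_ext_eps (D.heps.mono hM) (fun _ _ => rfl)
  obtain ⟨σ, hσ, hσ0⟩ := SetLike.not_le_iff_exists.1 hM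
  obtain ⟨-, hσN⟩ := swap_of hσ hσ0
  obtain ⟨R2, hR2⟩ := exists_conj hσN R
  have T := two_pair N N'
  -- the element `f1`
  obtain ⟨f1, hf1, hf1e, hf1l⟩ : ∃ f1 ∈ Mz N N', sft ε f1 = -1 ∧ lft N R.o1 f1 = 1 := by
    obtain ⟨f0, hf0, hf0e⟩ := D.hf
    rcases Int.units_eq_one_or (lft N R.o1 f0) with h | h
    · exact ⟨f0, hf0, hf0e, h⟩
    · refine ⟨f0 * x, mul_mem hf0 D.xM0, ?_, ?_⟩
      · rw [D.heps f0 hf0 x D.xM0, hf0e, D.epsx, mul_one]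
      · rw [D.hlam f0 hf0 x D.xM0, h, D.lamx]; rfl
  obtain ⟨f, hfe⟩ : ∃ f, f = f1 ^ k := ⟨_, rfl⟩
  have hf : f ∈ Mz N N' := by rw [hfe]; exact pow_mem hf1 k
  have hfε : sft ε f = -1 := by rw [hfe, D.heps.pow hf1, hf1e, hk.neg_one_pow]
  have hfl : lft N R.o1 f = 1 := by rw [hfe, D.hlam.pow hf1, hf1l, one_pow]
  have hsf : σ * f * σ⁻¹ ∈ Mz N N' := T.conj_mem hf hσ
  have hsf1 : σ * f1 * σ⁻¹ ∈ Mz N N' := T.conj_mem hf1 hσ
  have hfl2 : lft N R.o1 (σ * f * σ⁻¹) = 1 := by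
    rw [D.inv_of D.hlam hσ hσ0 (by rw [D.lamσ σ hσ hσ0, D.lamx]) f hf, hfl]
  -- the representations at `f`
  obtain ⟨hRo, hRf⟩ := hR2 f hf.2 hsf.1
  have ho1 : R.o1 (act N ⟨f, hf.1⟩) = 1 := by rw [← lft_of]; exact hfl
  have ho2 : R2.o1 (act N' ⟨f, hf.2⟩) = 1 := by rw [hRo, ← lft_of]; exact hfl2
  obtain ⟨lb, hl⟩ := exists_inner R ho1
  obtain ⟨jb, hj⟩ := exists_inner R2 ho2
  obtain ⟨⟨l, hlN⟩, rfl⟩ := QuotientGroup.mk_surjective lb
  obtain ⟨⟨j, hjN⟩, rfl⟩ := QuotientGroup.mk_surjective jb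
  obtain ⟨τ, hτ⟩ : ∃ τ, τ = R.fld (act N ⟨f, hf.1⟩) := ⟨_, rfl⟩
  obtain ⟨τ', hτ'⟩ : ∃ τ', τ' = R2.fld (act N' ⟨f, hf.2⟩) := ⟨_, rfl⟩
  rw [← hτ] at hl
  rw [← hτ'] at hj
  have hτp : τ ^ 2 ^ (m + 1) = 1 := by
    have h1 := hε2 ⟨f1, hf1⟩
    rw [pow_mul] at h1
    have h2 : phi R N' ⟨f1, hf1⟩ ^ k = τ := by
      rw [← map_pow, hτ]
      subst hfe
      rfl
    rwa [h2] at h1
  have hτp' : τ' ^ 2 ^ (m + 1) = 1 := by
    have h1 := hε2 ⟨σ * f1 * σ⁻¹, hsf1⟩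
    rw [pow_mul] at h1
    have h2 : phi R N' ⟨σ * f1 * σ⁻¹, hsf1⟩ ^ k = τ' := by
      rw [← map_pow, hτ', hRf]
      have h3 : (⟨σ * f1 * σ⁻¹, hsf1⟩ : ↥(Mz N N')) ^ k = ⟨σ * f * σ⁻¹, hsf⟩ := by
        apply Subtype.ext
        change (σ * f1 * σ⁻¹) ^ k = σ * f * σ⁻¹
        rw [conj_pow, hfe]
      rw [h3]
      rfl
    rwa [h2] at h1
  -- the element `h`
  have hlz : l ∈ Mz N N' := H.N_le hlN
  have hjz : j ∈ Mz N N' := H.N'_le hjN
  obtain ⟨h, hh⟩ : ∃ h, h = l⁻¹ * (j⁻¹ * f) := ⟨_, rfl⟩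
  have hhz : h ∈ Mz N N' := by rw [hh]; exact mul_mem (inv_mem hlz) (mul_mem (inv_mem hjz) hf)
  have ha1 : act N ⟨h, hhz.1⟩ = R.fa τ := by
    have h1 : act N ⟨j⁻¹, inv_mem hjz.1⟩ = 1 := (act_eq_one_iff _).2 (H.fix_N (inv_mem hjN))
    have h2 : act N ⟨h, hhz.1⟩ = act N ⟨l⁻¹, inv_mem hlz.1⟩ * (act N ⟨j⁻¹, inv_mem hjz.1⟩ * act N ⟨f, hf.1⟩) := by
      rw [← map_mul, ← map_mul]
      congr 1
      exact Subtype.ext hh
    rw [h2, h1, one_mul, act_inv hlz.1, act_of_mem hlN]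
    exact hl
  have ha2 : act N' ⟨h, hhz.2⟩ = R2.fa τ' := by
    have h1 : act N' ⟨l⁻¹, inv_mem hlz.2⟩ = 1 := (act_eq_one_iff _).2 (H.fix_N' (inv_mem hlN))
    have h2 : act N' ⟨h, hhz.2⟩ =
        act N' ⟨l⁻¹, inv_mem hlz.2⟩ * (act N' ⟨j⁻¹, inv_mem hjz.2⟩ * act N' ⟨f, hf.2⟩) := by
      rw [← map_mul, ← map_mul]
      congr 1
      exact Subtype.ext hh
    rw [h2, h1, one_mul, act_inv hjz.2, act_of_mem hjN]
    exact hj
  have hpow : h ^ (2 * 2 ^ m) = 1 := by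
    have e : 2 * 2 ^ m = 2 ^ (m + 1) := by rw [pow_succ, mul_comm]
    rw [e]
    have h1 : Fixes (h ^ 2 ^ (m + 1)) N := by
      rw [← act_eq_one_iff (pow_mem hhz.1 _)]
      have h2 : act N ⟨h ^ 2 ^ (m + 1), pow_mem hhz.1 _⟩ = act N ⟨h, hhz.1⟩ ^ 2 ^ (m + 1) := by
        rw [← map_pow]; rfl
      rw [h2, ha1, ← map_pow, hτp, map_one]
    have h1' : Fixes (h ^ 2 ^ (m + 1)) N' := by
      rw [← act_eq_one_iff (pow_mem hhz.2 _)]
      have h2 : act N' ⟨h ^ 2 ^ (m + 1), pow_mem hhz.2 _⟩ = act N' ⟨h, hhz.2⟩ ^ 2 ^ (m + 1) := by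
        rw [← map_pow]; rfl
      rw [h2, ha2, ← map_pow, hτp', map_one]
    have h3 := H.ker _ h1 h1'
    rw [hW] at h3
    exact h3
  have heh : sft ε h = -1 := by
    have h1 : sft ε (h * f⁻¹) = 1 := by
      have h2 : h * f⁻¹ ∈ Mz N N' := mul_mem hhz (inv_mem hf)
      rw [sft_of h2]
      apply hε4
      have h3 : phi R N' ⟨h * f⁻¹, h2⟩ = phi R N' ⟨h, hhz⟩ * (phi R N' ⟨f, hf⟩)⁻¹ := by
        rw [← map_inv, ← map_mul]; rfl
      rw [h3]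
      have h4 : phi R N' ⟨h, hhz⟩ = τ := by
        change R.fld (act N ⟨h, hhz.1⟩) = τ
        rw [ha1, R.fld_fa]
      have h5 : phi R N' ⟨f, hf⟩ = τ := hτ.symm
      rw [h4, h5, mul_inv_cancel]
    have h2 := D.heps _ (mul_mem hhz (inv_mem hf)) f hf
    rw [inv_mul_cancel_right, h1, hfε] at h2
    rw [h2]; rfl
  -- the involution `b`
  obtain ⟨bb, hbb, hbb1, hbfix⟩ := exists_fixed R
  obtain ⟨⟨b, hb⟩, rfl⟩ := QuotientGroup.mk_surjective bb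
  have hbot : ∀ y ∈ Intrinsic.Basic.core N, y = 1 := by
    intro y hy
    rw [hW] at hy
    exact hy
  have hbb2 : b * b = 1 := by
    apply hbot
    rw [← mk_eq_one_iff (mul_mem hb hb)]
    exact hbb
  have hbh : h * b = b * h := by
    have h1 := act_mk hhz.1 hb
    rw [ha1, hbfix, mk_eq_iff] at h1
    have h2 := hbot _ h1
    have h3 : h * b * h⁻¹ = b := (inv_mul_eq_one.1 h2).symm
    calc h * b = h * b * h⁻¹ * h := by group
      _ = b * h := by rw [h3]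
  -- `b` is conjugate to `s`
  have hsb : ∃ n ∈ N, n * s * n⁻¹ = b := by
    obtain ⟨g, hg⟩ := R.inv_conj (s := QuotientGroup.mk ⟨s, H.sN⟩) (t := QuotientGroup.mk ⟨b, hb⟩) (by
      rw [← QuotientGroup.mk_mul]
      exact (mk_eq_one_iff (mul_mem H.sN H.sN)).2 (by rw [H.ss]; exact one_mem _)) (fun h1 =>
      H.s1 ((mk_eq_one_iff H.sN).1 h1)) hbb hbb1
    obtain ⟨⟨n, hn⟩, rfl⟩ := QuotientGroup.mk_surjective g
    refine ⟨n, hn, ?_⟩
    have h2 : (QuotientGroup.mk (⟨n * s * n⁻¹, mul_mem (mul_mem hn H.sN) (inv_mem hn)⟩ : ↥N) :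
        ↥N ⧸ oddCore ↥N) = QuotientGroup.mk ⟨b, hb⟩ := hg
    rw [mk_eq_iff] at h2
    exact inv_mul_eq_one.1 (hbot _ h2)
  obtain ⟨n, hn, hnb⟩ := hsb
  have hnM : n ∈ Mst N N' := T.le (H.N_le hn)
  refine D.false_of_field (n := 2 ^ m) ?_ hhz hpow heh hbb2 (T.le (H.N_le hb)) ?_ hbh
  · intro y hy hye hyn
    rw [sft_of hy] at hye
    apply hε1 _ hye
    rw [← map_pow]
    have h1 : (⟨y, hy⟩ : ↥(Mz N N')) ^ 2 ^ m = 1 := Subtype.ext hyn
    rw [h1, map_one]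
  · intro g hg
    have h1 : Sw N N' ((n⁻¹ * g)⁻¹ * s * (n⁻¹ * g)) := by
      have e : (n⁻¹ * g)⁻¹ * s * (n⁻¹ * g) = g⁻¹ * b * g := by rw [← hnb]; group
      rw [e]
      exact hg
    have h2 : n⁻¹ * g ∈ Mst N N' := H.fixs _ h1
    have h3 := mul_mem hnM h2
    rwa [mul_inv_cancel_left] at h3

end Hyp

end Cfsg.Agent.UGT.FourB.EndRep
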