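import Cfsg.Agent.UGT.RankOneR
import Cfsg.Agent.GH.L2AutF
import Cfsg.Agent.GH.L2AutOut
import Cfsg.Agent.Intrinsic.Lifting

/-!
# Lifting facts for a 2-component `L` with `L / O(L) ≅ PSL(2,F)`

`conj_cent`: involutions of `L` commuting with a 2-element `q` trivial on `L / O(L)` are conjugate under `C_L(q)`;
`rot`: two commuting involutions `y ≠ s` of `L`: some `l ∈ L` maps `y ↦ s ↦ ys`; dihedral 2-groups.
-/

set_option autoImplicit false

open Cfsg Subgroup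
open Cfsg.Agent.SignalizersComponents Cfsg.Agent.Lib
open Cfsg.Agent.Intrinsic.Basic Cfsg.Agent.Intrinsic.Lifting
open Cfsg.Agent.McLLyComp.Act
open Cfsg.Agent.GH.L2Aut
open scoped commutatorElement

namespace Cfsg.Agent.UGT.FourB.KSup

variable {G : Type*} [Group G] [Finite G]

theorem pow_one_sq {i : G} (h : i * i = 1) : i ^ 2 ^ 1 = 1 := by
  rw [pow_one, pow_two, h]

theorem core_n {L : Subgroup G} {l : G} (hl : l ∈ L) : l ∈ normalizer (core L : Set G) :=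
  le_normalizer_core L hl

section

variable {L : Subgroup G} {F : Type*} [Field F] [Finite F] (R : GH.L2Aut.Rep F (↥L ⧸ oddCore ↥L))
include R

/-- involutions of `L` commuting with `q` are conjugate under `C_L(q)` -/
theorem conj_cent {q : G} (hq : Fixes q L) {n : ℕ} (hq2 : q ^ 2 ^ n = 1) {i i' : G} (hi : i ∈ L) (hi' : i' ∈ L)
    (hii : i * i = 1) (hi1 : i ≠ 1) (hii' : i' * i' = 1) (hi1' : i' ≠ 1) (hiq : i * q = q * i)
    (hiq' : i' * q = q * i') : ∃ l ∈ L, l * q = q * l ∧ l * i * l⁻¹ = i' := by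
  have hcore := odd_card_core L
  have hne : ∀ {j : G} (hj : j ∈ L), j * j = 1 → j ≠ 1 → (QuotientGroup.mk (⟨j, hj⟩ : ↥L) : ↥L ⧸ oddCore ↥L) ≠ 1 :=
    fun hj h1 h2 h3 => h2 (eq_one_of_mem_core_sq ((mk_eq_one_iff hj).1 h3) h1)
  have hsq : ∀ {j : G} (hj : j ∈ L), j * j = 1 → (QuotientGroup.mk (⟨j, hj⟩ : ↥L) : ↥L ⧸ oddCore ↥L) *
      QuotientGroup.mk (⟨j, hj⟩ : ↥L) = 1 := by
    intro j hj h1
    rw [← QuotientGroup.mk_mul]
    have : (⟨j, hj⟩ : ↥L) * ⟨j, hj⟩ = 1 := Subtype.ext h1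
    rw [this, QuotientGroup.mk_one]
  obtain ⟨y, hy⟩ := R.inv_conj (hsq hi hii) (hne hi hii hi1) (hsq hi' hii') (hne hi' hii' hi1')
  obtain ⟨⟨l, hl⟩, rfl⟩ := QuotientGroup.mk_surjective y
  -- make `l` commute with `q`
  have hqN : q ∈ normalizer (core L : Set G) := normalizer_le_normalizer_core L hq.1
  have h1 : l⁻¹ * (q * l * q⁻¹) ∈ core L := by
    have h2 := hq.2 l hl
    have h3 := conj_mem_core (L.inv_mem hl |> fun h => le_normalizer h) h2
    have e : l⁻¹ * ⁅q, l⁆ * l⁻¹⁻¹ = l⁻¹ * (q * l * q⁻¹) := by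
      rw [commutatorElement_def]; group
    rw [← e]; exact h3
  obtain ⟨o, ho, hc⟩ := exists_commute hcore hq2 hqN h1
  have hoL : o ∈ L := core_le L ho
  have hloL : l * o ∈ L := mul_mem hl hoL
  have h2 : (l * o * i * (l * o)⁻¹)⁻¹ * i' ∈ core L := by
    have hiL : l * o * i * (l * o)⁻¹ ∈ L := mul_mem (mul_mem hloL hi) (inv_mem hloL)
    rw [← mk_eq_iff hiL hi']
    have e1 : (QuotientGroup.mk (⟨l * o * i * (l * o)⁻¹, hiL⟩ : ↥L) : ↥L ⧸ oddCore ↥L) =
        QuotientGroup.mk (⟨l, hl⟩ * ⟨o, hoL⟩ * ⟨i, hi⟩ * (⟨l, hl⟩ * ⟨o, hoL⟩)⁻¹ : ↥L) := rfl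
    have e2 : (QuotientGroup.mk (⟨o, hoL⟩ : ↥L) : ↥L ⧸ oddCore ↥L) = 1 := (mk_eq_one_iff hoL).2 ho
    rw [e1, QuotientGroup.mk_mul, QuotientGroup.mk_mul, QuotientGroup.mk_inv, QuotientGroup.mk_mul, e2, mul_one]
    exact hy
  have h3 : l * o * i * (l * o)⁻¹ * q = q * (l * o * i * (l * o)⁻¹) := by
    have c1 : Commute (l * o) q := hc.symm
    have c2 : Commute i q := hiq
    exact ((c1.mul_left c2).mul_left c1.inv_left)
  obtain ⟨o', ho', hoq, hoi⟩ := exists_conj_commute hcore (n := 1) (m := 1) (a := l * o * i * (l * o)⁻¹) (b := i')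
    (pow_one_sq (by
      calc l * o * i * (l * o)⁻¹ * (l * o * i * (l * o)⁻¹) = l * o * (i * i) * (l * o)⁻¹ := by group
        _ = 1 := by rw [hii]; group)) (pow_one_sq hii')
    (core_n (mul_mem (mul_mem hloL hi) (inv_mem hloL))) h3 hiq' h2
  refine ⟨o' * (l * o), mul_mem (core_le L ho') hloL, ?_, ?_⟩
  · have c1 : Commute (l * o) q := hc.symm
    have c2 : Commute o' q := hoq
    exact c2.mul_left c1
  · rw [← hoi]; group

/-- the rotation of a four-group -/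
theorem rot {y s : G} (hy : y ∈ L) (hs : s ∈ L) (hyy : y * y = 1) (hss : s * s = 1) (hy1 : y ≠ 1) (hs1 : s ≠ 1)
    (hne : y ≠ s) (hc : y * s = s * y) : ∃ l ∈ L, l * y * l⁻¹ = s ∧ l * s * l⁻¹ = y * s := by
  have hcore := odd_card_core L
  have hne' : ∀ {j : G} (hj : j ∈ L), j * j = 1 → j ≠ 1 → (QuotientGroup.mk (⟨j, hj⟩ : ↥L) : ↥L ⧸ oddCore ↥L) ≠ 1 :=
    fun hj h1 h2 h3 => h2 (eq_one_of_mem_core_sq ((mk_eq_one_iff hj).1 h3) h1)
  have hsq : ∀ {j : G} (hj : j ∈ L), j * j = 1 → (QuotientGroup.mk (⟨j, hj⟩ : ↥L) : ↥L ⧸ oddCore ↥L) *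
      QuotientGroup.mk (⟨j, hj⟩ : ↥L) = 1 := by
    intro j hj h1
    rw [← QuotientGroup.mk_mul]
    have : (⟨j, hj⟩ : ↥L) * ⟨j, hj⟩ = 1 := Subtype.ext h1
    rw [this, QuotientGroup.mk_one]
  have hys : y * s ∈ L := mul_mem hy hs
  have hysq : y * s * (y * s) = 1 := by
    calc y * s * (y * s) = y * (s * y) * s := by group
      _ = y * (y * s) * s := by rw [hc]
      _ = (y * y) * (s * s) := by group
      _ = 1 := by rw [hyy, hss, one_mul]
  have hF : Four (QuotientGroup.mk (⟨y, hy⟩ : ↥L) : ↥L ⧸ oddCore ↥L) (QuotientGroup.mk ⟨s, hs⟩) :=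
    { aa := hsq hy hyy
      bb := hsq hs hss
      a1 := hne' hy hyy hy1
      b1 := hne' hs hss hs1
      ne := fun h => by
        have h1 := (mk_eq_iff hy hs).1 h
        have h2 : y⁻¹ * s = y * s := by rw [inv_eq_of_mul_eq_one_left hyy]
        rw [h2] at h1
        have h3 := eq_one_of_mem_core_sq h1 hysq
        exact hne (by rw [eq_inv_of_mul_eq_one_left h3, inv_eq_of_mul_eq_one_left hss])
      comm := by
        rw [← QuotientGroup.mk_mul, ← QuotientGroup.mk_mul]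
        congr 1
        exact Subtype.ext hc }
  obtain ⟨Φ, w, δ, -, -, -, -, -, -, h1, h2, -⟩ := R.exists_frame hF
  obtain ⟨⟨l, hl⟩, rfl⟩ := QuotientGroup.mk_surjective w
  have k1 : (l * y * l⁻¹)⁻¹ * s ∈ core L := by
    rw [← mk_eq_iff (mul_mem (mul_mem hl hy) (inv_mem hl)) hs]
    exact h1
  have k2 : (l * s * l⁻¹)⁻¹ * (y * s) ∈ core L := by
    rw [← mk_eq_iff (mul_mem (mul_mem hl hs) (inv_mem hl)) hys]
    exact h2
  obtain ⟨o, ho, hoy⟩ := exists_conj_eq hcore (n := 1) (m := 1) (v := l * y * l⁻¹) (v' := s) (pow_one_sq (by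
      calc l * y * l⁻¹ * (l * y * l⁻¹) = l * (y * y) * l⁻¹ := by group
        _ = 1 := by rw [hyy]; group)) (pow_one_sq hss) (core_n (mul_mem (mul_mem hl hy) (inv_mem hl))) k1
  have hoL := core_le L ho
  -- `b = o l s l⁻¹ o⁻¹`
  have k3 : (o * (l * s * l⁻¹) * o⁻¹)⁻¹ * (y * s) ∈ core L := by
    have e : (o * (l * s * l⁻¹) * o⁻¹)⁻¹ * (y * s) =
        o * ((l * s * l⁻¹)⁻¹ * o⁻¹ * (l * s * l⁻¹)⁻¹⁻¹) * ((l * s * l⁻¹)⁻¹ * (y * s)) := by group
    rw [e]
    refine mul_mem (mul_mem ho ?_) k2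
    exact conj_mem_core (inv_mem (le_normalizer (mul_mem (mul_mem hl hs) (inv_mem hl)))) (inv_mem ho)
  have k4 : o * (l * s * l⁻¹) * o⁻¹ * s = s * (o * (l * s * l⁻¹) * o⁻¹) := by
    have e1 : o * (l * s * l⁻¹) * o⁻¹ * (o * (l * y * l⁻¹) * o⁻¹) =
        o * (l * y * l⁻¹) * o⁻¹ * (o * (l * s * l⁻¹) * o⁻¹) := by
      calc o * (l * s * l⁻¹) * o⁻¹ * (o * (l * y * l⁻¹) * o⁻¹) = o * l * (s * y) * (o * l)⁻¹ := by group
        _ = o * l * (y * s) * (o * l)⁻¹ := by rw [hc]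
        _ = o * (l * y * l⁻¹) * o⁻¹ * (o * (l * s * l⁻¹) * o⁻¹) := by group
    rwa [hoy] at e1
  have k5 : y * s * s = s * (y * s) := by
    calc y * s * s = s * y * s := by rw [hc]
      _ = s * (y * s) := by group
  obtain ⟨o', ho', hos, hoi⟩ := exists_conj_commute hcore (n := 1) (m := 1) (pow_one_sq (by
      calc o * (l * s * l⁻¹) * o⁻¹ * (o * (l * s * l⁻¹) * o⁻¹) = o * l * (s * s) * (o * l)⁻¹ := by group
        _ = 1 := by rw [hss]; group)) (pow_one_sq hysq)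
    (core_n (mul_mem (mul_mem hoL (mul_mem (mul_mem hl hs) (inv_mem hl))) (inv_mem hoL))) k4 k5 k3
  refine ⟨o' * o * l, mul_mem (mul_mem (core_le L ho') hoL) hl, ?_, ?_⟩
  · calc o' * o * l * y * (o' * o * l)⁻¹ = o' * (o * (l * y * l⁻¹) * o⁻¹) * o'⁻¹ := by group
      _ = s := by rw [hoy, hos]; group
  · rw [← hoi]; group

end

section dih

variable {P : Subgroup G} {d r s : G}

/-- involutions of the cyclic part -/
theorem cyc_inv (hd : s ∈ zpowers d) (hs : s * s = 1) (hs1 : s ≠ 1) {y : G} (hy : y ∈ zpowers d) (hyy : y * y = 1) :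
    y = 1 ∨ y = s := by
  by_contra hcon
  push Not at hcon
  have hc : s * y = y * s := by
    obtain ⟨k, rfl⟩ := mem_zpowers_iff.mp hd
    obtain ⟨m, rfl⟩ := mem_zpowers_iff.mp hy
    exact ((Commute.refl d).zpow_left _).zpow_right _
  exact four_not_cyc (c := d) (a := s) (b := y)
    { aa := hs, bb := hyy, a1 := hs1, b1 := hcon.1, ne := fun h => hcon.2 h.symm, comm := hc } hd hy

/-- in a dihedral group of order `≥ 8` only the central involution commutes with all involutions -/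
theorem dih_cen (h : Dih P d r) (hdd : d * d ≠ 1) (hd : s ∈ zpowers d) (hs : s * s = 1) (hs1 : s ≠ 1) {y : G}
    (hy : y ∈ P) (hyy : y * y = 1) (hc : ∀ w ∈ P, w * w = 1 → y * w = w * y) : y = 1 ∨ y = s := by
  rcases h.cov y hy with h1 | ⟨k, rfl⟩
  · exact cyc_inv hd hs hs1 h1 hyy
  · exfalso
    have h2 := hc (d ^ (k + 1) * r) (mul_mem (zpow_mem h.d_mem _) h.r_mem) (h.pow_r_sq _)
    apply hdd
    have e1 : d ^ k * r * (d ^ (k + 1) * r) = d ^ (-1 : ℤ) := by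
      calc d ^ k * r * (d ^ (k + 1) * r) = d ^ k * (r * d ^ (k + 1)) * r := by group
        _ = d ^ k * (d ^ (-(k + 1)) * r) * r := by rw [h.r_pow']
        _ = d ^ k * d ^ (-(k + 1)) * (r * r) := by group
        _ = d ^ (-1 : ℤ) := by
          rw [h.rr, mul_one, ← zpow_add]; congr 1; ring
    have e2 : d ^ (k + 1) * r * (d ^ k * r) = d := by
      calc d ^ (k + 1) * r * (d ^ k * r) = d ^ (k + 1) * (r * d ^ k) * r := by group
        _ = d ^ (k + 1) * (d ^ (-k) * r) * r := by rw [h.r_pow']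
        _ = d ^ (k + 1) * d ^ (-k) * (r * r) := by group
        _ = d ^ (1 : ℤ) := by
          rw [h.rr, mul_one, ← zpow_add]; congr 1; ring
        _ = d := zpow_one d
    rw [e1, e2, zpow_neg_one] at h2
    nth_rw 1 [← h2]
    exact inv_mul_cancel d

/-- a non-central involution -/
theorem dih_four (h : Dih P d r) (hd : s ∈ zpowers d) : ∃ v ∈ P, v * v = 1 ∧ v ≠ 1 ∧ v ≠ s :=
  ⟨r, h.r_mem, h.rr, h.r1, fun h1 => h.r_not (h1 ▸ hd)⟩

/-- `s` is a commutator -/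
theorem dih_comm (hP : IsPGroup 2 P) (h : Dih P d r) (hdd : d * d ≠ 1) (hd : s ∈ zpowers d) (hs : s * s = 1)
    (hs1 : s ≠ 1) : s ∈ ⁅P, P⁆ := by
  obtain ⟨n, hn, h1, h2⟩ := h.exists_z hP
  have hn0 : n ≠ 0 := by
    rintro rfl
    apply hdd
    rw [← pow_two, ← pow_orderOf_eq_one d, hn]
    norm_num
  obtain ⟨m, rfl⟩ := Nat.exists_eq_succ_of_ne_zero hn0
  have h3 : s = d ^ 2 ^ (m + 1) := by
    rcases cyc_inv (pow_mem (mem_zpowers d) _) h1 h2 hd hs with h4 | h4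
    · exact absurd h4 hs1
    · exact h4
  have h4 : d ^ 2 ^ m * r * (d ^ 2 ^ m)⁻¹ * r⁻¹ = s := by
    have h5 := h.r_pow (-((2 ^ m : ℕ) : ℤ))
    rw [zpow_neg, zpow_natCast, neg_neg, zpow_natCast] at h5
    calc d ^ 2 ^ m * r * (d ^ 2 ^ m)⁻¹ * r⁻¹ = d ^ 2 ^ m * (r * (d ^ 2 ^ m)⁻¹ * r⁻¹) := by group
      _ = d ^ 2 ^ m * d ^ 2 ^ m := by rw [h5]
      _ = s := by rw [h3, ← pow_add, ← two_mul, ← pow_succ']
  rw [← h4]
  exact commutator_mem_commutator (pow_mem h.d_mem _) h.r_mem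

/-- conjugation into `x`: `(d^k x)` is conjugate to `x` -/
theorem dih_pgl (hP : IsPGroup 2 P) (h : Dih P d r) {x : G} (hxx : x * x = 1) (xd : x * d * x⁻¹ = d⁻¹)
    (xr : x * r * x⁻¹ = d * r) {p : G} (hp : p ∈ P) (hpx : p * x * (p * x) = 1) : ∃ w ∈ P, w * (p * x) * w⁻¹ = x := by
  have hxi : x⁻¹ = x := inv_eq_of_mul_eq_one_left hxx
  have hxd : ∀ k : ℤ, x * d ^ k = d ^ (-k) * x := by
    intro k
    calc x * d ^ k = (x * d ^ k * x⁻¹) * x := by group
      _ = (x * d * x⁻¹) ^ k * x := by rw [conj_zpow]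
      _ = d ^ (-k) * x := by rw [xd, inv_zpow, zpow_neg]
  -- `p` is not a reflection
  have hp' : p ∈ zpowers d := by
    rcases h.cov p hp with h1 | ⟨k, rfl⟩
    · exact h1
    · exfalso
      have h1 : d ^ k * r * x * (d ^ k * r * x) = d ^ (2 * k - 1) := by
        calc d ^ k * r * x * (d ^ k * r * x) = d ^ k * r * (x * d ^ k) * r * x := by group
          _ = d ^ k * r * (d ^ (-k) * x) * r * x := by rw [hxd]
          _ = d ^ k * (r * d ^ (-k)) * (x * r * x) := by group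
          _ = d ^ k * (r * d ^ (-k)) * (x * r * x⁻¹) := by rw [hxi]
          _ = d ^ k * (d ^ (- -k) * r) * (d * r) := by rw [xr, h.r_pow']
          _ = d ^ k * d ^ k * (r * d ^ (1 : ℤ)) * r := by rw [neg_neg, zpow_one]; group
          _ = d ^ k * d ^ k * (d ^ (-(1 : ℤ)) * r) * r := by rw [h.r_pow']
          _ = d ^ k * d ^ k * d ^ (-(1 : ℤ)) * (r * r) := by group
          _ = d ^ (2 * k - 1) := by
            rw [h.rr, mul_one, ← zpow_add, ← zpow_add]; congr 1; ring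
      rw [h1] at hpx
      have h2 : ∃ n, d ^ 2 ^ n = 1 := by
        obtain ⟨n, hn⟩ := hP ⟨d, h.d_mem⟩
        exact ⟨n, congrArg Subtype.val hn⟩
      have h3 := zpowers_odd h2 (k := 2 * k - 1) ⟨k - 1, by ring⟩
      rw [hpx, zpowers_one_eq_bot, mem_bot] at h3
      exact h.d1 h3
  obtain ⟨k, rfl⟩ := mem_zpowers_iff.mp hp'
  have hre : ∀ m : ℤ, r * (d ^ m * x) * r⁻¹ = d ^ (-m - 1) * x := by
    intro m
    have h1 : x * r = d * r * x := by
      calc x * r = x * r * x⁻¹ * x := by group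
        _ = d * r * x := by rw [xr]
    have h2 : r * x = d⁻¹ * x * r := by
      calc r * x = d⁻¹ * (d * r * x) := by group
        _ = d⁻¹ * x * r := by rw [← h1]; group
    calc r * (d ^ m * x) * r⁻¹ = (r * d ^ m) * x * r⁻¹ := by group
      _ = d ^ (-m) * (r * x) * r⁻¹ := by rw [h.r_pow']; group
      _ = d ^ (-m) * d⁻¹ * x := by rw [h2]; group
      _ = d ^ (-m - 1) * x := by
        rw [← zpow_neg_one, ← zpow_add]; congr 2
  have hev : ∀ m : ℤ, ∃ w ∈ P, w * (d ^ (2 * m) * x) * w⁻¹ = x := by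
    intro m
    refine ⟨d ^ (-m), zpow_mem h.d_mem _, ?_⟩
    calc d ^ (-m) * (d ^ (2 * m) * x) * (d ^ (-m))⁻¹ = d ^ (-m) * d ^ (2 * m) * (x * d ^ m) := by
          rw [zpow_neg, inv_inv]; group
      _ = d ^ (-m) * d ^ (2 * m) * (d ^ (-m) * x) := by rw [hxd]
      _ = d ^ (-m) * d ^ (2 * m) * d ^ (-m) * x := by group
      _ = x := by
        rw [← zpow_add, ← zpow_add]
        have : -m + 2 * m + -m = 0 := by ring
        rw [this, zpow_zero, one_mul]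
  rcases Int.even_or_odd' k with ⟨m, rfl | rfl⟩
  · exact hev m
  · obtain ⟨w, hw, hw2⟩ := hev (-m - 1)
    refine ⟨w * r, mul_mem hw h.r_mem, ?_⟩
    calc w * r * (d ^ (2 * m + 1) * x) * (w * r)⁻¹ = w * (r * (d ^ (2 * m + 1) * x) * r⁻¹) * w⁻¹ := by group
      _ = w * (d ^ (2 * (-m - 1)) * x) * w⁻¹ := by
        rw [hre]
        have : -(2 * m + 1) - 1 = 2 * (-m - 1) := by ring
        rw [this]
      _ = x := hw2

end dih

end Cfsg.Agent.UGT.FourB.KSup
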