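import Cfsg.Agent.UGT.TriBase
import Cfsg.Agent.UGT.FourB.KSup
import Cfsg.Agent.UGT.Res.KFacts
import Cfsg.Agent.UGT.Res.EFacts
import Cfsg.Agent.GH.L2AutD

/-!
# The frame of a triple `(x, a, L)` with `L` normal in `C(a)`, field elements allowed

`Fm R x a d r T Q P`: `T` a Sylow 2-subgroup of `C(a)`, `C_T(x)` one of `C(a, x)`, `Q` the kernel of `T` on `L / O(L)`,
`P = T ∩ L = ⟨d, r⟩`, `x` of PGL type. `exists_fm`: existence. `Fm.ty`: types of the involutions of `T`.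
-/

set_option autoImplicit false

open Cfsg Subgroup
open Cfsg.Agent.SignalizersComponents Cfsg.Agent.Lib
open Cfsg.Agent.SignalizersComponents.IntrinsicBasic
open Cfsg.Agent.SignalizersComponents.PLayerAut
open Cfsg.Agent.Intrinsic.Basic Cfsg.Agent.Intrinsic.Cen Cfsg.Agent.Intrinsic.Diag
open Cfsg.Agent.Intrinsic.Lifting
open Cfsg.Agent.McLLyComp.Act
open Cfsg.Agent.UGT.Triple Cfsg.Agent.UGT.TriBase Cfsg.Agent.UGT.Iface
open Cfsg.Agent.GH.L2Aut (Dih Inn)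
open scoped commutatorElement

namespace Cfsg.Agent.UGT.FourB.Fm

variable {G : Type*} [Group G]

/-- see the header -/
structure Fm {L : Subgroup G} {F : Type*} [Field F] [Finite F] (R : Cfsg.Agent.GH.L2Aut.Rep F (↥L ⧸ oddCore ↥L))
    (x a d r : G) (T Q P : Subgroup G) : Prop where
  xx : x * x = 1
  aa : a * a = 1
  a1 : a ≠ 1
  comp : IsComp (centralizer ({a} : Set G)) L
  LN : centralizer ({a} : Set G) ≤ normalizer (L : Set G)
  syl : IsSyl (centralizer ({a} : Set G)) T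
  sylx : IsSyl (centralizer ({a} : Set G) ⊓ centralizer ({x} : Set G)) (T ⊓ centralizer ({x} : Set G))
  aT : a ∈ T
  xT : x ∈ T
  Qdef : ∀ t, t ∈ Q ↔ t ∈ T ∧ Fixes t L
  Pdef : ∀ t, t ∈ P ↔ t ∈ T ∧ t ∈ L
  psyl : IsSyl L P
  dih : Dih P d r
  xd : x * d * x⁻¹ = d⁻¹
  xr : x * r * x⁻¹ = d * r
  inn : ∀ t (ht : t ∈ normalizer (L : Set G)), t ∈ T → act L ⟨t, ht⟩ ∈ Inn (↥L ⧸ oddCore ↥L) →
    ∃ q ∈ Q, ∃ p ∈ P, t = q * p
  ox : ∀ hx : x ∈ normalizer (L : Set G), R.o1 (act L ⟨x, hx⟩) = -1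

theorem mem_c {a t : G} (h : t * a = a * t) : t ∈ centralizer ({a} : Set G) := mem_centralizer_singleton_iff.mpr h

theorem comm_c {a t : G} (h : t ∈ centralizer ({a} : Set G)) : t * a = a * t := mem_centralizer_singleton_iff.mp h

/-- an element of the center of `E` of order 2 is in every Sylow 2-subgroup of `E` -/
theorem mem_syl_of_central {E T : Subgroup G} (hT : IsSyl E T) {a : G} (haE : a ∈ E) (haa : a * a = 1)
    (hc : ∀ t ∈ T, t * a = a * t) : a ∈ T := by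
  have hpa : IsPGroup 2 ↥(zpowers a) := by
    rintro ⟨y, hy⟩
    obtain ⟨k, rfl⟩ := mem_zpowers_iff.mp hy
    refine ⟨1, Subtype.ext ?_⟩
    change (a ^ k) ^ 2 ^ 1 = 1
    rw [pow_one, pow_two, ← (Commute.refl a).mul_zpow, haa, one_zpow]
  have h3 : T ≤ normalizer (zpowers a : Set G) := by
    intro t ht
    have h4 : t * a = a * t := hc t ht
    have h5 : ∀ y, y ∈ zpowers a → t * y * t⁻¹ = y := by
      intro y hy
      obtain ⟨k, rfl⟩ := mem_zpowers_iff.mp hy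
      rw [(show Commute t a from h4).zpow_right k]
      group
    rw [mem_normalizer_iff]
    intro y
    constructor
    · intro hy
      rw [h5 y hy]
      exact hy
    · intro hy
      have h6 := h5 _ hy
      have h7 : t * y * t⁻¹ = y := by
        have h8 : t * (t * y * t⁻¹) * t⁻¹ = t * y * t⁻¹ := h6
        exact mul_left_cancel (mul_right_cancel h8)
      rw [← h7]
      exact hy
  have h4 : IsPGroup 2 ↥(T ⊔ zpowers a : Subgroup G) := IsPGroup.to_sup_of_normal_right' hT.two hpa h3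
  exact (hT.max _ h4 (sup_le hT.le (by rw [zpowers_le]; exact haE)) le_sup_left).le
    (mem_sup_right (mem_zpowers a))

variable [Finite G]

set_option maxHeartbeats 1000000 in
theorem exists_fm {x a : G} {L : Subgroup G} (hxx : x * x = 1) (haa : a * a = 1) (ha1 : a ≠ 1) (hax : a * x = x * a)
    (hL : IsComp (centralizer ({a} : Set G)) L) (hLN : centralizer ({a} : Set G) ≤ normalizer (L : Set G))
    {F : Type*} [Field F] [Finite F] (R : Cfsg.Agent.GH.L2Aut.Rep F (↥L ⧸ oddCore ↥L))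
    (ho : R.o1 (act L ⟨x, hLN (mem_c hax.symm)⟩) = -1) :
    ∃ (T Q P : Subgroup G) (d r : G), Fm R x a d r T Q P := by
  have h2 : Fact (Nat.Prime 2) := ⟨Nat.prime_two⟩
  have hxL : x ∈ normalizer (L : Set G) := hLN (mem_c hax.symm)
  -- Sylow subgroups
  obtain ⟨U, hU, -⟩ := exists_isSyl (E := centralizer ({a} : Set G) ⊓ centralizer ({x} : Set G))
    (R₀ := ⊥) IsPGroup.of_bot bot_le
  obtain ⟨T, hT, hUT⟩ := exists_isSyl (E := centralizer ({a} : Set G)) hU.two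
    (hU.le.trans inf_le_left)
  have hTN : T ≤ normalizer (L : Set G) := hT.le.trans hLN
  have hTx : T ⊓ centralizer ({x} : Set G) = U := by
    refine hU.max _ (hT.two.to_le inf_le_left) (inf_le_inf_right _ hT.le)
      (le_inf hUT (hU.le.trans inf_le_right))
  have hxU : x ∈ U := mem_syl_of_central hU ⟨mem_c hax.symm, mem_c rfl⟩ hxx
    (fun t ht => comm_c (hU.le ht).2)
  have hxT : x ∈ T := hUT hxU
  have haT : a ∈ T := mem_syl_of_central hT (mem_c rfl) haa (fun t ht => comm_c (hT.le ht))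
  have hpow : ∀ t ∈ T, ∃ n, t ^ 2 ^ n = 1 := by
    intro t ht
    obtain ⟨n, hn⟩ := hT.two ⟨t, ht⟩
    exact ⟨n, congrArg Subtype.val hn⟩
  have hcore : ∀ t ∈ T, t ∈ core L → t = 1 := by
    intro t ht htc
    obtain ⟨n, hn⟩ := hpow t ht
    exact eq_one_of_mem_core htc hn
  -- `Q` and `P`
  obtain ⟨Q, hQ⟩ : ∃ Q : Subgroup G, ∀ t, t ∈ Q ↔ t ∈ T ∧ Fixes t L :=
    ⟨{ carrier := {t | t ∈ T ∧ Fixes t L}
       mul_mem' := fun ha hb => ⟨mul_mem ha.1 hb.1, fixes_mul ha.2 hb.2⟩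
       one_mem' := ⟨one_mem _, fixes_one L⟩
       inv_mem' := fun ha => ⟨inv_mem ha.1, fixes_inv ha.2⟩ }, fun t => Iff.rfl⟩
  obtain ⟨P, hP⟩ : ∃ P : Subgroup G, ∀ t, t ∈ P ↔ t ∈ T ∧ t ∈ L := ⟨T ⊓ L, fun t => mem_inf⟩
  have hPe : P = T ⊓ L := by ext t; rw [hP, mem_inf]
  have hPL : ∀ t ∈ P, t ∈ L := fun t ht => ((hP t).mp ht).2
  have hPT : P ≤ T := fun t ht => ((hP t).mp ht).1
  have hPsyl : IsSyl L P := hPe ▸ hT.inf hL.le hLN
  let π : ↥L →* ↥L ⧸ oddCore ↥L := QuotientGroup.mk' _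
  have hinj : ∀ (u v : G) (hu : u ∈ P) (hv : v ∈ P), π ⟨u, hPL u hu⟩ = π ⟨v, hPL v hv⟩ → u = v := by
    intro u v hu hv h
    have h1 := (mk_eq_iff (hPL u hu) (hPL v hv)).mp h
    have h3 := hcore _ (mul_mem (inv_mem (hPT hu)) (hPT hv)) h1
    rwa [inv_mul_eq_one] at h3
  obtain ⟨P', hP'⟩ := hPsyl.exists_sylow
  have hP'' : ∀ (t : G) (ht : t ∈ L), (⟨t, ht⟩ : ↥L) ∈ P' ↔ t ∈ P := by
    intro t ht
    rw [← hP']
    constructor
    · intro h
      exact ⟨⟨t, ht⟩, h, rfl⟩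
    · rintro ⟨⟨s, hs⟩, h, rfl⟩
      exact h
  let S : Sylow 2 (↥L ⧸ oddCore ↥L) := P'.mapSurjective (QuotientGroup.mk'_surjective (oddCore ↥L))
  have hS : ∀ y, y ∈ S ↔ ∃ (p : G) (hp : p ∈ P), π ⟨p, hPL p hp⟩ = y := by
    intro y
    constructor
    · rintro ⟨⟨p, hpL⟩, hp, rfl⟩
      exact ⟨p, (hP'' p hpL).mp hp, rfl⟩
    · rintro ⟨p, hp, rfl⟩
      exact ⟨⟨p, hPL p hp⟩, (hP'' p (hPL p hp)).mpr hp, rfl⟩
  -- the action of `x`
  obtain ⟨φ, hφ⟩ : ∃ φ, φ = act L ⟨x, hxL⟩ := ⟨_, rfl⟩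
  have hφ2 : φ * φ = 1 := by
    rw [hφ, ← act_mul hxL hxL]
    rw [act_congr (mul_mem hxL hxL) hxx]
    exact map_one (act L)
  have hφo : R.o1 φ = -1 := by rw [hφ]; exact ho
  have hφf : R.fld φ = 1 := by
    by_contra h
    have h3 := R.o1_of_sq hφ2 h
    rw [hφo] at h3
    exact absurd h3 (by decide)
  have hφP : φ ∈ R.PGL := R.mem_PGL_iff_fld.mpr hφf
  have hφI : φ ∉ Inn (↥L ⧸ oddCore ↥L) := by
    intro h
    have h3 := (R.mem_inn_iff.mp h).2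
    rw [hφo] at h3
    exact absurd h3 (by decide)
  have hconjP : ∀ t ∈ T, ∀ p ∈ P, t * p * t⁻¹ ∈ P := fun t ht p hp =>
    (hP _).mpr ⟨mul_mem (mul_mem ht (hPT hp)) (inv_mem ht), conj_mem (hTN ht) (hPL p hp)⟩
  have hφS : ∀ y ∈ S, φ y ∈ S := by
    intro y hy
    obtain ⟨p, hp, rfl⟩ := (hS y).mp hy
    rw [hφ]
    exact (hS _).mpr ⟨x * p * x⁻¹, hconjP x hxT p hp, rfl⟩
  obtain ⟨d', r', hdih, hφd, hφr⟩ := R.dtype_frame S hφP hφI hφ2 hφS
  obtain ⟨d, hd, hd'⟩ := (hS _).mp hdih.d_mem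
  obtain ⟨r, hr, hr'⟩ := (hS _).mp hdih.r_mem
  let f : P →* ↥L ⧸ oddCore ↥L := π.comp (inclusion hPL)
  have hf : Function.Injective f := by
    rintro ⟨u, hu⟩ ⟨v, hv⟩ h
    exact Subtype.ext (hinj u v hu hv h)
  have hdihP : Dih P d r := by
    have h3 : Dih ((⊤ : Subgroup P).map f) (f ⟨d, hd⟩) (f ⟨r, hr⟩) := by
      have e : (⊤ : Subgroup P).map f = (S : Subgroup (↥L ⧸ oddCore ↥L)) := by
        ext y
        constructor
        · rintro ⟨⟨p, hp⟩, -, rfl⟩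
          exact (hS _).mpr ⟨p, hp, rfl⟩
        · intro hy
          obtain ⟨p, hp, rfl⟩ := (hS y).mp hy
          exact ⟨⟨p, hp⟩, mem_top _, rfl⟩
      rw [e]
      have e1 : f ⟨d, hd⟩ = d' := hd'
      have e2 : f ⟨r, hr⟩ = r' := hr'
      rw [e1, e2]
      exact hdih
    have h4 := Dih.comap f hf h3
    have h5 := Dih.map P.subtype P.subtype_injective h4
    have h6 : (⊤ : Subgroup P).map P.subtype = P := by
      rw [← MonoidHom.range_eq_map, range_subtype]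
    rw [h6] at h5
    exact h5
  -- elements of `T`
  have hact : ∀ p (hp : p ∈ P), act L ⟨p, hTN (hPT hp)⟩ = MulAut.conj (π ⟨p, hPL p hp⟩) := by
    intro p hp
    exact act_of_mem (hPL p hp)
  let A : Subgroup (MulAut (↥L ⧸ oddCore ↥L)) := (T.subgroupOf (normalizer (L : Set G))).map (act L)
  have hA : IsPGroup 2 A :=
    (hT.two.comap_of_injective (H := T) (normalizer (L : Set G)).subtype (subtype_injective _)).map _
  have hSA : (S : Subgroup (↥L ⧸ oddCore ↥L)).map MulAut.conj ≤ A := by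
    rintro _ ⟨y, hy, rfl⟩
    obtain ⟨p, hp, rfl⟩ := (hS y).mp hy
    exact ⟨⟨p, hTN (hPT hp)⟩, hPT hp, hact p hp⟩
  have hinn : ∀ t (ht : t ∈ T), act L ⟨t, hTN ht⟩ ∈ Inn (↥L ⧸ oddCore ↥L) →
      ∃ q ∈ Q, ∃ p ∈ P, t = q * p := by
    rintro t ht ⟨y, hy⟩
    have h3 : MulAut.conj y ∈ A := by
      rw [hy]
      exact ⟨⟨t, hTN ht⟩, ht, rfl⟩
    have h4 : y ∈ S := R.mem_of_conj_mem S hA hSA h3
    obtain ⟨p, hp, rfl⟩ := (hS y).mp h4
    have h5 : Fixes (t * p⁻¹) L := by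
      rw [← act_eq_iff (hTN ht) (hTN (hPT hp)), hact p hp]
      exact hy.symm
    exact ⟨t * p⁻¹, (hQ _).mpr ⟨mul_mem ht (inv_mem (hPT hp)), h5⟩, p, hp, by group⟩
  refine ⟨T, Q, P, d, r,
    { xx := hxx
      aa := haa
      a1 := ha1
      comp := hL
      LN := hLN
      syl := hT
      sylx := hTx ▸ hU
      aT := haT
      xT := hxT
      Qdef := hQ
      Pdef := hP
      psyl := hPsyl
      dih := hdihP
      xd := ?_
      xr := ?_
      inn := fun t _ ht h => hinn t ht h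
      ox := fun hx => hφ ▸ hφo }⟩
  · refine hinj _ _ (hconjP x hxT d hd) (inv_mem hd) ?_
    have h3 : φ (π ⟨d, hPL d hd⟩) = π ⟨x * d * x⁻¹, hPL _ (hconjP x hxT d hd)⟩ := by
      rw [hφ]; rfl
    rw [← h3, hd', hφd, ← hd', ← map_inv]
    rfl
  · refine hinj _ _ (hconjP x hxT r hr) (mul_mem hd hr) ?_
    have h3 : φ (π ⟨r, hPL r hr⟩) = π ⟨x * r * x⁻¹, hPL _ (hconjP x hxT r hr)⟩ := by
      rw [hφ]; rfl
    rw [← h3, hr', hφr, ← hd', ← hr', ← map_mul]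
    rfl

end Cfsg.Agent.UGT.FourB.Fm
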