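import Cfsg.Agent.UGT.FourB.Nor
import Cfsg.Agent.UGT.TriBase
import Cfsg.Agent.GH.L2AutPlus
import Cfsg.Agent.GH.L2One.AutPslMain
import Cfsg.Agent.GH.L2AutField
import Cfsg.Agent.OddHalf.D6.PglType

/-!
# NodeR, leaf (L0): the frame of one triple, field elements allowed

`Fr a x d r s L T T₁ Q P`: `(x, a, L)` a triple with `x` of PGL type, `a` the only involution of `C(a) ∩ C(x)` fixing
`L / O(L)`; `T` a Sylow 2-subgroup of `C(a)`, `C_T(x)` of `C(a) ∩ C(x)`; `Q` the kernel of `T` on `L / O(L)`,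
`P = T ∩ L = ⟨d, r⟩`, `s` the involution of `P ∩ Z(T)`, `T₁` the elements of `T` with `o1 = 1`.

* `exists_fr` : supply.
-/

set_option autoImplicit false

open Cfsg Subgroup
open Cfsg.Agent.SignalizersComponents Cfsg.Agent.Lib
open Cfsg.Agent.SignalizersComponents.IntrinsicBasic
open Cfsg.Agent.SignalizersComponents.PLayerAut
open Cfsg.Agent.Intrinsic.Basic Cfsg.Agent.Intrinsic.Cen Cfsg.Agent.Intrinsic.Diag
open Cfsg.Agent.McLLyComp.Act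
open Cfsg.Agent.GH.L2Aut
open Cfsg.Agent.UGT.Triple Cfsg.Agent.UGT.Iface Cfsg.Agent.UGT.Res.KFacts
open Cfsg.Agent.UGT.RankOneR
open scoped commutatorElement

namespace Cfsg.Agent.UGT.FourB.Frame

variable {G : Type*} [Group G]

/-- the frame, see the header -/
structure Fr (a x d r s : G) (L T T₁ Q P : Subgroup G) : Prop where
  tri : IsTriple x a L
  one : ∀ b : G, b * b = 1 → b * a = a * b → b * x = x * b → Fixes b L → b = 1 ∨ b = a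
  nor : centralizer ({a} : Set G) ≤ normalizer (L : Set G)
  TC : T ≤ centralizer ({a} : Set G)
  Tp : IsPGroup 2 T
  syl : ∀ U : Subgroup G, IsPGroup 2 U → T ≤ U → U ≤ centralizer ({a} : Set G) → U ≤ T
  sylx : ∀ U : Subgroup G, IsPGroup 2 U → T ⊓ centralizer ({x} : Set G) ≤ U →
    U ≤ centralizer ({a} : Set G) → U ≤ centralizer ({x} : Set G) → U ≤ T
  aT : a ∈ T
  xT : x ∈ T
  Qdef : ∀ t, t ∈ Q ↔ t ∈ T ∧ Fixes t L
  Pdef : ∀ t, t ∈ P ↔ t ∈ T ∧ t ∈ L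
  disj : ∀ t, t ∈ Q → t ∈ P → t = 1
  comm : ∀ q ∈ Q, ∀ p ∈ P, q * p = p * q
  dih : Dih P d r
  xd : x * d * x⁻¹ = d⁻¹
  xr : x * r * x⁻¹ = d * r
  sP : s ∈ P
  ss : s * s = 1
  s1 : s ≠ 1
  sT : ∀ t ∈ T, t * s = s * t
  /-- `C_P(x) = {1, s}` -/
  fix : ∀ p ∈ P, p * x = x * p → p = 1 ∨ p = s
  T₁le : T₁ ≤ T
  T₁idx : T₁.relIndex T = 2
  xT₁ : x ∉ T₁
  QT₁ : Q ≤ T₁
  PT₁ : P ≤ T₁
  /-- the involutions of `T`: in `QP`, in `QPx`, or of field type -/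
  cases : ∀ y ∈ T, y * y = 1 → (∃ q ∈ Q, ∃ p ∈ P, y = q * p) ∨ (∃ q ∈ Q, ∃ p ∈ P, y = q * p * x) ∨
    (y ∈ T₁ ∧ y * x ≠ x * y ∧ (∃ v ∈ P, v * v = 1 ∧ v ≠ 1 ∧ v ≠ s ∧ v * y = y * v) ∧
      ∀ q ∈ Q, ∀ p ∈ P, y ≠ q * p)

/-- `T`, `Q`, `P` and the Sylow 2-subgroup `S` of `L / O(L)` covered by `P` -/
structure Base (a x : G) (L T Q P : Subgroup G) {F : Type*} [Field F] (R : GH.L2Aut.Rep F (↥L ⧸ oddCore ↥L))
    (S : Sylow 2 (↥L ⧸ oddCore ↥L)) : Prop where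
  TC : T ≤ centralizer ({a} : Set G)
  TN : T ≤ normalizer (L : Set G)
  Tp : IsPGroup 2 T
  syl : ∀ U : Subgroup G, IsPGroup 2 U → T ≤ U → U ≤ centralizer ({a} : Set G) → U ≤ T
  sylx : ∀ U : Subgroup G, IsPGroup 2 U → T ⊓ centralizer ({x} : Set G) ≤ U →
    U ≤ centralizer ({a} : Set G) → U ≤ centralizer ({x} : Set G) → U ≤ T
  aT : a ∈ T
  xT : x ∈ T
  Qdef : ∀ t, t ∈ Q ↔ t ∈ T ∧ Fixes t L
  Pdef : ∀ t, t ∈ P ↔ t ∈ T ∧ t ∈ L
  sub : ∀ (p : G) (h : p ∈ L), p ∈ P → (QuotientGroup.mk' (oddCore ↥L)) ⟨p, h⟩ ∈ S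
  sup : ∀ y ∈ S, ∃ (p : G) (h : p ∈ L), p ∈ P ∧ (QuotientGroup.mk' (oddCore ↥L)) ⟨p, h⟩ = y

section base

variable [Finite G] {a x : G} {L T Q P : Subgroup G} {F : Type*} [Field F]
  {R : GH.L2Aut.Rep F (↥L ⧸ oddCore ↥L)} {S : Sylow 2 (↥L ⧸ oddCore ↥L)}

theorem exists_base (hL : IsComp (centralizer ({a} : Set G)) L) (haa : a * a = 1) (hxx : x * x = 1)
    (hax : a * x = x * a) (hnor : centralizer ({a} : Set G) ≤ normalizer (L : Set G)) :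
    ∃ (T Q P : Subgroup G) (S : Sylow 2 (↥L ⧸ oddCore ↥L)), Base a x L T Q P R S := by
  have h2 : Fact (Nat.Prime 2) := ⟨Nat.prime_two⟩
  obtain ⟨N, hN⟩ : ∃ N, N = centralizer ({a} : Set G) := ⟨_, rfl⟩
  obtain ⟨U, hUp, -, hUN, hUmax⟩ := exists_max (G := G) (H := N ⊓ centralizer ({x} : Set G))
    (U := ⊥) (IsPGroup.of_bot) bot_le
  obtain ⟨T, hTp, hUT, hTN, hTmax⟩ := exists_max hUp (hUN.trans inf_le_left)
  have hLN : L ≤ N := hN ▸ hL.le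
  have haN : a ∈ N := hN ▸ mem_centralizer_singleton_iff.mpr rfl
  have hxN : x ∈ N := hN ▸ mem_centralizer_singleton_iff.mpr hax.symm
  have hxU : x ∈ U := mem_of_central hUp hUN hUmax hxx ⟨hxN, mem_centralizer_singleton_iff.mpr rfl⟩
    fun t ht => mem_centralizer_singleton_iff.mp (hUN ht).2
  have hTC : T ≤ centralizer ({a} : Set G) := hN ▸ hTN
  have hTL : T ≤ normalizer (L : Set G) := hTC.trans hnor
  have haT : a ∈ T := mem_of_central hTp hTN hTmax haa haN fun t ht =>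
    mem_centralizer_singleton_iff.mp (hTC ht)
  have hxT : x ∈ T := hUT hxU
  -- `Q` and `P`
  obtain ⟨Q, hQ⟩ : ∃ Q : Subgroup G, ∀ t, t ∈ Q ↔ t ∈ T ∧ Fixes t L :=
    ⟨{ carrier := {t | t ∈ T ∧ Fixes t L}
       mul_mem' := fun ha hb => ⟨mul_mem ha.1 hb.1, fixes_mul ha.2 hb.2⟩
       one_mem' := ⟨one_mem _, fixes_one L⟩
       inv_mem' := fun ha => ⟨inv_mem ha.1, fixes_inv ha.2⟩ }, fun t => Iff.rfl⟩
  obtain ⟨P, hP⟩ : ∃ P : Subgroup G, ∀ t, t ∈ P ↔ t ∈ T ∧ t ∈ L := ⟨T ⊓ L, fun t => mem_inf⟩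
  have hPL : ∀ t ∈ P, t ∈ L := fun t ht => ((hP t).mp ht).2
  have hPT : P ≤ T := fun t ht => ((hP t).mp ht).1
  -- the Sylow subgroup of the quotient
  have hPmax : ∀ V : Subgroup G, IsPGroup 2 V → P ≤ V → V ≤ L → V ≤ P := by
    -- `L` normal in `N`, `T` Sylow in `N`
    intro V hV hPV hVL
    obtain ⟨S, hS⟩ := (hTp.comap_of_injective (H := T) N.subtype N.subtype_injective).exists_le_sylow
    have hST : (S : Subgroup N) = T.subgroupOf N := by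
      apply le_antisymm _ hS
      intro s hs
      have h3 := hTmax ((S : Subgroup N).map N.subtype) (S.2.map _)
        (fun t ht => ⟨⟨t, hTN ht⟩, hS ht, rfl⟩) (map_subtype_le _)
      exact h3 ⟨s, hs, rfl⟩
    have hLn : (L.subgroupOf N).Normal :=
      normal_subgroupOf_of_le_normalizer (hN ▸ hnor)
    -- a Sylow 2-subgroup of `L.subgroupOf N` containing `V`
    obtain ⟨W, hW⟩ := (hV.comap_of_injective (H := V) N.subtype N.subtype_injective).exists_le_sylow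
    obtain ⟨g, hg⟩ := MulAction.exists_smul_eq N W S
    -- `V ≤ W ∩ L`, conjugate to `T ∩ L`
    have h3 : Nat.card V ≤ Nat.card P := by
      let f : V → P := fun v => ⟨(g : G) * v * (g : G)⁻¹, (hP _).mpr ⟨by
        have h4 : (⟨v, hLN (hVL v.2)⟩ : N) ∈ (W : Subgroup N) := hW v.2
        have h5 : g * ⟨v, hLN (hVL v.2)⟩ * g⁻¹ ∈ ((g • W : Sylow 2 N) : Subgroup N) := by
          rw [Sylow.coe_subgroup_smul]
          exact Subgroup.smul_mem_pointwise_smul _ (MulAut.conj g) _ h4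
        rw [hg] at h5
        change _ ∈ (S : Subgroup N) at h5
        rw [hST] at h5
        exact h5, by
        have h4 : (⟨v, hLN (hVL v.2)⟩ : N) ∈ L.subgroupOf N := hVL v.2
        exact hLn.conj_mem _ h4 g⟩⟩
      refine Nat.card_le_card_of_injective f ?_
      intro v v' h
      have h4 : (g : G) * v * (g : G)⁻¹ = (g : G) * v' * (g : G)⁻¹ := congrArg Subtype.val h
      exact Subtype.ext (mul_left_cancel (mul_right_cancel h4))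
    exact (Subgroup.eq_of_le_of_card_ge hPV h3).ge
  have hPp : IsPGroup 2 P := hTp.to_le hPT
  let P' : Sylow 2 ↥L :=
    { toSubgroup := P.subgroupOf L
      isPGroup' := hPp.comap_of_injective _ L.subtype_injective
      is_maximal' := by
        intro V hV hPV
        apply le_antisymm _ hPV
        intro v hv
        have h3 := hPmax (V.map L.subtype) (hV.map _)
          (fun p hp => ⟨⟨p, hPL p hp⟩, hPV hp, rfl⟩) (map_subtype_le _)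
        exact h3 ⟨v, hv, rfl⟩ }
  refine ⟨T, Q, P, P'.mapSurjective (QuotientGroup.mk'_surjective (oddCore ↥L)),
    { TC := hTC
      TN := hTL
      Tp := hTp
      syl := fun V hV hTV hVa => hTmax V hV hTV (hN ▸ hVa)
      sylx := fun V hV hTV hVa hVx => (hUmax V hV ((le_inf hUT (hUN.trans inf_le_right)).trans hTV)
        (le_inf (hN ▸ hVa) hVx)).trans hUT
      aT := haT
      xT := hxT
      Qdef := hQ
      Pdef := hP
      sub := ?_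
      sup := ?_ }⟩
  · intro p hpL hp
    exact ⟨⟨p, hpL⟩, hp, rfl⟩
  · rintro y ⟨⟨p, hpL⟩, hp, rfl⟩
    exact ⟨p, hpL, hp, rfl⟩

namespace Base

variable (B : Base a x L T Q P R S)
include B

omit [Finite G] in
theorem PL : P ≤ L := fun t ht => ((B.Pdef t).mp ht).2

omit [Finite G] in
theorem PT : P ≤ T := fun t ht => ((B.Pdef t).mp ht).1

theorem core {t : G} (ht : t ∈ T) (htc : t ∈ core L) : t = 1 := by
  obtain ⟨n, hn⟩ := B.Tp ⟨t, ht⟩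
  exact eq_one_of_mem_core htc (congrArg Subtype.val hn)

theorem inj {u v : G} (hu : u ∈ P) (hv : v ∈ P) (huL : u ∈ L) (hvL : v ∈ L)
    (h : (QuotientGroup.mk' (oddCore ↥L)) ⟨u, huL⟩ = (QuotientGroup.mk' (oddCore ↥L)) ⟨v, hvL⟩) : u = v := by
  have h1 := (mk_eq_iff huL hvL).mp h
  have h3 := B.core (mul_mem (inv_mem (B.PT hu)) (B.PT hv)) h1
  rwa [inv_mul_eq_one] at h3

omit [Finite G] in
theorem conjP {t p : G} (ht : t ∈ T) (hp : p ∈ P) : t * p * t⁻¹ ∈ P :=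
  (B.Pdef _).mpr ⟨mul_mem (mul_mem ht (B.PT hp)) (inv_mem ht), conj_mem (B.TN ht) (B.PL hp)⟩

omit [Finite G] in
theorem act_mk {t p : G} (ht : t ∈ T) (hp : p ∈ P) (hpL : p ∈ L) :
    act L ⟨t, B.TN ht⟩ ((QuotientGroup.mk' (oddCore ↥L)) ⟨p, hpL⟩) =
      (QuotientGroup.mk' (oddCore ↥L)) ⟨t * p * t⁻¹, B.PL (B.conjP ht hp)⟩ :=
  McLLyComp.Act.act_mk (B.TN ht) hpL

omit [Finite G] in
theorem act_S {t : G} (ht : t ∈ T) : ∀ y ∈ S, act L ⟨t, B.TN ht⟩ y ∈ S := by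
  intro y hy
  obtain ⟨p, hpL, hp, rfl⟩ := B.sup y hy
  rw [B.act_mk ht hp hpL]
  exact B.sub _ _ (B.conjP ht hp)

omit [Finite G] in
theorem act_sq {t : G} (ht : t ∈ T) (htt : t * t = 1) :
    act L ⟨t, B.TN ht⟩ * act L ⟨t, B.TN ht⟩ = 1 := by
  rw [← act_mul (B.TN ht) (B.TN ht), act_congr (mul_mem (B.TN ht) (B.TN ht)) htt]
  exact map_one (act L)

theorem inn [Finite F] {t : G} (ht : t ∈ T) (hI : act L ⟨t, B.TN ht⟩ ∈ Inn (↥L ⧸ oddCore ↥L)) :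
    ∃ q ∈ Q, ∃ p ∈ P, t = q * p := by
  obtain ⟨y, hy⟩ := hI
  obtain ⟨A, hA⟩ : ∃ A : Subgroup (MulAut (↥L ⧸ oddCore ↥L)),
      A = (T.subgroupOf (normalizer (L : Set G))).map (act L) := ⟨_, rfl⟩
  have hA2 : IsPGroup 2 A := by
    rw [hA]
    exact (B.Tp.comap_of_injective (H := T) (normalizer (L : Set G)).subtype (subtype_injective _)).map _
  have hSA : (S : Subgroup (↥L ⧸ oddCore ↥L)).map MulAut.conj ≤ A := by
    rintro _ ⟨y, hy, rfl⟩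
    obtain ⟨p, hpL, hp, rfl⟩ := B.sup y hy
    rw [hA]
    exact ⟨⟨p, B.TN (B.PT hp)⟩, B.PT hp, act_of_mem hpL⟩
  have h3 : MulAut.conj y ∈ A := by
    rw [hy, hA]
    exact ⟨⟨t, B.TN ht⟩, ht, rfl⟩
  have h4 : y ∈ S := R.mem_of_conj_mem S hA2 hSA h3
  obtain ⟨p, hpL, hp, rfl⟩ := B.sup y h4
  have h5 : Fixes (t * p⁻¹) L := by
    rw [← act_eq_iff (B.TN ht) (B.TN (B.PT hp))]
    exact hy.symm.trans (act_of_mem hpL).symm
  exact ⟨t * p⁻¹, (B.Qdef _).mpr ⟨mul_mem ht (inv_mem (B.PT hp)), h5⟩, p, hp, by group⟩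

theorem disj [Finite F] {t : G} (htQ : t ∈ Q) (htP : t ∈ P) : t = 1 := by
  obtain ⟨htT, htf⟩ := (B.Qdef t).mp htQ
  have h3 : act L ⟨t, htf.1⟩ = 1 := (act_eq_one_iff htf.1).mpr htf
  have h4 := act_of_mem (B.PL htP)
  have h5 : (QuotientGroup.mk' (oddCore ↥L)) ⟨t, B.PL htP⟩ = 1 :=
    R.conj_injective (by rw [map_one]; exact h4.symm.trans h3)
  exact B.core htT ((mk_eq_one_iff (B.PL htP)).mp h5)

theorem comm {q p : G} (hq : q ∈ Q) (hp : p ∈ P) : q * p = p * q := by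
  obtain ⟨hqT, hqf⟩ := (B.Qdef q).mp hq
  have h3 := hqf.2 p (B.PL hp)
  have h4 : ⁅q, p⁆ ∈ T := by
    rw [commutatorElement_def]
    exact mul_mem (mul_mem (mul_mem hqT (B.PT hp)) (inv_mem hqT)) (inv_mem (B.PT hp))
  exact commutatorElement_eq_one_iff_mul_comm.mp (B.core h4 h3)

/-- the dihedral frame -/
theorem dih [Finite F] (hxx : x * x = 1) (ho : R.o1 (act L ⟨x, B.TN B.xT⟩) = -1) :
    ∃ d r, Dih P d r ∧ x * d * x⁻¹ = d⁻¹ ∧ x * r * x⁻¹ = d * r := by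
  obtain ⟨φ, hφ⟩ : ∃ φ, φ = act L ⟨x, B.TN B.xT⟩ := ⟨_, rfl⟩
  have hφ2 : φ * φ = 1 := by rw [hφ]; exact B.act_sq B.xT hxx
  rw [← hφ] at ho
  obtain ⟨hφP, hxo⟩ := Cfsg.Agent.OddHalf.D6.PglType.pgl_of R hφ2 ho
  obtain ⟨d', r', hdih, hφd, hφr⟩ := R.dtype_frame S hφP hxo hφ2 (by rw [hφ]; exact B.act_S B.xT)
  obtain ⟨d, hdL, hd, hd'⟩ := B.sup _ hdih.d_mem
  obtain ⟨r, hrL, hr, hr'⟩ := B.sup _ hdih.r_mem
  let f : P →* ↥L ⧸ oddCore ↥L := (QuotientGroup.mk' (oddCore ↥L)).comp (inclusion B.PL)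
  have hf : Function.Injective f := by
    rintro ⟨u, hu⟩ ⟨v, hv⟩ h
    exact Subtype.ext (B.inj hu hv (B.PL hu) (B.PL hv) h)
  refine ⟨d, r, ?_, ?_, ?_⟩
  · have h3 : Dih ((⊤ : Subgroup P).map f) (f ⟨d, hd⟩) (f ⟨r, hr⟩) := by
      have e : (⊤ : Subgroup P).map f = (S : Subgroup (↥L ⧸ oddCore ↥L)) := by
        ext y
        constructor
        · rintro ⟨⟨p, hp⟩, -, rfl⟩
          exact B.sub p _ hp
        · intro hy
          obtain ⟨p, hpL, hp, rfl⟩ := B.sup y hy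
          exact ⟨⟨p, hp⟩, mem_top _, rfl⟩
      rw [e]
      have e1 : f ⟨d, hd⟩ = d' := hd'
      have e2 : f ⟨r, hr⟩ = r' := hr'
      rw [e1, e2]
      exact hdih
    have h4 := Dih.comap f hf h3
    have h5 := Dih.map P.subtype P.subtype_injective h4
    have h6 : (⊤ : Subgroup P).map P.subtype = P := by
      rw [← MonoidHom.range_eq_map, range_subtype]
    rw [h6] at h5
    exact h5
  · refine B.inj (B.conjP B.xT hd) (inv_mem hd) (B.PL (B.conjP B.xT hd)) (inv_mem hdL) ?_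
    rw [← B.act_mk B.xT hd hdL, ← hφ, hd', hφd, ← hd', ← map_inv]
    rfl
  · refine B.inj (B.conjP B.xT hr) (mul_mem hd hr) (B.PL (B.conjP B.xT hr)) (mul_mem hdL hrL) ?_
    rw [← B.act_mk B.xT hr hrL, ← hφ, hr', hφr, ← hd', ← hr', ← map_mul]
    rfl

/-- `C_P(x)` -/
theorem exists_s [Finite F] (hxx : x * x = 1) (ho : R.o1 (act L ⟨x, B.TN B.xT⟩) = -1) (hP1 : P ≠ ⊥) :
    ∃ s ∈ P, s * s = 1 ∧ s ≠ 1 ∧ (∀ t ∈ T, t * s = s * t) ∧ ∀ p ∈ P, p * x = x * p → p = 1 ∨ p = s := by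
  obtain ⟨φ, hφ⟩ : ∃ φ, φ = act L ⟨x, B.TN B.xT⟩ := ⟨_, rfl⟩
  have hφ2 : φ * φ = 1 := by rw [hφ]; exact B.act_sq B.xT hxx
  rw [← hφ] at ho
  obtain ⟨hφP, hxo⟩ := Cfsg.Agent.OddHalf.D6.PglType.pgl_of R hφ2 ho
  obtain ⟨z, hzS, hzz, hz1, hφz, hzc, hzfix⟩ := R.dtype_fix S hφP hxo hφ2 (by rw [hφ]; exact B.act_S B.xT)
  obtain ⟨s, hsP, hso, hsT⟩ := TriBase.exists_central B.Tp B.PT (fun t ht => by
    rw [mem_normalizer_iff]
    intro y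
    refine ⟨fun hy => B.conjP ht hy, fun hy => ?_⟩
    have h3 := B.conjP (inv_mem ht) hy
    have h4 : t⁻¹ * (t * y * t⁻¹) * t⁻¹⁻¹ = y := by group
    rwa [h4] at h3) hP1
  have hss := sq_of_order hso
  have hs1 := ne_one_of_order hso
  have key : ∀ p ∈ P, ∀ hpL : p ∈ L, p * x = x * p →
      (QuotientGroup.mk' (oddCore ↥L)) ⟨p, hpL⟩ = 1 ∨ (QuotientGroup.mk' (oddCore ↥L)) ⟨p, hpL⟩ = z := by
    intro p hp hpL hpx
    apply hzfix _ (B.sub p hpL hp)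
    rw [hφ, B.act_mk B.xT hp hpL]
    congr 1
    apply Subtype.ext
    change x * p * x⁻¹ = p
    rw [← hpx, mul_inv_cancel_right]
  have hone : ∀ p ∈ P, ∀ hpL : p ∈ L, (QuotientGroup.mk' (oddCore ↥L)) ⟨p, hpL⟩ = 1 → p = 1 := by
    intro p hp hpL h
    exact B.core (B.PT hp) ((mk_eq_one_iff hpL).mp h)
  have hsz : (QuotientGroup.mk' (oddCore ↥L)) ⟨s, B.PL hsP⟩ = z := by
    rcases key s hsP (B.PL hsP) (hsT x B.xT).symm with h | h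
    · exact absurd (hone s hsP (B.PL hsP) h) hs1
    · exact h
  refine ⟨s, hsP, hss, hs1, hsT, fun p hp hpx => ?_⟩
  rcases key p hp (B.PL hp) hpx with h | h
  · exact Or.inl (hone p hp (B.PL hp) h)
  · exact Or.inr (B.inj hp hsP (B.PL hp) (B.PL hsP) (by rw [h, hsz]))

/-- field type involutions -/
theorem fld_case [Finite F] (hxx : x * x = 1) (ho : R.o1 (act L ⟨x, B.TN B.xT⟩) = -1) (s : G)
    {y : G} (hy : y ∈ T) (hyy : y * y = 1) (hfl : R.fld (act L ⟨y, B.TN hy⟩) ≠ 1) :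
    y * x ≠ x * y ∧ (∃ v ∈ P, v * v = 1 ∧ v ≠ 1 ∧ v ≠ s ∧ v * y = y * v) ∧
      ∀ q ∈ Q, ∀ p ∈ P, y ≠ q * p := by
  obtain ⟨φ, hφ⟩ : ∃ φ, φ = act L ⟨x, B.TN B.xT⟩ := ⟨_, rfl⟩
  have hφ2 : φ * φ = 1 := by rw [hφ]; exact B.act_sq B.xT hxx
  rw [← hφ] at ho
  obtain ⟨hφP, hxo⟩ := Cfsg.Agent.OddHalf.D6.PglType.pgl_of R hφ2 ho
  obtain ⟨α, hα⟩ : ∃ α, α = act L ⟨y, B.TN hy⟩ := ⟨_, rfl⟩
  have hαα : α * α = 1 := by rw [hα]; exact B.act_sq hy hyy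
  rw [← hα] at hfl
  have hfin : Finite (↥L ⧸ oddCore ↥L) := R.finite
  obtain ⟨dd, rr, cc, E⟩ := GH.L2One.AutPslMain.autData R S
  have hnI : ¬ GH.L2AutPlus.Inn α := by
    rintro ⟨l, hl⟩
    apply hfl
    rw [hl]
    exact R.mem_PGL_iff_fld.1 (R.conj_mem_PGL l)
  have hty : ∃ b ∈ (S : Subgroup (↥L ⧸ oddCore ↥L)), ∃ c ∈ (S : Subgroup (↥L ⧸ oddCore ↥L)),
      Four b c ∧ α b = b ∧ α c = c := by
    rcases GH.L2AutPlus.outer_type R.conj_injective E hαα (by rw [hα]; exact B.act_S hy) hnI with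
      ⟨-, -, h3⟩ | ⟨h3, -⟩
    · exact h3
    · exact absurd h3 hfl
  obtain ⟨b, hb, c, hc, hbc, hαb, hαc⟩ := hty
  refine ⟨?_, ?_, ?_⟩
  · intro hyx
    have h3 : φ * α = α * φ := by
      rw [hφ, hα, ← act_mul (B.TN B.xT) (B.TN hy), ← act_mul (B.TN hy) (B.TN B.xT)]
      exact act_congr _ hyx.symm
    obtain ⟨w, hw⟩ := Cfsg.Agent.GH.L2AutField.sig_of_comm R hαα hfl h3
    rw [R.mem_PGL_iff_fld.1 hφP, map_one, mul_one] at hw
    exact hxo ⟨w, hw.symm⟩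
  · obtain ⟨b₀, hbL, hb₀, hb'⟩ := B.sup _ hb
    obtain ⟨c₀, hcL, hc₀, hc'⟩ := B.sup _ hc
    have key : ∀ v (_ : v ∈ P) (hvL : v ∈ L), α ((QuotientGroup.mk' (oddCore ↥L)) ⟨v, hvL⟩) =
        (QuotientGroup.mk' (oddCore ↥L)) ⟨v, hvL⟩ → v * y = y * v := by
      intro v hv hvL h3
      rw [hα, B.act_mk hy hv hvL] at h3
      have h4 := B.inj (B.conjP hy hv) hv _ _ h3
      calc v * y = y * v * y⁻¹ * y := by rw [h4]
        _ = y * v := by group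
    have key2 : ∀ v (_ : v ∈ P) (hvL : v ∈ L), (QuotientGroup.mk' (oddCore ↥L)) ⟨v, hvL⟩ *
        (QuotientGroup.mk' (oddCore ↥L)) ⟨v, hvL⟩ = 1 → v * v = 1 := by
      intro v hv hvL h3
      rw [← map_mul] at h3
      exact B.core (mul_mem (B.PT hv) (B.PT hv)) ((mk_eq_one_iff (mul_mem hvL hvL)).mp h3)
    have hb₀1 : b₀ ≠ 1 := by
      rintro rfl
      apply hbc.a1
      rw [← hb']
      exact map_one _
    have hc₀1 : c₀ ≠ 1 := by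
      rintro rfl
      apply hbc.b1
      rw [← hc']
      exact map_one _
    by_cases h3 : b₀ = s
    · refine ⟨c₀, hc₀, key2 c₀ hc₀ hcL (by rw [hc']; exact hbc.bb), hc₀1, ?_,
        key c₀ hc₀ hcL (by rw [hc']; exact hαc)⟩
      intro h4
      apply hbc.ne
      rw [← hb', ← hc']
      congr 1
      exact Subtype.ext (h3.trans h4.symm)
    · exact ⟨b₀, hb₀, key2 b₀ hb₀ hbL (by rw [hb']; exact hbc.aa), hb₀1, h3,
        key b₀ hb₀ hbL (by rw [hb']; exact hαb)⟩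
  · intro q hq p hp h3
    obtain ⟨h4, h5⟩ := (B.Qdef q).mp hq
    apply hfl
    rw [hα, act_congr (B.TN hy) h3, act_mul h5.1 (B.TN (B.PT hp)), (act_eq_one_iff h5.1).mpr h5, one_mul,
      act_of_mem (B.PL hp)]
    exact R.mem_PGL_iff_fld.1 (R.conj_mem_PGL _)

theorem cases [Finite F] (hxx : x * x = 1) (ho : R.o1 (act L ⟨x, B.TN B.xT⟩) = -1) (s : G)
    {T₁ : Subgroup G} (hT₁ : ∀ t, t ∈ T₁ ↔ ∃ ht : t ∈ T, R.o1 (act L ⟨t, B.TN ht⟩) = 1)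
    {y : G} (hy : y ∈ T) (hyy : y * y = 1) :
    (∃ q ∈ Q, ∃ p ∈ P, y = q * p) ∨ (∃ q ∈ Q, ∃ p ∈ P, y = q * p * x) ∨
    (y ∈ T₁ ∧ y * x ≠ x * y ∧ (∃ v ∈ P, v * v = 1 ∧ v ≠ 1 ∧ v ≠ s ∧ v * y = y * v) ∧
      ∀ q ∈ Q, ∀ p ∈ P, y ≠ q * p) := by
  by_cases hI : act L ⟨y, B.TN hy⟩ ∈ Inn (↥L ⧸ oddCore ↥L)
  · exact Or.inl (B.inn hy hI)
  by_cases hfl : R.fld (act L ⟨y, B.TN hy⟩) = 1
  · right; left
    have hoα : R.o1 (act L ⟨y, B.TN hy⟩) = -1 := by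
      rcases Int.units_eq_one_or (R.o1 (act L ⟨y, B.TN hy⟩)) with h3 | h3
      · exact absurd (R.mem_inn_iff.2 ⟨hfl, h3⟩) hI
      · exact h3
    have h3 : act L ⟨y * x, B.TN (mul_mem hy B.xT)⟩ ∈ Inn (↥L ⧸ oddCore ↥L) := by
      rw [act_mul (B.TN hy) (B.TN B.xT)]
      refine R.mem_inn_iff.2 ⟨?_, ?_⟩
      · rw [map_mul, hfl, one_mul]
        exact R.mem_PGL_iff_fld.1
          (Cfsg.Agent.OddHalf.D6.PglType.pgl_of R (B.act_sq B.xT hxx) ho).1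
      · rw [map_mul, hoα, ho]; decide
    obtain ⟨q, hq, p, hp, h4⟩ := B.inn (mul_mem hy B.xT) h3
    refine ⟨q, hq, p, hp, ?_⟩
    rw [← h4, mul_assoc, hxx, mul_one]
  · right; right
    have hoα : R.o1 (act L ⟨y, B.TN hy⟩) = 1 := R.o1_of_sq (B.act_sq hy hyy) hfl
    exact ⟨(hT₁ y).mpr ⟨hy, hoα⟩, B.fld_case hxx ho s hy hyy hfl⟩

end Base

section T1

omit [Finite G] in
/-- `o1` of the action on `L / O(L)` -/
theorem exists_o [Finite F] (hTN : T ≤ normalizer (L : Set G)) :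
    ∃ o : T →* ℤˣ, ∀ t (ht : t ∈ T), o ⟨t, ht⟩ = R.o1 (act L ⟨t, hTN ht⟩) :=
  ⟨R.o1.comp ((act L).comp (inclusion hTN)), fun _ _ => rfl⟩

omit [Finite G] in
theorem o_cases {o : T →* ℤˣ} (t : T) : o t = 1 ∨ o t = -1 := Int.units_eq_one_or _

omit [Finite G] in
/-- the elements of `T` with `o1 = 1` -/
theorem exists_T₁ [Finite F] (B : Base a x L T Q P R S) (ho : R.o1 (act L ⟨x, B.TN B.xT⟩) = -1) :
    ∃ T₁ : Subgroup G, T₁ ≤ T ∧ T₁.relIndex T = 2 ∧ x ∉ T₁ ∧ Q ≤ T₁ ∧ P ≤ T₁ ∧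
      ∀ t, t ∈ T₁ ↔ ∃ ht : t ∈ T, R.o1 (act L ⟨t, B.TN ht⟩) = 1 := by
  obtain ⟨o, hoo⟩ := exists_o (R := R) B.TN
  obtain ⟨T₁, hT₁⟩ : ∃ T₁ : Subgroup G, ∀ t, t ∈ T₁ ↔ ∃ ht : t ∈ T, o ⟨t, ht⟩ = 1 := by
    refine ⟨o.ker.map T.subtype, fun t => ?_⟩
    constructor
    · rintro ⟨⟨u, hu⟩, hu', rfl⟩
      exact ⟨hu, hu'⟩
    · rintro ⟨ht, h⟩
      exact ⟨⟨t, ht⟩, h, rfl⟩
  have hox : o ⟨x, B.xT⟩ = -1 := (hoo x B.xT).trans ho
  have hxT₁ : x ∉ T₁ := by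
    intro h
    obtain ⟨h3, h4⟩ := (hT₁ x).mp h
    rw [hox] at h4
    exact absurd h4 (by decide)
  refine ⟨T₁, fun t ht => ((hT₁ t).mp ht).1, ?_, hxT₁, ?_, ?_, fun t => ?_⟩
  · rw [Subgroup.relIndex, Subgroup.index_eq_two_iff]
    refine ⟨⟨x, B.xT⟩, ?_⟩
    rintro ⟨t, ht⟩
    rw [Subgroup.mem_subgroupOf, Subgroup.mem_subgroupOf]
    change Xor' (t * x ∈ T₁) (t ∈ T₁)
    rcases o_cases (o := o) ⟨t, ht⟩ with h3 | h3
    · refine Or.inr ⟨(hT₁ t).mpr ⟨ht, h3⟩, fun h4 => hxT₁ ?_⟩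
      have h5 := mul_mem (inv_mem ((hT₁ t).mpr ⟨ht, h3⟩)) h4
      rwa [inv_mul_cancel_left] at h5
    · refine Or.inl ⟨(hT₁ _).mpr ⟨mul_mem ht B.xT, ?_⟩, fun h4 => ?_⟩
      · have h5 : o ⟨t * x, mul_mem ht B.xT⟩ = o ⟨t, ht⟩ * o ⟨x, B.xT⟩ := map_mul o ⟨t, ht⟩ ⟨x, B.xT⟩
        rw [h5, h3, hox]
        decide
      · obtain ⟨h5, h6⟩ := (hT₁ t).mp h4
        rw [h3] at h6
        exact absurd h6 (by decide)
  · intro q hq
    obtain ⟨h3, h4⟩ := (B.Qdef q).mp hq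
    refine (hT₁ q).mpr ⟨h3, ?_⟩
    have h5 : act L ⟨q, h4.1⟩ = 1 := (act_eq_one_iff h4.1).mpr h4
    rw [hoo, h5, map_one]
  · intro p hp
    refine (hT₁ p).mpr ⟨B.PT hp, ?_⟩
    rw [hoo, act_of_mem (B.PL hp), R.o1_conj]
  · rw [hT₁]
    constructor
    · rintro ⟨ht, h⟩
      exact ⟨ht, (hoo t ht).symm.trans h⟩
    · rintro ⟨ht, h⟩
      exact ⟨ht, (hoo t ht).trans h⟩

end T1

end base

/-- supply of the frame -/
theorem exists_fr [Finite G] {x a : G} {L : Subgroup G} (Tr : IsTriple x a L)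
    {F : Type*} [Field F] [Finite F]
    (R : GH.L2Aut.Rep F (↥L ⧸ oddCore ↥L)) (ho : R.o1 (act L ⟨x, Tr.x_mem⟩) = -1)
    (one : ∀ b : G, b * b = 1 → b * a = a * b → b * x = x * b → Fixes b L → b = 1 ∨ b = a) :
    ∃ (T T₁ Q P : Subgroup G) (d r s : G), Fr a x d r s L T T₁ Q P := by
  have hxx := sq_of_order Tr.invx
  have hnor := Nor.nor Tr R one
  obtain ⟨T, Q, P, S, B⟩ := exists_base (R := R) Tr.comp (sq_of_order Tr.inva) hxx Tr.comm hnor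
  have ho' : R.o1 (act L ⟨x, B.TN B.xT⟩) = -1 := ho
  obtain ⟨d, r, hdih, hxd, hxr⟩ := B.dih hxx ho'
  obtain ⟨s, hsP, hss, hs1, hsT, hfix⟩ := B.exists_s hxx ho' (fun h => by
    have h3 := hdih.d_mem
    rw [h, mem_bot] at h3
    exact hdih.d1 h3)
  obtain ⟨T₁, h1, h2, h3, h4, h5, h6⟩ := exists_T₁ B ho'
  refine ⟨T, T₁, Q, P, d, r, s,
    { tri := Tr
      one := one
      nor := hnor
      TC := B.TC
      Tp := B.Tp
      syl := B.syl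
      sylx := B.sylx
      aT := B.aT
      xT := B.xT
      Qdef := B.Qdef
      Pdef := B.Pdef
      disj := fun t h1 h2 => B.disj h1 h2
      comm := fun q hq p hp => B.comm hq hp
      dih := hdih
      xd := hxd
      xr := hxr
      sP := hsP
      ss := hss
      s1 := hs1
      sT := hsT
      fix := hfix
      T₁le := h1
      T₁idx := h2
      xT₁ := h3
      QT₁ := h4
      PT₁ := h5
      cases := fun y hy hyy => B.cases hxx ho' s h6 hy hyy }⟩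

end Cfsg.Agent.UGT.FourB.Frame
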