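import Cfsg.Agent.UGT.FourB.GTools

/-!
# The case `T < S`: `W₀`, `x` is not conjugate to `a`, `(x, t, J)` is a triple

`Fr T Q P L a s x` : the frame of a triple `(x, a, L)`; `World G` : the hypotheses on all triples; `Sw S T a x g` :
`g ∈ N_S(T) - T`, `S` a Sylow 2-subgroup of `G`.

* `Fr.exists_W` : `W₀ = W(⟨a, s⟩)` is odd, `W₀ ∩ C(v) = O(C(v))`, `L, T ≤ N(W₀)`;
* `Fr.not_odd` : `⟨O(C(x)), O(C(xw))⟩` is not of odd order if `w` acts as `s` on `L`;
* `Fr.not_conj` : `x` is not conjugate to `a`;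
* `Fr.xg` : `x` is of `PGL₂` type on `J = gLg⁻¹`;
* `Fr.exists_J` : some element of `O(C(x)) ∩ J` is not in `O(J)`.
-/

set_option autoImplicit false
set_option linter.style.haveILetI false
set_option linter.unusedSectionVars false

open Cfsg Subgroup
open Cfsg.Agent.SignalizersComponents Cfsg.Agent.Lib Cfsg.Agent.SignalizersComponents.RelSylow
open Cfsg.Agent.SignalizersComponents.IntrinsicBasic
open Cfsg.Agent.SignalizersComponents.PLayerAut
open Cfsg.Agent.Intrinsic.Basic Cfsg.Agent.Intrinsic.Cen Cfsg.Agent.Intrinsic.Functor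
open Cfsg.Agent.McLLyComp.Act
open Cfsg.Agent.UGT.Triple Cfsg.Agent.UGT.Res.Base Cfsg.Agent.UGT.FourB.GTools
open scoped commutatorElement

namespace Cfsg.Agent.UGT.FourB.GFun

universe u

/-! ### definitions -/

/-- the elements `1, a, s, as` -/
def In4 {G : Type*} [Group G] (a s w : G) : Prop := w = 1 ∨ w = a ∨ w = s ∨ w = a * s

/-- K-facts for a triple `(x, a, L)`, `s` the involution of `C_L(x)` -/
structure KF {G : Type*} [Group G] (x s : G) (L : Subgroup G) : Prop where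
  k0 : ∀ l ∈ L, Fixes l L → l ∈ core L
  k1 : ∀ (H : Subgroup G) (w : G), H ≤ L → Odd (Nat.card H) → (∀ h ∈ H, x * h * x⁻¹ ∈ H) →
    (∀ h ∈ H, w * h * w⁻¹ ∈ H) → Fixes (w * s) L → ∀ y ∈ H, y * x = x * y → y ∉ core L → ∀ h ∈ H, ⁅h, x⁆ ∈ core L
  k7 : ∀ y ∈ L, ⁅y, x⁆ ∈ core L → ⁅y, s⁆ ∈ core L → y ∈ core L ∨ y * s ∈ core L
  k6 : ∃ y ∈ L, y * x = x * y ∧ ⁅y, s⁆ ∉ core L

/-- the frame of a triple -/
structure Fr {G : Type*} [Group G] (T Q P L : Subgroup G) (a s x : G) : Prop where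
  tri : IsTriple x a L
  kf : KF x s L
  LN : ∀ c, c * a = a * c → c ∈ normalizer (L : Set G)
  Tmax : IsMaxP 2 (centralizer ({a} : Set G)) T
  Xmax : IsMaxP 2 (centralizer ({a} : Set G) ⊓ centralizer ({x} : Set G)) (T ⊓ centralizer ({x} : Set G))
  aT : a ∈ T
  xT : x ∈ T
  Qdef : ∀ q, q ∈ Q ↔ q ∈ T ∧ Fixes q L
  Pdef : ∀ p, p ∈ P ↔ p ∈ T ∧ p ∈ L
  QP : ∀ q ∈ Q, ∀ p ∈ P, q * p = p * q
  sP : s ∈ P
  ss : s * s = 1
  s1 : s ≠ 1
  Ts : ∀ t ∈ T, t * s = s * t
  om : ∀ y ∈ T, y * y = 1 → y * x = x * y → ∃ w, In4 a s w ∧ (y = w ∨ y = w * x)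
  nQ : ∃ n ∈ Q, n * x * n⁻¹ = x * a
  pP : ∃ p ∈ P, p * x * p⁻¹ = x * s
  uQ : ∃ u ∈ Q, u * u = 1 ∧ u ≠ 1 ∧ u ≠ a
  vP : ∃ v ∈ P, v * v = 1 ∧ v ≠ 1 ∧ v ≠ s

/-- the hypotheses on all triples -/
structure World (G : Type u) [Group G] [Finite G] : Prop where
  FT : OddSol G
  rk : ∀ (u v : G) (J : Subgroup G), IsTriple u v J → ∀ E : Subgroup G, (∀ e ∈ E, e * e = 1) →
    u ∈ E → v ∈ E → Nat.card E < 16
  nc : ∀ (u v : G) (J : Subgroup G), IsTriple u v J → ∀ S : Sylow 2 G, ∃ t ∈ S, t * v ≠ v * t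
  zst : ∀ (H S : Subgroup G), IsMaxP 2 H S → ∀ a : G, orderOf a = 2 → a ∈ S →
    (∀ g ∈ H, g * a * g⁻¹ ∈ S → g * a * g⁻¹ = a) → ∀ g ∈ H, a * g * a⁻¹ * g⁻¹ ∈ core H

/-- `g ∈ N_S(T) - T` -/
structure Sw {G : Type*} [Group G] (S : Sylow 2 G) (T : Subgroup G) (a g : G) : Prop where
  TS : T ≤ (S : Subgroup G)
  gS : g ∈ S
  ga : g * a ≠ a * g
  gn : ∀ t ∈ T, g * t * g⁻¹ ∈ T
  gg : g * g ∈ T

variable {G : Type u} [Group G]

/-! ### the four-group -/

/-- the group `{1, a, s, as}` -/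
def four {a s : G} (aa : a * a = 1) (ss : s * s = 1) (h : a * s = s * a) : Subgroup G where
  carrier := {w | In4 a s w}
  one_mem' := Or.inl rfl
  mul_mem' := by
    have f1 : a * (a * s) = s := by rw [← mul_assoc, aa, one_mul]
    have f2 : s * (a * s) = a := by rw [h, ← mul_assoc, ss, one_mul]
    have f3 : a * s * a = s := by rw [h, mul_assoc, aa, mul_one]
    have f4 : a * s * s = a := by rw [mul_assoc, ss, mul_one]
    have f5 : a * s * (a * s) = 1 := by rw [mul_assoc, f2, aa]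
    rintro x y (rfl | rfl | rfl | rfl) (rfl | rfl | rfl | rfl)
    · exact Or.inl (one_mul 1)
    · exact Or.inr (Or.inl (one_mul _))
    · exact Or.inr (Or.inr (Or.inl (one_mul _)))
    · exact Or.inr (Or.inr (Or.inr (one_mul _)))
    · exact Or.inr (Or.inl (mul_one _))
    · exact Or.inl aa
    · exact Or.inr (Or.inr (Or.inr rfl))
    · exact Or.inr (Or.inr (Or.inl f1))
    · exact Or.inr (Or.inr (Or.inl (mul_one _)))
    · exact Or.inr (Or.inr (Or.inr h.symm))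
    · exact Or.inl ss
    · exact Or.inr (Or.inl f2)
    · exact Or.inr (Or.inr (Or.inr (mul_one _)))
    · exact Or.inr (Or.inr (Or.inl f3))
    · exact Or.inr (Or.inl f4)
    · exact Or.inl f5
  inv_mem' := by
    have f2 : s * (a * s) = a := by rw [h, ← mul_assoc, ss, one_mul]
    have f5 : a * s * (a * s) = 1 := by rw [mul_assoc, f2, aa]
    rintro x (rfl | rfl | rfl | rfl)
    · exact Or.inl inv_one
    · exact Or.inr (Or.inl (inv_of_sq aa))
    · exact Or.inr (Or.inr (Or.inl (inv_of_sq ss)))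
    · exact Or.inr (Or.inr (Or.inr (inv_of_sq f5)))

theorem mem_four {a s : G} {aa : a * a = 1} {ss : s * s = 1} {h : a * s = s * a} {w : G} :
    w ∈ four aa ss h ↔ In4 a s w := Iff.rfl

theorem four_sq {a s : G} {aa : a * a = 1} {ss : s * s = 1} {h : a * s = s * a} :
    ∀ w ∈ four aa ss h, w * w = 1 := by
  have f2 : s * (a * s) = a := by rw [h, ← mul_assoc, ss, one_mul]
  rintro x (rfl | rfl | rfl | rfl)
  · exact one_mul 1
  · exact aa
  · exact ss
  · rw [mul_assoc, f2, aa]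

theorem card_four [Finite G] {a s : G} {aa : a * a = 1} {ss : s * s = 1} {h : a * s = s * a} (a1 : a ≠ 1)
    (s1 : s ≠ 1) (hne : a ≠ s) : 4 ≤ Nat.card (four aa ss h) := by
  have hab : a * s ≠ 1 := fun h1 => hne (by
    have := eq_inv_of_mul_eq_one_left h1
    rwa [inv_of_sq ss] at this)
  let f : Bool × Bool → four aa ss h := fun e => ⟨cond e.1 a 1 * cond e.2 s 1, by
    rcases e with ⟨_ | _, _ | _⟩
    · left; exact one_mul _
    · right; right; left; exact one_mul _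
    · right; left; exact mul_one _
    · right; right; right; rfl⟩
  have hf : Function.Injective f := by
    rintro ⟨e1, e2⟩ ⟨e3, e4⟩ h1
    have h2 : cond e1 a 1 * cond e2 s 1 = cond e3 a 1 * cond e4 s 1 := congrArg Subtype.val h1
    rcases e1 <;> rcases e2 <;> rcases e3 <;> rcases e4 <;>
      simp only [cond_true, cond_false, one_mul, mul_one, mul_eq_left, mul_eq_right,
        left_eq_mul, right_eq_mul] at h2 <;>
      first
        | rfl
        | exact absurd h2 a1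
        | exact absurd h2.symm a1
        | exact absurd h2 s1
        | exact absurd h2.symm s1
        | exact absurd h2 hne
        | exact absurd h2.symm hne
        | exact absurd h2 hab
        | exact absurd h2.symm hab
  have h3 := Nat.card_le_card_of_injective f hf
  have h4 : Nat.card (Bool × Bool) = 4 := by rw [Nat.card_eq_fintype_card]; rfl
  rwa [h4] at h3

/-! ### elementary consequences of the frame -/

theorem eq_of_mul_eq {a b : G} (h : a * b = 1) (hb : b * b = 1) : a = b := by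
  have := eq_inv_of_mul_eq_one_left h
  rwa [inv_of_sq hb] at this

/-- `L`-elements congruent to their conjugates -/
theorem comm_mul {L : Subgroup G} {y c d : G} (hc : c ∈ normalizer (L : Set G)) (h1 : ⁅y, c⁆ ∈ core L)
    (h2 : ⁅y, d⁆ ∈ core L) : ⁅y, c * d⁆ ∈ core L := by
  have e : ⁅y, c * d⁆ = ⁅y, c⁆ * (c * ⁅y, d⁆ * c⁻¹) := by
    simp only [commutatorElement_def]; group
  rw [e]
  exact mul_mem h1 (conj_mem_core hc h2)

theorem comm_inv {L : Subgroup G} {y c : G} (hc : c ∈ normalizer (L : Set G)) (h1 : ⁅y, c⁆ ∈ core L) :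
    ⁅y, c⁻¹⁆ ∈ core L := by
  have e : ⁅y, c⁻¹⁆ = c⁻¹ * ⁅y, c⁆⁻¹ * c⁻¹⁻¹ := by
    simp only [commutatorElement_def]; group
  rw [e]
  exact conj_mem_core (inv_mem hc) (inv_mem h1)

namespace Fr

variable {T Q P L : Subgroup G} {a s x : G}

section basic

variable (F : Fr T Q P L a s x)
include F

theorem aa : a * a = 1 := sq_of_order F.tri.inva

theorem a1 : a ≠ 1 := ne_one_of_order F.tri.inva

theorem xx : x * x = 1 := sq_of_order F.tri.invx

theorem x1 : x ≠ 1 := ne_one_of_order F.tri.invx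

theorem Tp : IsPGroup 2 T := F.Tmax.1

theorem Ta : ∀ t ∈ T, t * a = a * t := fun _ ht => comm_c (F.Tmax.2.1 ht)

theorem QT : Q ≤ T := fun q hq => ((F.Qdef q).1 hq).1

theorem PT : P ≤ T := fun q hq => ((F.Pdef q).1 hq).1

theorem PL : P ≤ L := fun q hq => ((F.Pdef q).1 hq).2

theorem La : ∀ l ∈ L, l * a = a * l := fun _ hl => comm_c (F.tri.comp.le hl)

theorem sT : s ∈ T := F.PT F.sP

theorem sL : s ∈ L := F.PL F.sP

theorem as : a * s = s * a := (F.Ta s F.sT).symm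

theorem sx : s * x = x * s := (F.Ts x F.xT).symm

theorem ax : a * x = x * a := (F.Ta x F.xT).symm

theorem aQ : a ∈ Q := by
  refine (F.Qdef a).2 ⟨F.aT, F.LN a rfl, fun y hy => ?_⟩
  have h2 : ⁅a, y⁆ = 1 := by rw [commutatorElement_def, ← F.La y hy]; group
  rw [h2]
  exact one_mem _

theorem V4T {w : G} (hw : In4 a s w) : w ∈ T := by
  rcases hw with rfl | rfl | rfl | rfl
  · exact one_mem _
  · exact F.aT
  · exact F.sT
  · exact mul_mem F.aT F.sT

theorem V4c {w : G} (hw : In4 a s w) : ∀ t ∈ T, t * w = w * t := by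
  intro t ht
  rcases hw with rfl | rfl | rfl | rfl
  · rw [mul_one, one_mul]
  · exact F.Ta t ht
  · exact F.Ts t ht
  · rw [← mul_assoc, F.Ta t ht, mul_assoc, F.Ts t ht, mul_assoc]

theorem V4x {w : G} (hw : In4 a s w) : w * x = x * w := (F.V4c hw x F.xT).symm

/-- a central element of `T` with square 1 -/
theorem central {y : G} (hy : y ∈ T) (hyy : y * y = 1) (hc : ∀ t ∈ T, t * y = y * t) : In4 a s y := by
  obtain ⟨w, hw, h | h⟩ := F.om y hy hyy (hc x F.xT).symm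
  · rw [h]; exact hw
  · exfalso
    obtain ⟨n, hn, hnx⟩ := F.nQ
    have h1 := hc n (F.QT hn)
    rw [h] at h1
    have h2 : n * (w * x) * n⁻¹ = w * (x * a) := by
      calc n * (w * x) * n⁻¹ = (n * w) * x * n⁻¹ := by group
        _ = w * (n * x * n⁻¹) := by rw [F.V4c hw n (F.QT hn)]; group
        _ = w * (x * a) := by rw [hnx]
    have h3 : n * (w * x) * n⁻¹ = w * x := by rw [h1]; group
    rw [h3, ← mul_assoc] at h2
    exact F.a1 (left_eq_mul.mp h2)

/-- all elements of `x W` are conjugate to `x` under `T`; the conjugating element acts as `P` on `L` -/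
theorem exists_conj {w : G} (hw : In4 a s w) : ∃ p ∈ T, p * x * p⁻¹ = x * w := by
  obtain ⟨n, hn, hnx⟩ := F.nQ
  obtain ⟨p, hp, hpx⟩ := F.pP
  rcases hw with rfl | rfl | rfl | rfl
  · exact ⟨1, one_mem _, by group⟩
  · exact ⟨n, F.QT hn, hnx⟩
  · exact ⟨p, F.PT hp, hpx⟩
  · refine ⟨n * p, mul_mem (F.QT hn) (F.PT hp), ?_⟩
    calc n * p * x * (n * p)⁻¹ = n * (p * x * p⁻¹) * n⁻¹ := by group
      _ = (n * x * n⁻¹) * (n * s * n⁻¹) := by rw [hpx]; group
      _ = x * (a * s) := by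
        rw [hnx, F.Ts n (F.QT hn)]; group

/-- the elements of square 1 in `C_T(x)` -/
theorem mem_E {y : G} (hy : y ∈ T) (hyy : y * y = 1) (hyx : y * x = x * y) (hn : ¬ In4 a s y) :
    ∃ p ∈ T, p * x * p⁻¹ = y := by
  obtain ⟨w, hw, h | h⟩ := F.om y hy hyy hyx
  · exact absurd (h ▸ hw) hn
  · obtain ⟨p, hp, hpx⟩ := F.exists_conj hw
    exact ⟨p, hp, by rw [hpx, h, F.V4x hw]⟩

theorem conjL {t l : G} (ht : t * a = a * t) (hl : l ∈ L) : t * l * t⁻¹ ∈ L := conj_mem (F.LN t ht) hl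

theorem PQ [Finite G] {y : G} (hQ : y ∈ Q) (hP : y ∈ P) : y = 1 := by
  obtain ⟨h1, h2⟩ := (F.Qdef y).1 hQ
  have h3 := F.kf.k0 y (F.PL hP) h2
  obtain ⟨n, hn⟩ := F.Tp ⟨y, h1⟩
  exact eq_one_of_mem_core h3 (congrArg Subtype.val hn)

theorem a_ne_s [Finite G] : a ≠ s := fun h => F.a1 (F.PQ F.aQ (by rw [h]; exact F.sP))

theorem Qconj {t q : G} (ht : t ∈ T) (hq : q ∈ Q) : t * q * t⁻¹ ∈ Q := by
  obtain ⟨h1, h2⟩ := (F.Qdef q).1 hq
  exact (F.Qdef _).2 ⟨mul_mem (mul_mem ht h1) (inv_mem ht), fixes_conj h2 (F.LN t (F.Ta t ht))⟩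

theorem Pconj {t p : G} (ht : t ∈ T) (hp : p ∈ P) : t * p * t⁻¹ ∈ P := by
  obtain ⟨h1, h2⟩ := (F.Pdef p).1 hp
  exact (F.Pdef _).2 ⟨mul_mem (mul_mem ht h1) (inv_mem ht), F.conjL (F.Ta t ht) h2⟩

end basic

section fin

variable [Finite G] (F : Fr T Q P L a s x)
include F

/-- an elementary abelian group of order at least 16 -/
theorem exists_E {u v : G} (huQ : u ∈ Q) (uu : u * u = 1) (u1 : u ≠ 1) (ua : u ≠ a)
    (hvP : v ∈ P) (vv : v * v = 1) (v1 : v ≠ 1) (vs : v ≠ s) :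
    ∃ E : Subgroup G, (∀ e ∈ E, e * e = 1) ∧ 16 ≤ Nat.card E ∧ (∀ w, In4 a s w → w ∈ E) ∧ u ∈ E ∧ v ∈ E ∧
      ∀ H : Subgroup G, (∀ w, In4 a s w → w ∈ H) → u ∈ H → v ∈ H → E ≤ H := by
  have huT := F.QT huQ
  have hvT := F.PT hvP
  obtain ⟨E1, h1, h1s⟩ := exists_adj (E := four F.aa F.ss F.as) (u := u) four_sq uu fun e he =>
    (F.V4c (mem_four.1 he) u huT).symm
  have huE1 : u ∈ E1 := (h1 u).2 (Or.inr (by rw [uu]; exact one_mem _))
  obtain ⟨E2, h2, h2s⟩ := exists_adj (E := E1) (u := v) h1s vv (by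
    intro e he
    have hu2 : u * v = v * u := F.QP u huQ v hvP
    rcases (h1 e).1 he with h | h
    · exact (F.V4c (mem_four.1 h) v hvT).symm
    · have h3 := F.V4c (mem_four.1 h) v hvT
      have h4 : e = (e * u) * u := by rw [mul_assoc, uu, mul_one]
      calc e * v = (e * u) * (u * v) := by rw [← mul_assoc, ← h4]
        _ = (e * u) * v * u := by rw [hu2, ← mul_assoc]
        _ = v * ((e * u) * u) := by rw [← h3, mul_assoc]
        _ = v * e := by rw [← h4])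
  have hvE2 : v ∈ E2 := (h2 v).2 (Or.inr (by rw [vv]; exact one_mem _))
  have hunot : u ∉ four F.aa F.ss F.as := by
    rintro (h | h | h | h)
    · exact u1 h
    · exact ua h
    · exact u1 (F.PQ huQ (h ▸ F.sP))
    · have h3 : a * u = s := by rw [h, ← mul_assoc, F.aa, one_mul]
      exact F.s1 (F.PQ (h3 ▸ mul_mem F.aQ huQ) F.sP)
  have hvnot4 : ¬ In4 a s v := by
    rintro (h | h | h | h)
    · exact v1 h
    · exact F.a1 (F.PQ F.aQ (h ▸ hvP))
    · exact vs h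
    · have h3 : v * s = a := by rw [h, mul_assoc, F.ss, mul_one]
      exact F.a1 (F.PQ F.aQ (h3 ▸ mul_mem hvP F.sP))
  have hvnot : v ∉ E1 := by
    intro h
    rcases (h1 v).1 h with h | h
    · exact hvnot4 (mem_four.1 h)
    · -- `v u ∈ {1, a, s, as}`
      have h5 : ∃ q ∈ Q, ∃ p ∈ P, v * u = q * p ∧ (p = 1 ∨ p = s) := by
        rcases mem_four.1 h with h3 | h3 | h3 | h3
        · exact ⟨1, one_mem _, 1, one_mem _, by rw [h3]; group, Or.inl rfl⟩
        · exact ⟨a, F.aQ, 1, one_mem _, by rw [h3]; group, Or.inl rfl⟩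
        · exact ⟨1, one_mem _, s, F.sP, by rw [h3]; group, Or.inr rfl⟩
        · exact ⟨a, F.aQ, s, F.sP, h3, Or.inr rfl⟩
      obtain ⟨q, hq, p, hp, h6, h7⟩ := h5
      have h8 : q⁻¹ * u = p * v⁻¹ := by
        have h9 : u * v = q * p := by rw [F.QP u huQ v hvP, h6]
        calc q⁻¹ * u = q⁻¹ * (u * v) * v⁻¹ := by group
          _ = p * v⁻¹ := by rw [h9]; group
      have h10 := F.PQ (mul_mem (inv_mem hq) huQ) (h8 ▸ mul_mem hp (inv_mem hvP))
      rw [h8, mul_inv_eq_one] at h10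
      rcases h7 with h7 | h7
      · exact v1 (h10.symm.trans h7)
      · exact vs (h10.symm.trans h7)
  have hc1 := card_adj h1 uu hunot
  have hc2 := card_adj h2 vv hvnot
  have hc0 : 4 ≤ Nat.card (four F.aa F.ss F.as) := card_four F.a1 F.s1 F.a_ne_s
  have hE1E2 : E1 ≤ E2 := fun g hg => (h2 g).2 (Or.inl hg)
  have hVE1 : four F.aa F.ss F.as ≤ E1 := fun g hg => (h1 g).2 (Or.inl hg)
  refine ⟨E2, h2s, by omega, fun w hw => hE1E2 (hVE1 (mem_four.2 hw)), hE1E2 huE1, hvE2, ?_⟩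
  intro H hV hu hv g hg
  have hE1H : E1 ≤ H := by
    intro g hg
    rcases (h1 g).1 hg with h | h
    · exact hV g (mem_four.1 h)
    · have h3 := mul_mem (hV _ (mem_four.1 h)) hu
      rwa [mul_assoc, uu, mul_one] at h3
  rcases (h2 g).1 hg with h | h
  · exact hE1H h
  · have h3 := mul_mem (hE1H h) hv
    rwa [mul_assoc, vv, mul_one] at h3

/-! ### the group `W₀` -/

/-- `W₀` -/
def W0 (F : Fr T Q P L a s x) : Subgroup G := W (four F.aa F.ss F.as)

omit [Finite G] in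
theorem th_le_W0 {v : G} (hv : In4 a s v) (hv1 : v ≠ 1) : th v ≤ F.W0 :=
  le_W (mem_four.2 hv) hv1

theorem W0_facts (Wd : World G) : Odd (Nat.card F.W0) ∧
    (∀ v, In4 a s v → v ≠ 1 → F.W0 ⊓ centralizer ({v} : Set G) = th v) ∧
    L ≤ normalizer (F.W0 : Set G) ∧ T ≤ normalizer (F.W0 : Set G) := by
  obtain ⟨u, huQ, uu, u1, ua⟩ := F.uQ
  obtain ⟨v, hvP, vv, v1, vs⟩ := F.vP
  obtain ⟨E, hE, h16, hVE, huE, hvE, -⟩ := F.exists_E huQ uu u1 ua hvP vv v1 vs
  have hWE : F.W0 = W E :=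
    W_eq_of_le Wd.FT Wd.rk hE h16 (fun w hw => hVE w (mem_four.1 hw)) (card_four F.a1 F.s1 F.a_ne_s)
  obtain ⟨hodd, hcen⟩ := functor Wd.FT Wd.rk hE h16
  have hua : a * u = u * a := (F.Ta u (F.QT huQ)).symm
  have hW2 : W (four F.aa uu hua) = W E := by
    refine W_eq_of_le Wd.FT Wd.rk hE h16 ?_ (card_four F.a1 u1 (Ne.symm ua))
    have h1 : a ∈ E := hVE a (Or.inr (Or.inl rfl))
    rintro w (rfl | rfl | rfl | rfl)
    · exact one_mem _
    · exact h1
    · exact huE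
    · exact mul_mem h1 huE
  refine ⟨by rw [hWE]; exact hodd, fun w hw hw1 => by rw [hWE]; exact hcen w (hVE w hw) hw1, ?_, ?_⟩
  · intro l hl
    have huc : u ∈ centralizer ({a} : Set G) := mem_c hua.symm
    have hsup := (isComp_cen F.tri.comp huc uu ((F.Qdef u).1 huQ).2).2
    obtain ⟨j, hj, hjl⟩ := exists_mul_of_sup hsup hl
    have h1 : j ∈ normalizer (F.W0 : Set G) := by
      rw [hWE, ← hW2]
      refine normalizer_le _ ?_
      rw [mem_normalizer_iff]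
      have hja : j * a = a * j := F.La j (cen_le _ _ hj)
      have hju : j * u = u * j := comm_of_mem_cen hj
      have key : ∀ c : G, c * a = a * c → c * u = u * c → ∀ w ∈ four F.aa uu hua, c * w * c⁻¹ = w := by
        intro c h1 h2 w hw
        rcases mem_four.1 hw with h | h | h | h
        · rw [h]; group
        · rw [h, h1]; group
        · rw [h, h2]; group
        · rw [h, ← mul_assoc, h1, mul_assoc a, h2]; group
      intro w
      refine ⟨fun hw => by rw [key j hja hju w hw]; exact hw, fun hw => ?_⟩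
      have hja' : j⁻¹ * a = a * j⁻¹ := by
        calc j⁻¹ * a = j⁻¹ * (a * j) * j⁻¹ := by group
          _ = a * j⁻¹ := by rw [← hja]; group
      have hju' : j⁻¹ * u = u * j⁻¹ := by
        calc j⁻¹ * u = j⁻¹ * (u * j) * j⁻¹ := by group
          _ = u * j⁻¹ := by rw [← hju]; group
      have h3 := key j⁻¹ hja' hju' _ hw
      have h4 : j⁻¹ * (j * w * j⁻¹) * j⁻¹⁻¹ = w := by group
      rw [h4] at h3
      rw [← h3] at hw
      have h5 := key j hja hju _ hw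
      rw [h3]
      rw [h3] at hw
      exact hw
    have h2 : j⁻¹ * l ∈ F.W0 :=
      F.th_le_W0 (Or.inr (Or.inl rfl)) F.a1 (F.tri.comp.core_le_core hjl)
    have h3 : l = j * (j⁻¹ * l) := by group
    rw [h3]
    exact mul_mem h1 (le_normalizer h2)
  · intro t ht
    refine normalizer_le _ ?_
    have key : ∀ c ∈ T, ∀ w ∈ four F.aa F.ss F.as, c * w * c⁻¹ = w := by
      intro c hc w hw
      rw [F.V4c (mem_four.1 hw) c hc]; group
    rw [mem_normalizer_iff]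
    intro w
    refine ⟨fun hw => by rw [key t ht w hw]; exact hw, fun hw => ?_⟩
    have h3 := key t⁻¹ (inv_mem ht) _ hw
    have h4 : t⁻¹ * (t * w * t⁻¹) * t⁻¹⁻¹ = w := by group
    rw [h4] at h3
    rw [h3]
    exact hw

/-- **(J1)** `⟨O(C(x)), O(C(xw))⟩` is not of odd order if `w` acts as `s` on `L`. -/
theorem not_odd {z w : G} (hz : z = s ∨ z = a * s) (hxz : th x ⊓ centralizer ({z} : Set G) ≤ th z)
    (hza : th z ⊓ centralizer ({a} : Set G) ≤ th a) (hw : In4 a s w) (hf : Fixes (w * s) L)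
    {H : Subgroup G} (hH : Odd (Nat.card H)) (h1 : th x ≤ H) (h2 : th (x * w) ≤ H) : False := by
  have hzV : In4 a s z := by
    rcases hz with h | h
    · exact Or.inr (Or.inr (Or.inl h))
    · exact Or.inr (Or.inr (Or.inr h))
  have hzz : z * z = 1 := four_sq z (mem_four (aa := F.aa) (ss := F.ss) (h := F.as).2 hzV)
  obtain ⟨y, hyx, hyL, hyc⟩ := exists_mem F.tri hzz (F.V4x hzV) (F.V4c hzV a F.aT).symm F.sL hz hxz hza
  obtain ⟨p, hpT, hpx⟩ := F.exists_conj hw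
  have hpN := F.LN p (F.Ta p hpT)
  have hxN := F.LN x F.ax.symm
  have hwT := F.V4T hw
  have hwN := F.LN w (F.Ta w hwT)
  have hsN := F.LN s F.as.symm
  have hwx := F.V4x hw
  -- the group `H₁`
  obtain ⟨H1, hH1⟩ : ∃ H1, H1 = (th x ⊓ L) ⊔ (th (x * w) ⊓ L) := ⟨_, rfl⟩
  have hH1H : H1 ≤ H := by
    rw [hH1]
    exact sup_le (inf_le_left.trans h1) (inf_le_left.trans h2)
  have hH1L : H1 ≤ L := by
    rw [hH1]
    exact sup_le inf_le_right inf_le_right
  have hH1odd : Odd (Nat.card H1) := Odd.of_dvd_nat hH (Subgroup.card_dvd_of_le hH1H)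
  have hnorm : ∀ c : G, c * x = x * c → c * w = w * c → c ∈ normalizer (L : Set G) →
      ∀ h ∈ H1, c * h * c⁻¹ ∈ H1 := by
    intro c hcx hcw hcN h hh
    have hcxw : c * (x * w) = (x * w) * c := by rw [← mul_assoc, hcx, mul_assoc, hcw, mul_assoc]
    have h3 : H1 ≤ H1.comap (MulAut.conj c).toMonoidHom := by
      conv_lhs => rw [hH1]
      refine sup_le ?_ ?_
      · rintro k ⟨hk1, hk2⟩
        change c * k * c⁻¹ ∈ H1
        rw [hH1]
        exact mem_sup_left ⟨conj_core (mem_c hcx) hk1, conj_mem hcN hk2⟩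
      · rintro k ⟨hk1, hk2⟩
        change c * k * c⁻¹ ∈ H1
        rw [hH1]
        exact mem_sup_right ⟨conj_core (mem_c hcxw) hk1, conj_mem hcN hk2⟩
    exact h3 hh
  have hyH1 : y ∈ H1 := by
    rw [hH1]; exact mem_sup_left ⟨hyx, hyL⟩
  have hyxc : y * x = x * y := comm_c (core_le _ hyx)
  have hk := F.kf.k1 H1 w hH1L hH1odd (hnorm x rfl hwx.symm hxN) (hnorm w hwx rfl hwN) hf y hyH1 hyxc hyc
  -- the conjugate `y'`
  obtain ⟨y', hy'⟩ : ∃ y', y' = p * y * p⁻¹ := ⟨_, rfl⟩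
  have hy'L : y' ∈ L := hy' ▸ conj_mem hpN hyL
  have hy'th : y' ∈ th (x * w) := by
    rw [hy', ← hpx, th_cj]
    exact conj_mem_cj hyx
  have hy'H1 : y' ∈ H1 := by
    rw [hH1]; exact mem_sup_right ⟨hy'th, hy'L⟩
  have hy'c : y' ∉ core L := by
    intro h
    apply hyc
    have h3 := conj_mem_core (inv_mem hpN) h
    rw [hy'] at h3
    have e : p⁻¹ * (p * y * p⁻¹) * p⁻¹⁻¹ = y := by group
    rwa [e] at h3
  have hcx := hk y' hy'H1
  have hcxw : ⁅y', x * w⁆ ∈ core L := by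
    have h3 : y' * (x * w) = (x * w) * y' := comm_c (core_le _ hy'th)
    rw [commutatorElement_def, h3]
    have e : x * w * y' * y'⁻¹ * (x * w)⁻¹ = 1 := by group
    rw [e]
    exact one_mem _
  have hcw : ⁅y', w⁆ ∈ core L := by
    have h3 := comm_mul (inv_mem hxN) (comm_inv hxN hcx) hcxw
    have e : x⁻¹ * (x * w) = w := by group
    rwa [e] at h3
  have hcws : ⁅y', w * s⁆ ∈ core L := by
    have h3 := inv_mem (hf.2 y' hy'L)
    rwa [commutatorElement_inv] at h3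
  have hcs : ⁅y', s⁆ ∈ core L := by
    have h3 := comm_mul (inv_mem hwN) (comm_inv hwN hcw) hcws
    have e : w⁻¹ * (w * s) = s := by group
    rwa [e] at h3
  rcases F.kf.k7 y' hy'L hcx hcs with h | h
  · exact hy'c h
  · -- `y' ^ 2 ∈ O(L)`
    have h3 : y' * y' ∈ core L := by
      have h4 := conj_mem_core hsN h
      have e : s * (y' * s) * s⁻¹ = s * y' := by group
      rw [e] at h4
      have h5 := mul_mem h h4
      have e2 : y' * s * (s * y') = y' * y' := by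
        calc y' * s * (s * y') = y' * (s * s) * y' := by group
          _ = y' * y' := by rw [F.ss, mul_one]
      rwa [e2] at h5
    have h4 : Odd (orderOf y') := Odd.of_dvd_nat hH1odd (Subgroup.orderOf_dvd_natCard H1 hy'H1)
    obtain ⟨k, hk⟩ := h4
    have h5 : (y' * y') ^ (k + 1) = y' := by
      rw [← pow_two, ← pow_mul, show 2 * (k + 1) = orderOf y' + 1 by omega, pow_succ, pow_orderOf_eq_one,
        one_mul]
    exact hy'c (h5 ▸ pow_mem h3 _)

end fin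

end Fr

/-! ### `g ∈ N_S(T) - T` -/

/-- `t = a^g`, `z = at` -/
structure Tz (S : Sylow 2 G) (T : Subgroup G) (a s t z g : G) : Prop where
  sw : Sw S T a g
  ta : g * a * g⁻¹ = t
  tt : g * t * g⁻¹ = a
  t1 : t = s ∨ t = a * s
  z1 : z = s ∨ z = a * s
  zat : z = a * t
  t_ne : t ≠ a
  zS : ∀ y ∈ S, y * z = z * y
  zG : ∀ h : G, h * a * h⁻¹ ≠ z
  gT' : ∀ u ∈ T, g⁻¹ * u * g ∈ T
  memT : ∀ y ∈ S, y * a = a * y → y ∈ T

/-- a non-trivial 2-group has a central involution -/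
theorem exists_central_inv [Finite G] {S : Subgroup G} (hS : IsPGroup 2 S) {a : G} (ha : a ∈ S) (a1 : a ≠ 1) :
    ∃ c ∈ S, c * c = 1 ∧ c ≠ 1 ∧ ∀ y ∈ S, y * c = c * y := by
  have h2 : Fact (Nat.Prime 2) := ⟨Nat.prime_two⟩
  have hnt : Nontrivial S := ⟨⟨⟨a, ha⟩, 1, fun h => a1 (congrArg Subtype.val h)⟩⟩
  have hc := hS.center_nontrivial
  have h3 : IsPGroup 2 (center S) := hS.to_subgroup _
  obtain ⟨n, hn, hcard⟩ := h3.nontrivial_iff_card.mp hc
  have hdvd : 2 ∣ Nat.card (center S) := by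
    rw [hcard]
    exact dvd_pow_self 2 (by omega)
  obtain ⟨c, hc2⟩ := exists_prime_orderOf_dvd_card' 2 hdvd
  refine ⟨((c : S) : G), (c : S).2, ?_, ?_, ?_⟩
  · have h4 : c ^ 2 = 1 := by rw [← hc2]; exact pow_orderOf_eq_one c
    rw [pow_two] at h4
    exact congrArg (fun y : center S => ((y : S) : G)) h4
  · intro h
    have h4 : c = 1 := Subtype.ext (Subtype.ext h)
    rw [h4, orderOf_one] at hc2
    omega
  · intro y hy
    have h4 := mem_center_iff.mp c.2 ⟨y, hy⟩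
    exact congrArg Subtype.val h4

theorem Fr.exists_tz [Finite G] {T Q P L : Subgroup G} {a s x : G} (F : Fr T Q P L a s x) {S : Sylow 2 G} {g : G}
    (w : Sw S T a g) : ∃ t z, Tz S T a s t z g := by
  obtain ⟨t, ht⟩ : ∃ t, t = g * a * g⁻¹ := ⟨_, rfl⟩
  have hgT' : ∀ u ∈ T, g⁻¹ * u * g ∈ T := by
    intro u hu
    have h1 := w.gn _ (mul_mem (mul_mem (inv_mem w.gg) hu) w.gg)
    have e : g * ((g * g)⁻¹ * u * (g * g)) * g⁻¹ = g⁻¹ * u * g := by group
    rwa [e] at h1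
  have htT : t ∈ T := ht ▸ w.gn a F.aT
  have htt : t * t = 1 := by
    rw [ht]
    calc g * a * g⁻¹ * (g * a * g⁻¹) = g * (a * a) * g⁻¹ := by group
      _ = 1 := by rw [F.aa]; group
  have htc : ∀ u ∈ T, u * t = t * u := by
    intro u hu
    have h1 := F.Ta _ (hgT' u hu)
    rw [ht]
    calc u * (g * a * g⁻¹) = g * ((g⁻¹ * u * g) * a) * g⁻¹ := by group
      _ = g * (a * (g⁻¹ * u * g)) * g⁻¹ := by rw [h1]
      _ = g * a * g⁻¹ * u := by group
  have htV := F.central htT htt htc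
  have htn1 : t ≠ 1 := by
    rw [ht]
    intro h
    apply F.a1
    calc a = g⁻¹ * (g * a * g⁻¹) * g := by group
      _ = 1 := by rw [h]; group
  have htna : t ≠ a := by
    intro h
    apply w.ga
    rw [ht] at h
    calc g * a = g * a * g⁻¹ * g := by group
      _ = a * g := by rw [h]
  have ht1 : t = s ∨ t = a * s := by
    rcases htV with h | h | h | h
    · exact absurd h htn1
    · exact absurd h htna
    · exact Or.inl h
    · exact Or.inr h
  have htg : g * t * g⁻¹ = a := by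
    rw [ht]
    have h1 := F.Ta _ w.gg
    calc g * (g * a * g⁻¹) * g⁻¹ = (g * g) * a * (g * g)⁻¹ := by group
      _ = a := by rw [h1]; group
  have hmemT : ∀ y ∈ S, y * a = a * y → y ∈ T := by
    intro y hy hya
    have h1 : IsPGroup 2 ((S : Subgroup G) ⊓ centralizer ({a} : Set G) : Subgroup G) :=
      S.2.to_le inf_le_left
    exact F.Tmax.2.2 _ h1 inf_le_right (le_inf w.TS F.Tmax.2.1) ⟨hy, mem_c hya⟩
  -- the central involution
  obtain ⟨c, hcS, hcc, hc1, hcz⟩ := exists_central_inv S.2 (w.TS F.aT) F.a1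
  have hcT : c ∈ T := hmemT c hcS (hcz a (w.TS F.aT)).symm
  have hcV := F.central hcT hcc fun u hu => hcz u (w.TS hu)
  have hcna : c ≠ a := by
    intro h
    apply w.ga
    rw [← h]
    exact hcz g w.gS
  have hcnt : c ≠ t := by
    intro h
    apply htna
    have h1 := hcz g w.gS
    rw [h] at h1
    rw [← htg, h1]; group
  have hzat : c = a * t ∧ (c = s ∨ c = a * s) := by
    rcases hcV with h | h | h | h
    · exact absurd h hc1
    · exact absurd h hcna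
    · rcases ht1 with h' | h'
      · exact absurd (h.trans h'.symm) hcnt
      · refine ⟨?_, Or.inl h⟩
        rw [h', ← mul_assoc, F.aa, one_mul, h]
    · rcases ht1 with h' | h'
      · exact ⟨by rw [h', h], Or.inr h⟩
      · exact absurd (h.trans h'.symm) hcnt
  refine ⟨t, c, w, ht.symm, htg, ht1, hzat.2, hzat.1, htna, hcz, ?_, hgT', hmemT⟩
  -- `z` is not conjugate to `a`
  intro h hh
  have h2 : Fact (Nat.Prime 2) := ⟨Nat.prime_two⟩
  have h3 := F.Tmax.map_conj h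
  have h4 : (centralizer ({a} : Set G)).map (MulAut.conj h).toMonoidHom = centralizer ({c} : Set G) := by
    rw [← hh]
    exact cj_centralizer h a
  rw [h4] at h3
  have h5 : IsMaxP 2 (centralizer ({c} : Set G)) (S : Subgroup G) := by
    refine ⟨S.2, fun y hy => mem_c (hcz y hy), fun R' hR' _ hle => ?_⟩
    exact (S.3 hR' hle).le
  have h6 := h3.card_eq h5
  rw [card_map_conj] at h6
  have h7 : T = (S : Subgroup G) := Subgroup.eq_of_le_of_card_ge w.TS h6.ge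
  exact w.ga (F.Ta g (by rw [h7]; exact w.gS))

namespace Fr

variable [Finite G] {T Q P L : Subgroup G} {a s x t z g : G} {S : Sylow 2 G}

omit [Finite G] in
theorem _root_.Cfsg.Agent.UGT.FourB.GFun.Tz.tV (Z : Tz S T a s t z g) : In4 a s t := by
  rcases Z.t1 with h | h
  · exact Or.inr (Or.inr (Or.inl h))
  · exact Or.inr (Or.inr (Or.inr h))

omit [Finite G] in
theorem _root_.Cfsg.Agent.UGT.FourB.GFun.Tz.zV (Z : Tz S T a s t z g) : In4 a s z := by
  rcases Z.z1 with h | h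
  · exact Or.inr (Or.inr (Or.inl h))
  · exact Or.inr (Or.inr (Or.inr h))

section

variable (F : Fr T Q P L a s x)
include F

omit [Finite G] in
theorem tt (Z : Tz S T a s t z g) : t * t = 1 := four_sq t (mem_four (aa := F.aa) (ss := F.ss) (h := F.as).2 Z.tV)

omit [Finite G] in
theorem zz (Z : Tz S T a s t z g) : z * z = 1 := four_sq z (mem_four (aa := F.aa) (ss := F.ss) (h := F.as).2 Z.zV)

omit [Finite G] in
theorem t1 (Z : Tz S T a s t z g) : t ≠ 1 := by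
  intro h
  apply F.a1
  calc a = g⁻¹ * (g * a * g⁻¹) * g := by group
    _ = 1 := by rw [Z.ta, h]; group

omit [Finite G] in
theorem z1 (Z : Tz S T a s t z g) : z ≠ 1 := by
  intro h
  rw [Z.zat] at h
  have h1 := eq_inv_of_mul_eq_one_left h
  rw [inv_of_sq (F.tt Z)] at h1
  exact Z.t_ne h1.symm

omit [Finite G] in
/-- the elements of `W` -/
theorem of_in4 (Z : Tz S T a s t z g) {w : G} (hw : In4 a s w) (w1 : w ≠ 1) : w = a ∨ w = t ∨ w = z := by
  rcases hw with h | h | h | h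
  · exact absurd h w1
  · exact Or.inl h
  · rcases Z.t1 with h' | h'
    · exact Or.inr (Or.inl (h.trans h'.symm))
    · right; right
      rw [Z.zat, h', ← mul_assoc, F.aa, one_mul, h]
  · rcases Z.t1 with h' | h'
    · right; right
      rw [Z.zat, h', h]
    · exact Or.inr (Or.inl (h.trans h'.symm))

theorem not_triple_z (Wd : World G) (Z : Tz S T a s t z g) (u : G) (J : Subgroup G) : ¬ IsTriple u z J := by
  intro h
  obtain ⟨y, hy, hyz⟩ := Wd.nc u z J h S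
  exact hyz (Z.zS y hy)

theorem xz_le (Wd : World G) (Z : Tz S T a s t z g) : th x ⊓ centralizer ({z} : Set G) ≤ th z :=
  le_of_no_triple F.xx F.x1 (F.zz Z) (F.z1 Z) (F.V4x Z.zV) fun J => F.not_triple_z Wd Z x J

theorem za_le (Wd : World G) (Z : Tz S T a s t z g) : th z ⊓ centralizer ({a} : Set G) ≤ th a := by
  obtain ⟨-, h2, -, -⟩ := F.W0_facts Wd
  rw [← h2 a (Or.inr (Or.inl rfl)) F.a1]
  exact inf_le_inf_right _ (F.th_le_W0 Z.zV (F.z1 Z))

/-- **(J1)** -/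
theorem not_odd_z (Wd : World G) (Z : Tz S T a s t z g) {H : Subgroup G} (hH : Odd (Nat.card H)) (h1 : th x ≤ H)
    (h2 : th (x * z) ≤ H) : False := by
  refine F.not_odd Z.z1 (F.xz_le Wd Z) (F.za_le Wd Z) Z.zV ?_ hH h1 h2
  rcases Z.z1 with h | h
  · rw [h, F.ss]
    exact fixes_one L
  · rw [h, mul_assoc, F.ss, mul_one]
    exact ((F.Qdef a).1 F.aQ).2

/-- **(8x)** -/
theorem not_conj (Wd : World G) (Z : Tz S T a s t z g) : ∀ h : G, h * x * h⁻¹ ≠ a := by
  intro h0 hh0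
  have h2 : Fact (Nat.Prime 2) := ⟨Nat.prime_two⟩
  -- `T_x`
  obtain ⟨Tx, hTx⟩ : ∃ Tx, Tx = T ⊓ centralizer ({x} : Set G) := ⟨_, rfl⟩
  have hTxp : IsPGroup 2 Tx := hTx ▸ F.Xmax.1
  have hmemTx : ∀ y, y ∈ Tx ↔ y ∈ T ∧ y * x = x * y := fun y => by
    rw [hTx, mem_inf]
    exact and_congr_right fun _ => ⟨comm_c, mem_c⟩
  -- `T_x ^ h₀ ≤ C(a)`; w.l.o.g. `≤ T`
  obtain ⟨c, hc, hcT⟩ := F.Tmax.exists_conj_le (W := Tx.map (MulAut.conj h0).toMonoidHom) (hTxp.map _) (by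
    rintro _ ⟨y, hy, rfl⟩
    have h3 := ((hmemTx y).1 hy).2
    refine mem_c ?_
    change h0 * y * h0⁻¹ * a = a * (h0 * y * h0⁻¹)
    rw [← hh0]
    calc h0 * y * h0⁻¹ * (h0 * x * h0⁻¹) = h0 * (y * x) * h0⁻¹ := by group
      _ = h0 * (x * y) * h0⁻¹ := by rw [h3]
      _ = _ := by group)
  obtain ⟨h, hh⟩ : ∃ h, h = c * h0 := ⟨_, rfl⟩
  have hhx : h * x * h⁻¹ = a := by
    rw [hh]
    calc c * h0 * x * (c * h0)⁻¹ = c * (h0 * x * h0⁻¹) * c⁻¹ := by group
      _ = a := by rw [hh0, comm_c hc]; group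
  have hhT : ∀ y ∈ Tx, h * y * h⁻¹ ∈ T := by
    intro y hy
    have h3 := hcT ⟨_, ⟨y, hy, rfl⟩, rfl⟩
    change c * (h0 * y * h0⁻¹) * c⁻¹ ∈ T at h3
    rw [hh]
    have e : c * h0 * y * (c * h0)⁻¹ = c * (h0 * y * h0⁻¹) * c⁻¹ := by group
    rwa [e]
  obtain ⟨b, hb⟩ : ∃ b, b = h * a * h⁻¹ := ⟨_, rfl⟩
  have hbT : b ∈ T := by
    rw [hb]
    exact hhT a ((hmemTx a).2 ⟨F.aT, F.ax⟩)
  -- `C_T(b)` is the conjugate of `T_x`
  have hCT : ∀ y ∈ T, y * b = b * y → h⁻¹ * y * h ∈ Tx := by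
    have h3 := F.Xmax.map_conj h
    have h4 := h3.2.2 (T ⊓ centralizer ({b} : Set G)) (F.Tp.to_le inf_le_left) (by
      rintro y ⟨hy, hyb⟩
      rw [mem_map_conj]
      refine ⟨mem_c ?_, mem_c ?_⟩
      · have h5 := comm_c hyb
        calc h⁻¹ * y * h * a = h⁻¹ * (y * (h * a * h⁻¹)) * h := by group
          _ = h⁻¹ * ((h * a * h⁻¹) * y) * h := by rw [← hb, h5]
          _ = _ := by group
      · have h5 := F.Ta y hy
        calc h⁻¹ * y * h * x = h⁻¹ * (y * (h * x * h⁻¹)) * h := by group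
          _ = h⁻¹ * ((h * x * h⁻¹) * y) * h := by rw [hhx, h5]
          _ = _ := by group) (by
      rintro _ ⟨y, hy, rfl⟩
      change h * y * h⁻¹ ∈ _
      rw [← hTx] at hy
      refine ⟨hhT y hy, mem_c ?_⟩
      have h5 := F.Ta y ((hmemTx y).1 hy).1
      rw [hb]
      calc h * y * h⁻¹ * (h * a * h⁻¹) = h * (y * a) * h⁻¹ := by group
        _ = h * (a * y) * h⁻¹ := by rw [h5]
        _ = _ := by group)
    intro y hy hyb
    have h5 := h4 ⟨hy, mem_c hyb⟩
    rw [mem_map_conj] at h5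
    rw [hTx]
    exact h5
  have hW : ∀ w, In4 a s w → ∃ w', In4 a s w' ∧ (h⁻¹ * w * h = w' ∨ h⁻¹ * w * h = w' * x) := by
    intro w hw
    have h3 := (hmemTx _).1 (hCT w (F.V4T hw) (F.V4c hw b hbT).symm)
    refine F.om _ h3.1 ?_ h3.2
    have h4 := four_sq w (mem_four (aa := F.aa) (ss := F.ss) (h := F.as).2 hw)
    calc h⁻¹ * w * h * (h⁻¹ * w * h) = h⁻¹ * (w * w) * h := by group
      _ = 1 := by rw [h4]; group
  -- `z ^ h⁻¹ = z`
  have hz : h⁻¹ * z * h = z := by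
    obtain ⟨w', hw', h3 | h3⟩ := hW z Z.zV
    · have hw1 : w' ≠ 1 := by
        intro h4
        apply F.z1 Z
        calc z = h * (h⁻¹ * z * h) * h⁻¹ := by group
          _ = 1 := by rw [h3, h4]; group
      rcases F.of_in4 Z hw' hw1 with h4 | h4 | h4
      · exfalso
        apply Z.zG h
        rw [← h4, ← h3]
        group
      · exfalso
        apply Z.zG (h * g)
        calc h * g * a * (h * g)⁻¹ = h * (g * a * g⁻¹) * h⁻¹ := by group
          _ = z := by rw [Z.ta, ← h4, ← h3]; group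
      · rw [h3, h4]
    · exfalso
      obtain ⟨p, hp, hpx⟩ := F.exists_conj hw'
      apply Z.zG (h * p * h⁻¹)
      calc h * p * h⁻¹ * a * (h * p * h⁻¹)⁻¹ = h * (p * (h⁻¹ * a * h) * p⁻¹) * h⁻¹ := by group
        _ = h * (p * x * p⁻¹) * h⁻¹ := by
          have e : h⁻¹ * a * h = x := by rw [← hhx]; group
          rw [e]
        _ = h * (h⁻¹ * z * h) * h⁻¹ := by rw [hpx, ← F.V4x hw', h3]
        _ = z := by group
  have ha : h⁻¹ * a * h = x := by rw [← hhx]; group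
  have ht : h⁻¹ * t * h = x * z := by
    have h3 : t = a * z := by rw [Z.zat, ← mul_assoc, F.aa, one_mul]
    calc h⁻¹ * t * h = (h⁻¹ * a * h) * (h⁻¹ * z * h) := by rw [h3]; group
      _ = x * z := by rw [ha, hz]
  obtain ⟨hodd, -, -, -⟩ := F.W0_facts Wd
  refine F.not_odd_z Wd Z (H := cj h⁻¹ F.W0) ?_ ?_ ?_
  · rw [cj_def, card_map_conj]
    exact hodd
  · have e : h⁻¹ * a * h⁻¹⁻¹ = x := by rw [inv_inv, ha]
    have e2 := th_cj h⁻¹ a
    rw [e] at e2
    rw [e2]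
    exact cj_mono (F.th_le_W0 (Or.inr (Or.inl rfl)) F.a1)
  · have e : x * z = h⁻¹ * t * h⁻¹⁻¹ := by rw [inv_inv, ht]
    rw [e, th_cj]
    exact cj_mono (F.th_le_W0 Z.tV (F.t1 Z))

/-- conjugates of `a` under `C(x)` in `T` -/
theorem fus (Wd : World G) (Z : Tz S T a s t z g) {h : G} (hx : h * x = x * h) (hT : h * a * h⁻¹ ∈ T) :
    h * a * h⁻¹ = a ∨ h * a * h⁻¹ = t := by
  obtain ⟨y, hy⟩ : ∃ y, y = h * a * h⁻¹ := ⟨_, rfl⟩
  rw [← hy] at hT ⊢
  have hyy : y * y = 1 := by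
    rw [hy]
    calc h * a * h⁻¹ * (h * a * h⁻¹) = h * (a * a) * h⁻¹ := by group
      _ = 1 := by rw [F.aa]; group
  have hxi : x * h⁻¹ = h⁻¹ * x := by
    calc x * h⁻¹ = h⁻¹ * (h * x) * h⁻¹ := by group
      _ = h⁻¹ * x := by rw [hx]; group
  have hyx : y * x = x * y := by
    rw [hy]
    calc h * a * h⁻¹ * x = h * a * (h⁻¹ * x) := by group
      _ = h * (a * x) * h⁻¹ := by rw [← hxi]; group
      _ = (h * x) * a * h⁻¹ := by rw [F.ax]; group
      _ = x * (h * a * h⁻¹) := by rw [hx]; group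
  have hy1 : y ≠ 1 := by
    rw [hy]
    intro h3
    apply F.a1
    calc a = h⁻¹ * (h * a * h⁻¹) * h := by group
      _ = 1 := by rw [h3]; group
  obtain ⟨w, hw, h3 | h3⟩ := F.om y hT hyy hyx
  · rcases F.of_in4 Z hw (h3 ▸ hy1) with h4 | h4 | h4
    · exact Or.inl (h3.trans h4)
    · exact Or.inr (h3.trans h4)
    · exact absurd (hy.symm.trans (h3.trans h4)) (Z.zG h)
  · exfalso
    obtain ⟨p, hp, hpx⟩ := F.exists_conj hw
    apply F.not_conj Wd Z (h⁻¹ * p)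
    calc h⁻¹ * p * x * (h⁻¹ * p)⁻¹ = h⁻¹ * (p * x * p⁻¹) * h := by group
      _ = h⁻¹ * y * h := by rw [hpx, h3, F.V4x hw]
      _ = a := by rw [hy]; group

/-- `T_x` is a maximal 2-subgroup of `H ≤ C(x)` if `a`, `t` are not conjugate in `H` -/
theorem maxp (Wd : World G) (Z : Tz S T a s t z g) {H : Subgroup G} (hHx : H ≤ centralizer ({x} : Set G))
    (hTH : T ⊓ centralizer ({x} : Set G) ≤ H) (hH : ∀ h ∈ H, h * a * h⁻¹ ≠ t) :
    IsMaxP 2 H (T ⊓ centralizer ({x} : Set G)) := by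
  have h2 : Fact (Nat.Prime 2) := ⟨Nat.prime_two⟩
  refine ⟨F.Xmax.1, hTH, fun R' h1 h2 h3 => ?_⟩
  by_contra hne
  obtain ⟨r, hr, hrN, hrT⟩ := exists_mem_normalizer h1 h3 hne
  apply hrT
  have haX : a ∈ T ⊓ centralizer ({x} : Set G) := ⟨F.aT, mem_c F.ax⟩
  have h4 : r * a * r⁻¹ ∈ T := ((mem_normalizer_iff.mp hrN a).mp haX).1
  have hra : r * a = a * r := by
    rcases F.fus Wd Z (comm_c (hHx (h2 hr))) h4 with h5 | h5
    · calc r * a = r * a * r⁻¹ * r := by group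
        _ = a * r := by rw [h5]
    · exact absurd h5 (hH r (h2 hr))
  have h5 := F.Xmax.2.2 (R' ⊓ centralizer ({a} : Set G)) (h1.to_le inf_le_left)
    (le_inf inf_le_right (inf_le_left.trans (h2.trans hHx)))
    (le_inf h3 (fun y hy => mem_c (F.Ta y hy.1)))
  exact h5 ⟨hr, mem_c hra⟩

/-- an elementary abelian subgroup of `C_T(x)` has order at most 8 -/
theorem card_le {E : Subgroup G} (hE : ∀ e ∈ E, e * e = 1) (hET : E ≤ T)
    (hEx : ∀ e ∈ E, e * x = x * e) : Nat.card E ≤ 8 := by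
  apply card_le_eight (a := a) (s := s) (x := x)
  intro y hy
  exact F.om y (hET hy) (hE y hy) (hEx y hy)

/-- an elementary abelian subgroup of `C(x) ∩ C(t)` has order at most 8 -/
theorem card_le' (Wd : World G) (Z : Tz S T a s t z g) {E : Subgroup G} (hE : ∀ e ∈ E, e * e = 1)
    (hEt : ∀ e ∈ E, e * t = t * e) (hEx : ∀ e ∈ E, e * x = x * e) : Nat.card E ≤ 8 := by
  have h2 : Fact (Nat.Prime 2) := ⟨Nat.prime_two⟩
  have h1 := F.maxp Wd Z (H := centralizer ({t} : Set G) ⊓ centralizer ({x} : Set G)) inf_le_right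
    (fun y hy => ⟨mem_c (F.V4c Z.tV y hy.1), hy.2⟩) (by
      intro h hh h3
      have h4 := comm_c hh.1
      apply Z.t_ne
      calc t = h⁻¹ * (h * t) := by group
        _ = h⁻¹ * (t * h) := by rw [h4]
        _ = h⁻¹ * (h * a * h⁻¹ * h) := by rw [h3]
        _ = a := by group)
  obtain ⟨c, hc, hcT⟩ := h1.exists_conj_le (W := E) (isPGroup_of_mul_self hE)
    (fun e he => ⟨mem_c (hEt e he), mem_c (hEx e he)⟩)
  have h3 : Nat.card (E.map (MulAut.conj c).toMonoidHom) ≤ 8 := by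
    refine F.card_le ?_ (hcT.trans inf_le_left) (fun e he => comm_c (hcT he).2)
    rintro _ ⟨e, he, rfl⟩
    change c * e * c⁻¹ * (c * e * c⁻¹) = 1
    calc c * e * c⁻¹ * (c * e * c⁻¹) = c * (e * e) * c⁻¹ := by group
      _ = 1 := by rw [hE e he]; group
  rwa [card_map_conj] at h3

/-- **`x` is of `PGL₂` type on `J = gLg⁻¹`** -/
theorem xg (Wd : World G) (Z : Tz S T a s t z g)
    (tyL : ∀ b ∈ T, b * b = 1 → (∃ q ∈ Q, ∃ p ∈ P, b = q * p) ∨ (∃ q ∈ Q, ∃ p ∈ P, b = q * p * x) ∨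
      ∃ c, c * a = a * c ∧ c * b * c⁻¹ ∈ T ∧ (∀ p ∈ P, c * b * c⁻¹ * p = p * (c * b * c⁻¹)) ∧
        ∀ q ∈ Q, ∀ p ∈ P, c * b * c⁻¹ ≠ q * p) : ∃ q ∈ Q, ∃ p ∈ P, g⁻¹ * x * g = q * p * x := by
  obtain ⟨b, hb⟩ : ∃ b, b = g⁻¹ * x * g := ⟨_, rfl⟩
  have hbT : b ∈ T := hb ▸ Z.gT' x F.xT
  have hbb : b * b = 1 := by
    rw [hb]
    calc g⁻¹ * x * g * (g⁻¹ * x * g) = g⁻¹ * (x * x) * g := by group
      _ = 1 := by rw [F.xx]; group
  -- an elementary abelian subgroup of order 16 which centralises `b` and `a`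
  have hno : ∀ E : Subgroup G, (∀ e ∈ E, e * e = 1) → (∀ e ∈ E, e * a = a * e) → (∀ e ∈ E, e * b = b * e) →
      Nat.card E ≤ 8 := by
    intro E hE hEa hEb
    have h3 : Nat.card (E.map (MulAut.conj g).toMonoidHom) ≤ 8 := by
      refine F.card_le' Wd Z ?_ ?_ ?_
      · rintro _ ⟨e, he, rfl⟩
        change g * e * g⁻¹ * (g * e * g⁻¹) = 1
        calc g * e * g⁻¹ * (g * e * g⁻¹) = g * (e * e) * g⁻¹ := by group
          _ = 1 := by rw [hE e he]; group
      · rintro _ ⟨e, he, rfl⟩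
        change g * e * g⁻¹ * t = t * (g * e * g⁻¹)
        rw [← Z.ta]
        calc g * e * g⁻¹ * (g * a * g⁻¹) = g * (e * a) * g⁻¹ := by group
          _ = g * (a * e) * g⁻¹ := by rw [hEa e he]
          _ = _ := by group
      · rintro _ ⟨e, he, rfl⟩
        change g * e * g⁻¹ * x = x * (g * e * g⁻¹)
        have h4 := hEb e he
        have e1 : x = g * b * g⁻¹ := by rw [hb]; group
        rw [e1]
        calc g * e * g⁻¹ * (g * b * g⁻¹) = g * (e * b) * g⁻¹ := by group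
          _ = g * (b * e) * g⁻¹ := by rw [h4]
          _ = _ := by group
    rwa [card_map_conj] at h3
  obtain ⟨u, huQ, uu, u1, ua⟩ := F.uQ
  obtain ⟨v, hvP, vv, v1, vs⟩ := F.vP
  rcases tyL b hbT hbb with h | h | h
  · exfalso
    obtain ⟨q, hq, p, hp, hqp⟩ := h
    have hcom := F.QP q hq p hp
    -- `q² = p² = 1`
    have h1 : (q * q) * (p * p) = 1 := by
      calc (q * q) * (p * p) = q * (q * p) * p := by group
        _ = q * (p * q) * p := by rw [hcom]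
        _ = (q * p) * (q * p) := by group
        _ = 1 := by rw [← hqp, hbb]
    have h3 : p * p = (q * q)⁻¹ := (inv_eq_of_mul_eq_one_right h1).symm
    have hpp : p * p = 1 := F.PQ (h3 ▸ inv_mem (mul_mem hq hq)) (mul_mem hp hp)
    have hqq : q * q = 1 := by rwa [hpp, mul_one] at h1
    obtain ⟨u', hu'Q, uu', u1', ua', hqu⟩ : ∃ u' ∈ Q, u' * u' = 1 ∧ u' ≠ 1 ∧ u' ≠ a ∧ (q = 1 ∨ q = a ∨ q = u') := by
      by_cases h4 : q = 1
      · exact ⟨u, huQ, uu, u1, ua, Or.inl h4⟩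
      · by_cases h5 : q = a
        · exact ⟨u, huQ, uu, u1, ua, Or.inr (Or.inl h5)⟩
        · exact ⟨q, hq, hqq, h4, h5, Or.inr (Or.inr rfl)⟩
    obtain ⟨v', hv'P, vv', v1', vs', hpv⟩ : ∃ v' ∈ P, v' * v' = 1 ∧ v' ≠ 1 ∧ v' ≠ s ∧ (p = 1 ∨ p = s ∨ p = v') := by
      by_cases h4 : p = 1
      · exact ⟨v, hvP, vv, v1, vs, Or.inl h4⟩
      · by_cases h5 : p = s
        · exact ⟨v, hvP, vv, v1, vs, Or.inr (Or.inl h5)⟩
        · exact ⟨p, hp, hpp, h4, h5, Or.inr (Or.inr rfl)⟩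
    obtain ⟨E, hE, h16, hVE, huE, hvE, hEle⟩ := F.exists_E hu'Q uu' u1' ua' hv'P vv' v1' vs'
    have hET : E ≤ T := hEle T (fun w hw => F.V4T hw) (F.QT hu'Q) (F.PT hv'P)
    have hbE : b ∈ E := by
      rw [hqp]
      refine mul_mem ?_ ?_
      · rcases hqu with h | h | h
        · rw [h]; exact one_mem _
        · rw [h]; exact hVE a (Or.inr (Or.inl rfl))
        · rw [h]; exact huE
      · rcases hpv with h | h | h
        · rw [h]; exact one_mem _
        · rw [h]; exact hVE s (Or.inr (Or.inr (Or.inl rfl)))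
        · rw [h]; exact hvE
    have h5 := hno E hE (fun e he => F.Ta e (hET he)) (fun e he => comm_of_sq hE he hbE)
    omega
  · rw [← hb]; exact h
  · exfalso
    obtain ⟨c, hca, hcbT, hcP, hcn⟩ := h
    obtain ⟨f, hf⟩ : ∃ f, f = c * b * c⁻¹ := ⟨_, rfl⟩
    rw [← hf] at hcbT hcP hcn
    have hff : f * f = 1 := by
      rw [hf]
      calc c * b * c⁻¹ * (c * b * c⁻¹) = c * (b * b) * c⁻¹ := by group
        _ = 1 := by rw [hbb]; group
    -- `⟨a, s, v, f⟩`
    have hvT := F.PT hvP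
    obtain ⟨E1, h1, h1s⟩ := exists_adj (E := four F.aa F.ss F.as) (u := v) four_sq vv fun e he =>
      (F.V4c (mem_four.1 he) v hvT).symm
    have hE1QP : ∀ e ∈ E1, ∃ q ∈ Q, ∃ p ∈ P, e = q * p := by
      have h0 : ∀ e, In4 a s e → ∃ q ∈ Q, ∃ p ∈ P, e = q * p := by
        rintro e (h | h | h | h)
        · exact ⟨1, one_mem _, 1, one_mem _, by rw [h, one_mul]⟩
        · exact ⟨a, F.aQ, 1, one_mem _, by rw [h, mul_one]⟩
        · exact ⟨1, one_mem _, s, F.sP, by rw [h, one_mul]⟩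
        · exact ⟨a, F.aQ, s, F.sP, h⟩
      intro e he
      rcases (h1 e).1 he with h | h
      · exact h0 e (mem_four.1 h)
      · obtain ⟨q, hq, p, hp, h3⟩ := h0 _ (mem_four.1 h)
        refine ⟨q, hq, p * v, mul_mem hp hvP, ?_⟩
        rw [← mul_assoc, ← h3, mul_assoc, vv, mul_one]
    have hE1f : ∀ e ∈ E1, e * f = f * e := by
      intro e he
      have hvf : v * f = f * v := (hcP v hvP).symm
      have hwf : ∀ w, In4 a s w → w * f = f * w := fun w hw => (F.V4c hw f hcbT).symm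
      rcases (h1 e).1 he with h | h
      · exact hwf e (mem_four.1 h)
      · have h3 := hwf _ (mem_four.1 h)
        have h4 : e = (e * v) * v := by rw [mul_assoc, vv, mul_one]
        rw [h4, mul_assoc, hvf, ← mul_assoc, h3, mul_assoc]
    obtain ⟨E2, h2, h2s⟩ := exists_adj (E := E1) (u := f) h1s hff hE1f
    have hvnot4 : v ∉ four F.aa F.ss F.as := by
      rintro (h | h | h | h)
      · exact v1 h
      · exact F.a1 (F.PQ F.aQ (h ▸ hvP))
      · exact vs h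
      · have h3 : v * s = a := by rw [h, mul_assoc, F.ss, mul_one]
        exact F.a1 (F.PQ F.aQ (h3 ▸ mul_mem hvP F.sP))
    have hfnot : f ∉ E1 := by
      intro h
      obtain ⟨q, hq, p, hp, h3⟩ := hE1QP f h
      exact hcn q hq p hp h3
    have hc1 := card_adj h1 vv hvnot4
    have hc2 := card_adj h2 hff hfnot
    have hc0 : 4 ≤ Nat.card (four F.aa F.ss F.as) := card_four F.a1 F.s1 F.a_ne_s
    have hfE2 : f ∈ E2 := (h2 f).2 (Or.inr (by rw [hff]; exact one_mem _))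
    have haE2 : a ∈ E2 := (h2 a).2 (Or.inl ((h1 a).2 (Or.inl (mem_four.2 (Or.inr (Or.inl rfl))))))
    have hci : c⁻¹ * a = a * c⁻¹ := by
      calc c⁻¹ * a = c⁻¹ * (a * c) * c⁻¹ := by group
        _ = a * c⁻¹ := by rw [← hca]; group
    have h5 : Nat.card (E2.map (MulAut.conj c⁻¹).toMonoidHom) ≤ 8 := by
      refine hno _ ?_ ?_ ?_
      · rintro _ ⟨e, he, rfl⟩
        change c⁻¹ * e * c⁻¹⁻¹ * (c⁻¹ * e * c⁻¹⁻¹) = 1
        calc c⁻¹ * e * c⁻¹⁻¹ * (c⁻¹ * e * c⁻¹⁻¹) = c⁻¹ * (e * e) * c⁻¹⁻¹ := by group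
          _ = 1 := by rw [h2s e he]; group
      · rintro _ ⟨e, he, rfl⟩
        change c⁻¹ * e * c⁻¹⁻¹ * a = a * (c⁻¹ * e * c⁻¹⁻¹)
        have h6 := comm_of_sq h2s he haE2
        have h7 : a = c⁻¹ * a * c⁻¹⁻¹ := by rw [hci]; group
        calc c⁻¹ * e * c⁻¹⁻¹ * a = c⁻¹ * e * c⁻¹⁻¹ * (c⁻¹ * a * c⁻¹⁻¹) := by rw [← h7]
          _ = c⁻¹ * (e * a) * c⁻¹⁻¹ := by group
          _ = c⁻¹ * (a * e) * c⁻¹⁻¹ := by rw [h6]
          _ = (c⁻¹ * a * c⁻¹⁻¹) * (c⁻¹ * e * c⁻¹⁻¹) := by group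
          _ = a * (c⁻¹ * e * c⁻¹⁻¹) := by rw [← h7]
      · rintro _ ⟨e, he, rfl⟩
        change c⁻¹ * e * c⁻¹⁻¹ * b = b * (c⁻¹ * e * c⁻¹⁻¹)
        have h6 := comm_of_sq h2s he hfE2
        have h7 : b = c⁻¹ * f * c⁻¹⁻¹ := by rw [hf]; group
        rw [h7]
        calc c⁻¹ * e * c⁻¹⁻¹ * (c⁻¹ * f * c⁻¹⁻¹) = c⁻¹ * (e * f) * c⁻¹⁻¹ := by group
          _ = c⁻¹ * (f * e) * c⁻¹⁻¹ := by rw [h6]
          _ = _ := by group
    rw [card_map_conj] at h5
    omega

/-- `gLg⁻¹ = cLc⁻¹` if `cac⁻¹ = gag⁻¹` -/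
theorem cj_eq (Z : Tz S T a s t z g) {c : G} (hc : c * a * c⁻¹ = t) : cj c L = cj g L := by
  have h1 : (g⁻¹ * c) * a = a * (g⁻¹ * c) := by
    calc (g⁻¹ * c) * a = g⁻¹ * (c * a * c⁻¹) * c := by group
      _ = g⁻¹ * (g * a * g⁻¹) * c := by rw [hc, Z.ta]
      _ = a * (g⁻¹ * c) := by group
  have h2 := F.LN _ h1
  rw [mem_normalizer_iff_cj] at h2
  calc cj c L = cj (g * (g⁻¹ * c)) L := by
        congr 1
        group
    _ = cj g (cj (g⁻¹ * c) L) := cj_mul _ _ _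
    _ = cj g L := by rw [h2]

omit [Finite G] in
theorem JN (Z : Tz S T a s t z g) : ∀ c, c * t = t * c → c ∈ normalizer (cj g L : Set G) := by
  intro c hc
  have h1 : (g⁻¹ * c * g) * a = a * (g⁻¹ * c * g) := by
    have e : a = g⁻¹ * t * g := by rw [← Z.ta]; group
    rw [e]
    calc g⁻¹ * c * g * (g⁻¹ * t * g) = g⁻¹ * (c * t) * g := by group
      _ = g⁻¹ * (t * c) * g := by rw [hc]
      _ = _ := by group
  have h2 := F.LN _ h1
  rw [mem_normalizer_iff_cj] at h2 ⊢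
  calc cj c (cj g L) = cj (c * g) L := (cj_mul _ _ _).symm
    _ = cj (g * (g⁻¹ * c * g)) L := by congr 1; group
    _ = cj g (cj (g⁻¹ * c * g) L) := cj_mul _ _ _
    _ = cj g L := by rw [h2]

/-- **(8b')** an element of `O(C(x)) ∩ J - O(J)` -/
theorem exists_yJ (Wd : World G) (Z : Tz S T a s t z g)
    (pgl : ∀ p ∈ P, p * x * (p * x) = 1 → ∃ r ∈ P, r * (p * x) * r⁻¹ = x)
    (hxg : ∃ q ∈ Q, ∃ p ∈ P, g⁻¹ * x * g = q * p * x) :
    ∃ y ∈ th x, y ∈ cj g L ∧ y ∉ core (cj g L) := by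
  by_cases hcase : ∃ c ∈ centralizer ({x} : Set G), c * a * c⁻¹ = t
  · obtain ⟨c, hc, hca⟩ := hcase
    obtain ⟨y, hyx, hyL, hyc⟩ := exists_mem F.tri (F.zz Z) (F.V4x Z.zV) (F.V4c Z.zV a F.aT).symm F.sL Z.z1
      (F.xz_le Wd Z) (F.za_le Wd Z)
    refine ⟨c * y * c⁻¹, conj_core hc hyx, ?_, ?_⟩
    · rw [← F.cj_eq Z hca]
      exact conj_mem_cj hyL
    · rw [← F.cj_eq Z hca, core_cj, mem_cj]
      have e : c⁻¹ * (c * y * c⁻¹) * c = y := by group
      rwa [e]
  · push Not at hcase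
    have hmax := F.maxp Wd Z (H := centralizer ({x} : Set G)) le_rfl inf_le_right hcase
    have hz := Wd.zst _ _ hmax a F.tri.inva ⟨F.aT, mem_c F.ax⟩ (by
      intro h hh hT
      rcases F.fus Wd Z (comm_c hh) hT.1 with h1 | h1
      · exact h1
      · exact absurd h1 (hcase h hh))
    -- an element of `C_J(x)` on which `a` acts non-trivially
    obtain ⟨q, hq, p, hp, hqp⟩ := hxg
    obtain ⟨y0, hy0L, hy0x, hy0s⟩ := F.kf.k6
    obtain ⟨x', hx'⟩ : ∃ x', x' = g⁻¹ * x * g := ⟨_, rfl⟩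
    have hx'x' : x' * x' = 1 := by
      rw [hx']
      calc g⁻¹ * x * g * (g⁻¹ * x * g) = g⁻¹ * (x * x) * g := by group
        _ = 1 := by rw [F.xx]; group
    rw [← hx'] at hqp
    have hx'T : x' ∈ T := hx' ▸ Z.gT' x F.xT
    have hpT := F.PT hp
    have hqT := F.QT hq
    have hpx1 : p * x * (p * x) = 1 := by
      have h1 : x' * x' = (q * (p * x * q * (p * x)⁻¹)) * (p * x * (p * x)) := by rw [hqp]; group
      rw [hx'x'] at h1
      have h2 : p * x * q * (p * x)⁻¹ ∈ Q := F.Qconj (mul_mem hpT F.xT) hq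
      have h3 : p * x * (p * x) ∈ P := by
        have h4 := F.Pconj F.xT hp
        have e : p * x * (p * x) = p * (x * p * x⁻¹) * (x * x) := by group
        rw [e, F.xx, mul_one]
        exact mul_mem hp h4
      have h5 : p * x * (p * x) = (q * (p * x * q * (p * x)⁻¹))⁻¹ := (inv_eq_of_mul_eq_one_right h1.symm).symm
      exact F.PQ (h5 ▸ inv_mem (mul_mem hq h2)) h3
    obtain ⟨r, hr, hrx⟩ := pgl p hp hpx1
    have hrT := F.PT hr
    -- `y₁ = r⁻¹ y₀ r` commutes with `px`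
    obtain ⟨y1, hy1⟩ : ∃ y1, y1 = r⁻¹ * y0 * r := ⟨_, rfl⟩
    have hy1L : y1 ∈ L := by
      have h1 := conj_mem (inv_mem (F.LN r (F.Ta r hrT))) hy0L
      rw [inv_inv] at h1
      rwa [hy1]
    have hy1x : y1 * (p * x) = (p * x) * y1 := by
      have e : p * x = r⁻¹ * x * r := by
        calc p * x = r⁻¹ * (r * (p * x) * r⁻¹) * r := by group
          _ = r⁻¹ * x * r := by rw [hrx]
      rw [e, hy1]
      calc r⁻¹ * y0 * r * (r⁻¹ * x * r) = r⁻¹ * (y0 * x) * r := by group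
        _ = r⁻¹ * (x * y0) * r := by rw [hy0x]
        _ = _ := by group
    have hy1s : ⁅y1, s⁆ ∉ core L := by
      intro h1
      apply hy0s
      have h2 := conj_mem_core (F.LN r (F.Ta r hrT)) h1
      have e : r * ⁅y1, s⁆ * r⁻¹ = ⁅y0, s⁆ := by
        have h3 := F.Ts r hrT
        have e1 : r * s * r⁻¹ = s := by rw [h3]; group
        have e2 : r * ⁅y1, s⁆ * r⁻¹ = ⁅r * y1 * r⁻¹, r * s * r⁻¹⁆ := by
          simp only [commutatorElement_def]; group
        rw [e2, e1, hy1]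
        congr 1
        group
      rwa [e] at h2
    have hqf := ((F.Qdef q).1 hq).2
    -- `[y₁, x'] ∈ O(L)`
    have hcx' : y1⁻¹ * (x' * y1 * x'⁻¹) ∈ core L := by
      have h1 : ⁅q, y1⁆ ∈ core L := hqf.2 y1 hy1L
      have e : y1⁻¹ * (x' * y1 * x'⁻¹) = y1⁻¹ * ⁅q, y1⁆ * y1⁻¹⁻¹ := by
        have e1 : x' * y1 * x'⁻¹ = q * y1 * q⁻¹ := by
          calc x' * y1 * x'⁻¹ = q * ((p * x) * y1) * (q * (p * x))⁻¹ := by rw [hqp]; group
            _ = q * y1 * q⁻¹ := by rw [← hy1x]; group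
        rw [e1, commutatorElement_def]; group
      rw [e]
      exact conj_mem_core (le_normalizer (inv_mem hy1L)) h1
    have hx'core : x' ∈ normalizer (core L : Set G) :=
      normalizer_le_normalizer_core L (F.LN x' (F.Ta x' hx'T))
    obtain ⟨o, ho, hco⟩ := Intrinsic.Lifting.exists_commute (n := 1) (odd_card_core L)
      (by rw [pow_one, pow_two, hx'x']) hx'core hcx'
    obtain ⟨y4, hy4⟩ : ∃ y4, y4 = y1 * o := ⟨_, rfl⟩
    rw [← hy4] at hco
    have hoL : o ∈ L := core_le _ ho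
    have hy4L : y4 ∈ L := hy4 ▸ mul_mem hy1L hoL
    have hsN := F.LN s F.as.symm
    have hy4s : ⁅y4, s⁆ ∉ core L := by
      intro h1
      apply hy1s
      have e : ⁅y1, s⁆ = y1 * (⁅o, s⁆)⁻¹ * y1⁻¹ * ⁅y4, s⁆ := by
        rw [hy4]; simp only [commutatorElement_def]; group
      have h2 : ⁅o, s⁆ ∈ core L := by
        have h3 := mul_mem ho (conj_mem_core hsN (inv_mem ho))
        have e2 : o * (s * o⁻¹ * s⁻¹) = ⁅o, s⁆ := by rw [commutatorElement_def]; group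
        rwa [e2] at h3
      rw [e]
      exact mul_mem (conj_mem_core (le_normalizer hy1L) (inv_mem h2)) h1
    -- transport
    obtain ⟨y5, hy5⟩ : ∃ y5, y5 = g * y4 * g⁻¹ := ⟨_, rfl⟩
    have hy5J : y5 ∈ cj g L := hy5 ▸ conj_mem_cj hy4L
    have hy5x : y5 * x = x * y5 := by
      have e : x = g * x' * g⁻¹ := by rw [hx']; group
      rw [e, hy5]
      calc g * y4 * g⁻¹ * (g * x' * g⁻¹) = g * (y4 * x') * g⁻¹ := by group
        _ = g * (x' * y4) * g⁻¹ := by rw [hco]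
        _ = _ := by group
    have hy5a : ⁅a, y5⁆ ∉ core (cj g L) := by
      -- `a = g t g⁻¹`, `t` acts as `s`
      rw [core_cj, mem_cj, ← Z.tt, hy5]
      intro h1
      have e : g⁻¹ * ⁅g * t * g⁻¹, g * y4 * g⁻¹⁆ * g = ⁅t, y4⁆ := by
        simp only [commutatorElement_def]; group
      rw [e] at h1
      have h3 : ⁅t, y4⁆ = ⁅s, y4⁆ := by
        rcases Z.t1 with h | h
        · rw [h]
        · have h4 := F.La y4 hy4L
          rw [h, F.as, commutatorElement_def, commutatorElement_def]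
          calc s * a * y4 * (s * a)⁻¹ * y4⁻¹ = s * (a * y4) * a⁻¹ * s⁻¹ * y4⁻¹ := by group
            _ = s * y4 * s⁻¹ * y4⁻¹ := by rw [← h4]; group
      rw [h3] at h1
      apply hy4s
      rw [← commutatorElement_inv]
      exact inv_mem h1
    refine ⟨⁅a, y5⁆, hz y5 (mem_c hy5x), ?_, hy5a⟩
    have haJ : a ∈ normalizer (cj g L : Set G) := F.JN Z a (F.V4c Z.tV a F.aT)
    rw [commutatorElement_def]
    exact mul_mem (conj_mem haJ hy5J) (inv_mem hy5J)

/-- **(8b')** `(x, t, J)` is a triple -/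
theorem tri_J (Z : Tz S T a s t z g) (h : ∃ y ∈ th x, y ∈ cj g L ∧ y ∉ core (cj g L)) :
    IsTriple x t (cj g L) := by
  obtain ⟨y, hyx, hyJ, hyc⟩ := h
  have hcomp : IsComp (centralizer ({t} : Set G)) (cj g L) := by
    have h1 := F.tri.comp.cj g
    rw [cj_centralizer, Z.ta] at h1
    exact h1
  refine ⟨F.tri.invx, order_two (F.tt Z) (F.t1 Z), F.V4x Z.tV, hcomp, y, hyx, hcomp.le hyJ, fun hf => hyc ?_⟩
  have h1 := hf.cj g⁻¹
  rw [cj_inv_cj] at h1
  have h2 := F.kf.k0 (g⁻¹ * y * g⁻¹⁻¹) (by rw [inv_inv]; exact mem_cj.mp hyJ) h1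
  rw [inv_inv] at h2
  rw [core_cj, mem_cj]
  exact h2

end

end Fr

end Cfsg.Agent.UGT.FourB.GFun
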