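import Cfsg.Agent.UGT.Res.Base
import Cfsg.Agent.Intrinsic.Functor
import Cfsg.Agent.SignalizersComponents.RelSylow

/-!
# Tools for the case `T < S`

* `exists_adj` : an elementary abelian group and a commuting involution;
* `bal` : balance on an elementary abelian group of order at least 16;
* `W_eq_of_le`, `normalizer_le_of_le` : the functor `W`;
* `exists_mem` : `z` acts on `O(C(x)) ∩ C(v)` as an element of `N`;
* `inv_mod` : inversion modulo a subgroup.
-/

set_option autoImplicit false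
set_option linter.style.haveILetI false
set_option linter.unusedSectionVars false

open Cfsg Subgroup
open Cfsg.Agent.SignalizersComponents Cfsg.Agent.Lib
open Cfsg.Agent.SignalizersComponents.IntrinsicBasic
open Cfsg.Agent.SignalizersComponents.PLayerAut
open Cfsg.Agent.Intrinsic.Basic Cfsg.Agent.Intrinsic.Cen Cfsg.Agent.Intrinsic.Functor
open Cfsg.Agent.McLLyComp.Act
open Cfsg.Agent.UGT.Triple Cfsg.Agent.UGT.Res.Base
open scoped commutatorElement

namespace Cfsg.Agent.UGT.FourB.GTools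

universe u

variable {G : Type u} [Group G]

/-! ### elementary abelian groups -/

theorem inv_of_sq {y : G} (h : y * y = 1) : y⁻¹ = y := inv_eq_of_mul_eq_one_left h

theorem comm_of_sq {E : Subgroup G} (hE : ∀ e ∈ E, e * e = 1) {e f : G} (he : e ∈ E) (hf : f ∈ E) :
    e * f = f * e := by
  have h1 := hE _ (mul_mem he hf)
  have h2 := inv_of_sq h1
  rw [mul_inv_rev, inv_of_sq (hE e he), inv_of_sq (hE f hf)] at h2
  exact h2.symm

theorem exists_adj {E : Subgroup G} {u : G} (hE : ∀ e ∈ E, e * e = 1) (hu : u * u = 1)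
    (hc : ∀ e ∈ E, e * u = u * e) : ∃ E' : Subgroup G, (∀ g, g ∈ E' ↔ g ∈ E ∨ g * u ∈ E) ∧
      ∀ e ∈ E', e * e = 1 := by
  have hui := inv_of_sq hu
  refine ⟨{ carrier := {g | g ∈ E ∨ g * u ∈ E}
            mul_mem' := ?_
            one_mem' := Or.inl (one_mem _)
            inv_mem' := ?_ }, fun g => Iff.rfl, ?_⟩
  · rintro g h (h1 | h1) (h2 | h2)
    · exact Or.inl (mul_mem h1 h2)
    · exact Or.inr (by rw [mul_assoc]; exact mul_mem h1 h2)
    · right
      have h3 : g * h * u = (g * u) * h := by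
        calc g * h * u = g * (h * u) := mul_assoc _ _ _
          _ = (g * u) * h := by rw [hc h h2, mul_assoc]
      rw [h3]
      exact mul_mem h1 h2
    · left
      have h3 : g * h = (g * u) * (h * u) := by
        have h4 : u * (h * u) = h := by rw [← hc _ h2, mul_assoc, hu, mul_one]
        calc g * h = g * (u * (h * u)) := by rw [h4]
          _ = (g * u) * (h * u) := by rw [mul_assoc]
      rw [h3]
      exact mul_mem h1 h2
  · rintro g (h1 | h1)
    · exact Or.inl (inv_mem h1)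
    · right
      have h3 : g⁻¹ * u = (g * u)⁻¹ := by
        have h4 := hc _ (inv_mem h1)
        rw [mul_inv_rev, hui] at h4 ⊢
        calc g⁻¹ * u = (u * u) * g⁻¹ * u := by rw [hu, one_mul]
          _ = u * (u * g⁻¹ * u) := by group
          _ = u * (u * (u * g⁻¹)) := by rw [h4]
          _ = u * g⁻¹ := by rw [← mul_assoc u u, hu, one_mul]
      rw [h3]
      exact inv_mem h1
  · rintro g (h1 | h1)
    · exact hE g h1
    · have h2 := hE _ h1
      have h3 := hc _ h1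
      have h4 : g = (g * u) * u := by rw [mul_assoc, hu, mul_one]
      calc g * g = ((g * u) * u) * ((g * u) * u) := by rw [← h4]
        _ = (g * u) * (u * (g * u)) * u := by group
        _ = (g * u) * ((g * u) * u) * u := by rw [h3]
        _ = (g * u) * (g * u) * (u * u) := by group
        _ = 1 := by rw [h2, hu, one_mul]

theorem card_adj [Finite G] {E E' : Subgroup G} {u : G} (h : ∀ g, g ∈ E' ↔ g ∈ E ∨ g * u ∈ E)
    (hu : u * u = 1) (hne : u ∉ E) : 2 * Nat.card E ≤ Nat.card E' := by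
  have hle : E ≤ E' := fun g hg => (h g).2 (Or.inl hg)
  have huE : u ∈ E' := (h u).2 (Or.inr (by rw [hu]; exact one_mem _))
  obtain ⟨k, hk⟩ := Subgroup.card_dvd_of_le hle
  have hk2 : 2 ≤ k := by
    rcases Nat.lt_or_ge k 2 with h8 | h8
    · exfalso
      have hpos : 0 < Nat.card E' := Nat.card_pos
      interval_cases k
      · omega
      · rw [mul_one] at hk
        exact hne ((Subgroup.eq_of_le_of_card_ge hle hk.le).symm ▸ huE)
    · exact h8
  calc 2 * Nat.card E ≤ k * Nat.card E := Nat.mul_le_mul_right _ hk2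
    _ = Nat.card E' := by rw [hk, mul_comm]

/-- a group with all elements in `{1, a, s, as} {1, x}` has order at most 8 -/
theorem card_le_eight {E : Subgroup G} {a s x : G}
    (h : ∀ y ∈ E, ∃ w, (w = 1 ∨ w = a ∨ w = s ∨ w = a * s) ∧ (y = w ∨ y = w * x)) : Nat.card E ≤ 8 := by
  have h2 : ∀ y : E, ∃ b : Bool × Bool × Bool,
      (y : G) = cond b.1 a 1 * cond b.2.1 s 1 * cond b.2.2 x 1 := by
    rintro ⟨y, hy⟩
    obtain ⟨w, hw, hyw⟩ := h y hy
    rcases hyw with rfl | rfl <;> rcases hw with rfl | rfl | rfl | rfl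
    · exact ⟨(false, false, false), by simp⟩
    · exact ⟨(true, false, false), by simp⟩
    · exact ⟨(false, true, false), by simp⟩
    · exact ⟨(true, true, false), by simp⟩
    · exact ⟨(false, false, true), by simp⟩
    · exact ⟨(true, false, true), by simp⟩
    · exact ⟨(false, true, true), by simp⟩
    · exact ⟨(true, true, true), by simp⟩
  choose f hf using h2
  have h3 : Function.Injective f := by
    intro y y' hy
    apply Subtype.ext
    rw [hf y, hf y', hy]
  have h4 := Nat.card_le_card_of_injective f h3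
  have h5 : Nat.card (Bool × Bool × Bool) = 8 := by rw [Nat.card_eq_fintype_card]; rfl
  rwa [h5] at h4

theorem isPGroup_of_mul_self {E : Subgroup G} (hE : ∀ e ∈ E, e * e = 1) : IsPGroup 2 E :=
  isPGroup_of_sq fun a ha => by rw [pow_two]; exact hE a ha

section fin

variable [Finite G]

/-! ### balance -/

theorem order_two {y : G} (h : y * y = 1) (h1 : y ≠ 1) : orderOf y = 2 :=
  orderOf_eq_prime (by rw [pow_two]; exact h) h1

/-- no triple `(u, v, J)` : `O(C(u)) ∩ C(v) ≤ O(C(v))` -/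
theorem le_of_no_triple {u v : G} (hu : u * u = 1) (hu1 : u ≠ 1) (hv : v * v = 1) (hv1 : v ≠ 1)
    (huv : v * u = u * v) (h : ∀ J, ¬ IsTriple u v J) : th u ⊓ centralizer ({v} : Set G) ≤ th v := by
  rintro y ⟨hy, hyv⟩
  by_contra hn
  obtain ⟨J, hJ, -⟩ := exists_triple (order_two hu hu1) (order_two hv hv1) huv hy hyv hn
  exact h J hJ

theorem bal (rk : ∀ (u v : G) (J : Subgroup G), IsTriple u v J → ∀ E : Subgroup G, (∀ e ∈ E, e * e = 1) →
      u ∈ E → v ∈ E → Nat.card E < 16) {E : Subgroup G} (hE : ∀ e ∈ E, e * e = 1) (h16 : 16 ≤ Nat.card E)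
    {u v : G} (hu : u ∈ E) (hu1 : u ≠ 1) (hv : v ∈ E) (hv1 : v ≠ 1) :
    th u ⊓ centralizer ({v} : Set G) ≤ th v :=
  le_of_no_triple (hE u hu) hu1 (hE v hv) hv1 (comm_of_sq hE hv hu) fun J hJ => by
    have := rk u v J hJ E hE hu hv
    omega

/-- the functor on an elementary abelian group of order at least 16 -/
theorem functor (FT : OddSol G)
    (rk : ∀ (u v : G) (J : Subgroup G), IsTriple u v J → ∀ E : Subgroup G, (∀ e ∈ E, e * e = 1) →
      u ∈ E → v ∈ E → Nat.card E < 16) {E : Subgroup G} (hE : ∀ e ∈ E, e * e = 1) (h16 : 16 ≤ Nat.card E) :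
    Odd (Nat.card (W E)) ∧ ∀ a ∈ E, a ≠ 1 → W E ⊓ centralizer ({a} : Set G) = th a :=
  closure_of_rank FT (fun _ ha _ hb => comm_of_sq hE ha hb) (fun a ha => by rw [pow_two]; exact hE a ha)
    (by omega) fun _ ha ha1 _ hb hb1 => bal rk hE h16 ha ha1 hb hb1

theorem W_mono {E F : Subgroup G} (h : F ≤ E) : W F ≤ W E := W_le fun _ ha ha1 => le_W (h ha) ha1

theorem W_eq_of_le (FT : OddSol G)
    (rk : ∀ (u v : G) (J : Subgroup G), IsTriple u v J → ∀ E : Subgroup G, (∀ e ∈ E, e * e = 1) →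
      u ∈ E → v ∈ E → Nat.card E < 16) {E F : Subgroup G} (hE : ∀ e ∈ E, e * e = 1) (h16 : 16 ≤ Nat.card E)
    (hFE : F ≤ E) (h4 : 4 ≤ Nat.card F) : W F = W E := by
  apply le_antisymm (W_mono hFE)
  obtain ⟨h1, h2⟩ := functor FT rk hE h16
  have hn : F ≤ normalizer (W E : Set G) := by
    refine le_trans ?_ (normalizer_le E)
    exact hFE.trans le_normalizer
  refine gen_le (F := F) (fun a ha b hb => comm_of_sq hE (hFE ha) (hFE hb)) (fun a ha => hE a (hFE ha)) h4 h1 hn ?_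
  intro f hf hf1
  rw [h2 f (hFE hf) hf1]
  exact le_W hf hf1

/-! ### an element of `O(C(x)) ∩ N` -/

/-- `z` acts on `O(C(x)) ∩ C(v)` as an element of `N`, `(x, v, N)` a triple. -/
theorem exists_mem {x v z s : G} {N : Subgroup G} (hT : IsTriple x v N) (zz : z * z = 1) (zx : z * x = x * z)
    (zv : z * v = v * z) (hs : s ∈ N) (hzs : z = s ∨ z = v * s)
    (hz : th x ⊓ centralizer ({z} : Set G) ≤ th z) (hzv : th z ⊓ centralizer ({v} : Set G) ≤ th v) :
    ∃ y ∈ th x, y ∈ N ∧ y ∉ core N := by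
  by_contra hcon
  push Not at hcon
  obtain ⟨d, hd, hda, hf⟩ := hT.bad
  obtain ⟨F, hF⟩ : ∃ F : Subgroup G, ∀ e, e ∈ F ↔ e ∈ core (centralizer ({x} : Set G)) ∧
      e ∈ centralizer ({v} : Set G) ∧ Fixes e N := by
    refine ⟨{ carrier := {e | e ∈ core (centralizer ({x} : Set G)) ∧
        e ∈ centralizer ({v} : Set G) ∧ Fixes e N}
              mul_mem' := ?_
              one_mem' := ?_
              inv_mem' := ?_ }, fun e => Iff.rfl⟩
    · rintro e e' ⟨h1, h2, h3⟩ ⟨h1', h2', h3'⟩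
      exact ⟨mul_mem h1 h1', mul_mem h2 h2', fixes_mul h3 h3'⟩
    · exact ⟨one_mem _, one_mem _, fixes_one N⟩
    · rintro e ⟨h1, h2, h3⟩
      exact ⟨inv_mem h1, inv_mem h2, fixes_inv h3⟩
  have hFodd : Odd (Nat.card F) :=
    Odd.of_dvd_nat (odd_card_core (centralizer ({x} : Set G)))
      (Subgroup.card_dvd_of_le fun e he => ((hF e).mp he).1)
  have hzN : z ∈ normalizer (N : Set G) := by
    rcases hzs with rfl | rfl
    · exact le_normalizer hs
    · refine mul_mem ?_ (le_normalizer hs)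
      rw [mem_normalizer_iff]
      intro y
      have key : ∀ y ∈ N, v * y * v⁻¹ = y := fun y hy => by
        rw [← comm_c (hT.comp.le hy)]; group
      refine ⟨fun hy => by rw [key y hy]; exact hy, fun hy => ?_⟩
      have h1 := key _ hy
      have h2 : v * y * v⁻¹ = y := by
        have h3 := congrArg (fun t => v⁻¹ * t * v) h1
        have h4 : v⁻¹ * (v * (v * y * v⁻¹) * v⁻¹) * v = v * y * v⁻¹ := by group
        have h5 : v⁻¹ * (v * y * v⁻¹) * v = y := by group
        simp only [h4, h5] at h3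
        exact h3
      rw [h2] at hy
      exact hy
  have hzi := inv_of_sq zz
  have hzF : ∀ e ∈ F, z * e * z⁻¹ ∈ F := by
    intro e he
    obtain ⟨h1, h2, h3⟩ := (hF e).mp he
    refine (hF _).mpr ⟨conj_core (mem_c zx) h1, ?_, fixes_conj h3 hzN⟩
    exact mul_mem (mul_mem (mem_c zv) h2) (inv_mem (mem_c zv))
  have hzn : z ∈ normalizer (F : Set G) := by
    rw [mem_normalizer_iff]
    intro e
    refine ⟨hzF e, fun h => ?_⟩
    have h1 := hzF _ h
    have h2 : z * (z * e * z⁻¹) * z⁻¹ = e := by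
      rw [hzi]
      calc z * (z * e * z) * z = (z * z) * e * (z * z) := by group
        _ = e := by rw [zz]; group
    rwa [h2] at h1
  have hdN : d ∈ normalizer (N : Set G) := hT.mem_normalizer_of_core hd hda
  have hmem : d⁻¹ * (z * d * z⁻¹) ∈ F := by
    have h1 : d⁻¹ * (z * d * z⁻¹) ∈ core (centralizer ({x} : Set G)) :=
      mul_mem (inv_mem hd) (conj_core (mem_c zx) hd)
    have h2 : d⁻¹ * (z * d * z⁻¹) ∈ centralizer ({v} : Set G) :=
      mul_mem (inv_mem hda) (mul_mem (mul_mem (mem_c zv) hda) (inv_mem (mem_c zv)))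
    have h3 : d⁻¹ * (z * d * z⁻¹) ∈ N := by
      have h4 : z * d * z⁻¹ = s * d * s⁻¹ := by
        rcases hzs with h | h
        · rw [h]
        · have hsv : s * v = v * s := comm_c (hT.comp.le hs)
          have hdv : d * v = v * d := comm_c hda
          rw [h]
          calc v * s * d * (v * s)⁻¹ = (s * v) * d * (s * v)⁻¹ := by rw [hsv]
            _ = s * (v * d) * v⁻¹ * s⁻¹ := by group
            _ = s * d * s⁻¹ := by rw [← hdv]; group
      rw [h4]
      have h5 : d⁻¹ * s * d⁻¹⁻¹ ∈ N := conj_mem (inv_mem hdN) hs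
      have h6 : d⁻¹ * (s * d * s⁻¹) = (d⁻¹ * s * d⁻¹⁻¹) * s⁻¹ := by group
      rw [h6]
      exact mul_mem h5 (inv_mem hs)
    have h4 := hcon _ h1 h3
    exact (hF _).mpr ⟨h1, h2, hT.comp.fixes_of_core (hT.comp.core_le_core h4)⟩
  obtain ⟨o, ho, hco⟩ := Intrinsic.Lifting.exists_commute (n := 1) hFodd
    (by rw [pow_one, pow_two, zz]) hzn hmem
  obtain ⟨h1, h2, h3⟩ := (hF o).mp ho
  have h4 : d * o ∈ th v := hzv ⟨hz ⟨mul_mem hd h1, mem_c hco.symm⟩, mul_mem hda h2⟩
  exact hf ((fixes_mul_iff_left h3).mp (hT.comp.fixes_of_core h4))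

/-! ### inversion modulo a subgroup -/

/-- an involution `z` acts on a group `R` of odd order, `C_R(z) ≤ N` : `z` inverts `R` modulo `N`, and `R` is abelian
modulo `N` -/
theorem inv_mod {R N : Subgroup G} {z : G} (hR : Odd (Nat.card R)) (zz : z * z = 1)
    (hzR : ∀ r ∈ R, z * r * z⁻¹ ∈ R) (hNR : N ≤ R) (hRN : ∀ r ∈ R, ∀ n ∈ N, r * n * r⁻¹ ∈ N)
    (hzN : ∀ n ∈ N, z * n * z⁻¹ ∈ N) (hC : ∀ r ∈ R, r * z = z * r → r ∈ N) :
    ∀ r ∈ R, ∀ r' ∈ R, ⁅r, r'⁆ ∈ N := by
  have hzi := inv_of_sq zz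
  have hNodd : Odd (Nat.card N) := Odd.of_dvd_nat hR (Subgroup.card_dvd_of_le hNR)
  have hzn : z ∈ normalizer (N : Set G) := by
    rw [mem_normalizer_iff]
    intro e
    refine ⟨hzN e, fun h => ?_⟩
    have h1 := hzN _ h
    have h2 : z * (z * e * z⁻¹) * z⁻¹ = e := by
      rw [hzi]
      calc z * (z * e * z) * z = (z * z) * e * (z * z) := by group
        _ = e := by rw [zz]; group
    rwa [h2] at h1
  have hfix : ∀ r ∈ R, r⁻¹ * (z * r * z⁻¹) ∈ N → r ∈ N := by
    intro r hr h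
    obtain ⟨o, ho, hco⟩ := Intrinsic.Lifting.exists_commute (n := 1) hNodd
      (by rw [pow_one, pow_two, zz]) hzn h
    have h1 := hC _ (mul_mem hr (hNR ho)) hco.symm
    have h2 := mul_mem h1 (inv_mem ho)
    rwa [mul_inv_cancel_right] at h2
  have hn : (N.subgroupOf R).Normal := ⟨fun n hn r => hRN r r.2 n hn⟩
  -- the map `r ↦ r⁻¹ r^z` on `R / N`
  let φ : R → R := fun r => ⟨z * r * z⁻¹, hzR r r.2⟩
  have hφ : ∀ r r', φ (r * r') = φ r * φ r' := fun r r' => Subtype.ext (by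
    change z * ((r : G) * r') * z⁻¹ = (z * r * z⁻¹) * (z * r' * z⁻¹)
    group)
  have hφi : ∀ r, φ r⁻¹ = (φ r)⁻¹ := fun r => Subtype.ext (by
    change z * (r : G)⁻¹ * z⁻¹ = (z * r * z⁻¹)⁻¹
    group)
  have hφφ : ∀ r, φ (φ r) = r := fun r => Subtype.ext (by
    change z * (z * (r : G) * z⁻¹) * z⁻¹ = r
    rw [hzi]
    calc z * (z * (r : G) * z) * z = (z * z) * r * (z * z) := by group
      _ = r := by rw [zz]; group)
  let π : R →* R ⧸ N.subgroupOf R := QuotientGroup.mk' (N.subgroupOf R)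
  have hπ : ∀ r r' : R, π r = π r' ↔ r⁻¹ * r' ∈ N.subgroupOf R := fun r r' => QuotientGroup.eq
  let ψ : R ⧸ N.subgroupOf R → R ⧸ N.subgroupOf R :=
    Quotient.lift (s := QuotientGroup.leftRel (N.subgroupOf R)) (fun r => π (r⁻¹ * φ r)) (by
      intro r r' h
      have h1 : r⁻¹ * r' ∈ N.subgroupOf R := QuotientGroup.leftRel_apply.mp h
      obtain ⟨n, hn', rfl⟩ : ∃ n ∈ N.subgroupOf R, r' = r * n := ⟨_, h1, by group⟩
      have h2 : φ n ∈ N.subgroupOf R := hzN n hn'
      have h3 : π n = 1 := (QuotientGroup.eq_one_iff _).mpr hn'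
      have h4 : π (φ n) = 1 := (QuotientGroup.eq_one_iff _).mpr h2
      change π (r⁻¹ * φ r) = π ((r * n)⁻¹ * φ (r * n))
      rw [hφ, mul_inv_rev, map_mul, map_mul, map_mul, map_mul, map_inv, map_inv, h3, h4, inv_one, one_mul, mul_one])
  have hψ : ∀ r, ψ (π r) = π (r⁻¹ * φ r) := fun r => rfl
  have hinj : Function.Injective ψ := by
    intro q q' h
    obtain ⟨r, rfl⟩ := QuotientGroup.mk'_surjective _ q
    obtain ⟨r', rfl⟩ := QuotientGroup.mk'_surjective _ q'
    change ψ (π r) = ψ (π r') at h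
    rw [hψ, hψ] at h
    change π r = π r'
    have h1 : π ((r' * r⁻¹)⁻¹ * φ (r' * r⁻¹)) = 1 := by
      rw [hφ, hφi, mul_inv_rev, inv_inv]
      have h2 : r * r'⁻¹ * (φ r' * (φ r)⁻¹) = r * (r'⁻¹ * φ r') * (φ r)⁻¹ := by group
      rw [h2, map_mul, map_mul, ← h, ← map_mul, ← map_mul]
      have h3 : r * (r⁻¹ * φ r) * (φ r)⁻¹ = 1 := by group
      rw [h3, map_one]
    have h4 : ((r' * r⁻¹ : R) : G) ∈ N := by
      refine hfix _ (r' * r⁻¹).2 ?_
      exact (QuotientGroup.eq_one_iff ((r' * r⁻¹)⁻¹ * φ (r' * r⁻¹))).mp h1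
    have h5 : π (r' * r⁻¹) = 1 := (QuotientGroup.eq_one_iff _).mpr h4
    rw [map_mul, map_inv, mul_inv_eq_one] at h5
    exact h5.symm
  have hsurj := Finite.surjective_of_injective hinj
  have hinv : ∀ r : R, π (φ r) = π r⁻¹ := by
    intro r
    obtain ⟨q, hq⟩ := hsurj (π r)
    obtain ⟨t, rfl⟩ := QuotientGroup.mk'_surjective _ q
    change ψ (π t) = π r at hq
    rw [hψ] at hq
    have h1 : π (φ r) = π (φ (t⁻¹ * φ t)) := by
      have h2 : r⁻¹ * (t⁻¹ * φ t) ∈ N.subgroupOf R := (hπ _ _).mp hq.symm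
      refine (hπ _ _).mpr ?_
      rw [← hφi, ← hφ]
      exact hzN _ h2
    rw [h1, hφ, hφi, hφφ, map_inv, ← hq, ← map_inv]
    congr 1
    group
  intro r hr r' hr'
  have h1 : π (φ (⟨r, hr⟩ * ⟨r', hr'⟩)) = π (φ ⟨r, hr⟩) * π (φ ⟨r', hr'⟩) := by rw [hφ, map_mul]
  rw [hinv, hinv, hinv, ← map_mul, mul_inv_rev] at h1
  have h2 := (hπ _ _).mp h1
  have h4 : ((⟨r', hr'⟩ : R)⁻¹ * (⟨r, hr⟩ : R)⁻¹)⁻¹ * ((⟨r, hr⟩ : R)⁻¹ * (⟨r', hr'⟩ : R)⁻¹) =
      ⟨⁅r, r'⁆, by
        rw [commutatorElement_def]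
        exact mul_mem (mul_mem (mul_mem hr hr') (inv_mem hr)) (inv_mem hr')⟩ := Subtype.ext (by
    change (r'⁻¹ * r⁻¹)⁻¹ * (r⁻¹ * r'⁻¹) = ⁅r, r'⁆
    rw [commutatorElement_def]
    group)
  rw [h4] at h2
  exact h2

end fin

end Cfsg.Agent.UGT.FourB.GTools
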