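import Cfsg.Agent.UGT.FourA.Facts

/-!
# Leaf (L0), `L × J`: the facts on one factor

`Half L x s`: `x` is an involution of PGL type on `L ≅ PSL(2,F)`, `s` the involution of `C_L(x)`: types of the involutions of
`N(L)`, `Out(L)` abelian.
-/

set_option autoImplicit false

open Subgroup Cfsg.Agent.OddHalf.D6 Cfsg.Agent.UGT.Res.EFacts
open Cfsg.Agent.UGT.ThE.Base (IsS)

namespace Cfsg.Agent.UGT.FourB

variable {G : Type*} [Group G]

/-- the facts on `L ≅ PSL(2,F)`, `x` of PGL type on `L`, `s` an involution of `C_L(x)` -/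
structure Half (L : Subgroup G) (x s : G) : Prop where
  xx : x * x = 1
  xN : x ∈ normalizer (L : Set G)
  cen : ∀ l ∈ L, l ∈ centralizer (L : Set G) → l = 1
  sL : s ∈ L
  ss : s * s = 1
  s1 : s ≠ 1
  sx : s * x = x * s
  inv : ∀ i ∈ L, i * i = 1 → i ≠ 1 → ∃ l ∈ L, l * i * l⁻¹ = s
  xLK : ∀ l ∈ L, x * l ∉ centralizer (L : Set G)
  typ : ∀ b ∈ normalizer (L : Set G), b * b = 1 → b ∈ centralizer (L : Set G) ∨
    (∃ i ∈ L, i * i = 1 ∧ b * i ∈ centralizer (L : Set G)) ∨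
    (∃ l ∈ L, l * b * l⁻¹ * x ∈ centralizer (L : Set G)) ∨
    ∃ p ∈ L, ∃ r ∈ L, p * b = b * p ∧ r * b = b * r ∧ IsPGroup 2 (closure {p, r}) ∧
      p * r * p⁻¹ * r⁻¹ * (p * r * p⁻¹ * r⁻¹) = 1 ∧ p * r * p⁻¹ * r⁻¹ ≠ 1
  cx : ∀ u ∈ normalizer (L : Set G), u * u = 1 → u * x = x * u →
    ∃ d ∈ L, d * x = x * d ∧ (d * u * d⁻¹ ∈ centralizer (L : Set G) ∨
      d * u * d⁻¹ * x ∈ centralizer (L : Set G) ∨ d * u * d⁻¹ * s ∈ centralizer (L : Set G) ∨
      d * u * d⁻¹ * x * s ∈ centralizer (L : Set G))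
  out : ∀ t ∈ normalizer (L : Set G), ∀ u ∈ normalizer (L : Set G),
    ∃ l ∈ L, t * u * t⁻¹ * u⁻¹ * l ∈ centralizer (L : Set G)

/-- a dihedral 2-group of order at least eight contains a dihedral group of order eight -/
theorem dih_pr [Finite G] {S : Subgroup G} (hS : IsPGroup 2 S) {d r : G} (h : GH.L2Aut.Dih S d r)
    (hdd : d * d ≠ 1) : ∃ p ∈ S, p * r * p⁻¹ * r⁻¹ * (p * r * p⁻¹ * r⁻¹) = 1 ∧
      p * r * p⁻¹ * r⁻¹ ≠ 1 := by
  obtain ⟨n, hn, h1, h2⟩ := h.exists_z hS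
  have hn0 : n ≠ 0 := by
    rintro rfl
    apply hdd
    rw [← pow_two, ← pow_orderOf_eq_one d, hn]
    norm_num
  obtain ⟨m, rfl⟩ := Nat.exists_eq_succ_of_ne_zero hn0
  -- `p = d ^ 2 ^ m`, `[p, r] = p * p`
  have hr : r⁻¹ = r := h.rinv
  have hpr : ∀ k : ℕ, d ^ k * r * (d ^ k)⁻¹ * r⁻¹ = d ^ k * d ^ k := by
    intro k
    have h3 := h.r_pow (-(k : ℤ))
    rw [zpow_neg, zpow_natCast, neg_neg, zpow_natCast] at h3
    calc d ^ k * r * (d ^ k)⁻¹ * r⁻¹ = d ^ k * (r * (d ^ k)⁻¹ * r⁻¹) := by group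
      _ = d ^ k * d ^ k := by rw [h3]
  refine ⟨d ^ 2 ^ m, S.pow_mem h.d_mem _, ?_, ?_⟩
  · rw [hpr]
    rw [← pow_add, ← two_mul, ← pow_succ']
    exact h1
  · rw [hpr]
    rw [← pow_add, ← two_mul, ← pow_succ']
    exact h2

variable {L : Subgroup G} {F : Type*} [Field F] [Finite F] {R : GH.L2Aut.Rep F L} {x s : G}

/-- types of the involutions of `N(L)` -/
theorem typ_of [Finite G] (C : Cf R x) (b : G) (hb : b ∈ normalizer (L : Set G)) (hbb : b * b = 1) :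
    b ∈ centralizer (L : Set G) ∨
    (∃ i ∈ L, i * i = 1 ∧ b * i ∈ centralizer (L : Set G)) ∨
    (∃ l ∈ L, l * b * l⁻¹ * x ∈ centralizer (L : Set G)) ∨
    ∃ p ∈ L, ∃ r ∈ L, p * b = b * p ∧ r * b = b * r ∧ IsPGroup 2 (closure {p, r}) ∧
      p * r * p⁻¹ * r⁻¹ * (p * r * p⁻¹ * r⁻¹) = 1 ∧ p * r * p⁻¹ * r⁻¹ ≠ 1 := by
  have hα := act_sq hb hbb
  by_cases hf : R.fld (act L b hb) = 1
  · rcases Int.units_eq_one_or (R.o1 (act L b hb)) with ho | ho
    · by_cases h1 : act L b hb = 1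
      · exact Or.inl ((act_one_iff' hb).mp h1)
      · obtain ⟨⟨s, hs⟩, h2⟩ := R.mem_inn_iff.2 ⟨hf, ho⟩
        refine Or.inr (Or.inl ⟨s, hs, ?_, ?_⟩)
        · have h4 : (⟨s, hs⟩ : L) * ⟨s, hs⟩ = 1 := R.conj_injective (by rw [map_mul, h2, hα, map_one])
          exact congrArg Subtype.val h4
        · rw [← act_one_iff' (mul_mem hb (le_normalizer hs)), ← act_mul hb (le_normalizer hs),
            act_of_mem hs, h2, hα]
    · obtain ⟨h1, h2⟩ := PglType.pgl_of R hα ho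
      obtain ⟨h3, h4⟩ := PglType.pgl_of R C.sq (C.o1 C.xN)
      obtain ⟨⟨y, hyL⟩, hy⟩ := R.dtype_conj h1 h2 hα h3 h4 C.sq
      refine Or.inr (Or.inr (Or.inl ⟨y, hyL, ?_⟩))
      have hyN := le_normalizer hyL
      rw [← act_one_iff' (mul_mem (mul_mem (mul_mem hyN hb) (inv_mem hyN)) C.xN),
        ← act_mul (mul_mem (mul_mem hyN hb) (inv_mem hyN)) C.xN]
      have h5 : act L (y * b * y⁻¹) (mul_mem (mul_mem hyN hb) (inv_mem hyN)) = act L x C.xN := by
        rw [← hy, ← act_mul (mul_mem hyN hb) (inv_mem hyN), ← act_mul hyN hb, act_inv hyN,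
          act_of_mem hyL]
      rw [h5, C.sq]
  · right; right; right
    have h1 : act L b hb ∉ R.PGL := fun h => hf (R.mem_PGL_iff_fld.1 h)
    obtain ⟨S, hS⟩ := R.ftype_syl h1 hα
    obtain ⟨d, r, hd⟩ := R.exists_dih S
    obtain ⟨p, hp, h2, h3⟩ := dih_pr S.2 hd (R.ftype_dd h1 hα S hd)
    have hcom : ∀ y ∈ (S : Subgroup L), (y : G) * b = b * y := fun y hy =>
      (act_fix hb y.2).mp (hS y hy)
    refine ⟨p, p.2, r, r.2, hcom p hp, hcom r hd.r_mem, ?_, congrArg Subtype.val h2,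
      fun h => h3 (Subtype.ext h)⟩
    have h4 : closure {(p : G), (r : G)} ≤ (S : Subgroup L).map L.subtype := by
      rw [closure_le]
      rintro y (rfl | rfl)
      · exact ⟨p, hp, rfl⟩
      · exact ⟨r, hd.r_mem, rfl⟩
    exact (S.2.map L.subtype).to_le h4

theorem out_of (R : GH.L2Aut.Rep F L) (t : G) (ht : t ∈ normalizer (L : Set G)) (u : G)
    (hu : u ∈ normalizer (L : Set G)) : ∃ l ∈ L, t * u * t⁻¹ * u⁻¹ * l ∈ centralizer (L : Set G) := by
  have hti := inv_mem ht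
  have hui := inv_mem hu
  have h1 : act L (t * u * t⁻¹ * u⁻¹) (mul_mem (mul_mem (mul_mem ht hu) hti) hui) =
      act L t ht * act L u hu * (act L t ht)⁻¹ * (act L u hu)⁻¹ := by
    rw [← act_mul (mul_mem (mul_mem ht hu) hti) hui, ← act_mul (mul_mem ht hu) hti, ← act_mul ht hu,
      act_inv ht, act_inv hu]
  have hf : R.fld (act L (t * u * t⁻¹ * u⁻¹) (mul_mem (mul_mem (mul_mem ht hu) hti) hui)) = 1 := by
    rw [h1, map_mul, map_mul, map_mul, map_inv, map_inv, ringAut_comm (R.fld (act L t ht)),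
      mul_inv_cancel_right, mul_inv_cancel]
  have ho : R.o1 (act L (t * u * t⁻¹ * u⁻¹) (mul_mem (mul_mem (mul_mem ht hu) hti) hui)) = 1 := by
    rw [h1, map_mul, map_mul, map_mul, map_inv, map_inv, mul_comm (R.o1 (act L t ht)),
      mul_inv_cancel_right, mul_inv_cancel]
  obtain ⟨⟨l, hl⟩, h2⟩ := R.mem_inn_iff.2 ⟨hf, ho⟩
  refine ⟨l⁻¹, inv_mem hl, ?_⟩
  have hli := le_normalizer (inv_mem hl)
  rw [← act_one_iff' (mul_mem (mul_mem (mul_mem (mul_mem ht hu) hti) hui) hli),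
    ← act_mul (mul_mem (mul_mem (mul_mem ht hu) hti) hui) hli, act_inv (le_normalizer hl), act_of_mem hl,
    h2, mul_inv_cancel]

/-- supply of `Half` -/
theorem Half.of_cf [Finite G] (C : Cf R x) (hs : IsS L x s) : Half L x s where
  xx := C.xx
  xN := C.xN
  cen l hl h := eq_one_of_mem_centralizer R hl h
  sL := hs.mem
  ss := hs.sq
  s1 := hs.ne
  sx := hs.comm
  inv i hi hii hi1 := FourA.Facts.invL R hs.mem hs.sq hs.ne hi hii hi1
  xLK := C.xLK
  typ := typ_of C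
  cx u hu huu hux := by
    have hc : u * x * u⁻¹ * x⁻¹ ∈ centralizer (L : Set G) := by
      have : u * x * u⁻¹ * x⁻¹ = 1 := by rw [hux]; group
      rw [this]
      exact one_mem _
    rcases C.cenx u hu huu hc with h | h | ⟨s', hs', h⟩
    · exact ⟨1, one_mem _, by rw [one_mul, mul_one], Or.inl (by simpa using h)⟩
    · exact ⟨1, one_mem _, by rw [one_mul, mul_one], Or.inr (Or.inl (by simpa using h))⟩
    · obtain ⟨d, hd, hdx, hds⟩ := FourA.Facts.cls_s C hs hs'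
      refine ⟨d, hd, hdx, Or.inr (Or.inr ?_)⟩
      have hx' : d * x * d⁻¹ = x := by rw [hdx]; group
      rcases h with h | h
      · left
        have h1 := ThE.Base.K_conj (le_normalizer hd) h
        have e : d * (u * s') * d⁻¹ = d * u * d⁻¹ * s := by rw [← hds]; group
        rwa [e] at h1
      · right
        have h1 := ThE.Base.K_conj (le_normalizer hd) h
        have e : d * (u * x * s') * d⁻¹ = d * u * d⁻¹ * x * s := by
          calc d * (u * x * s') * d⁻¹ = d * u * d⁻¹ * (d * x * d⁻¹) * (d * s' * d⁻¹) := by group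
            _ = d * u * d⁻¹ * x * s := by rw [hx', hds]
        rwa [e] at h1
  out := out_of R

end Cfsg.Agent.UGT.FourB
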