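import Cfsg.Agent.UGT.FourB.FrameUse

/-!
# `T` Sylow in `G`, `a` not conjugate to `s`, `as`, `x`: some homomorphism `G → {±1}` maps `x` to `-1`

`Fr.exists_hom`.
-/

set_option autoImplicit false

open Cfsg Subgroup
open Cfsg.Agent.SignalizersComponents Cfsg.Agent.Lib
open Cfsg.Agent.SignalizersComponents.IntrinsicBasic
open Cfsg.Agent.Intrinsic.Basic Cfsg.Agent.Intrinsic.Cen Cfsg.Agent.Intrinsic.Diag
open Cfsg.Agent.McLLyComp.Act
open Cfsg.Agent.GH.L2Aut
open Cfsg.Agent.UGT.Triple Cfsg.Agent.UGT.Iface Cfsg.Agent.UGT.Res.KFacts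
open Cfsg.Agent.UGT.RankOneR
open scoped commutatorElement

namespace Cfsg.Agent.UGT.FourB.Frame

variable {G : Type*} [Group G] [Finite G]

omit [Finite G] in
theorem cj_sq {g y : G} (h : y * y = 1) : g * y * g⁻¹ * (g * y * g⁻¹) = 1 := by
  calc g * y * g⁻¹ * (g * y * g⁻¹) = g * (y * y) * g⁻¹ := by group
    _ = 1 := by rw [h]; group

omit [Finite G] in
theorem cj_comm {g y z : G} (h : y * z = z * y) :
    g * y * g⁻¹ * (g * z * g⁻¹) = g * z * g⁻¹ * (g * y * g⁻¹) := by
  calc g * y * g⁻¹ * (g * z * g⁻¹) = g * (y * z) * g⁻¹ := by group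
    _ = g * (z * y) * g⁻¹ := by rw [h]
    _ = _ := by group

omit [Finite G] in
theorem cj_ne {g y : G} (h : y ≠ 1) : g * y * g⁻¹ ≠ 1 := by
  intro h1
  apply h
  calc y = g⁻¹ * (g * y * g⁻¹) * g := by group
    _ = 1 := by rw [h1]; group

theorem natCard_cj (g : G) (E : Subgroup G) :
    Nat.card (IntrinsicBasic.cj g E) = Nat.card E := Nor.card_cj g E

namespace Fr

variable {a x d r s : G} {L T T₁ Q P : Subgroup G} (C : Fr a x d r s L T T₁ Q P)
include C

omit [Finite G] in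
/-- all elements of `xW` are conjugate to `x` -/
theorem conj_xw {n p : G} (hn : n ∈ Q) (hnx : n * x * n⁻¹ = x * a) (hp : p ∈ P)
    (hpx : p * x * p⁻¹ = x * s) (i j : Bool) :
    ∃ g : G, g * (cond i a 1 * cond j s 1 * x) * g⁻¹ = x := by
  have hna : n * a = a * n := C.a_comm (C.QT hn)
  have hps : p * s = s * p := C.sT p (C.PT hp)
  have hns : n * s = s * n := C.sT n (C.QT hn)
  have hpa : p * a = a * p := C.a_comm (C.PT hp)
  have e1 : n⁻¹ * (a * x) * n = x := by
    rw [← C.xa, ← hnx]; group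
  have e2 : p⁻¹ * (s * x) * p = x := by
    rw [← C.xs, ← hpx]; group
  cases i <;> cases j
  · exact ⟨1, by simp⟩
  · refine ⟨p⁻¹, ?_⟩
    simp only [cond_true, cond_false, one_mul, inv_inv]
    exact e2
  · refine ⟨n⁻¹, ?_⟩
    simp only [cond_true, cond_false, mul_one, inv_inv]
    exact e1
  · refine ⟨n⁻¹ * p⁻¹, ?_⟩
    simp only [cond_true]
    have h1 : p⁻¹ * (a * s * x) * p = a * x := by
      have h2 : p⁻¹ * a = a * p⁻¹ := (show Commute p a from hpa).inv_left.eq
      calc p⁻¹ * (a * s * x) * p = (p⁻¹ * a) * (s * x) * p := by group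
        _ = a * (p⁻¹ * (s * x) * p) := by rw [h2]; group
        _ = a * x := by rw [e2]
    calc n⁻¹ * p⁻¹ * (a * s * x) * (n⁻¹ * p⁻¹)⁻¹ = n⁻¹ * (p⁻¹ * (a * s * x) * p) * n := by group
      _ = x := by rw [h1, e1]

/-- `x` is not conjugate to `s` or `as` if `T` is a Sylow 2-subgroup of `G` and `a` is not conjugate to `s`, `as`, `x` -/
theorem not_conj_w (hT : ∀ U : Subgroup G, IsPGroup 2 U → T ≤ U → U ≤ T)
    (has : ∀ k : G, k * a * k⁻¹ ≠ s) (haas : ∀ k : G, k * a * k⁻¹ ≠ a * s) (hax : ∀ k : G, k * a * k⁻¹ ≠ x)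
    {n : G} (hn : n ∈ Q) (hnx : n * x * n⁻¹ = x * a) {k w : G} (hw : w = s ∨ w = a * s)
    (hk : k * w * k⁻¹ = x) : False := by
  have hwT : w ∈ T := by
    rcases hw with rfl | rfl
    · exact C.sT'
    · exact mul_mem C.aT C.sT'
  have hwc : ∀ t ∈ T, t * w = w * t := by
    intro t ht
    rcases hw with rfl | rfl
    · exact C.sT t ht
    · exact (Commute.mul_right (show Commute t a from C.a_comm ht) (C.sT t ht)).eq
  -- `T' = hTh⁻¹ ≥ C_T(x)`
  obtain ⟨h, hh1, hh2⟩ : ∃ h : G, h * w * h⁻¹ = x ∧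
      ∀ t ∈ T, t * x = x * t → h⁻¹ * t * h ∈ T := by
    obtain ⟨c, hc, h1⟩ := FourA.Top.exists_conj (H := centralizer ({x} : Set G))
      (T := IntrinsicBasic.cj k T) (V := T ⊓ centralizer ({x} : Set G)) (C.Tp.map _) (by
        rintro _ ⟨t, ht, rfl⟩
        rw [mem_centralizer_singleton_iff, ← hk]
        exact cj_comm (hwc t ht)) (by
        intro U hU hTU _ u hu
        have h2 := hT (IntrinsicBasic.cj k⁻¹ U) (hU.map _) (by
          intro t ht
          have h3 := hTU (conj_mem_cj (g := k) ht)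
          have h4 := conj_mem_cj (g := k⁻¹) h3
          have h5 : k⁻¹ * (k * t * k⁻¹) * k⁻¹⁻¹ = t := by group
          rwa [h5] at h4) (conj_mem_cj (g := k⁻¹) hu)
        have h3 := conj_mem_cj (g := k) h2
        have h4 : k * (k⁻¹ * u * k⁻¹⁻¹) * k⁻¹ = u := by group
        rwa [h4] at h3) (C.Tp.to_le inf_le_left) inf_le_right
    have hcx := mem_centralizer_singleton_iff.mp hc
    refine ⟨c⁻¹ * k, ?_, fun t ht htx => ?_⟩
    · calc c⁻¹ * k * w * (c⁻¹ * k)⁻¹ = c⁻¹ * (k * w * k⁻¹) * c := by group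
        _ = c⁻¹ * (x * c) := by rw [hk]; group
        _ = x := by rw [← hcx]; group
    · have h2 := h1 t (mem_inf.mpr ⟨ht, mem_centralizer_singleton_iff.mpr htx⟩)
      have h3 := conj_mem_cj (g := k⁻¹) h2
      rw [cj_inv_cj] at h3
      have h4 : (c⁻¹ * k)⁻¹ * t * (c⁻¹ * k) = k⁻¹ * (c * t * c⁻¹) * k⁻¹⁻¹ := by group
      rw [h4]
      exact h3
  -- `v' = hvh⁻¹` for `v ∈ {a, s, as}`
  have hcen : ∀ v, (∀ t ∈ T, t * v = v * t) → ∀ t ∈ T, t * x = x * t → t * (h * v * h⁻¹) = h * v * h⁻¹ * t := by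
    intro v hv t ht htx
    have h1 := cj_comm (g := h) (hv _ (hh2 t ht htx))
    have h2 : h * (h⁻¹ * t * h) * h⁻¹ = t := by group
    rwa [h2] at h1
  have hac : ∀ t ∈ T, t * a = a * t := fun t ht => C.a_comm ht
  have hmem : ∀ v ∈ T, v * v = 1 → (∀ t ∈ T, t * v = v * t) → h * v * h⁻¹ ∈ T ∧
      h * v * h⁻¹ * x = x * (h * v * h⁻¹) := by
    intro v hvT hvv hv
    obtain ⟨v', hv'⟩ : ∃ v', v' = h * v * h⁻¹ := ⟨_, rfl⟩
    have h1 := hcen v hv a C.aT C.xa.symm
    have h2 := hcen v hv x C.xT rfl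
    rw [← hv'] at h1 h2 ⊢
    have hv'v' : v' * v' = 1 := by rw [hv']; exact cj_sq hvv
    refine ⟨?_, h2.symm⟩
    refine RankOneR.mem_of_central (H := centralizer ({a} : Set G) ⊓ centralizer ({x} : Set G))
      (T := T ⊓ centralizer ({x} : Set G)) (C.Tp.to_le inf_le_left) (inf_le_inf_right _ C.TC)
      (fun U hU hTU hUH => le_inf (C.sylx U hU hTU (hUH.trans inf_le_left) (hUH.trans inf_le_right))
      (hUH.trans inf_le_right)) hv'v'
      (mem_inf.mpr ⟨mem_centralizer_singleton_iff.mpr h1.symm, mem_centralizer_singleton_iff.mpr h2.symm⟩) ?_ |>.1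
    intro t ht
    have h3 := hcen v hv t ht.1 (mem_centralizer_singleton_iff.mp ht.2)
    rwa [← hv'] at h3
  obtain ⟨h1, h2⟩ := hmem a C.aT C.a2 hac
  obtain ⟨p, hp, hpx⟩ := C.exists_p
  -- `hah⁻¹ = a`
  obtain ⟨i, j, l, h3⟩ := C.eight h1 h2 (cj_sq C.a2)
  have hha : h * a * h⁻¹ = a := by
    cases l
    · cases i <;> cases j <;> simp only [cond_true, cond_false, mul_one, one_mul] at h3
      · exact absurd h3 (cj_ne C.a1)
      · exact absurd h3 (has h)
      · exact h3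
      · exact absurd h3 (haas h)
    · exfalso
      obtain ⟨g, hg⟩ := C.conj_xw hn hnx hp hpx i j
      apply hax (g * h)
      rw [cond_true] at h3
      calc g * h * a * (g * h)⁻¹ = g * (h * a * h⁻¹) * g⁻¹ := by group
        _ = x := by rw [h3, hg]
  -- `T' ≤ C(a) ∩ C(x)`, `C_T(x) ≤ T'`: `T' ≤ T`
  have h4 : IntrinsicBasic.cj h T ≤ T := by
    refine C.sylx _ (C.Tp.map _) ?_ ?_ ?_
    · intro t ht
      have h5 := conj_mem_cj (g := h) (hh2 t ht.1 (mem_centralizer_singleton_iff.mp ht.2))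
      have h6 : h * (h⁻¹ * t * h) * h⁻¹ = t := by group
      rwa [h6] at h5
    · rintro _ ⟨t, ht, rfl⟩
      rw [mem_centralizer_singleton_iff]
      have h5 := cj_comm (g := h) (hac t ht)
      rw [hha] at h5
      exact h5
    · rintro _ ⟨t, ht, rfl⟩
      rw [mem_centralizer_singleton_iff]
      have h5 := cj_comm (g := h) (hwc t ht)
      rw [hh1] at h5
      exact h5
  have h5 : IntrinsicBasic.cj h T = T :=
    Subgroup.eq_of_le_of_card_ge h4 (natCard_cj h T).ge
  apply C.rx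
  have h6 : r ∈ IntrinsicBasic.cj h T := h5.symm ▸ C.PT C.dih.r_mem
  obtain ⟨t, ht, rfl⟩ := h6
  have h7 := cj_comm (g := h) (hwc t ht)
  rw [hh1] at h7
  exact h7

/-- **(1')** -/
theorem exists_hom (hT : ∀ U : Subgroup G, IsPGroup 2 U → T ≤ U → U ≤ T)
    (has : ∀ k : G, k * a * k⁻¹ ≠ s) (haas : ∀ k : G, k * a * k⁻¹ ≠ a * s) (hax : ∀ k : G, k * a * k⁻¹ ≠ x)
    {u : G} (hu : u ∈ Q) (huu : u * u = 1) (hu1 : u ≠ 1) (hua : u ≠ a) : ∃ f : G →* ℤˣ, f x = -1 := by
  have h2 : Fact (Nat.Prime 2) := ⟨Nat.prime_two⟩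
  obtain ⟨n, hn, hnx⟩ := C.exists_n hu huu hu1 hua
  obtain ⟨U, hU, hTU, hUx, hUmax⟩ := exists_max (H := centralizer ({x} : Set G))
    (U := T ⊓ centralizer ({x} : Set G)) (C.Tp.to_le inf_le_left) inf_le_right
  have hxU : x ∈ U := hTU ⟨C.xT, mem_centralizer_singleton_iff.mpr rfl⟩
  have haU : a ∈ U := hTU ⟨C.aT, mem_centralizer_singleton_iff.mpr C.xa.symm⟩
  have hidx : ¬ 2 ∣ T.index := by
    obtain ⟨S, hS⟩ := C.Tp.exists_le_sylow
    have h3 : T = (S : Subgroup G) := le_antisymm hS (hT S S.2 hS)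
    rw [h3]
    exact S.not_dvd_index
  refine exists_hom_of_extremal C.T₁le C.T₁idx hidx C.x2 hU
    (fun u hu => mem_centralizer_singleton_iff.mp (hUx hu)) hxU ?_
  intro g hg hx'
  -- `b = g⁻¹ag ∈ T`
  obtain ⟨b, hb⟩ : ∃ b, b = g⁻¹ * a * g := ⟨_, rfl⟩
  obtain ⟨x', hx'd⟩ : ∃ x', x' = g⁻¹ * x * g := ⟨_, rfl⟩
  have hbT : b ∈ T := hb ▸ hg a haU
  rw [← hx'd] at hx'
  have hx'T := C.T₁le hx'
  have hgb : g * b * g⁻¹ = a := by rw [hb]; group
  have hgx : g * x' * g⁻¹ = x := by rw [hx'd]; group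
  have hx'2 : x' * x' = 1 := by
    have h3 := cj_sq (g := g⁻¹) C.x2
    rw [inv_inv] at h3
    rw [hx'd]
    exact h3
  have hb2 : b * b = 1 := by
    have h3 := cj_sq (g := g⁻¹) C.a2
    rw [inv_inv] at h3
    rw [hb]
    exact h3
  have hb1 : b ≠ 1 := by
    intro h3
    rw [h3] at hgb
    apply C.a1
    rw [← hgb]
    group
  have hx'1 : x' ≠ 1 := by
    intro h3
    rw [h3] at hgx
    apply C.x1
    rw [← hgx]
    group
  have hbx' : b * x' = x' * b := by
    have h3 := cj_comm (g := g⁻¹) C.xa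
    rw [inv_inv, ← hb, ← hx'd] at h3
    exact h3.symm
  -- an elementary group centralizing `b` and `x'` has order at most 8
  have hcard : ∀ E : Subgroup G, (∀ e ∈ E, e * e = 1) → (∀ e ∈ E, e * b = b * e) →
      (∀ e ∈ E, e * x' = x' * e) → Nat.card E ≤ 8 := by
    intro E h3 h4 h5
    rw [← natCard_cj g E]
    refine C.card_le ?_ ?_ ?_
    · rintro _ ⟨e, he, rfl⟩
      exact cj_sq (h3 e he)
    · rintro _ ⟨e, he, rfl⟩
      have h6 := cj_comm (g := g) (h4 e he)
      rw [hgb] at h6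
      exact h6
    · rintro _ ⟨e, he, rfl⟩
      have h6 := cj_comm (g := g) (h5 e he)
      rw [hgx] at h6
      exact h6
  by_cases hba : b = a
  · -- `E₁₆` through `x'` containing `a`
    obtain ⟨E, h3, h4, -, h6, h7, h8⟩ := C.E16 hu huu hu1 hua hx' hx'2
    have hcomm : ∀ e ∈ E, ∀ e' ∈ E, e * e' = e' * e := by
      intro e he e' he'
      have e1 := h3 _ (mul_mem he he')
      have e2 : e * e' = (e * e')⁻¹ := eq_inv_of_mul_eq_one_left e1
      rw [e2, mul_inv_rev, inv_eq_of_mul_eq_one_left (h3 e he), inv_eq_of_mul_eq_one_left (h3 e' he')]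
    have := hcard E h3 (fun e he => by rw [hba]; exact hcomm e he a h4) (fun e he => hcomm e he x' h6)
    omega
  · -- `⟨a, s⟩ ∩ ⟨b, x'⟩ ≠ 1`
    have hbs : b ≠ s := fun h3 => has g⁻¹ (by rw [inv_inv, ← hb, h3])
    have hbas : b ≠ a * s := fun h3 => haas g⁻¹ (by rw [inv_inv, ← hb, h3])
    have hbx : b ≠ x' := by
      intro h3
      apply hax 1
      rw [h3, hgx] at hgb
      rw [hgb]
      group
    have hf : Four b x' := ⟨hb2, hx'2, hb1, hx'1, hbx, hbx'⟩
    have hkey : ∃ w, (w = s ∨ w = a * s ∨ w = a) ∧ (w = x' ∨ w = b * x') := by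
      by_contra hcon
      push Not at hcon
      obtain ⟨E, h3, -, h4, h5, h6, h7, h8⟩ := exists_sixteen C.fas hf (C.a_comm hbT).symm
        (C.a_comm hx'T).symm (C.sT b hbT).symm (C.sT x' hx'T).symm (by
          rw [eq_bot_iff]
          rintro z ⟨hz1, hz2⟩
          have hz1' : z = 1 ∨ z = s ∨ z = a * s ∨ z = a := by
            rcases hz1 with h | h | h | h
            · exact Or.inl h
            · exact Or.inr (Or.inr (Or.inr h))
            · exact Or.inr (Or.inl h)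
            · exact Or.inr (Or.inr (Or.inl h))
          rcases hz1' with h | hz1'
          · exact mem_bot.mpr h
          exfalso
          obtain ⟨e1, e2⟩ := hcon z hz1'
          rcases hz2 with h | h | h | h
          · rcases hz1' with h' | h' | h'
            · exact C.s1 (h'.symm.trans h)
            · exact C.fas.right.b1 (h'.symm.trans h)
            · exact C.a1 (h'.symm.trans h)
          · rcases hz1' with h' | h' | h'
            · exact hbs (h.symm.trans h')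
            · exact hbas (h.symm.trans h')
            · exact hba (h.symm.trans h')
          · exact e1 h
          · exact e2 h)
      have hcomm : ∀ e ∈ E, ∀ e' ∈ E, e * e' = e' * e := by
        intro e he e' he'
        have e1 := h3 _ (mul_mem he he')
        have e2 : e * e' = (e * e')⁻¹ := eq_inv_of_mul_eq_one_left e1
        rw [e2, mul_inv_rev, inv_eq_of_mul_eq_one_left (h3 e he), inv_eq_of_mul_eq_one_left (h3 e' he')]
      have := hcard E h3 (fun e he => hcomm e he b h5) (fun e he => hcomm e he x' h6)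
      omega
    obtain ⟨w, hw, hw'⟩ := hkey
    -- `w` is conjugate to `x`
    obtain ⟨k, hk⟩ : ∃ k, k * w * k⁻¹ = x := by
      rcases hw' with rfl | rfl
      · exact ⟨g, hgx⟩
      · refine ⟨n⁻¹ * g, ?_⟩
        have h3 : g * (b * x') * g⁻¹ = x * a := by
          calc g * (b * x') * g⁻¹ = (g * b * g⁻¹) * (g * x' * g⁻¹) := by group
            _ = x * a := by rw [hgb, hgx, C.xa]
        calc n⁻¹ * g * (b * x') * (n⁻¹ * g)⁻¹ = n⁻¹ * (g * (b * x') * g⁻¹) * n := by group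
          _ = x := by rw [h3, ← hnx]; group
    rcases hw with hw | hw | hw
    · exact C.not_conj_w hT has haas hax hn hnx (Or.inl hw) hk
    · exact C.not_conj_w hT has haas hax hn hnx (Or.inr hw) hk
    · rw [hw] at hk
      exact hax k hk

end Fr

end Cfsg.Agent.UGT.FourB.Frame
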