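import Cfsg.Agent.GH.L2AutF
import Cfsg.Agent.GH.L2AutField
import Cfsg.Agent.OddHalf.D6.PglType
import Cfsg.Agent.OddCyclic.PGLTorus
import Cfsg.Agent.UGT.Res.PGLFacts

/-!
# K-facts for UGT (4b) (#15806), piece [B]

`R : Rep F L`, `L ≅ PSL(2,F)`, `q = |F|`.

* (B1) `se` : SE-LEMMA: `q ≡ 1 (4)`, `q ≥ 9`, `K ≤ L` contains every `j` with `[a, a^j] = 1` ==> `K = L`;
* (B2) `exists_a4` : `α² = 1`, `α = 1` or `fld α ≠ 1` ==> `α` fixes some `A₄ ≤ L`; `eq_one_of_a4`, `exists_moved`;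
* (B3) `cen_syl`, `cen_syl'` (a 2-element centralising a Sylow 2-subgroup `S` of `L` and an element with `o1 = -1` is
  in `Z(S)`), `central_unique`, `cen_comm` (2-elements centralising `S` commute);
* (B4) `comm_fix` (commuting elements, one fixed by an involution of PGL type), `exists_cyclic`; see also
  `OddHalf.D6.PglType.inverts`, `UGT.Res.TorFacts.{tor_or, tor_mul}`;
* (B5) `no_five` : `σ` inner involution, `α² = 1`, `[α, σ] = 1`: `σ` does not centralise both `C_L(α)` and `C_L(ασ)`.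
-/

set_option autoImplicit false

namespace Cfsg.Agent.UGT.FourB.KB

open Matrix Cfsg.Agent.Lib.SL2Mat Cfsg.Agent.GH.L2Aut Cfsg.Agent.OddHalf.D6 Cfsg.Agent.OddCyclic

variable {F : Type*} [Field F] [Finite F] {L : Type*} [Group L] (R : Cfsg.Agent.GH.L2Aut.Rep F L)

local notation "SL2" => Matrix.SpecialLinearGroup (Fin 2) F
local notation "M2" => Matrix (Fin 2) (Fin 2) F

/-! ### (B1) -/

/-- `b` is an involution and `K` contains all elements which conjugate `b` to something commuting with `b`. -/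
structure Cl (K : Subgroup L) (b : L) : Prop where
  sq : b * b = 1
  ne : b ≠ 1
  mem' : ∀ j : L, b * (j * b * j⁻¹) = j * b * j⁻¹ * b → j ∈ K

theorem Cl.mem {K : Subgroup L} {b : L} (h : Cl K b) : b ∈ K :=
  h.mem' b (by group)

include R in
theorem Cl.step {K : Subgroup L} {b : L} (h : Cl K b) {c : L} (hc : c * c = 1) (hc1 : c ≠ 1)
    (hbc : b * c = c * b) : Cl K c := by
  obtain ⟨g, hg⟩ := R.inv_conj h.sq h.ne hc hc1
  have hgK : g ∈ K := h.mem' g (by rw [hg]; exact hbc)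
  refine ⟨hc, hc1, fun j hj => ?_⟩
  have h1 : g⁻¹ * j * g ∈ K := by
    apply h.mem'
    have h2 : b = g⁻¹ * c * g := by rw [← hg]; group
    rw [h2]
    calc g⁻¹ * c * g * (g⁻¹ * j * g * (g⁻¹ * c * g) * (g⁻¹ * j * g)⁻¹)
        = g⁻¹ * (c * (j * c * j⁻¹)) * g := by group
      _ = g⁻¹ * (j * c * j⁻¹ * c) * g := by rw [hj]
      _ = _ := by group
  have h2 : j = g * (g⁻¹ * j * g) * g⁻¹ := by group
  rw [h2]
  exact mul_mem (mul_mem hgK h1) (inv_mem hgK)

omit [Finite F] in
theorem comm_of_anti {x y : SL2} (h : x * y = -(y * x)) : R.π x * R.π y = R.π y * R.π x := by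
  rw [← map_mul, ← map_mul, h, R.π_neg]

omit [Finite F] in
theorem inv_of_sq_neg {x : SL2} (h : x * x = -1) : R.π x * R.π x = 1 ∧ R.π x ≠ 1 := by
  refine ⟨by rw [← map_mul, h, R.π_neg, map_one], fun h1 => ?_⟩
  rw [R.ker] at h1
  rcases h1 with h1 | h1
  · rw [h1, mul_one] at h
    exact R.neg_one_ne_one h.symm
  · rw [h1, neg_mul_neg, mul_one] at h
    exact R.neg_one_ne_one h.symm

omit [Finite F] in
theorem neg_ent (x : SL2) (i j : Fin 2) : ent (-x) i j = -ent x i j := rfl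

theorem exists_w (h9 : 9 ≤ Nat.card F) : ∃ w : F, w ≠ 0 ∧ w ^ 2 ≠ 1 ∧ w ^ 2 ≠ -1 := by
  by_contra hcon
  push Not at hcon
  have h1 : ∀ w : Fˣ, w ^ 4 = 1 := by
    intro w
    apply Units.ext
    rw [Units.val_pow_eq_pow_val, Units.val_one]
    by_cases h2 : (w : F) ^ 2 = 1
    · rw [show (w : F) ^ 4 = ((w : F) ^ 2) ^ 2 by ring, h2, one_pow]
    · rw [show (w : F) ^ 4 = ((w : F) ^ 2) ^ 2 by ring, hcon _ w.ne_zero h2, neg_one_sq]
  have h2 : Monoid.exponent Fˣ ∣ 4 := Monoid.exponent_dvd_of_forall_pow_eq_one h1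
  rw [IsCyclic.exponent_eq_card, Nat.card_units] at h2
  have h3 := Nat.le_of_dvd (by norm_num) h2
  omega

theorem exists_i (h4 : Nat.card F % 4 = 1) : ∃ i : F, i ^ 2 = -1 := by
  have := Fintype.ofFinite F
  rw [Nat.card_eq_fintype_card] at h4
  have h1 : IsSquare (-1 : F) := FiniteField.isSquare_neg_one_iff.2 (by omega)
  obtain ⟨i, hi⟩ := h1
  exact ⟨i, by rw [sq, ← hi]⟩

/-- (B1) for the diagonal involution -/
theorem se_dg (h9 : 9 ≤ Nat.card F) {i : F} (hi : i ^ 2 = -1) (hi0 : i ≠ 0) {K : Subgroup L}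
    (hK : Cl K (R.π (dg i hi0))) : K = ⊤ := by
  have hii : i⁻¹ = -i := inv_eq_of_mul_eq_one_left (by linear_combination -hi)
  have h2 := R.two
  obtain ⟨w, hw0, hw1, hw2⟩ := exists_w h9
  -- the key
  have key : ∀ u : F, ∀ hu : u ≠ 0, R.π (wm (i * (u * w)) (mul_ne_zero hi0 (mul_ne_zero hu hw0))) ∈ K ∧
      R.π (up (-(u * (1 + w ^ 2)))) ∈ K := by
    intro u hu
    obtain ⟨γ, hγ⟩ : ∃ γ, γ = i * (u * w) := ⟨_, rfl⟩
    obtain ⟨D, hD⟩ : ∃ D, D = u * (1 - w ^ 2) := ⟨_, rfl⟩
    have hD0 : D ≠ 0 := by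
      rw [hD]
      exact mul_ne_zero hu (sub_ne_zero.2 (Ne.symm hw1))
    have hγ0 : γ ≠ 0 := by rw [hγ]; exact mul_ne_zero hi0 (mul_ne_zero hu hw0)
    have hγ2 : γ ^ 2 = -(u ^ 2 * w ^ 2) := by
      rw [hγ]
      linear_combination u ^ 2 * w ^ 2 * hi
    obtain ⟨b, hb⟩ : ∃ b, b = u * (1 + w ^ 2) := ⟨_, rfl⟩
    have hbD : b ^ 2 - 4 * (u ^ 2 * w ^ 2) = D ^ 2 := by rw [hb, hD]; ring
    -- the four elements
    let A : SL2 := dg i hi0
    let B1 : SL2 := wm γ hγ0
    have hdet : (i * b / D) * (-(i * b / D)) - (-(2 * i * u ^ 2 * w ^ 2 / D)) * (2 * i / D) = 1 := by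
      field_simp
      linear_combination (-(b ^ 2) + 4 * u ^ 2 * w ^ 2) * hi + hbD
    let B2 : SL2 := mk (i * b / D) (-(2 * i * u ^ 2 * w ^ 2 / D)) (2 * i / D) (-(i * b / D)) hdet
    let B3 : SL2 := mk (-i) (i * b) 0 i (by linear_combination -hi)
    have hA : A * A = -1 := by
      refine ext_ent ?_ ?_ ?_ ?_ <;> simp [A, ent_mul, neg_ent, hii]
      · linear_combination hi
      · linear_combination hi
    have hB1 : B1 * B1 = -1 := by
      refine ext_ent ?_ ?_ ?_ ?_ <;> simp [B1, ent_mul, neg_ent, hγ0]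
    have hB2 : B2 * B2 = -1 := by
      refine ext_ent ?_ ?_ ?_ ?_ <;> simp only [B2, ent_mul, neg_ent, mk_00, mk_01, mk_10, mk_11, ent_one_00,
        ent_one_01, ent_one_10, ent_one_11]
      · linear_combination -hdet
      · ring
      · ring
      · linear_combination -hdet
    have hB3 : B3 * B3 = -1 := by
      refine ext_ent ?_ ?_ ?_ ?_ <;> simp only [B3, ent_mul, neg_ent, mk_00, mk_01, mk_10, mk_11, ent_one_00,
        ent_one_01, ent_one_10, ent_one_11]
      · linear_combination hi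
      · ring
      · ring
      · linear_combination hi
    have h01 : A * B1 = -(B1 * A) := by
      refine ext_ent ?_ ?_ ?_ ?_ <;> simp [A, B1, ent_mul, neg_ent, hii]
      · ring
      · ring
    have h12 : B1 * B2 = -(B2 * B1) := by
      refine ext_ent ?_ ?_ ?_ ?_ <;> simp only [B1, B2, ent_mul, neg_ent, mk_00, mk_01, mk_10, mk_11, wm_00,
        wm_01, wm_10, wm_11]
      · field_simp
        linear_combination 2 * hγ2
      · ring
      · ring
      · field_simp
        linear_combination 2 * hγ2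
    have h23 : B2 * B3 = -(B3 * B2) := by
      refine ext_ent ?_ ?_ ?_ ?_ <;> simp only [B2, B3, ent_mul, neg_ent, mk_00, mk_01, mk_10, mk_11]
      · field_simp
        ring
      · ring
      · ring
      · field_simp
        ring
    have hC1 : Cl K (R.π B1) := hK.step R (inv_of_sq_neg R hB1).1 (inv_of_sq_neg R hB1).2 (comm_of_anti R h01)
    have hC2 : Cl K (R.π B2) := hC1.step R (inv_of_sq_neg R hB2).1 (inv_of_sq_neg R hB2).2 (comm_of_anti R h12)
    have hC3 : Cl K (R.π B3) := hC2.step R (inv_of_sq_neg R hB3).1 (inv_of_sq_neg R hB3).2 (comm_of_anti R h23)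
    constructor
    · have h5 : wm (i * (u * w)) (mul_ne_zero hi0 (mul_ne_zero hu hw0)) = B1 := by
        refine ext_ent ?_ ?_ ?_ ?_ <;> simp [B1, hγ]
      rw [h5]
      exact hC1.mem
    · have h5 : up (-(u * (1 + w ^ 2))) = A * B3 := by
        refine ext_ent ?_ ?_ ?_ ?_ <;> simp [A, B3, ent_mul, hii, ← hb]
        · linear_combination hi
        · linear_combination -b * hi
        · linear_combination hi
      rw [h5, map_mul]
      exact mul_mem hK.mem hC3.mem
  have hs : (1 : F) + w ^ 2 ≠ 0 := fun h => hw2 (by linear_combination h)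
  have hup : ∀ c : F, R.π (up c) ∈ K := by
    intro c
    by_cases hc : c = 0
    · rw [hc, up_zero, map_one]
      exact one_mem _
    · have h5 := (key (-c / (1 + w ^ 2)) (div_ne_zero (neg_ne_zero.2 hc) hs)).2
      have h6 : -(-c / (1 + w ^ 2) * (1 + w ^ 2)) = c := by field_simp
      rwa [h6] at h5
  obtain ⟨h7, -⟩ := key 1 one_ne_zero
  obtain ⟨γ, hγ⟩ : ∃ γ, γ = i * (1 * w) := ⟨_, rfl⟩
  have hγ0 : γ ≠ 0 := by rw [hγ]; exact mul_ne_zero hi0 (mul_ne_zero one_ne_zero hw0)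
  have h8 : R.π (wm γ hγ0) ∈ K := by
    have h5 : wm (i * (1 * w)) (mul_ne_zero hi0 (mul_ne_zero one_ne_zero hw0)) = wm γ hγ0 := by
      refine ext_ent ?_ ?_ ?_ ?_ <;> simp [hγ]
    rwa [h5] at h7
  have hlo : ∀ c : F, R.π (lo c) ∈ K := by
    intro c
    have h5 := wm_up γ (-(c * γ ^ 2)) hγ0
    have h6 : -(-(c * γ ^ 2) / γ ^ 2) = c := by field_simp
    rw [h6] at h5
    have h9 : lo c = wm γ hγ0 * up (-(c * γ ^ 2)) * (wm γ hγ0)⁻¹ := by rw [h5]; group
    rw [h9, map_mul, map_mul, map_inv]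
    exact mul_mem (mul_mem h8 (hup _)) (inv_mem h8)
  rw [eq_top_iff]
  intro y _
  obtain ⟨x, rfl⟩ := R.surj y
  obtain ⟨a, b, c, d, rfl⟩ := exists_up_lo x
  rw [map_mul, map_mul, map_mul]
  exact mul_mem (mul_mem (mul_mem (hup _) (hlo _)) (hup _)) (hlo _)

include R in
/-- **(B1) SE-LEMMA**: `q ≡ 1 (4)`, `q ≥ 9`; `K` contains every `j` for which `a` and `a^j` commute. -/
theorem se (h4 : Nat.card F % 4 = 1) (h9 : 9 ≤ Nat.card F) {a : L} (haa : a * a = 1) (ha1 : a ≠ 1)
    {K : Subgroup L} (hK : ∀ j : L, a * (j * a * j⁻¹) = j * a * j⁻¹ * a → j ∈ K) : K = ⊤ := by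
  obtain ⟨i, hi⟩ := exists_i h4
  have hi0 : i ≠ 0 := by
    rintro rfl
    rw [zero_pow two_ne_zero, eq_comm, neg_eq_zero] at hi
    exact one_ne_zero hi
  have hii : i⁻¹ = -i := inv_eq_of_mul_eq_one_left (by linear_combination -hi)
  have hA : dg i hi0 * dg i hi0 = -1 := by
    refine ext_ent ?_ ?_ ?_ ?_ <;> simp [ent_mul, neg_ent, hii]
    · linear_combination hi
    · linear_combination hi
  obtain ⟨h1, h2⟩ := inv_of_sq_neg R hA
  obtain ⟨g, hg⟩ := R.inv_conj h1 h2 haa ha1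
  have h3 : K.comap (MulAut.conj g).toMonoidHom = ⊤ := by
    apply se_dg R h9 hi hi0
    refine ⟨h1, h2, fun j hj => ?_⟩
    change g * j * g⁻¹ ∈ K
    apply hK
    rw [← hg]
    calc g * R.π (dg i hi0) * g⁻¹ * (g * j * g⁻¹ * (g * R.π (dg i hi0) * g⁻¹) * (g * j * g⁻¹)⁻¹)
        = g * (R.π (dg i hi0) * (j * R.π (dg i hi0) * j⁻¹)) * g⁻¹ := by group
      _ = g * (j * R.π (dg i hi0) * j⁻¹ * R.π (dg i hi0)) * g⁻¹ := by rw [hj]
      _ = _ := by group
  rw [eq_top_iff]
  intro y _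
  have h4 : g⁻¹ * y * g ∈ K.comap (MulAut.conj g).toMonoidHom := by rw [h3]; trivial
  have h5 : g * (g⁻¹ * y * g) * g⁻¹ ∈ K := h4
  have h6 : g * (g⁻¹ * y * g) * g⁻¹ = y := by group
  rwa [h6] at h5

/-! ### (B2) -/

/-- **(B2)** `α² = 1`, `α = 1` or `α` of field type: `α` fixes the elements of an `A₄ ≤ L`. -/
theorem exists_a4 {α : MulAut L} (h : α * α = 1) (hf : α = 1 ∨ R.fld α ≠ 1) :
    ∃ e f y : L, Four e f ∧ y * y * y = 1 ∧ y ≠ 1 ∧ y * e * y⁻¹ = f ∧ y * f * y⁻¹ = e * f ∧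
      α e = e ∧ α f = f ∧ α y = y := by
  obtain ⟨a, b, hab⟩ := R.exists_four
  obtain ⟨Φ, y, δ, hfld, hΦa, hΦb, hΦy, hy3, hy1, hya, hyb, -⟩ := R.exists_frame hab
  rcases hf with rfl | hf
  · exact ⟨a, b, y, hab, hy3, hy1, hya, hyb, rfl, rfl, rfl⟩
  · obtain ⟨σ, hσ⟩ : ∃ σ, σ = R.fld α := ⟨_, rfl⟩
    have hσσ : σ * σ = 1 := by rw [hσ, ← map_mul, h, map_one]
    have hΦΦ : Φ σ * Φ σ = 1 := by rw [← map_mul, hσσ, map_one]
    have hf' : R.fld (Φ σ) ≠ 1 := by rw [hfld, hσ]; exact hf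
    obtain ⟨g, K, -, h1⟩ := Cfsg.Agent.GH.L2AutField.exists_fInv R h hf
    obtain ⟨g', K', -, h1'⟩ := Cfsg.Agent.GH.L2AutField.exists_fInv R hΦΦ hf'
    rw [hfld] at h1'
    rw [← hσ] at h1
    obtain ⟨θ, hθ⟩ : ∃ θ, θ = R.gl g * (R.gl g')⁻¹ := ⟨_, rfl⟩
    have h2 : α * θ = θ * Φ σ := by rw [h1, h1', hθ]; group
    have h3 : ∀ x : L, Φ σ x = x → α (θ x) = θ x := by
      intro x hx
      have h4 := DFunLike.congr_fun h2 x
      rw [MulAut.mul_apply, MulAut.mul_apply, hx] at h4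
      exact h4
    refine ⟨θ a, θ b, θ y, hab.map θ, ?_, ?_, ?_, ?_, h3 a (hΦa σ), h3 b (hΦb σ), h3 y (hΦy σ)⟩
    · rw [← map_mul, ← map_mul, hy3, map_one]
    · intro h4
      exact hy1 (θ.injective (by rw [h4, map_one]))
    · rw [← map_inv, ← map_mul, ← map_mul, hya]
    · rw [← map_inv, ← map_mul, ← map_mul, hyb, map_mul]

include R in
/-- nothing centralises this `A₄` -/
theorem eq_one_of_a4 {e f y : L} (h : Four e f) (he : y * e * y⁻¹ = f) (hf : y * f * y⁻¹ = e * f) {s : L}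
    (hse : s * e = e * s) (hsf : s * f = f * s) (hsy : s * y = y * s) : s = 1 := by
  have h1 : y * s * y⁻¹ = s := by rw [← hsy, mul_inv_cancel_right]
  have h2 := R.fix_four h (R.conj_mem_PGL s) (by rw [MulAut.conj_apply, hse, mul_inv_cancel_right])
    (by rw [MulAut.conj_apply, hsf, mul_inv_cancel_right])
  rcases h2 with h2 | h2 | h2 | h2
  · exact R.conj_injective (by rw [h2, map_one])
  · have h3 : s = e := R.conj_injective h2
    rw [h3, he] at h1
    exact absurd h1.symm h.ne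
  · have h3 : s = f := R.conj_injective h2
    rw [h3, hf] at h1
    exact absurd (mul_eq_right.1 h1) h.a1
  · have h3 : s = e * f := R.conj_injective h2
    rw [h3] at h1
    have h4 : y * (e * f) * y⁻¹ = y * e * y⁻¹ * (y * f * y⁻¹) := by group
    rw [h4, he, hf, ← mul_assoc] at h1
    exact absurd (mul_eq_right.1 (mul_right_cancel h1 : f * e = e)) h.b1

/-- a nontrivial element fails to commute with something fixed by `α` (`α = 1` or field type) -/
theorem exists_moved {α : MulAut L} (h : α * α = 1) (hf : α = 1 ∨ R.fld α ≠ 1) {s : L} (hs1 : s ≠ 1) :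
    ∃ y, α y = y ∧ s * y ≠ y * s := by
  obtain ⟨e, f, y, hef, -, -, he, hf', h1, h2, h3⟩ := exists_a4 R h hf
  by_contra hcon
  push Not at hcon
  exact hs1 (eq_one_of_a4 R hef he hf' (hcon e h1) (hcon f h2) (hcon y h3))

/-! ### (B3) -/

/-- an element of `PGL` centralising a Sylow 2-subgroup `S` of `L` is in `Z(S)` -/
theorem mem_of_pgl (S : Sylow 2 L) {β : MulAut L} (hS : ∀ s ∈ S, β s = s) (hβ : R.fld β = 1) :
    ∃ s ∈ S, s * s = 1 ∧ (∀ t ∈ S, s * t = t * s) ∧ β = MulAut.conj s := by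
  obtain ⟨a, b, ha, hb, hab⟩ := R.exists_four_mem S
  obtain ⟨s, hs, hss, hβs⟩ : ∃ s ∈ S, s * s = 1 ∧ β = MulAut.conj s := by
    rcases R.fix_four hab (R.mem_PGL_iff_fld.2 hβ) (hS a ha) (hS b hb) with h | h | h | h
    · exact ⟨1, one_mem _, one_mul _, by rw [h, map_one]⟩
    · exact ⟨a, ha, hab.aa, h⟩
    · exact ⟨b, hb, hab.bb, h⟩
    · exact ⟨a * b, mul_mem ha hb, hab.right.bb, h⟩
  refine ⟨s, hs, hss, fun t ht => ?_, hβs⟩
  have h2 := hS t ht
  rw [hβs, MulAut.conj_apply] at h2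
  exact mul_inv_eq_iff_eq_mul.1 h2

/-- **(B3)** a 2-element of `Aut L` centralising a Sylow 2-subgroup `S` of `L` and an element with `o1 = -1` is in
`Z(S)`. -/
theorem cen_syl (S : Sylow 2 L) {β x : MulAut L} (hβ : ∃ n, β ^ 2 ^ n = 1) (hS : ∀ s ∈ S, β s = s)
    (ho : R.o1 x = -1) (hx : x * β = β * x) :
    ∃ s ∈ S, s * s = 1 ∧ (∀ t ∈ S, s * t = t * s) ∧ β = MulAut.conj s := by
  apply mem_of_pgl R S hS
  by_contra hf
  have h1 := Cfsg.Agent.GH.L2AutField.sq_eq_one R hβ S hS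
  have h2 := R.o1_of_comm h1 hf hx
  rw [ho] at h2
  exact absurd h2 (by decide)

include R in
/-- a nonabelian Sylow 2-subgroup has only one central involution -/
theorem central_unique (S : Sylow 2 L) (hna : ∃ u ∈ S, ∃ v ∈ S, u * v ≠ v * u) {s t : L} (hss : s * s = 1) (hs1 : s ≠ 1)
    (htt : t * t = 1) (ht1 : t ≠ 1) (ht : t ∈ S) (hsc : ∀ u ∈ S, s * u = u * s)
    (htc : ∀ u ∈ S, t * u = u * t) : s = t := by
  by_contra hne
  have h : Four s t := ⟨hss, htt, hs1, ht1, hne, hsc t ht⟩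
  have key : ∀ u ∈ S, u = 1 ∨ u = s ∨ u = t ∨ u = s * t := by
    intro u hu
    have h2 := R.fix_four h (R.conj_mem_PGL u) (by rw [MulAut.conj_apply, ← hsc u hu, mul_inv_cancel_right])
      (by rw [MulAut.conj_apply, ← htc u hu, mul_inv_cancel_right])
    rcases h2 with h2 | h2 | h2 | h2
    · exact Or.inl (R.conj_injective (by rw [h2, map_one]))
    · exact Or.inr (Or.inl (R.conj_injective h2))
    · exact Or.inr (Or.inr (Or.inl (R.conj_injective h2)))
    · exact Or.inr (Or.inr (Or.inr (R.conj_injective h2)))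
  obtain ⟨u, hu, v, hv, huv⟩ := hna
  apply huv
  rcases key u hu with rfl | rfl | rfl | rfl
  · rw [one_mul, mul_one]
  · exact hsc v hv
  · exact htc v hv
  · rw [mul_assoc, htc v hv, ← mul_assoc, hsc v hv, mul_assoc]

/-- **(B3)** as in the text: `s` the central involution of the nonabelian `S` -/
theorem cen_syl' (S : Sylow 2 L) (hna : ∃ u ∈ S, ∃ v ∈ S, u * v ≠ v * u) {s : L} (hs : s ∈ S) (hss : s * s = 1)
    (hs1 : s ≠ 1) (hsc : ∀ u ∈ S, s * u = u * s) {β x : MulAut L} (hβ : ∃ n, β ^ 2 ^ n = 1)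
    (hS : ∀ s ∈ S, β s = s) (ho : R.o1 x = -1) (hx : x * β = β * x) : β = 1 ∨ β = MulAut.conj s := by
  obtain ⟨t, ht, htt, htc, rfl⟩ := cen_syl R S hβ hS ho hx
  by_cases ht1 : t = 1
  · exact Or.inl (by rw [ht1, map_one])
  · right
    rw [central_unique R S hna htt ht1 hss hs1 hs htc hsc]

include R in
/-- **(B3)** the 2-elements of a 2-group centralising `S` commute: they have square one -/
theorem cen_comm (S : Sylow 2 L) {β γ : MulAut L} (hβ : ∃ n, β ^ 2 ^ n = 1) (hγ : ∃ n, γ ^ 2 ^ n = 1)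
    (hβγ : ∃ n, (β * γ) ^ 2 ^ n = 1) (hS : ∀ s ∈ S, β s = s) (hS' : ∀ s ∈ S, γ s = s) : β * γ = γ * β := by
  have h1 := Cfsg.Agent.GH.L2AutField.sq_eq_one R hβ S hS
  have h2 := Cfsg.Agent.GH.L2AutField.sq_eq_one R hγ S hS'
  have h3 := Cfsg.Agent.GH.L2AutField.sq_eq_one R hβγ S fun s hs => by rw [MulAut.mul_apply, hS' s hs, hS s hs]
  have h4 : β⁻¹ = β := inv_eq_of_mul_eq_one_left h1
  have h5 : γ⁻¹ = γ := inv_eq_of_mul_eq_one_left h2
  have h6 : (β * γ)⁻¹ = β * γ := inv_eq_of_mul_eq_one_left h3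
  rw [← h6, _root_.mul_inv_rev, h4, h5]

/-! ### (B4) -/

/-- **(B4)** commuting elements of `L`, one (with square `≠ 1`) fixed by an involution of PGL type: so is the other. -/
theorem comm_fix {α : MulAut L} (h : α * α = 1) (ho : R.o1 α = -1) {y z : L} (hy : α y = y) (hyy : y * y ≠ 1)
    (hc : y * z = z * y) : α z = z := by
  obtain ⟨hα, -⟩ := PglType.pgl_of R h ho
  have h1 := Cfsg.Agent.UGT.Res.PGLFacts.comm_pgl R (R.conj_mem_PGL z) hα hyy
    (by rw [MulAut.conj_apply, ← hc, mul_inv_cancel_right]) hy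
  exact R.conj_injective (Cfsg.Agent.GH.L2Aut.Rep.conj_comm_iff.mp h1)

/-- (B4) the fixed points of an involution of PGL type: a cyclic group of odd order extended by involutions inverting
it -/
theorem exists_cyclic {α : MulAut L} (h : α * α = 1) (ho : R.o1 α = -1) :
    ∃ B : Subgroup L, IsCyclic B ∧ Odd (Nat.card B) ∧ (∀ y ∈ B, α y = y) ∧
      ∀ y, α y = y → y ∈ B ∨ (y * y = 1 ∧ ∀ z ∈ B, y * z * y⁻¹ = z⁻¹) := by
  obtain ⟨hα, hαI⟩ := PglType.pgl_of R h ho
  obtain ⟨B, hB1, -, hB2, hB3⟩ := R.dtype_cent hα hαI h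
  refine ⟨B, ?_, hB2, hB1, hB3⟩
  obtain ⟨g, rfl⟩ := R.mem_PGL.1 hα
  have hne : R.gl g ≠ 1 := PglType.ne_one R ho
  have htr := R.tr_of_inv hne h
  have hcyc := PGLTorus.isCyclic_Cp R htr
  have hle : B ≤ PGLTorus.Cp R g := by
    intro y hy
    rw [PGLTorus.mem_Cp, PGLTorus.mem_Tor]
    obtain ⟨s, rfl⟩ := R.surj y
    refine ⟨Matrix.SpecialLinearGroup.toGL s, ?_, (R.conj_π s).symm⟩
    have h4 : R.gl (Matrix.SpecialLinearGroup.toGL s) * R.gl g =
        R.gl g * R.gl (Matrix.SpecialLinearGroup.toGL s) := by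
      rw [← R.conj_π, Cfsg.Agent.GH.L2Aut.Rep.conj_comm_iff, hB1 _ hy]
    rcases R.comm_cases h4 with h5 | h5
    · exact h5
    · have h6 := R.anticomm_inv h5
      rw [← R.conj_π, ← map_mul] at h6
      have h7 : R.π s * R.π s = 1 := R.conj_injective (by rw [h6, map_one])
      have h8 : Odd (orderOf (R.π s)) := Odd.of_dvd_nat hB2 (Subgroup.orderOf_dvd_natCard B hy)
      have h9 := PglType.eq_one_of_odd_sq h7 h8
      rcases (R.ker s).1 h9 with rfl | rfl
      · rw [map_one, Units.val_one, Matrix.one_mul, Matrix.mul_one]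
      · change (-1 : M2) * g.1 = g.1 * (-1 : M2)
        rw [neg_mul, mul_neg, Matrix.one_mul, Matrix.mul_one]
  exact isCyclic_of_injective (Subgroup.inclusion hle) (Subgroup.inclusion_injective hle)

/-! ### (B5) -/

omit [Finite F] in
theorem no_comm (h2 : (2 : F) ≠ 0) {i j : M2} (hij : i * j = -(j * i)) (hj : j * j = -1) {a c : F} (ha : a ≠ 0)
    (hc : c ≠ 0) (hi : i ≠ 0)
    (h : j * (c • (a • (1 : M2) + i)) = c • (a • (1 : M2) + i) * j ∨
      j * (c • (a • (1 : M2) + i)) = -(c • (a • (1 : M2) + i) * j)) : False := by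
  rw [Matrix.mul_smul, Matrix.smul_mul, Matrix.mul_add, Matrix.add_mul, Matrix.mul_smul, Matrix.smul_mul,
    Matrix.mul_one, Matrix.one_mul, hij] at h
  rcases h with h | h
  · have h3 := smul_right_injective _ hc h
    have h4 : j * i = -(j * i) := add_left_cancel h3
    have h5 : (2 : F) • (j * i) = 0 := by
      rw [two_smul]
      nth_rw 1 [h4]
      exact neg_add_cancel _
    have h6 : j * i = 0 := (smul_eq_zero.1 h5).resolve_left h2
    have h7 : j * j * i = 0 := by rw [Matrix.mul_assoc, h6, Matrix.mul_zero]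
    rw [hj, neg_mul, Matrix.one_mul, neg_eq_zero] at h7
    exact hi h7
  · rw [← smul_neg] at h
    have h3 := smul_right_injective _ hc h
    have h4 : (2 * a) • j = 0 := by
      have h5 : a • j + j * i = -(a • j) + j * i := by
        change a • j + j * i = -(a • j + -(j * i)) at h3
        rw [h3]
        abel
      have h6 := add_right_cancel h5
      rw [mul_smul, two_smul]
      nth_rw 1 [h6]
      exact neg_add_cancel _
    have h5 : j = 0 := (smul_eq_zero.1 h4).resolve_left (mul_ne_zero h2 ha)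
    rw [h5, Matrix.mul_zero] at hj
    have h6 := congrFun (congrFun hj 0) 0
    simp at h6

omit [Finite F] in
theorem det_lin (M : M2) (a c : F) : (c • (a • (1 : M2) + M)).det = c ^ 2 * (a ^ 2 + a * M.trace + M.det) := by
  rw [Matrix.det_fin_two, Matrix.trace_fin_two, Matrix.det_fin_two]
  simp
  ring

omit [Finite F] in
/-- `π(c(a + i))` commutes with `i`, not with `π j` -/
theorem exists_lin {i : M2} {a c : F} (hd : c ^ 2 * (a ^ 2 + a * i.trace + i.det) = 1) (ha : a ≠ 0) (hc : c ≠ 0)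
    (hi : i ≠ 0) {j : SL2} (hij : i * j.1 = -(j.1 * i)) (hj : j.1 * j.1 = -1) :
    ∃ y : SL2, i * y.1 = y.1 * i ∧ R.π j * R.π y ≠ R.π y * R.π j := by
  obtain ⟨y, hy⟩ : ∃ y : SL2, y.1 = c • (a • (1 : M2) + i) :=
    ⟨(⟨c • (a • (1 : M2) + i), by rw [det_lin]; exact hd⟩ : SL2), rfl⟩
  refine ⟨y, ?_, ?_⟩
  · rw [hy]
    rw [Matrix.mul_smul, Matrix.smul_mul, Matrix.mul_add, Matrix.add_mul, Matrix.mul_smul, Matrix.smul_mul,
      Matrix.mul_one, Matrix.one_mul]
  · intro h
    rw [← map_mul, ← map_mul, R.π_eq_iff] at h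
    apply no_comm R.two hij hj ha hc hi
    rw [← hy]
    rcases h with h | h
    · exact Or.inl (congrArg Subtype.val h)
    · exact Or.inr (congrArg Subtype.val h)

include R in
/-- **(B5)** `σ = conj s` inner involution, `α² = 1`, `[α, σ] = 1`: `σ` does not centralise both `C_L(α)` and
`C_L(ασ)`. -/
theorem no_five (h8 : Nat.card F % 8 = 1) {α : MulAut L} (hα : α * α = 1) {s : L} (hss : s * s = 1) (hs1 : s ≠ 1)
    (hαs : α s = s) (h1 : ∀ y, α y = y → s * y = y * s) (h2 : ∀ y, α (s * y * s⁻¹) = y → s * y = y * s) :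
    False := by
  have htwo := R.two
  by_cases hf : R.fld α = 1
  · by_cases hI : α ∈ Inn L
    · obtain ⟨t, htt, rfl⟩ := R.inn_inv hI hα
      by_cases ht1 : t = 1
      · obtain ⟨y, -, hy⟩ := exists_moved R (one_mul (1 : MulAut L)) (Or.inl rfl) hs1
        exact hy (h1 y (by rw [ht1, map_one]; rfl))
      by_cases hts : t = s
      · obtain ⟨y, -, hy⟩ := exists_moved R (one_mul (1 : MulAut L)) (Or.inl rfl) hs1
        refine hy (h2 y ?_)
        have h3 : s⁻¹ = s := inv_eq_of_mul_eq_one_left hss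
        rw [hts, MulAut.conj_apply, h3]
        calc s * (s * y * s) * s = s * s * y * (s * s) := by simp only [mul_assoc]
          _ = y := by rw [hss, one_mul, mul_one]
      · have hc : t * s = s * t := by
          rw [MulAut.conj_apply] at hαs
          exact mul_inv_eq_iff_eq_mul.1 hαs
        obtain ⟨i, j, rfl, rfl, hii, hjj, hij⟩ := R.exists_pair_lift (⟨htt, hss, ht1, hs1, hts, hc⟩ : Four t s)
        obtain ⟨r, hr⟩ : IsSquare (2 : F) := by
          have := Fintype.ofFinite F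
          rw [Nat.card_eq_fintype_card] at h8
          exact FiniteField.isSquare_two_iff.2 ⟨by omega, by omega⟩
        have hr0 : r ≠ 0 := by
          rintro rfl
          rw [mul_zero] at hr
          exact htwo hr
        have hi0 : i.1 ≠ 0 := by
          intro h
          rw [h, Matrix.mul_zero] at hii
          have h6 := congrFun (congrFun hii 0) 0
          simp at h6
        obtain ⟨y, hy1, hy2⟩ := exists_lin R (i := i.1) (a := 1) (c := r⁻¹)
          (by
            rw [tr_zero_of_sq hii, i.2]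
            field_simp
            linear_combination hr) one_ne_zero (inv_ne_zero hr0) hi0 hij hjj
        apply hy2
        apply h1
        have h3 : i * y = y * i := Subtype.ext hy1
        rw [MulAut.conj_apply, ← map_mul, h3, map_mul, mul_inv_cancel_right]
    · -- PGL type
      have hP : α ∈ R.PGL := R.mem_PGL_iff_fld.2 hf
      obtain ⟨g, rfl⟩ := R.mem_PGL.1 hP
      have hns : ¬ IsSquare g.1.det := fun h => hI (R.gl_mem_inn.2 h)
      have hne : R.gl g ≠ 1 := fun h => hI (by rw [h]; exact one_mem _)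
      have htr := R.tr_of_inv hne hα
      obtain ⟨j, rfl, hjj⟩ := R.exists_inv_lift hss hs1
      rw [R.gl_apply, R.π_eq_iff] at hαs
      have hjs : ∀ c : F, j.1 ≠ c • (1 : M2) := by
        intro c hc
        apply hs1
        rw [R.ker]
        apply (mem_center_iff R.two j).1
        rw [Subgroup.mem_center_iff]
        intro y
        apply Subtype.ext
        change y.1 * j.1 = j.1 * y.1
        rw [hc, Matrix.mul_smul, Matrix.smul_mul, Matrix.mul_one, Matrix.one_mul]
      rcases hαs with h3 | h3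
      · -- commuting: `det g` would be a square
        obtain ⟨a, b, hab⟩ := exists_ab hjs (of_conjGL_eq h3).symm
        have h4 : g.1.trace = 2 * a := by
          rw [hab, Matrix.trace_add, Matrix.trace_smul, Matrix.trace_smul, tr_zero_of_sq hjj, Matrix.trace_one]
          simp
          ring
        rw [htr] at h4
        have ha : a = 0 := (mul_eq_zero.1 h4.symm).resolve_left htwo
        apply hns
        rw [hab, ha, zero_smul, zero_add, Matrix.det_smul, j.2, Fintype.card_fin, mul_one]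
        exact ⟨b, sq b⟩
      · have h4 : g.1 * j.1 = -(j.1 * g.1) := by
          have h5 := of_conjGL_eq h3
          rw [h5]
          change -j.1 * g.1 = -(j.1 * g.1)
          rw [neg_mul]
        obtain ⟨ν, hν⟩ : ∃ ν, ν = -g.1.det := ⟨_, rfl⟩
        have hν1 : (1 : F) + ν ≠ 0 := by
          intro h
          apply hns
          have h5 : g.1.det = 1 := by linear_combination hν - h
          rw [h5]
          exact ⟨1, (one_mul 1).symm⟩
        have hν2 : (1 : F) - ν ≠ 0 := by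
          intro h
          apply hns
          have h5 : g.1.det = -1 := by linear_combination hν + h
          rw [h5]
          have := Fintype.ofFinite F
          rw [Nat.card_eq_fintype_card] at h8
          exact FiniteField.isSquare_neg_one_iff.2 (by omega)
        have hg0 : g.1 ≠ 0 := by
          intro h
          apply hns
          rw [h, Matrix.det_zero]
          exact ⟨0, (mul_zero 0).symm⟩
        obtain ⟨y, hy1, hy2⟩ := exists_lin R (i := g.1) (a := (1 + ν) / 2) (c := 2 / (1 - ν))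
          (by
            rw [htr]
            have h5 : g.1.det = -ν := by linear_combination hν
            rw [h5]
            field_simp
            ring) (div_ne_zero hν1 htwo) (div_ne_zero htwo hν2) hg0 h4 hjj
        apply hy2
        apply h1
        rw [R.gl_apply, conjGL_eq_of hy1]
  · obtain ⟨y, hy, hy'⟩ := exists_moved R hα (Or.inr hf) hs1
    exact hy' (h1 y hy)

end Cfsg.Agent.UGT.FourB.KB
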