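import Cfsg.Agent.UGT.Res.TorFacts
import Cfsg.Agent.Intrinsic.Lifting
import Cfsg.Agent.McLLyComp.Act
import Cfsg.Agent.Lib.SolvableMinNormal
import Cfsg.Agent.UGT.Iface

/-!
# K-facts for UGT, leaf (L0), `T < S`

`R : Rep F A`, `A ≅ PSL(2,F)`, `α` of PGL type, `s ∈ C_A(α)` an involution.

* `conj_fix` (torus): `1 ≠ y`, `y ^ c` of odd order, fixed by `α` ==> `c` is fixed by `α`;
* `odd_fix` (k1): `H ≤ A` of odd order, invariant under `α` and `s`, `H ∩ C(α) ≠ 1` ==> `H ≤ C(α)`;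
* `eq_or` (k7): `C_A(α, s) = {1, s}`; `exists_move` (k6).

`KX R x s`: the same in `L ≤ G` with `Bar L = L/O(L) ≅ PSL(2,F)`: `KX.{k0, k1, k6, k7}`.
-/

set_option autoImplicit false

open Cfsg Subgroup
open Cfsg.Agent.GH.L2Aut Cfsg.Agent.OddHalf.D6

namespace Cfsg.Agent.UGT.FourB.KG

section aut

variable {F : Type*} [Field F] [Finite F] {A : Type*} [Group A] (R : Cfsg.Agent.GH.L2Aut.Rep F A)

theorem sq_ne {y : A} (h1 : y ≠ 1) (ho : Odd (orderOf y)) : y * y ≠ 1 :=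
  fun h => h1 (PglType.eq_one_of_odd_sq h ho)

/-- `1 ≠ y` of odd order, `y` and `c y c⁻¹` fixed by `α` of PGL type -/
theorem conj_fix {α : MulAut A} (h : α * α = 1) (ho : R.o1 α = -1) {y c : A} (hy1 : y ≠ 1)
    (hyo : Odd (orderOf y)) (hy : α y = y) (hc : α (c * y * c⁻¹) = c * y * c⁻¹) : α c = c := by
  obtain ⟨β, hβ⟩ : ∃ β, β = (MulAut.conj c)⁻¹ * α * MulAut.conj c := ⟨_, rfl⟩
  have h1 : β * β = 1 := by
    rw [hβ]
    calc _ = (MulAut.conj c)⁻¹ * (α * α) * MulAut.conj c := by group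
      _ = 1 := by rw [h]; group
  have h2 : β y = y := by
    rw [hβ, MulAut.mul_apply, MulAut.mul_apply, MulAut.conj_apply, hc, ← MulAut.conj_apply,
      MulAut.inv_apply_self]
  rcases Res.PGLFacts.two_unique R h ho (sq_ne hy1 hyo) hy (β := β) ⟨1, by rw [pow_one, pow_two, h1]⟩ h2
    with h3 | h3
  · exfalso
    apply PglType.ne_one R ho
    calc α = MulAut.conj c * β * (MulAut.conj c)⁻¹ := by rw [hβ]; group
      _ = 1 := by rw [h3]; group
  · apply R.conj_injective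
    apply GH.L2Aut.Rep.conj_comm_iff.mp
    rw [hβ] at h3
    calc MulAut.conj c * α = MulAut.conj c * ((MulAut.conj c)⁻¹ * α * MulAut.conj c) := by rw [h3]
      _ = α * MulAut.conj c := by group

include R in
/-- `1 ≠ y` of odd order, `y` and `c y c⁻¹` commute with the involution `s` -/
theorem conj_comm {s : A} (hss : s * s = 1) (hs1 : s ≠ 1) {y c : A} (hy1 : y ≠ 1)
    (hyo : Odd (orderOf y)) (hy : s * y = y * s) (hc : s * (c * y * c⁻¹) = c * y * c⁻¹ * s) :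
    s * c = c * s := by
  have hconj : ∀ {u v : A}, u * v = v * u → MulAut.conj u v = v := by
    intro u v h
    rw [MulAut.conj_apply, h, mul_inv_cancel_right]
  obtain ⟨s', hs'⟩ : ∃ s', s' = c⁻¹ * s * c := ⟨_, rfl⟩
  have hs's' : s' * s' = 1 := by
    rw [hs']
    calc c⁻¹ * s * c * (c⁻¹ * s * c) = c⁻¹ * (s * s) * c := by group
      _ = 1 := by rw [hss]; group
  have hs'1 : s' ≠ 1 := by
    intro h1
    apply hs1
    calc s = c * (c⁻¹ * s * c) * c⁻¹ := by group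
      _ = 1 := by rw [← hs', h1]; group
  have hs'y : s' * y = y * s' := by
    rw [hs']
    calc c⁻¹ * s * c * y = c⁻¹ * (s * (c * y * c⁻¹)) * c := by group
      _ = c⁻¹ * (c * y * c⁻¹ * s) * c := by rw [hc]
      _ = y * (c⁻¹ * s * c) := by group
  have h1 := Res.PGLFacts.comm_pgl R (R.conj_mem_PGL s) (R.conj_mem_PGL s') (y := y) (sq_ne hy1 hyo)
    (hconj hy) (hconj hs'y)
  rw [← map_mul, ← map_mul] at h1
  have h2 := R.conj_injective h1
  obtain ⟨B, hsB, hBc, hB2, hB3⟩ := R.inner_cent hss hs1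
  have hyB : y ∈ B := by
    rcases hB3 y hy.symm with h3 | ⟨h3, -⟩
    · exact h3
    · exact absurd (PglType.eq_one_of_odd_sq h3 hyo) hy1
  have h4 : s' = s := by
    rcases hB3 s' h2.symm with h3 | ⟨-, h3⟩
    · rcases hB2 _ h3 hs's' with h4 | h4
      · exact absurd h4 hs'1
      · exact h4
    · exfalso
      have h5 := h3 _ hyB
      rw [hs'y, mul_inv_cancel_right] at h5
      exact hy1 (PglType.eq_one_of_eq_inv h5 hyo)
  have h5 : c⁻¹ * s * c = s := hs' ▸ h4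
  calc s * c = c * (c⁻¹ * s * c) := by group
    _ = c * s := by rw [h5]

/-- a solvable subgroup `≠ 1` has an abelian subgroup `≠ 1` invariant under the automorphisms fixing `H` -/
theorem exists_abel {A : Type*} [Group A] {H : Subgroup A} (hS : Group.IsSolvable H) (hH : H ≠ ⊥) :
    ∃ N : Subgroup A, N ≤ H ∧ N ≠ ⊥ ∧ (∀ a ∈ N, ∀ b ∈ N, a * b = b * a) ∧
      ∀ φ : MulAut A, H.map φ.toMonoidHom = H → ∀ n ∈ N, φ n ∈ N := by
  have hn : Nontrivial H := (Subgroup.nontrivial_iff_ne_bot H).mpr hH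
  obtain ⟨N, hN, hNc, hN1⟩ := Lib.SolvableMinNormal.exists_characteristic_abelian (G := H)
  refine ⟨N.map H.subtype, map_subtype_le _, ?_, ?_, ?_⟩
  · rwa [Ne, map_eq_bot_iff_of_injective _ H.subtype_injective]
  · rintro _ ⟨a, ha, rfl⟩ _ ⟨b, hb, rfl⟩
    have h1 := hNc.is_comm.comm (⟨a, ha⟩ : N) ⟨b, hb⟩
    exact congrArg (fun w : N => ((w : H) : A)) h1
  · rintro φ hφ _ ⟨n, hn, rfl⟩
    obtain ⟨ψ, hψ⟩ : ∃ ψ : H ≃* H, ψ = (φ.subgroupMap H).trans (MulEquiv.subgroupCongr hφ) := ⟨_, rfl⟩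
    have h1 := (characteristic_iff_map_eq.mp hN) ψ
    have h2 : ψ n ∈ N := by
      rw [← h1]
      exact ⟨n, hn, rfl⟩
    refine ⟨ψ n, h2, ?_⟩
    rw [hψ]
    rfl

/-- **(k1)** -/
theorem odd_fix {α : MulAut A} (h : α * α = 1) (ho : R.o1 α = -1) {s : A} (hss : s * s = 1) (hs1 : s ≠ 1)
    (hs : α s = s) {H : Subgroup A} (hodd : Odd (Nat.card H)) (hS : Group.IsSolvable H)
    (hα : ∀ y ∈ H, α y ∈ H) (hsH : ∀ y ∈ H, s * y * s⁻¹ ∈ H) {y : A} (hy : y ∈ H) (hy1 : y ≠ 1)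
    (hαy : α y = y) : ∀ w ∈ H, α w = w := by
  have := R.finite
  have hoH : ∀ w ∈ H, Odd (orderOf w) := fun w hw =>
    Odd.of_dvd_nat hodd (Subgroup.orderOf_dvd_natCard H hw)
  have hmap : ∀ φ : MulAut A, (∀ w ∈ H, φ w ∈ H) → H.map φ.toMonoidHom = H := by
    intro φ hφ
    refine Subgroup.eq_of_le_of_card_ge (map_le_iff_le_comap.mpr hφ) ?_
    exact le_of_eq (Nat.card_congr (H.equivMapOfInjective φ.toMonoidHom φ.injective).toEquiv)
  obtain ⟨N, hNH, hN1, hNc, hNφ⟩ := exists_abel hS (by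
    rintro rfl
    exact hy1 (mem_bot.mp hy))
  have hNα := hNφ α (hmap α hα)
  have hNs := hNφ (MulAut.conj s) (hmap _ hsH)
  have hNH' : ∀ w ∈ H, ∀ n ∈ N, w * n * w⁻¹ ∈ N := fun w hw n hn =>
    hNφ (MulAut.conj w) (hmap _ fun v hv => mul_mem (mul_mem hw hv) (inv_mem hw)) n hn
  -- `s` inverts `y`
  have hsy : s * y * s⁻¹ = y⁻¹ := PglType.inverts R h ho hs hss hs1 hαy (hoH y hy)
  have hsy' : s * y * s⁻¹ ≠ y := by
    intro h1
    rw [hsy] at h1
    exact hy1 (PglType.eq_one_of_eq_inv h1.symm (hoH y hy))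
  -- an element `n ≠ 1` of `N` fixed by `β`: all of `H` is fixed by `β`
  have key : ∀ β : MulAut A, β * β = 1 → R.o1 β = -1 → ∀ n ∈ N, n ≠ 1 → β n = n → ∀ w ∈ H, β w = w := by
    intro β hβ hβo n hn hn1 hβn w hw
    refine conj_fix R hβ hβo hn1 (hoH n (hNH hn)) hβn ?_
    refine conj_fix R hβ hβo hn1 (hoH n (hNH hn)) hβn ?_
    have h1 : w * n * w⁻¹ * n * (w * n * w⁻¹)⁻¹ = n := by
      rw [hNc _ (hNH' w hw n hn) n hn, mul_inv_cancel_right]
    rw [h1, hβn]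
  have keys : ∀ n ∈ N, n ≠ 1 → s * n = n * s → ∀ w ∈ H, s * w = w * s := by
    intro n hn hn1 hsn w hw
    refine conj_comm R hss hs1 hn1 (hoH n (hNH hn)) hsn ?_
    refine conj_comm R hss hs1 hn1 (hoH n (hNH hn)) hsn ?_
    have h1 : w * n * w⁻¹ * n * (w * n * w⁻¹)⁻¹ = n := by
      rw [hNc _ (hNH' w hw n hn) n hn, mul_inv_cancel_right]
    rw [h1, hsn]
  obtain ⟨n, hn, hn1⟩ : ∃ n ∈ N, n ≠ 1 := by
    by_contra hcon
    push Not at hcon
    exact hN1 (eq_bot_iff_forall _ |>.mpr hcon)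
  by_cases h1 : ∃ m ∈ N, m ≠ 1 ∧ α m = m
  · obtain ⟨m, hm, hm1, hαm⟩ := h1
    exact key α h ho m hm hm1 hαm
  exfalso
  push Not at h1
  have hnosn : ∀ m ∈ N, s * m = m * s → m = 1 := by
    intro m hm hsm
    by_contra hm1
    apply hsy'
    rw [keys m hm hm1 hsm y hy, mul_inv_cancel_right]
  have h2 : n * α n = 1 := by
    by_contra h2
    refine h1 _ (N.mul_mem hn (hNα n hn)) h2 ?_
    have h3 : α (α n) = n := by
      rw [← MulAut.mul_apply, h, MulAut.one_apply]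
    rw [map_mul, h3, hNc _ (hNα n hn) n hn]
  have h3 : n * (s * n * s⁻¹) = 1 := by
    obtain ⟨m, hm⟩ : ∃ m, m = s * n * s⁻¹ := ⟨_, rfl⟩
    have hmN : m ∈ N := hm ▸ hNs n hn
    have e1 : s * n = m * s := by rw [hm]; group
    have e2 : s * m = n * s := by
      have h4 : s * m * s⁻¹ = n := by
        calc s * m * s⁻¹ = (s * s) * n * (s * s)⁻¹ := by rw [hm]; group
          _ = n := by rw [hss]; group
      calc s * m = s * m * s⁻¹ * s := by group
        _ = n * s := by rw [h4]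
    rw [← hm]
    apply hnosn _ (N.mul_mem hn hmN)
    calc s * (n * m) = (s * n) * m := by group
      _ = m * (s * m) := by rw [e1]; group
      _ = (m * n) * s := by rw [e2]; group
      _ = n * m * s := by rw [hNc _ hmN n hn]
  have hα' : (α * MulAut.conj s) * (α * MulAut.conj s) = 1 := by
    have h4 : MulAut.conj s * α = α * MulAut.conj s := GH.L2Aut.Rep.conj_comm_iff.mpr (by rw [hs])
    calc (α * MulAut.conj s) * (α * MulAut.conj s) = α * (MulAut.conj s * α) * MulAut.conj s := by group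
      _ = (α * α) * MulAut.conj (s * s) := by rw [h4, map_mul]; group
      _ = 1 := by rw [h, hss, map_one, mul_one]
  have ho' : R.o1 (α * MulAut.conj s) = -1 := by rw [map_mul, ho, R.o1_conj, mul_one]
  have h4 : (α * MulAut.conj s) n = n := by
    have h5 : s * n * s⁻¹ = n⁻¹ := (inv_eq_of_mul_eq_one_right h3).symm
    have h6 : α n = n⁻¹ := (inv_eq_of_mul_eq_one_right h2).symm
    rw [MulAut.mul_apply, MulAut.conj_apply, h5, map_inv, h6, inv_inv]
  have h5 := key _ hα' ho' n hn hn1 h4 y hy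
  apply hsy'
  rw [MulAut.mul_apply, MulAut.conj_apply] at h5
  have h6 : α (α (s * y * s⁻¹)) = α y := by rw [h5]
  rw [← MulAut.mul_apply, h, MulAut.one_apply, hαy] at h6
  exact h6

/-- **(k7)** -/
theorem eq_or {α : MulAut A} (h : α * α = 1) (ho : R.o1 α = -1) {s : A} (hss : s * s = 1) (hs1 : s ≠ 1)
    (hs : α s = s) {y : A} (hy : α y = y) (hys : y * s = s * y) : y = 1 ∨ y = s := by
  by_cases hy1 : y = 1
  · exact Or.inl hy1
  right
  rcases Res.TorFacts.tor_or R h ho hy with h1 | h1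
  · exfalso
    have h2 := PglType.inverts R h ho hs hss hs1 hy h1
    rw [← hys, mul_inv_cancel_right] at h2
    exact hy1 (PglType.eq_one_of_eq_inv h2 h1)
  · refine PglType.eq_of_two R h ho hy h1 hy1 hs hss hs1 ⟨1, ?_⟩
    rw [pow_one, pow_two]
    calc y * s * (y * s) = (y * s) * (s * y) := by rw [hys]
      _ = y * (s * s) * y := by group
      _ = 1 := by rw [hss, mul_one, h1]

/-- **(k6)** -/
theorem exists_move {α : MulAut A} (h5 : 4 < Nat.card F) (h : α * α = 1) (ho : R.o1 α = -1) {s : A}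
    (hss : s * s = 1) (hs1 : s ≠ 1) (hs : α s = s) :
    ∃ y, α y = y ∧ Odd (orderOf y) ∧ y ≠ 1 ∧ y * s ≠ s * y := by
  obtain ⟨y, hy, hyo, hy1⟩ := Res.TorFacts.exists_ne R h5 h ho
  refine ⟨y, hy, hyo, hy1, fun hys => ?_⟩
  rcases eq_or R h ho hss hs1 hs hy hys with h1 | h1
  · exact hy1 h1
  · exact hs1 (PglType.eq_one_of_odd_sq hss (h1 ▸ hyo))

end aut

section group

open Cfsg.Agent.SignalizersComponents Cfsg.Agent.Lib
open Cfsg.Agent.SignalizersComponents.IntrinsicBasic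
open Cfsg.Agent.Intrinsic.Basic Cfsg.Agent.Intrinsic.Cen
open Cfsg.Agent.McLLyComp.Act
open Cfsg.Agent.UGT.Iface (Bar)
open scoped commutatorElement

universe u

variable {G : Type u} [Group G] {L : Subgroup G} {F : Type*} [Field F] [Finite F]
  {R : Cfsg.Agent.GH.L2Aut.Rep F (Bar L)} {x s : G}

/-- `x` of PGL type on `L / O(L) ≅ PSL(2,F)`, `s ∈ L` an involution commuting with `x` -/
structure KX (R : Cfsg.Agent.GH.L2Aut.Rep F (Bar L)) (x s : G) : Prop where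
  xN : x ∈ normalizer (L : Set G)
  xx : x * x = 1
  o1 : R.o1 (act L ⟨x, xN⟩) = -1
  sL : s ∈ L
  ss : s * s = 1
  s1 : s ≠ 1
  sx : s * x = x * s

/-- **(k0)** -/
theorem k0 (R : Cfsg.Agent.GH.L2Aut.Rep F (Bar L)) {l : G} (hl : l ∈ L) (hf : Fixes l L) : l ∈ core L := by
  have h1 : act L ⟨l, le_normalizer hl⟩ = 1 := (act_eq_one_iff (le_normalizer hl)).mpr hf
  have h2 := act_of_mem hl
  rw [h1] at h2
  have h3 : (QuotientGroup.mk ⟨l, hl⟩ : ↥L ⧸ oddCore ↥L) = 1 :=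
    R.conj_injective (by rw [← h2, map_one])
  exact (mk_eq_one_iff _).mp h3

/-- `act L x` fixes `mk y` iff `⁅y, x⁆ ∈ O(L)` -/
theorem fix_iff {x y : G} (hx : x ∈ normalizer (L : Set G)) (hy : y ∈ L) :
    act L ⟨x, hx⟩ (QuotientGroup.mk ⟨y, hy⟩) = QuotientGroup.mk ⟨y, hy⟩ ↔ ⁅y, x⁆ ∈ core L := by
  rw [act_mk hx hy, mk_eq_iff, commutatorElement_def]
  constructor
  · intro h
    have h1 := conj_mem_core (x := y) (le_normalizer hy) h
    have h2 := conj_mem_core (x := x * y * x⁻¹) (le_normalizer (conj_mem hx hy)) h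
    have e : x * y * x⁻¹ * ((x * y * x⁻¹)⁻¹ * y) * (x * y * x⁻¹)⁻¹ = y * x * y⁻¹ * x⁻¹ := by group
    rwa [e] at h2
  · intro h
    have h2 := conj_mem_core (x := (x * y * x⁻¹)⁻¹) (le_normalizer (L.inv_mem (conj_mem hx hy))) h
    have e : (x * y * x⁻¹)⁻¹ * (y * x * y⁻¹ * x⁻¹) * (x * y * x⁻¹)⁻¹⁻¹ = (x * y * x⁻¹)⁻¹ * y := by group
    rwa [e] at h2

/-- `mk y` and `mk s` commute iff `⁅y, s⁆ ∈ O(L)` -/
theorem mk_comm_iff {y s : G} (hy : y ∈ L) (hs : s ∈ L) :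
    (QuotientGroup.mk (⟨y, hy⟩ : ↥L) : Bar L) * QuotientGroup.mk ⟨s, hs⟩ =
      QuotientGroup.mk ⟨s, hs⟩ * QuotientGroup.mk ⟨y, hy⟩ ↔ ⁅y, s⁆ ∈ core L := by
  change (QuotientGroup.mk (⟨y * s, L.mul_mem hy hs⟩ : ↥L) : ↥L ⧸ oddCore ↥L) =
    QuotientGroup.mk ⟨s * y, L.mul_mem hs hy⟩ ↔ _
  rw [mk_eq_iff, commutatorElement_def]
  constructor
  · intro h
    have h2 := conj_mem_core (x := s * y) (le_normalizer (L.mul_mem hs hy)) (inv_mem h)
    have e : s * y * ((y * s)⁻¹ * (s * y))⁻¹ * (s * y)⁻¹ = y * s * y⁻¹ * s⁻¹ := by group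
    rwa [e] at h2
  · intro h
    have h2 := conj_mem_core (x := (s * y)⁻¹) (le_normalizer (L.inv_mem (L.mul_mem hs hy))) (inv_mem h)
    have e : (s * y)⁻¹ * (y * s * y⁻¹ * s⁻¹)⁻¹ * (s * y)⁻¹⁻¹ = (y * s)⁻¹ * (s * y) := by group
    rwa [e] at h2

namespace KX

variable (K : KX R x s)
include K

theorem sq : act L ⟨x, K.xN⟩ * act L ⟨x, K.xN⟩ = 1 := by
  rw [← map_mul]
  have h : (⟨x, K.xN⟩ : ↥(normalizer (L : Set G))) * ⟨x, K.xN⟩ = 1 := Subtype.ext K.xx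
  rw [h, map_one]

theorem mks_sq : (QuotientGroup.mk (⟨s, K.sL⟩ : ↥L) : Bar L) * QuotientGroup.mk ⟨s, K.sL⟩ = 1 := by
  change (QuotientGroup.mk (⟨s * s, L.mul_mem K.sL K.sL⟩ : ↥L) : ↥L ⧸ oddCore ↥L) = 1
  rw [mk_eq_one_iff, K.ss]
  exact one_mem _

theorem mks_fix : act L ⟨x, K.xN⟩ (QuotientGroup.mk ⟨s, K.sL⟩) = QuotientGroup.mk ⟨s, K.sL⟩ := by
  rw [fix_iff, commutatorElement_def, K.sx]
  simp [one_mem]

variable [Finite G]

theorem mks_ne : (QuotientGroup.mk (⟨s, K.sL⟩ : ↥L) : Bar L) ≠ 1 := by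
  rw [Ne, mk_eq_one_iff]
  intro h
  have h1 : orderOf s = 2 := orderOf_eq_prime (by rw [pow_two, K.ss]) K.s1
  have h2 := Subgroup.orderOf_dvd_natCard _ h
  rw [h1] at h2
  exact (Nat.not_even_iff_odd.mpr (odd_card_core L)) (even_iff_two_dvd.mpr h2)

/-- **(k7)** -/
theorem k7 {y : G} (hy : y ∈ L) (hyx : ⁅y, x⁆ ∈ core L) (hys : ⁅y, s⁆ ∈ core L) :
    y ∈ core L ∨ y * s ∈ core L := by
  rcases eq_or R K.sq K.o1 K.mks_sq K.mks_ne K.mks_fix ((fix_iff K.xN hy).mpr hyx)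
    ((mk_comm_iff hy K.sL).mpr hys) with h | h
  · exact Or.inl ((mk_eq_one_iff hy).mp h)
  · right
    have h1 := (mk_eq_iff hy K.sL).mp h
    have h2 := conj_mem_core (x := y) (le_normalizer hy) h1
    have e : y * (y⁻¹ * s) * y⁻¹ = s * y⁻¹ := by group
    rw [e] at h2
    have h3 := inv_mem h2
    have hsi : s⁻¹ = s := inv_eq_of_mul_eq_one_left K.ss
    have e2 : (s * y⁻¹)⁻¹ = y * s := by rw [mul_inv_rev, inv_inv, hsi]
    rwa [e2] at h3

/-- **(k6)** -/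
theorem k6 (h5 : 4 < Nat.card F) : ∃ y ∈ L, y * x = x * y ∧ Odd (orderOf y) ∧ ⁅y, s⁆ ∉ core L := by
  obtain ⟨c, hc, hco, -, hcs⟩ := exists_move R h5 K.sq K.o1 K.mks_sq K.mks_ne K.mks_fix
  obtain ⟨⟨p, hp⟩, rfl⟩ := QuotientGroup.mk_surjective c
  rw [act_mk K.xN hp, mk_eq_iff] at hc
  have hc' : p⁻¹ * (x * p * x⁻¹) ∈ core L := by
    have := inv_mem hc
    convert this using 1
    group
  obtain ⟨o, ho, h1⟩ := Intrinsic.Lifting.exists_commute (odd_card_core L) (n := 1)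
    (by rw [pow_one, pow_two, K.xx]) (normalizer_le_normalizer_core L K.xN) hc'
  have hpo : p * o ∈ L := L.mul_mem hp (core_le L ho)
  have h3 : (QuotientGroup.mk (⟨p * o, hpo⟩ : ↥L) : Bar L) = QuotientGroup.mk ⟨p, hp⟩ := by
    rw [mk_eq_iff]
    have e : (p * o)⁻¹ * p = o⁻¹ := by group
    rw [e]
    exact inv_mem ho
  rw [← h3] at hco hcs
  refine ⟨p * o, hpo, h1.symm, ?_, fun h => hcs ((mk_comm_iff hpo K.sL).mpr h)⟩
  obtain ⟨n, hn⟩ : ∃ n, n = orderOf (QuotientGroup.mk (⟨p * o, hpo⟩ : ↥L) : Bar L) := ⟨_, rfl⟩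
  rw [← hn] at hco
  have h4 : (p * o) ^ n ∈ core L := by
    have h5 : (QuotientGroup.mk (⟨p * o, hpo⟩ : ↥L) : Bar L) ^ n = 1 := by rw [hn, pow_orderOf_eq_one]
    have h6 : (QuotientGroup.mk (⟨(p * o) ^ n, L.pow_mem hpo n⟩ : ↥L) : ↥L ⧸ oddCore ↥L) = 1 := h5
    exact (mk_eq_one_iff _).mp h6
  have h5 : (p * o) ^ (n * Nat.card (core L)) = 1 := by
    rw [pow_mul]
    exact orderOf_dvd_iff_pow_eq_one.mp (Subgroup.orderOf_dvd_natCard _ h4)
  exact Odd.of_dvd_nat (hco.mul (odd_card_core L)) (orderOf_dvd_of_pow_eq_one h5)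

/-- **(k1)** -/
theorem k1 {H : Subgroup G} (hHL : H ≤ L) (hodd : Odd (Nat.card H)) (hS : Group.IsSolvable H)
    (hxH : x ∈ normalizer (H : Set G)) {w : G} (hwH : w ∈ normalizer (H : Set G)) (hws : Fixes (w * s) L)
    {y : G} (hy : y ∈ H) (hyx : y * x = x * y) (hyL : y ∉ core L) : ∀ h ∈ H, ⁅h, x⁆ ∈ core L := by
  obtain ⟨H', hH'⟩ : ∃ H', H' = (H.subgroupOf L).map (QuotientGroup.mk' (oddCore ↥L)) := ⟨_, rfl⟩
  have hmem : ∀ (h : G) (hh : h ∈ H), (QuotientGroup.mk (⟨h, hHL hh⟩ : ↥L) : Bar L) ∈ H' := by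
    intro h hh
    rw [hH']
    exact ⟨⟨h, hHL hh⟩, mem_subgroupOf.mpr hh, rfl⟩
  have hmem' : ∀ c ∈ H', ∃ (h : G) (hh : h ∈ H), (QuotientGroup.mk (⟨h, hHL hh⟩ : ↥L) : Bar L) = c := by
    intro c hc
    rw [hH'] at hc
    obtain ⟨⟨h, hL⟩, hh, rfl⟩ := hc
    exact ⟨h, mem_subgroupOf.mp hh, rfl⟩
  have hodd' : Odd (Nat.card H') := by
    refine Odd.of_dvd_nat hodd ?_
    rw [hH']
    refine (card_map_dvd _ _).trans ?_
    rw [Nat.card_congr (subgroupOfEquivOfLe hHL).toEquiv]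
  have hS' : Group.IsSolvable H' := by
    rw [hH']
    have h1 : Group.IsSolvable ↥(H.subgroupOf L) :=
      Group.isSolvable_of_isSolvable_injective (f := (subgroupOfEquivOfLe hHL).toMonoidHom)
        (subgroupOfEquivOfLe hHL).injective
    exact Group.isSolvable_of_surjective
      (f := (QuotientGroup.mk' (oddCore ↥L)).subgroupMap (H.subgroupOf L))
      (MonoidHom.subgroupMap_surjective _ _)
  have hwN : w ∈ normalizer (L : Set G) := by
    have h1 := hws.1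
    have e : w = w * s * s⁻¹ := by group
    rw [e]
    exact mul_mem h1 (inv_mem (le_normalizer K.sL))
  have key := odd_fix R K.sq K.o1 K.mks_sq K.mks_ne K.mks_fix hodd' hS' (by
      intro c hc
      obtain ⟨h, hh, rfl⟩ := hmem' c hc
      exact hmem _ ((mem_normalizer_iff.mp hxH h).mp hh)) (by
      intro c hc
      obtain ⟨h, hh, rfl⟩ := hmem' c hc
      have h1 : act L ⟨w, hwN⟩ (QuotientGroup.mk ⟨h, hHL hh⟩) ∈ H' :=
        hmem _ ((mem_normalizer_iff.mp hwH h).mp hh)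
      have h2 : act L ⟨w, hwN⟩ = act L ⟨s, le_normalizer K.sL⟩ :=
        (act_eq_iff _ _).mpr (by rwa [inv_eq_of_mul_eq_one_left K.ss])
      rw [h2, act_of_mem K.sL, MulAut.conj_apply] at h1
      exact h1) (hmem y hy) (fun h => hyL ((mk_eq_one_iff (hHL hy)).mp h)) (by
      rw [fix_iff, commutatorElement_def, hyx]
      simp [one_mem])
  intro h hh
  exact (fix_iff K.xN (hHL hh)).mp (key _ (hmem h hh))

end KX

end group

end Cfsg.Agent.UGT.FourB.KG
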