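import Cfsg.Agent.UGT.FourB.Tori
import Cfsg.Agent.Intrinsic.Functor
import Cfsg.Agent.Lib.SolvableMinNormal
import Cfsg.Agent.SignalizersComponents.CompOrbit
import Cfsg.Agent.SignalizersComponents.StandardTools
import Cfsg.Agent.UGT.FourA.Basic

/-!
# Leaf (L0): commuting odd elements of two components

`Tor.sigma_mem`: `y₁ ≠ 1` odd in `C_L(x)`, `y₂ ≠ 1` odd in `L`, inverted by `x` and `s`: `s ∈ ⟨y₁, y₂⟩`.
`CC.two` (LEMMA (2)): `v, w` with components `L, M`, `y ∈ T_v`, `y' ∈ T_w` commuting: `σ(w) = v`.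
-/

set_option autoImplicit false

open Subgroup
open Cfsg.Agent.UGT.ThE.Base (K_conj K_le_M L_le_M L_conj comm_of_mem)
open Cfsg.Agent.UGT.FourA.Basic (cj_mul cj_comm cj_sq cj_ne cj_eq_of_comm comm_of_cj_eq comm_cj_iff)
open Cfsg.Agent.Intrinsic.Functor (OddSol)

namespace Cfsg.Agent.UGT.FourB

universe u

variable {G : Type u} [Group G]

/-- an element of order two normalizes `K` -/
theorem norm_of_sq {K : Subgroup G} {g : G} (hg : g * g = 1) (h : ∀ y ∈ K, g * y * g⁻¹ ∈ K) :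
    g ∈ normalizer (K : Set G) := by
  rw [mem_normalizer_iff]
  intro y
  refine ⟨h y, fun hy => ?_⟩
  have h1 := h _ hy
  have e : g * (g * y * g⁻¹) * g⁻¹ = y := by
    calc g * (g * y * g⁻¹) * g⁻¹ = (g * g) * y * (g * g)⁻¹ := by group
      _ = y := by rw [hg]; group
  rwa [e] at h1

theorem norm_closure {S : Set G} {g : G} (hg : g * g = 1) (h : ∀ y ∈ S, g * y * g⁻¹ ∈ closure S) :
    g ∈ normalizer (closure S : Set G) := by
  apply norm_of_sq hg
  intro y hy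
  induction hy using closure_induction with
  | mem y hy => exact h y hy
  | one => rw [mul_one, mul_inv_cancel]; exact one_mem _
  | mul a b _ _ iha ihb => rw [cj_mul]; exact mul_mem iha ihb
  | inv a _ iha =>
    have e : g * a⁻¹ * g⁻¹ = (g * a * g⁻¹)⁻¹ := by group
    rw [e]; exact inv_mem iha

theorem exists_abel {K : Subgroup G} (hS : Group.IsSolvable K) (hK : K ≠ ⊥) :
    ∃ N : Subgroup G, N ≤ K ∧ N ≠ ⊥ ∧ (∀ a ∈ N, ∀ b ∈ N, a * b = b * a) ∧
      normalizer (K : Set G) ≤ normalizer (N : Set G) := by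
  have hn : Nontrivial K := (Subgroup.nontrivial_iff_ne_bot K).mpr hK
  obtain ⟨A, hA, hAc, hA1⟩ := Lib.SolvableMinNormal.exists_characteristic_abelian (G := K)
  refine ⟨A.map K.subtype, map_subtype_le _, ?_, ?_,
    SignalizersComponents.CompOrbit.normalizer_le_normalizer_map_of_characteristic hA⟩
  · rwa [Ne, map_eq_bot_iff_of_injective _ K.subtype_injective]
  · rintro _ ⟨a, ha, rfl⟩ _ ⟨b, hb, rfl⟩
    have h1 := hAc.is_comm.comm (⟨a, ha⟩ : A) ⟨b, hb⟩
    exact congrArg (fun w : A => ((w : K) : G)) h1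

theorem odd_of_mem [Finite G] {K : Subgroup G} (hK : Odd (Nat.card K)) {y : G} (hy : y ∈ K) :
    Odd (orderOf y) := by
  have h1 := orderOf_dvd_natCard (⟨y, hy⟩ : K)
  rw [Subgroup.orderOf_mk] at h1
  exact Odd.of_dvd_nat hK h1

theorem one_of_inv {y : G} (ho : Odd (orderOf y)) (h : y⁻¹ = y) : y = 1 :=
  Cfsg.Agent.OddHalf.D6.PglType.eq_one_of_odd_sq (by
    nth_rewrite 1 [← h]; rw [inv_mul_cancel]) ho

variable {L : Subgroup G} {x s : G}

/-- `⟨y₁, y₂⟩` has even order -/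
theorem Tor.even [Finite G] (OS : OddSol G) (T : Tor L x s) (H : Half L x s)
    {p : G} (hp : p ∈ L) (hpx : p * x * p⁻¹ = x * s) {y₁ y₂ : G} (h1 : y₁ ∈ L) (h1o : Odd (orderOf y₁))
    (h11 : y₁ ≠ 1) (h1x : y₁ * x = x * y₁) (h2 : y₂ ∈ L) (h2o : Odd (orderOf y₂)) (h21 : y₂ ≠ 1)
    (h2x : x * y₂ * x⁻¹ = y₂⁻¹) (h2s : s * y₂ * s⁻¹ = y₂⁻¹) :
    Even (Nat.card (closure {y₁, y₂})) := by
  rw [← Nat.not_odd_iff_even]
  intro hodd
  obtain ⟨K, hK⟩ : ∃ K, K = closure {y₁, y₂} := ⟨_, rfl⟩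
  rw [← hK] at hodd
  have hy₁K : y₁ ∈ K := hK ▸ subset_closure (by simp)
  have hy₂K : y₂ ∈ K := hK ▸ subset_closure (by simp)
  have hKL : K ≤ L := by
    rw [hK, closure_le]
    rintro y (rfl | rfl)
    · exact h1
    · exact h2
  have h1s := T.inv y₁ h1 h1x h1o
  have hxK : x ∈ normalizer (K : Set G) := by
    rw [hK]
    apply norm_closure H.xx
    rintro y (rfl | rfl)
    · rw [cj_eq_of_comm h1x.symm]; exact subset_closure (by simp)
    · rw [h2x]; exact inv_mem (subset_closure (by simp))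
  have hsK : s ∈ normalizer (K : Set G) := by
    rw [hK]
    apply norm_closure H.ss
    rintro y (rfl | rfl)
    · rw [h1s]; exact inv_mem (subset_closure (by simp))
    · rw [h2s]; exact inv_mem (subset_closure (by simp))
  have hKne : K ≠ ⊥ := by
    intro h
    rw [h, mem_bot] at hy₁K
    exact h11 hy₁K
  obtain ⟨N, hNK, hN, hNc, hKN⟩ := exists_abel (OS K hodd) hKne
  have hxN : ∀ n ∈ N, x * n * x⁻¹ ∈ N := fun n hn => (mem_normalizer_iff.mp (hKN hxK) n).mp hn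
  have hsN : ∀ n ∈ N, s * n * s⁻¹ ∈ N := fun n hn => (mem_normalizer_iff.mp (hKN hsK) n).mp hn
  have hhN : ∀ h ∈ K, ∀ n ∈ N, h * n * h⁻¹ ∈ N := fun h hh n hn =>
    (mem_normalizer_iff.mp (hKN (le_normalizer hh)) n).mp hn
  obtain ⟨n, hn, hn1⟩ : ∃ n ∈ N, n ≠ 1 := by
    by_contra hcon
    push Not at hcon
    apply hN
    rw [eq_bot_iff_forall]
    exact hcon
  have hNo : ∀ n ∈ N, Odd (orderOf n) := fun n hn => odd_of_mem hodd (hNK hn)
  -- `N` meets `C(x)` trivially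
  have hx : ∀ y ∈ N, y * x = x * y → y = 1 := by
    intro y hy hyx
    by_contra hy1
    have hc := T.k1 y (hKL (hNK hy)) hy1 (hNo y hy) hyx
    have h3 : ∀ h ∈ K, h * x = x * h := by
      intro h hh
      apply T.k2 y (hKL (hNK hy)) hy1 (hNo y hy) hyx h (hKL hh)
      exact hc _ (hKL (hNK (hhN h hh y hy))) (hNc _ (hhN h hh y hy) y hy)
    have h4 := h3 y₂ hy₂K
    rw [cj_eq_of_comm h4.symm] at h2x
    exact h21 (one_of_inv h2o h2x.symm)
  have hs' : ∀ y ∈ N, y * s = s * y → y = 1 := by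
    intro y hy hys
    by_contra hy1
    have hc := T.k3 y (hKL (hNK hy)) hy1 (hNo y hy) hys
    have h3 : ∀ h ∈ K, h * s = s * h := by
      intro h hh
      apply T.k4 y (hKL (hNK hy)) hy1 (hNo y hy) hys h (hKL hh)
      exact hc _ (hKL (hNK (hhN h hh y hy))) (hNc _ (hhN h hh y hy) y hy)
    have h4 := h3 y₁ hy₁K
    rw [cj_eq_of_comm h4.symm] at h1s
    exact h11 (one_of_inv h1o h1s.symm)
  have hxn : x * n * x⁻¹ = n⁻¹ := by
    have h3 : n * (x * n * x⁻¹) = 1 := by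
      apply hx _ (N.mul_mem hn (hxN n hn))
      have h4 : x * (n * (x * n * x⁻¹)) * x⁻¹ = n * (x * n * x⁻¹) := by
        have h5 : x * (x * n * x⁻¹) * x⁻¹ = n := by
          calc x * (x * n * x⁻¹) * x⁻¹ = (x * x) * n * (x * x)⁻¹ := by group
            _ = n := by rw [H.xx]; group
        rw [cj_mul, h5]
        exact hNc _ (hxN n hn) n hn
      exact (comm_of_cj_eq h4).symm
    exact (inv_eq_of_mul_eq_one_right h3).symm
  have hsn : s * n * s⁻¹ = n⁻¹ := by
    have h3 : n * (s * n * s⁻¹) = 1 := by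
      apply hs' _ (N.mul_mem hn (hsN n hn))
      have h4 : s * (n * (s * n * s⁻¹)) * s⁻¹ = n * (s * n * s⁻¹) := by
        have h5 : s * (s * n * s⁻¹) * s⁻¹ = n := by
          calc s * (s * n * s⁻¹) * s⁻¹ = (s * s) * n * (s * s)⁻¹ := by group
            _ = n := by rw [H.ss]; group
        rw [cj_mul, h5]
        exact hNc _ (hsN n hn) n hn
      exact (comm_of_cj_eq h4).symm
    exact (inv_eq_of_mul_eq_one_right h3).symm
  -- `n` commutes with `xs`
  have hxsn : x * s * n * (x * s)⁻¹ = n := by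
    calc x * s * n * (x * s)⁻¹ = x * (s * n * s⁻¹) * x⁻¹ := by group
      _ = (x * n * x⁻¹)⁻¹ := by rw [hsn]; group
      _ = n := by rw [hxn, inv_inv]
  have hcxs : n * (x * s) = x * s * n := (comm_of_cj_eq hxsn).symm
  -- torus facts for `xs = p x p⁻¹`
  have cj : ∀ {c : G}, c * (x * s) = x * s * c → p⁻¹ * c * p * x = x * (p⁻¹ * c * p) := by
    intro c hc
    rw [← hpx] at hc
    exact comm_cj_iff.mp hc
  have cj' : ∀ {c : G}, p⁻¹ * c * p * x = x * (p⁻¹ * c * p) → c * (x * s) = x * s * c := by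
    intro c hc
    rw [← hpx]
    exact comm_cj_iff.mpr hc
  have hcjL : ∀ {c : G}, c ∈ L → p⁻¹ * c * p ∈ L := fun hc => mul_mem (mul_mem (inv_mem hp) hc) hp
  have hn' : p⁻¹ * n * p ≠ 1 := by
    intro h
    apply hn1
    calc n = p * (p⁻¹ * n * p) * p⁻¹ := by group
      _ = 1 := by rw [h]; group
  have hn'o : Odd (orderOf (p⁻¹ * n * p)) := by
    have e : p⁻¹ * n * p = p⁻¹ * n * p⁻¹⁻¹ := by group
    have h3 : orderOf (p⁻¹ * n * p⁻¹⁻¹) = orderOf n := by
      rw [← MulAut.conj_apply]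
      exact orderOf_injective (MulAut.conj p⁻¹).toMonoidHom (MulAut.conj p⁻¹).injective n
    rw [e, h3]
    exact hNo n hn
  have hnL := hKL (hNK hn)
  have hc : ∀ c ∈ L, c * n = n * c → c * (x * s) = x * s * c := by
    intro c hcL hcn
    apply cj'
    apply T.k1 (p⁻¹ * n * p) (hcjL hnL) hn' hn'o (cj hcxs) _ (hcjL hcL)
    calc p⁻¹ * c * p * (p⁻¹ * n * p) = p⁻¹ * (c * n) * p := by group
      _ = p⁻¹ * (n * c) * p := by rw [hcn]
      _ = p⁻¹ * n * p * (p⁻¹ * c * p) := by group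
  have h3 : ∀ h ∈ K, h * (x * s) = x * s * h := by
    intro h hh
    apply cj'
    apply T.k2 (p⁻¹ * n * p) (hcjL hnL) hn' hn'o (cj hcxs) _ (hcjL (hKL hh))
    have h4 := hc _ (hKL (hNK (hhN h hh n hn))) (hNc _ (hhN h hh n hn) n hn)
    have h5 := cj h4
    have e : p⁻¹ * h * p * (p⁻¹ * n * p) * (p⁻¹ * h * p)⁻¹ = p⁻¹ * (h * n * h⁻¹) * p := by group
    rw [e]
    exact h5
  have h4 := h3 y₁ hy₁K
  -- `y₁` commutes with `s`
  have h5 : y₁ * s = s * y₁ := by
    have h6 : x * (y₁ * s) = x * (s * y₁) := by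
      calc x * (y₁ * s) = x * y₁ * s := by group
        _ = y₁ * (x * s) := by rw [← h1x]; group
        _ = x * (s * y₁) := by rw [h4]; group
    exact mul_left_cancel h6
  rw [cj_eq_of_comm h5.symm] at h1s
  exact h11 (one_of_inv h1o h1s.symm)

/-- `s ∈ ⟨y₁, y₂⟩` -/
theorem Tor.sigma_mem [Finite G] (OS : OddSol G) (T : Tor L x s) (H : Half L x s)
    {p : G} (hp : p ∈ L) (hpx : p * x * p⁻¹ = x * s) {y₁ y₂ : G} (h1 : y₁ ∈ L) (h1o : Odd (orderOf y₁))
    (h11 : y₁ ≠ 1) (h1x : y₁ * x = x * y₁) (h2 : y₂ ∈ L) (h2o : Odd (orderOf y₂)) (h21 : y₂ ≠ 1)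
    (h2x : x * y₂ * x⁻¹ = y₂⁻¹) (h2s : s * y₂ * s⁻¹ = y₂⁻¹) : s ∈ closure {y₁, y₂} := by
  have hev := Tor.even OS T H hp hpx h1 h1o h11 h1x h2 h2o h21 h2x h2s
  obtain ⟨K, hK⟩ : ∃ K, K = closure {y₁, y₂} := ⟨_, rfl⟩
  rw [← hK] at hev ⊢
  have hKL : K ≤ L := by
    rw [hK, closure_le]
    rintro y (rfl | rfl)
    · exact h1
    · exact h2
  have h1s := T.inv y₁ h1 h1x h1o
  have hxK : x ∈ normalizer (K : Set G) := by
    rw [hK]
    apply norm_closure H.xx
    rintro y (rfl | rfl)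
    · rw [cj_eq_of_comm h1x.symm]; exact subset_closure (by simp)
    · rw [h2x]; exact inv_mem (subset_closure (by simp))
  have hsK : s ∈ normalizer (K : Set G) := by
    rw [hK]
    apply norm_closure H.ss
    rintro y (rfl | rfl)
    · rw [h1s]; exact inv_mem (subset_closure (by simp))
    · rw [h2s]; exact inv_mem (subset_closure (by simp))
  obtain ⟨t, htK, ht2, htx⟩ := SignalizersComponents.StandardTools.exists_involution_commute hev H.xx hxK
  obtain ⟨C, hC⟩ : ∃ C, C = K ⊓ centralizer ({x} : Set G) := ⟨_, rfl⟩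
  have htC : t ∈ C := hC ▸ mem_inf.mpr ⟨htK, mem_centralizer_singleton_iff.mpr htx.symm⟩
  have hCev : Even (Nat.card C) := by
    rw [even_iff_two_dvd, ← ht2]
    exact Subgroup.orderOf_dvd_natCard C htC
  have hsC : s ∈ normalizer (C : Set G) := by
    apply norm_of_sq H.ss
    intro y hy
    rw [hC, mem_inf, mem_centralizer_singleton_iff] at hy ⊢
    refine ⟨(mem_normalizer_iff.mp hsK y).mp hy.1, ?_⟩
    have h3 := cj_comm (g := s) hy.2
    rwa [cj_eq_of_comm H.sx] at h3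
  obtain ⟨j, hjC, hj2, hjs⟩ := SignalizersComponents.StandardTools.exists_involution_commute hCev H.ss hsC
  rw [hC, mem_inf, mem_centralizer_singleton_iff] at hjC
  have hjj : j * j = 1 := by rw [← pow_two, ← hj2, pow_orderOf_eq_one]
  rcases T.cen j (hKL hjC.1) hjC.2 hjs.symm hjj with h3 | h3
  · rw [h3, orderOf_one] at hj2
    exact absurd hj2 (by norm_num)
  · rw [← h3]; exact hjC.1

/-- a component of `C(v)` of the triple `(x, v, L)`, `σ` the involution of `W ∩ L` -/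
structure CC (x v σ : G) (L : Subgroup G) : Prop where
  h : Half L x σ
  t : Tor L x σ
  Lv : ∀ l ∈ L, l * v = v * l
  nrm : ∀ c, c * v = v * c → c ∈ normalizer (L : Set G)
  star : ∀ k ∈ centralizer (L : Set G), k * v = v * k → k * x = x * k → k * k = 1 → k = 1 ∨ k = v
  px : ∃ p ∈ L, p * σ = σ * p ∧ p * x * p⁻¹ = x * σ
  nx : ∃ n ∈ centralizer (L : Set G), n * v = v * n ∧ n * x * n⁻¹ = x * v

/-- `t ∈ T_L`: an element of odd order of `C_L(x)` -/
structure IsTo (L : Subgroup G) (x t : G) : Prop where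
  mem : t ∈ L
  cx : t * x = x * t
  odd : Odd (orderOf t)

/-- **LEMMA (2)**, `v`, `w` commuting; `σ = w` or `vw`; `τ = v` or `vw` -/
theorem CC.two [Finite G] (OS : OddSol G) {v w σ τ : G} {L M : Subgroup G} (A : CC x v σ L)
    (B : CC x w τ M) (hvw : v * w = w * v) (hvv : v * v = 1) (hww : w * w = 1)
    (hσ : σ = w ∨ σ = v * w) (hτ : τ = v ∨ τ = v * w)
    {y y' : G} (hy : IsTo L x y) (hy1 : y ≠ 1) (hy' : IsTo M x y') (hy'1 : y' ≠ 1)
    (hyy' : y * y' = y' * y) {n : G} (hn : n ∈ centralizer (L : Set G)) (hnv : n * v = v * n)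
    (hnx : n * x * n⁻¹ = x * v) : τ = v ∧ v ∈ closure {y', n * y' * n⁻¹} := by
  have hnσ : n * σ = σ * n := (comm_of_mem A.h.sL hn).symm
  have hnw : n * w = w * n := by
    rcases hσ with h | h
    · rw [← h]; exact hnσ
    · have h1 : w = v * σ := by rw [h, ← mul_assoc, hvv, one_mul]
      rw [h1, ← mul_assoc, hnv, mul_assoc, hnσ, mul_assoc]
  have hnM := B.nrm n hnw
  obtain ⟨y₂, hy₂⟩ : ∃ y₂, y₂ = n * y' * n⁻¹ := ⟨_, rfl⟩
  rw [← hy₂]
  have hy₂M : y₂ ∈ M := hy₂ ▸ L_conj hnM hy'.mem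
  have hy₂1 : y₂ ≠ 1 := hy₂ ▸ cj_ne hy'1
  have hy₂o : Odd (orderOf y₂) := by
    have h3 : orderOf (n * y' * n⁻¹) = orderOf y' := by
      rw [← MulAut.conj_apply]
      exact orderOf_injective (MulAut.conj n).toMonoidHom (MulAut.conj n).injective y'
    rw [hy₂, h3]
    exact hy'.odd
  -- `v` acts on `M` as `τ`
  have hvM : ∀ m ∈ M, v * m * v⁻¹ = τ * m * τ⁻¹ := by
    intro m hm
    rcases hτ with h | h
    · rw [h]
    · rw [h]
      have h1 : w * m * w⁻¹ = m := cj_eq_of_comm (B.Lv m hm).symm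
      calc v * m * v⁻¹ = v * (w * m * w⁻¹) * v⁻¹ := by rw [h1]
        _ = v * w * m * (v * w)⁻¹ := by group
  have hτy' := B.t.inv y' hy'.mem hy'.cx hy'.odd
  have hvy' : v * y' * v⁻¹ = y'⁻¹ := by rw [hvM y' hy'.mem, hτy']
  have hvy₂ : v * y₂ * v⁻¹ = y₂⁻¹ := by
    have h1 := cj_mul n v (y' * v⁻¹)
    calc v * y₂ * v⁻¹ = (v * n) * y' * (n⁻¹ * v⁻¹) := by rw [hy₂]; group
      _ = (n * v) * y' * (v * n)⁻¹ := by rw [hnv]; group
      _ = (n * v) * y' * (n * v)⁻¹ := by rw [hnv]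
      _ = n * (v * y' * v⁻¹) * n⁻¹ := by group
      _ = y₂⁻¹ := by rw [hvy', hy₂]; group
  have hτy₂ : τ * y₂ * τ⁻¹ = y₂⁻¹ := by rw [← hvM y₂ hy₂M, hvy₂]
  have hxvy₂ : y₂ * (x * v) = x * v * y₂ := by
    rw [hy₂, ← hnx]
    exact cj_comm hy'.cx
  have hvi : v⁻¹ = v := inv_eq_of_mul_eq_one_left hvv
  have hxy₂ : x * y₂ * x⁻¹ = y₂⁻¹ := by
    have h1 : x * v * y₂⁻¹ * (x * v)⁻¹ = y₂⁻¹ := by
      have h2 := cj_eq_of_comm hxvy₂.symm
      calc x * v * y₂⁻¹ * (x * v)⁻¹ = (x * v * y₂ * (x * v)⁻¹)⁻¹ := by group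
        _ = y₂⁻¹ := by rw [h2]
    calc x * y₂ * x⁻¹ = x * v * (v⁻¹ * y₂ * v⁻¹⁻¹) * (x * v)⁻¹ := by group
      _ = y₂⁻¹ := by rw [hvi, hvy₂, h1]
  obtain ⟨p, hp, -, hpx⟩ := B.px
  have hτK := Tor.sigma_mem OS B.t B.h hp hpx hy'.mem hy'.odd hy'1 hy'.cx hy₂M hy₂o hy₂1 hxy₂ hτy₂
  have hny : n * y * n⁻¹ = y := cj_eq_of_comm (comm_of_mem hy.mem hn).symm
  have hKy : closure {y', y₂} ≤ centralizer ({y} : Set G) := by
    rw [closure_le]
    rintro z (rfl | rfl)
    · exact mem_centralizer_singleton_iff.mpr hyy'.symm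
    · apply mem_centralizer_singleton_iff.mpr
      rw [hy₂]
      have h1 := cj_comm (g := n) hyy'
      rw [hny] at h1
      exact h1.symm
  have hτy := mem_centralizer_singleton_iff.mp (hKy hτK)
  have hτv : τ = v := by
    rcases hτ with h | h
    · exact h
    · exfalso
      rw [h] at hτy
      have hvy : v * y = y * v := (A.Lv y hy.mem).symm
      have hwy : w * y = y * w := by
        have h1 : v * (w * y) = v * (y * w) := by
          calc v * (w * y) = v * w * y := by group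
            _ = y * (v * w) := hτy
            _ = v * (y * w) := by rw [← mul_assoc, ← hvy]; group
        exact mul_left_cancel h1
      have hσy : σ * y = y * σ := by
        rcases hσ with h1 | h1
        · rw [h1]; exact hwy
        · rw [h1]
          calc v * w * y = v * (w * y) := by group
            _ = v * y * w := by rw [hwy]; group
            _ = y * (v * w) := by rw [hvy]; group
      have h2 := A.t.inv y hy.mem hy.cx hy.odd
      rw [cj_eq_of_comm hσy] at h2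
      exact hy1 (one_of_inv hy.odd h2.symm)
  exact ⟨hτv, hτv ▸ hτK⟩

end Cfsg.Agent.UGT.FourB
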