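import Cfsg.Agent.UGT.FourB.Block
import Cfsg.Agent.UGT.FourA.Zst

/-!
# Leaf (L0), `L × J`, `T ∈ Syl₂(G)`: the end

`cz`: `C(as) ≤ M`; `invx`: `C(u) ≤ M` for all involutions `u ∈ C_X(x)`; `link`: `a^G ⊆ M`; `false_of`.
-/

set_option autoImplicit false

open Subgroup
open Cfsg.Agent.Intrinsic.Basic (core)
open Cfsg.Agent.UGT.ThE.Base (K_conj K_le_M L_le_M L_conj comm_of_mem)
open Cfsg.Agent.UGT.FourA.Basic (cj_mul cj_comm cj_sq cj_ne cj_eq_of_comm comm_of_cj_eq comm_cj_iff)

namespace Cfsg.Agent.UGT.FourB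

universe u

variable {G : Type u} [Group G]

namespace Block

variable {X L J T : Subgroup G} {x a s : G} (H : Block X L J T x a s)
include H

theorem aT : a ∈ T := by
  have h1 : T ≤ normalizer (zpowers a : Set G) := by
    intro t ht
    rw [mem_normalizer_iff]
    have h2 : ∀ y ∈ zpowers a, t * y * t⁻¹ = y := by
      intro y hy
      obtain ⟨k, rfl⟩ := mem_zpowers_iff.mp hy
      exact cj_eq_of_comm ((show Commute t a from H.Ta t ht).zpow_right k)
    intro y
    refine ⟨fun hy => by rw [h2 y hy]; exact hy, fun hy => ?_⟩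
    have h3 := h2 _ hy
    have h4 : t * y * t⁻¹ = y := by
      have h5 : t * (t * y * t⁻¹) * t⁻¹ = t * y * t⁻¹ := h3
      exact mul_left_cancel (mul_right_cancel h5)
    rwa [h4] at hy
  have h2 : IsPGroup 2 (zpowers a) := by
    apply IsPGroup.of_card (n := 1)
    rw [Nat.card_zpowers, pow_one]
    exact orderOf_eq_prime (by rw [pow_two]; exact H.hJ.ss) H.hJ.s1
  have h3 := H.Tmax (T ⊔ zpowers a) (H.T2.to_sup_of_normal_right' h2 h1) le_sup_left
  exact h3 (mem_sup_right (mem_zpowers a))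

theorem tz {t : G} (ht : t ∈ T) : t * (a * s) = a * s * t := by
  have h1 : Commute t a := H.Ta t ht
  have h2 : Commute t s := H.Ts t ht
  exact h1.mul_right h2

/-- **(6)** `C(as) ≤ M` -/
theorem cz [Finite G] (hcz : core (centralizer ({a * s} : Set G)) = ⊥) {c : G}
    (hc : c * (a * s) = a * s * c) : c ∈ normalizer (L : Set G) := by
  have h1 := FourA.Zst.zstar_sub (H := centralizer ({a * s} : Set G)) H.T2
    (fun t ht => mem_centralizer_singleton_iff.mpr (H.tz ht))
    (fun U hU hTU _ => H.Tmax U hU hTU)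
    (orderOf_eq_prime (by rw [pow_two]; exact H.hJ.ss) H.hJ.s1) H.aT (by
      intro g hg hgT
      have hgz : g * (a * s) * g⁻¹ = a * s := cj_eq_of_comm (mem_centralizer_singleton_iff.mp hg)
      have hbJ := H.delta g (H.Ca _ (H.Ta _ hgT))
      obtain ⟨b, hb⟩ : ∃ b, b = g * a * g⁻¹ := ⟨_, rfl⟩
      have hbb : b * b = 1 := hb ▸ cj_sq H.hJ.ss
      have hbi : b⁻¹ = b := inv_eq_of_mul_eq_one_left hbb
      rw [← hb] at hbJ hgT ⊢
      have e : g * s * g⁻¹ = b * a * s := by
        have h2 : b * (g * s * g⁻¹) = a * s := by rw [hb, ← cj_mul, hgz]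
        calc g * s * g⁻¹ = b⁻¹ * (b * (g * s * g⁻¹)) := by group
          _ = b * a * s := by rw [h2, hbi, mul_assoc]
      have h3 : g * s * g⁻¹ ∈ L := by
        apply H.sigma
        rw [e]
        exact mul_mem (mul_mem (H.Ca _ (H.Ta _ hgT)) (H.Ca a rfl)) (L_le_M H.hL.sL)
      rw [e] at h3
      have h4 : b * a ∈ L := by
        have h5 := mul_mem h3 (inv_mem H.hL.sL)
        rwa [mul_inv_cancel_right] at h5
      have h5 := H.disj h4 (mul_mem hbJ H.hJ.sL)
      rw [mul_eq_one_iff_eq_inv.mp h5, inv_eq_of_mul_eq_one_left H.hJ.ss])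
  have h2 := h1 c (mem_centralizer_singleton_iff.mpr hc)
  rw [hcz, mem_bot] at h2
  apply H.Ca
  have h3 : a * c = c * a := by
    calc a * c = (a * c * a⁻¹ * c⁻¹) * (c * a) := by group
      _ = c * a := by rw [h2, one_mul]
  exact h3.symm

theorem sM : s ∈ normalizer (L : Set G) := L_le_M H.hL.sL

theorem ax : a * x = x * a := H.hJ.sx

/-- the element `u ∈ {1, x, s, xs}·C(L)` and `{1, x, a, xa}·C(J)` -/
theorem key [Finite G] {v : G} (hvX : v ∈ X) (hvx : v * x = x * v) (hvv : v * v = 1)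
    (hL : v ∈ centralizer (L : Set G) ∨ v * x ∈ centralizer (L : Set G))
    (hJ : v ∈ centralizer (J : Set G) ∨ v * x ∈ centralizer (J : Set G)) : v = 1 := by
  have hxx := H.hL.xx
  have hvxx : v * x * (v * x) = 1 := by
    calc v * x * (v * x) = v * (x * v) * x := by group
      _ = (v * v) * (x * x) := by rw [← hvx]; group
      _ = 1 := by rw [hvv, hxx, one_mul]
  have comm : ∀ {N : Subgroup G} {y : G}, y * x = x * y → y ∈ N →
      v ∈ centralizer (N : Set G) ∨ v * x ∈ centralizer (N : Set G) → v * y = y * v := by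
    intro N y hyx hy h
    rcases h with h | h
    · exact (comm_of_mem hy h).symm
    · have h1 := comm_of_mem hy h
      calc v * y = v * (x * x) * y := by rw [hxx, mul_one]
        _ = (v * x) * (x * y) := by group
        _ = (v * x) * y * x := by rw [← hyx]; group
        _ = y * (v * x) * x := by rw [h1]
        _ = y * v * (x * x) := by group
        _ = y * v := by rw [hxx, mul_one]
  have hvs := comm H.hL.sx H.hL.sL hL
  have hva := comm H.hJ.sx H.hJ.sL hJ
  rcases hL with h1 | h1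
  · rcases hJ with h2 | h2
    · exact H.odd v h1 h2 hvv
    · rcases H.starL v h1 hva hvx hvv with h3 | h3
      · exact h3
      · exfalso
        apply H.hJ.xLK a H.hJ.sL
        rw [← H.ax, ← h3]
        exact h2
  · rcases hJ with h2 | h2
    · rcases H.starJ v h2 hvs hvx hvv with h3 | h3
      · exact h3
      · exfalso
        apply H.hL.xLK s H.hL.sL
        rw [← H.hL.sx, ← h3]
        exact h1
    · exfalso
      apply H.xX
      have h3 := H.odd (v * x) h1 h2 hvxx
      rw [← inv_eq_of_mul_eq_one_right h3]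
      exact X.inv_mem hvX

/-- involutions of `C_X(x)` -/
theorem invx [Finite G] (Cx : ∀ c, c * x = x * c → c ∈ normalizer (L : Set G)) {u : G}
    (huX : u ∈ X) (hux : u * x = x * u) (huu : u * u = 1) (hu1 : u ≠ 1) :
    ∃ c, c ∈ normalizer (L : Set G) ∧ (c * u * c⁻¹ = a ∨ c * u * c⁻¹ = s ∨ c * u * c⁻¹ = a * s) := by
  have hxx := H.hL.xx
  have huL := Cx u hux
  have huJ : u ∈ normalizer (J : Set G) := H.NN ▸ huL
  obtain ⟨d, hd, hdx, h1⟩ := H.hL.cx u huL huu hux
  obtain ⟨e, he, hex, h2⟩ := H.hJ.cx u huJ huu hux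
  obtain ⟨w, hw⟩ : ∃ w, w = d * e * u * (d * e)⁻¹ := ⟨_, rfl⟩
  have hdM := L_le_M hd
  have heM := H.JM he
  have hwX : w ∈ X := hw ▸ H.XN.conj_mem u huX _
  have hww : w * w = 1 := hw ▸ cj_sq huu
  have hw1 : w ≠ 1 := hw ▸ cj_ne hu1
  have hdex : d * e * x = x * (d * e) := by
    rw [mul_assoc, hex, ← mul_assoc, hdx, mul_assoc]
  have hwx : w * x = x * w := by
    rw [hw]
    have h3 := cj_comm (g := d * e) hux
    rwa [cj_eq_of_comm hdex] at h3
  have hde := H.LJ d hd e he
  -- `w` on `L`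
  have hwL : ∀ y ∈ normalizer (L : Set G), d * u * d⁻¹ * y ∈ centralizer (L : Set G) →
      w * y ∈ centralizer (L : Set G) := by
    intro y hyN hy
    have e1 : w * y = (d * u * d⁻¹ * y) * (y⁻¹ * (d * ((u⁻¹ * e * u⁻¹⁻¹) * e⁻¹) * d⁻¹) * y⁻¹⁻¹) := by
      rw [hw]; group
    rw [e1]
    refine mul_mem hy (K_conj (inv_mem hyN) (K_conj hdM ?_))
    exact mul_mem (K_conj (inv_mem huL) (H.JC he)) (inv_mem (H.JC he))
  have hwJ : ∀ y ∈ normalizer (J : Set G), e * u * e⁻¹ * y ∈ centralizer (J : Set G) →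
      w * y ∈ centralizer (J : Set G) := by
    intro y hyN hy
    have e1 : w * y = (e * u * e⁻¹ * y) * (y⁻¹ * (e * ((u⁻¹ * d * u⁻¹⁻¹) * d⁻¹) * e⁻¹) * y⁻¹⁻¹) := by
      rw [hw, hde]; group
    rw [e1]
    refine mul_mem hy (K_conj (inv_mem hyN) (K_conj (L_le_M he) ?_))
    exact mul_mem (K_conj (inv_mem huJ) (H.LC hd)) (inv_mem (H.LC hd))
  have hxi : x⁻¹ = x := inv_eq_of_mul_eq_one_left hxx
  -- the element `p`
  obtain ⟨p, hp, hpx, hpp, hpX, hps, hpw⟩ : ∃ p ∈ L, p * x = x * p ∧ p * p = 1 ∧ p ∈ X ∧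
      (p = 1 ∨ p = s) ∧ (w * p ∈ centralizer (L : Set G) ∨ w * p * x ∈ centralizer (L : Set G)) := by
    rcases h1 with h | h | h | h
    · refine ⟨1, one_mem _, by rw [one_mul, mul_one], one_mul 1, X.one_mem, Or.inl rfl, Or.inl ?_⟩
      exact hwL 1 (one_mem _) (by rwa [mul_one])
    · refine ⟨1, one_mem _, by rw [one_mul, mul_one], one_mul 1, X.one_mem, Or.inl rfl, Or.inr ?_⟩
      rw [mul_one]
      exact hwL x H.hL.xN h
    · exact ⟨s, H.hL.sL, H.hL.sx, H.hL.ss, H.sX, Or.inr rfl, Or.inl (hwL s H.sM h)⟩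
    · refine ⟨s, H.hL.sL, H.hL.sx, H.hL.ss, H.sX, Or.inr rfl, Or.inr ?_⟩
      have h3 := hwL (x * s) (mul_mem H.hL.xN H.sM) (by rwa [← mul_assoc])
      rwa [← H.hL.sx, ← mul_assoc] at h3
  obtain ⟨q, hq, hqx, hqq, hqX, hqs, hqw⟩ : ∃ q ∈ J, q * x = x * q ∧ q * q = 1 ∧ q ∈ X ∧
      (q = 1 ∨ q = a) ∧ (w * q ∈ centralizer (J : Set G) ∨ w * q * x ∈ centralizer (J : Set G)) := by
    rcases h2 with h | h | h | h
    · refine ⟨1, one_mem _, by rw [one_mul, mul_one], one_mul 1, X.one_mem, Or.inl rfl, Or.inl ?_⟩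
      exact hwJ 1 (one_mem _) (by rwa [mul_one])
    · refine ⟨1, one_mem _, by rw [one_mul, mul_one], one_mul 1, X.one_mem, Or.inl rfl, Or.inr ?_⟩
      rw [mul_one]
      exact hwJ x H.hJ.xN h
    · exact ⟨a, H.hJ.sL, H.hJ.sx, H.hJ.ss, H.aX, Or.inr rfl, Or.inl (hwJ a (L_le_M H.hJ.sL) h)⟩
    · refine ⟨a, H.hJ.sL, H.hJ.sx, H.hJ.ss, H.aX, Or.inr rfl, Or.inr ?_⟩
      have h3 := hwJ (x * a) (mul_mem H.hJ.xN (L_le_M H.hJ.sL)) (by rwa [← mul_assoc])
      rwa [← H.hJ.sx, ← mul_assoc] at h3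
  have hpq := H.LJ p hp q hq
  -- `w` commutes with `p` and `q`
  have comm : ∀ {N : Subgroup G} {y : G}, y * x = x * y → y ∈ N → y * y = 1 →
      (w * y ∈ centralizer (N : Set G) ∨ w * y * x ∈ centralizer (N : Set G)) → w * y = y * w := by
    intro N y hyx hy hyy h
    rcases h with h | h
    · have h3 := comm_of_mem hy h
      calc w * y = (y * y) * (w * y) := by rw [hyy, one_mul]
        _ = y * (y * (w * y)) := by group
        _ = y * (w * y * y) := by rw [h3]
        _ = y * w * (y * y) := by group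
        _ = y * w := by rw [hyy, mul_one]
    · have h3 := comm_of_mem hy h
      have h4 : w * y * y = y * (w * y) := by
        calc w * y * y = w * y * y * (x * x) := by rw [hxx, mul_one]
          _ = w * y * (y * x) * x := by group
          _ = w * y * x * y * x := by rw [hyx]; group
          _ = y * (w * y * x) * x := by rw [h3]
          _ = y * (w * y) * (x * x) := by group
          _ = y * (w * y) := by rw [hxx, mul_one]
      calc w * y = (y * y) * (w * y) := by rw [hyy, one_mul]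
        _ = y * (y * (w * y)) := by group
        _ = y * (w * y * y) := by rw [h4]
        _ = y * w * (y * y) := by group
        _ = y * w := by rw [hyy, mul_one]
  have hwp := comm hpx hp hpp hpw
  have hwq := comm hqx hq hqq hqw
  have hv : w * p * q = 1 := by
    apply H.key (X.mul_mem (X.mul_mem hwX hpX) hqX)
    · rw [mul_assoc, hqx, ← mul_assoc, mul_assoc w p x, hpx, ← mul_assoc, hwx]
      group
    · calc w * p * q * (w * p * q) = w * p * (q * w) * p * q := by group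
        _ = w * p * (w * q) * p * q := by rw [hwq]
        _ = w * (p * w) * (q * p) * q := by group
        _ = w * (w * p) * (p * q) * q := by rw [hwp, hpq]
        _ = (w * w) * (p * p) * (q * q) := by group
        _ = 1 := by rw [hww, hpp, hqq]; group
    · rcases hpw with h | h
      · exact Or.inl (mul_mem h (H.JC hq))
      · right
        rw [mul_assoc, hqx, ← mul_assoc]
        exact mul_mem h (H.JC hq)
    · rcases hqw with h | h
      · left
        rw [mul_assoc, hpq, ← mul_assoc]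
        exact mul_mem h (H.LC hp)
      · right
        have e1 : w * p * q * x = w * q * x * p := by
          calc w * p * q * x = w * (p * q) * x := by group
            _ = w * (q * p) * x := by rw [hpq]
            _ = w * q * (p * x) := by group
            _ = w * q * x * p := by rw [hpx]; group
        rw [e1]
        exact mul_mem h (H.LC hp)
  have hw2 : w = q * p := by
    have h3 : w = (p * q)⁻¹ := by rw [eq_inv_iff_mul_eq_one, ← mul_assoc, hv]
    rw [h3, mul_inv_rev, inv_eq_of_mul_eq_one_left hpp, inv_eq_of_mul_eq_one_left hqq]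
  refine ⟨d * e, mul_mem hdM heM, ?_⟩
  rw [← hw, hw2]
  rcases hps with rfl | rfl
  · rcases hqs with rfl | rfl
    · exact absurd (by rw [hw2, one_mul]) hw1
    · exact Or.inl (mul_one _)
  · rcases hqs with rfl | rfl
    · exact Or.inr (Or.inl (one_mul _))
    · exact Or.inr (Or.inr rfl)

/-- `C(u) ≤ M` -/
theorem cu [Finite G] (hcz : core (centralizer ({a * s} : Set G)) = ⊥)
    (Cx : ∀ c, c * x = x * c → c ∈ normalizer (L : Set G)) {u : G}
    (huX : u ∈ X) (hux : u * x = x * u) (huu : u * u = 1) (hu1 : u ≠ 1) {b : G}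
    (hb : b * u = u * b) : b ∈ normalizer (L : Set G) := by
  obtain ⟨c, hc, h⟩ := H.invx Cx huX hux huu hu1
  have h1 : c * b * c⁻¹ * (c * u * c⁻¹) = c * u * c⁻¹ * (c * b * c⁻¹) := cj_comm hb
  have h2 : c * b * c⁻¹ ∈ normalizer (L : Set G) := by
    rcases h with h | h | h
    · rw [h] at h1; exact H.Ca _ h1
    · rw [h] at h1; exact H.Cs _ h1
    · rw [h] at h1; exact H.cz hcz h1
  have h3 : b = c⁻¹ * (c * b * c⁻¹) * c := by group
  rw [h3]
  exact mul_mem (mul_mem (inv_mem hc) h2) hc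

/-- **(7)** `a^G ⊆ M` -/
theorem link [Finite G] (hcov : ∀ g, g ∈ X ∨ g * x ∈ X)
    (hcz : core (centralizer ({a * s} : Set G)) = ⊥)
    (Cx : ∀ c, c * x = x * c → c ∈ normalizer (L : Set G))
    (hxa : ∃ n ∈ normalizer (L : Set G), n * x * n⁻¹ = x * a) (g : G) :
    g * a * g⁻¹ ∈ normalizer (L : Set G) := by
  have hxx := H.hL.xx
  obtain ⟨b, hb⟩ : ∃ b, b = g * a * g⁻¹ := ⟨_, rfl⟩
  have hbb : b * b = 1 := hb ▸ cj_sq H.hJ.ss
  have hbX : b ∈ X := hb ▸ H.XN.conj_mem a H.aX g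
  rw [← hb]
  obtain ⟨r, hr⟩ : ∃ r, r = x * b := ⟨_, rfl⟩
  have hxi : x⁻¹ = x := inv_eq_of_mul_eq_one_left hxx
  have hbi : b⁻¹ = b := inv_eq_of_mul_eq_one_left hbb
  have hxr : x * r * x⁻¹ = r⁻¹ := by
    rw [hr, mul_inv_rev, hxi, hbi]
    calc x * (x * b) * x = (x * x) * b * x := by group
      _ = b * x := by rw [hxx, one_mul]
  have hbr : b * r * b⁻¹ = r⁻¹ := by
    rw [hr, mul_inv_rev, hxi, hbi]
    calc b * (x * b) * b = b * x * (b * b) := by group
      _ = b * x := by rw [hbb, mul_one]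
  have hrX : r ∉ X := by
    intro h
    apply H.xX
    have h1 : x = r * b⁻¹ := by rw [hr]; group
    rw [h1]
    exact X.mul_mem h (X.inv_mem hbX)
  have hrrX : r * r ∈ X := by
    rcases hcov (r * r) with h | h
    · exact h
    · exfalso
      rcases hcov r with h1 | h1
      · exact hrX h1
      · -- `r x ∈ X`, `r r x ∈ X`
        apply hrX
        have h2 : r = (r * r * x) * (r * x)⁻¹ * (r * x * (r * x)⁻¹) := by group
        rw [h2]
        exact X.mul_mem (X.mul_mem h (X.inv_mem h1)) (X.mul_mem h1 (X.inv_mem h1))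
  -- even order
  have hev : ∃ k, orderOf r = k + k := by
    rcases Nat.even_or_odd (orderOf r) with h | h
    · exact h
    · exfalso
      obtain ⟨k, hk⟩ := h
      apply hrX
      have h1 : r = ((r * r) ^ k)⁻¹ := by
        rw [eq_inv_iff_mul_eq_one, ← pow_two, ← pow_mul, ← pow_succ', ← hk, pow_orderOf_eq_one]
      rw [h1]
      exact X.inv_mem (X.pow_mem hrrX _)
  obtain ⟨k, hk⟩ := hev
  obtain ⟨u, hu⟩ : ∃ u, u = r ^ k := ⟨_, rfl⟩
  have huu : u * u = 1 := by rw [hu, ← pow_add, ← hk, pow_orderOf_eq_one]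
  have hu1 : u ≠ 1 := by
    intro h
    have h1 := orderOf_pos r
    have h2 := Nat.le_of_dvd (by omega) (orderOf_dvd_of_pow_eq_one (hu ▸ h))
    omega
  have hui : u⁻¹ = u := inv_eq_of_mul_eq_one_left huu
  have hxu : x * u = u * x := by
    apply comm_of_cj_eq
    calc x * u * x⁻¹ = (x * r * x⁻¹) ^ k := by rw [hu, conj_pow]
      _ = u := by rw [hxr, inv_pow, ← hu, hui]
  have hbu : b * u = u * b := by
    apply comm_of_cj_eq
    calc b * u * b⁻¹ = (b * r * b⁻¹) ^ k := by rw [hu, conj_pow]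
      _ = u := by rw [hbr, inv_pow, ← hu, hui]
  by_cases huX : u ∈ X
  · exact H.cu hcz Cx huX hxu.symm huu hu1 hbu
  · -- `k` is odd
    have hkodd : ∃ m, k = 2 * m + 1 := by
      rcases Nat.even_or_odd k with h | h
      · exfalso
        obtain ⟨m, hm⟩ := h
        apply huX
        rw [hu, hm, ← two_mul, pow_mul, pow_two]
        exact X.pow_mem hrrX _
      · exact h
    obtain ⟨m, hm⟩ := hkodd
    -- `xu = (r ^ m)⁻¹ b (r ^ m)`
    have h1 : x * u = (r ^ m)⁻¹ * b * (r ^ m)⁻¹⁻¹ := by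
      have h2 : x * (r ^ m)⁻¹ * x⁻¹ = r ^ m := by
        have h3 : x * (r ^ m)⁻¹ * x⁻¹ = (x * r ^ m * x⁻¹)⁻¹ := by group
        rw [h3, ← conj_pow, hxr, inv_pow, inv_inv]
      have h3 : (r ^ m)⁻¹ * x = x * r ^ m := by
        calc (r ^ m)⁻¹ * x = x⁻¹ * (x * (r ^ m)⁻¹ * x⁻¹) * (x * x) := by group
          _ = x * r ^ m := by rw [h2, hxx, mul_one, hxi]
      have h4 : b = x * r := by rw [hr, ← mul_assoc, hxx, one_mul]
      calc x * u = x * r ^ m * (r * r ^ m) := by
            rw [hu, hm, two_mul, pow_succ', pow_add]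
            have := (Commute.refl r).pow_right m
            calc x * (r * (r ^ m * r ^ m)) = x * (r * r ^ m) * r ^ m := by group
              _ = x * (r ^ m * r) * r ^ m := by rw [this.eq]
              _ = x * r ^ m * (r * r ^ m) := by group
        _ = (r ^ m)⁻¹ * x * (r * r ^ m) := by rw [h3]
        _ = (r ^ m)⁻¹ * b * (r ^ m)⁻¹⁻¹ := by rw [h4]; group
    have hxuX : x * u = (r ^ m)⁻¹ * g * a * ((r ^ m)⁻¹ * g)⁻¹ := by rw [h1, hb]; group
    have hxuc : x * u * x = x * (x * u) := by rw [mul_assoc, ← hxu]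
    have hJ : x * u ∈ J := by
      rw [hxuX]
      apply H.delta
      rw [← hxuX]
      exact Cx _ hxuc
    have hxuxu : x * u * (x * u) = 1 := by
      calc x * u * (x * u) = x * (u * x) * u := by group
        _ = (x * x) * (u * u) := by rw [← hxu]; group
        _ = 1 := by rw [hxx, huu, one_mul]
    have hxu1 : x * u ≠ 1 := by
      intro h
      rw [h1] at h
      have hb1 : b ≠ 1 := hb ▸ cj_ne H.hJ.s1
      exact cj_ne hb1 h
    -- conjugate to `a` in `C_J(x)`
    obtain ⟨d, hd, hdx, h2⟩ := H.hJ.cx (x * u) (L_le_M hJ) hxuxu hxuc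
    have hdJ : d * (x * u) * d⁻¹ ∈ J := mul_mem (mul_mem hd hJ) (inv_mem hd)
    have h3 : d * (x * u) * d⁻¹ = a := by
      rcases h2 with h | h | h | h
      · exfalso
        exact cj_ne hxu1 (H.hJ.cen _ hdJ h)
      · exfalso
        apply H.hJ.xLK ((x⁻¹ * (d * (x * u) * d⁻¹) * x⁻¹⁻¹)) (L_conj (inv_mem H.hJ.xN) hdJ)
        have e : x * (x⁻¹ * (d * (x * u) * d⁻¹) * x⁻¹⁻¹) = d * (x * u) * d⁻¹ * x := by group
        rwa [e]
      · have h4 := H.hJ.cen _ (mul_mem hdJ H.hJ.sL) h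
        rw [mul_eq_one_iff_eq_inv.mp h4, inv_eq_of_mul_eq_one_left H.hJ.ss]
      · exfalso
        apply H.hJ.xLK ((x⁻¹ * (d * (x * u) * d⁻¹) * x⁻¹⁻¹) * a)
          (mul_mem (L_conj (inv_mem H.hJ.xN) hdJ) H.hJ.sL)
        have e : x * ((x⁻¹ * (d * (x * u) * d⁻¹) * x⁻¹⁻¹) * a) = d * (x * u) * d⁻¹ * x * a := by group
        rwa [e]
    obtain ⟨n, hn, hnx⟩ := hxa
    -- `d u d⁻¹ = x a`
    have h4 : d * u * d⁻¹ = n * x * n⁻¹ := by
      have hdx' : d * x * d⁻¹ = x := cj_eq_of_comm hdx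
      have h5 : x * (d * u * d⁻¹) = a := by
        rw [← h3, cj_mul, hdx']
      rw [hnx]
      calc d * u * d⁻¹ = (x * x) * (d * u * d⁻¹) := by rw [hxx, one_mul]
        _ = x * (x * (d * u * d⁻¹)) := by group
        _ = x * a := by rw [h5]
    have h5 : (n⁻¹ * d) * u * (n⁻¹ * d)⁻¹ = x := by
      calc (n⁻¹ * d) * u * (n⁻¹ * d)⁻¹ = n⁻¹ * (d * u * d⁻¹) * n := by group
        _ = x := by rw [h4]; group
    have h6 := cj_comm (g := n⁻¹ * d) hbu
    rw [h5] at h6
    have h7 := Cx _ h6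
    have hndM : n⁻¹ * d ∈ normalizer (L : Set G) := mul_mem (inv_mem hn) (H.JM hd)
    have h8 : b = (n⁻¹ * d)⁻¹ * (n⁻¹ * d * b * (n⁻¹ * d)⁻¹) * (n⁻¹ * d) := by group
    rw [h8]
    exact mul_mem (mul_mem (inv_mem hndM) h7) hndM

/-- **the end of PART 1** -/
theorem false_of [Finite G] (hmin : ∀ N : Subgroup G, N.Normal → N ≤ X → N ≠ ⊥ → X ≤ N)
    (hcov : ∀ g, g ∈ X ∨ g * x ∈ X) (hcz : core (centralizer ({a * s} : Set G)) = ⊥)
    (Cx : ∀ c, c * x = x * c → c ∈ normalizer (L : Set G))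
    (hxa : ∃ n ∈ normalizer (L : Set G), n * x * n⁻¹ = x * a) : False := by
  have hXJ : X ≤ J := by
    refine (hmin (normalClosure {a}) inferInstance ?_ ?_).trans ?_
    · have := H.XN
      exact normalClosure_le_normal (Set.singleton_subset_iff.mpr H.aX)
    · intro h
      have h1 : a ∈ normalClosure {a} := subset_normalClosure (Set.mem_singleton a)
      rw [h, mem_bot] at h1
      exact H.hJ.s1 h1
    · rw [normalClosure, closure_le]
      intro y hy
      obtain ⟨b, hb, hby⟩ := Group.mem_conjugatesOfSet_iff.mp hy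
      rw [Set.mem_singleton_iff] at hb
      rw [hb] at hby
      obtain ⟨c, hc⟩ := isConj_iff.mp hby
      rw [← hc]
      exact H.delta c (H.link hcov hcz Cx hxa c)
  exact H.hL.s1 (H.disj H.hL.sL (hXJ H.sX))

end Block

end Cfsg.Agent.UGT.FourB
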