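import Cfsg.Agent.UGT.FourB.Ctl

/-!
# `T < S`, `[P, P^g] = 1`: the 2-fusion

`T = C_S(a)`, `g ∈ S` interchanges `a` and `s`, `P = T ∩ L`, `J = P^g ≤ Q = C_T(L / O(L))`: then `a^G ∩ S ⊆ P ∪ J`,
`S = T⟨g⟩`, and `T` is strongly closed in `S`.
-/

set_option autoImplicit false

namespace Cfsg.Agent.UGT.FourB.Nine

open Subgroup Cfsg.Agent.UGT.FourB.Ctl

universe u

variable {G : Type u} [Group G]

/-- the conjugate `g K g⁻¹` -/
def cj (g : G) (K : Subgroup G) : Subgroup G := K.map (MulAut.conj g).toMonoidHom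

theorem mem_cj {g : G} {K : Subgroup G} {y : G} : y ∈ cj g K ↔ g⁻¹ * y * g ∈ K := by
  rw [cj, mem_map]
  constructor
  · rintro ⟨k, hk, rfl⟩
    change g⁻¹ * (g * k * g⁻¹) * g ∈ K
    have e : g⁻¹ * (g * k * g⁻¹) * g = k := by group
    rwa [e]
  · intro h
    refine ⟨_, h, ?_⟩
    change g * (g⁻¹ * y * g) * g⁻¹ = y
    group

theorem cj_mem {g : G} {K : Subgroup G} {y : G} (hy : y ∈ K) : g * y * g⁻¹ ∈ cj g K := by
  rw [mem_cj]
  have e : g⁻¹ * (g * y * g⁻¹) * g = y := by group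
  rwa [e]

theorem exists_of_cj {g : G} {K : Subgroup G} {y : G} (hy : y ∈ cj g K) : ∃ k ∈ K, y = g * k * g⁻¹ :=
  ⟨_, mem_cj.1 hy, by group⟩

/-- The data: `T = C_S(a)`, `L = Lf`, `P = T ∩ L`, `Q` the kernel of `T` on `L`. -/
structure A1 (S T Q P Lf : Subgroup G) (a s x g : G) : Prop where
  Tdef : ∀ t, t ∈ T ↔ t ∈ S ∧ t * a = a * t
  Tsyl : ∀ U : Subgroup G, IsPGroup 2 U → (∀ u ∈ U, u * a = a * u) → ∃ c, c * a = a * c ∧ ∀ u ∈ U, c * u * c⁻¹ ∈ T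
  Ts : ∀ t ∈ T, t * s = s * t
  gS : g ∈ S
  ga : g * a * g⁻¹ = s
  gs : g * s * g⁻¹ = a
  aa : a * a = 1
  a1 : a ≠ 1
  LC : ∀ l ∈ Lf, l * a = a * l
  LN : ∀ c, c * a = a * c → ∀ l ∈ Lf, c * l * c⁻¹ ∈ Lf
  Pdef : ∀ p, p ∈ P ↔ p ∈ T ∧ p ∈ Lf
  QT : Q ≤ T
  Qn : ∀ t ∈ T, ∀ q ∈ Q, t * q * t⁻¹ ∈ Q
  QP : ∀ q ∈ Q, ∀ p ∈ P, q * p = p * q
  disj : ∀ q ∈ Q, q ∈ P → q = 1
  sP : s ∈ P
  JQ : ∀ p ∈ P, g * p * g⁻¹ ∈ Q
  QQ : ∀ q ∈ Q, g * q * g⁻¹ ∈ Q → q = 1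
  der : ∀ t ∈ T, ∀ u ∈ T, ∃ q ∈ Q, ∃ p ∈ P, t * u * t⁻¹ * u⁻¹ = q * p
  sPP : s ∈ ⁅P, P⁆
  kL : ∀ q ∈ Q, ∀ i ∈ Lf, ∀ i' ∈ Lf, i * i = 1 → i ≠ 1 → i' * i' = 1 → i' ≠ 1 → i * q = q * i → i' * q = q * i' →
    ∃ l ∈ Lf, l * q = q * l ∧ l * i * l⁻¹ = i'
  k2 : ∀ y ∈ P, y * y = 1 → y ≠ 1 → ∃ l ∈ Lf, l * y * l⁻¹ = s ∧ l * s * l⁻¹ ∈ P
  four : ∃ v ∈ P, v * v = 1 ∧ v ≠ 1 ∧ v ≠ s
  cen : ∀ y ∈ P, y * y = 1 → (∀ w ∈ P, w * w = 1 → y * w = w * y) → y = 1 ∨ y = s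
  xT : x ∈ T
  xx : x * x = 1
  xQP : ∀ q ∈ Q, ∀ p ∈ P, x ≠ q * p
  pgl : ∀ p ∈ P, p * x * (p * x) = 1 → ∃ r ∈ P, r * (p * x) * r⁻¹ = x
  xg : ∃ q ∈ Q, ∃ p ∈ P, g⁻¹ * x * g = q * p * x
  star : ∀ q ∈ Q, q * q = 1 → q * x = x * q → q = 1 ∨ q = a
  starJ : ∀ q ∈ Q, q * q = 1 → (g * q * g⁻¹) * x = x * (g * q * g⁻¹) → q = 1 ∨ q = a
  tyL : ∀ b ∈ T, b * b = 1 → (∃ q ∈ Q, ∃ p ∈ P, b = q * p) ∨ (∃ q ∈ Q, ∃ p ∈ P, b = q * p * x) ∨
    ∃ c, c * a = a * c ∧ c * b * c⁻¹ ∈ T ∧ (∀ p ∈ P, c * b * c⁻¹ * p = p * (c * b * c⁻¹)) ∧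
      ∀ q ∈ Q, ∀ p ∈ P, c * b * c⁻¹ ≠ q * p
  nax : ∀ h : G, h * x * h⁻¹ ≠ a

theorem comm_conj {g u v : G} (h : u * v = v * u) : (g * u * g⁻¹) * (g * v * g⁻¹) = (g * v * g⁻¹) * (g * u * g⁻¹) := by
  calc (g * u * g⁻¹) * (g * v * g⁻¹) = g * (u * v) * g⁻¹ := by group
    _ = g * (v * u) * g⁻¹ := by rw [h]
    _ = _ := by group

theorem comm_conj_iff {g u v : G} : (g * u * g⁻¹) * (g * v * g⁻¹) = (g * v * g⁻¹) * (g * u * g⁻¹) ↔ u * v = v * u := by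
  refine ⟨fun h => ?_, comm_conj⟩
  have h1 := comm_conj (g := g⁻¹) h
  have e : ∀ w : G, g⁻¹ * (g * w * g⁻¹) * g⁻¹⁻¹ = w := fun w => by group
  rwa [e, e] at h1

theorem sq_mul {p j : G} (h : p * j = j * p) : p * p * (j * j) = p * j * (p * j) := by
  calc p * p * (j * j) = p * (p * j) * j := by group
    _ = p * (j * p) * j := by rw [h]
    _ = p * j * (p * j) := by group

theorem sq_conj {g u : G} (h : u * u = 1) : (g * u * g⁻¹) * (g * u * g⁻¹) = 1 := by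
  calc (g * u * g⁻¹) * (g * u * g⁻¹) = g * (u * u) * g⁻¹ := by group
    _ = 1 := by rw [h]; group

theorem ne_conj {g u : G} (h : u ≠ 1) : g * u * g⁻¹ ≠ 1 := fun h1 => h (by
  calc u = g⁻¹ * (g * u * g⁻¹) * g := by group
    _ = 1 := by rw [h1]; group)

namespace A1

variable {S T Q P Lf : Subgroup G} {a s x g : G}

section basic

variable (H : A1 S T Q P Lf a s x g)
include H

theorem TS {t : G} (ht : t ∈ T) : t ∈ S := ((H.Tdef t).1 ht).1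

theorem Ta {t : G} (ht : t ∈ T) : t * a = a * t := ((H.Tdef t).1 ht).2

theorem ss : s * s = 1 := by
  rw [← H.ga]; exact sq_conj H.aa

theorem s1 : s ≠ 1 := by
  rw [← H.ga]; exact ne_conj H.a1

theorem PT {p : G} (hp : p ∈ P) : p ∈ T := ((H.Pdef p).1 hp).1

theorem PL {p : G} (hp : p ∈ P) : p ∈ Lf := ((H.Pdef p).1 hp).2

theorem sT : s ∈ T := H.PT H.sP

theorem as_comm : a * s = s * a := (H.Ta H.sT).symm

theorem ga' : g⁻¹ * s * g = a := by rw [← H.ga]; group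

theorem gs' : g⁻¹ * a * g = s := by rw [← H.gs]; group

theorem gT {t : G} (ht : t ∈ T) : g * t * g⁻¹ ∈ T := by
  rw [H.Tdef]
  refine ⟨mul_mem (mul_mem H.gS (H.TS ht)) (inv_mem H.gS), ?_⟩
  have := comm_conj (g := g) (H.Ts t ht)
  rwa [H.gs] at this

theorem gT' {t : G} (ht : t ∈ T) : g⁻¹ * t * g ∈ T := by
  rw [H.Tdef]
  refine ⟨mul_mem (mul_mem (inv_mem H.gS) (H.TS ht)) H.gS, ?_⟩
  have := comm_conj (g := g⁻¹) (H.Ts t ht)
  rwa [inv_inv, H.ga'] at this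

theorem gg : g * g ∈ T := by
  rw [H.Tdef]
  refine ⟨mul_mem H.gS H.gS, ?_⟩
  calc g * g * a = g * (g * a * g⁻¹) * g⁻¹ * (g * g) := by group
    _ = a * (g * g) := by rw [H.ga, H.gs]

theorem Pn {t p : G} (ht : t ∈ T) (hp : p ∈ P) : t * p * t⁻¹ ∈ P :=
  (H.Pdef _).2 ⟨mul_mem (mul_mem ht (H.PT hp)) (inv_mem ht), H.LN t (H.Ta ht) p (H.PL hp)⟩

theorem qp_inj {q q' p p' : G} (hq : q ∈ Q) (hq' : q' ∈ Q) (hp : p ∈ P) (hp' : p' ∈ P) (h : q * p = q' * p') :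
    q = q' ∧ p = p' := by
  have h1 : q'⁻¹ * q = p' * p⁻¹ := by
    calc q'⁻¹ * q = q'⁻¹ * (q * p) * p⁻¹ := by group
      _ = p' * p⁻¹ := by rw [h]; group
  have h2 : q'⁻¹ * q = 1 := H.disj _ (mul_mem (inv_mem hq') hq) (h1 ▸ mul_mem hp' (inv_mem hp))
  have h3 : q = q' := (inv_mul_eq_one.1 h2).symm
  refine ⟨h3, ?_⟩
  rw [h3] at h
  exact mul_left_cancel h

theorem pqx {q p : G} (hq : q ∈ Q) (hp : p ∈ P) (h : q * p * x * (q * p * x) = 1) :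
    ∃ r ∈ P, r * (q * p * x) * r⁻¹ = q * x := by
  have hxi : x⁻¹ = x := inv_eq_of_mul_eq_one_left H.xx
  have hpT := H.PT hp
  have hq' : (p * x) * q * (p * x)⁻¹ ∈ Q := H.Qn _ (mul_mem hpT H.xT) q hq
  have hp' : p * x * (p * x) ∈ P := by
    have h1 := H.Pn H.xT hp
    rw [hxi] at h1
    have e : p * x * (p * x) = p * (x * p * x) := by group
    rw [e]
    exact mul_mem hp h1
  have h1 : (q * ((p * x) * q * (p * x)⁻¹)) * (p * x * (p * x)) = 1 * 1 := by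
    calc (q * ((p * x) * q * (p * x)⁻¹)) * (p * x * (p * x)) = q * p * x * (q * p * x) := by group
      _ = 1 * 1 := by rw [h, mul_one]
  have h2 := (H.qp_inj (mul_mem hq hq') (one_mem Q) hp' (one_mem P) h1).2
  obtain ⟨r, hr, hr2⟩ := H.pgl p hp h2
  refine ⟨r, hr, ?_⟩
  have h3 := H.QP q hq r hr
  calc r * (q * p * x) * r⁻¹ = (r * q) * (p * x) * r⁻¹ := by group
    _ = (q * r) * (p * x) * r⁻¹ := by rw [h3]
    _ = q * (r * (p * x) * r⁻¹) := by group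
    _ = q * x := by rw [hr2]

theorem symm : A1 S T (cj g Q) (cj g P) (cj g Lf) s a x g⁻¹ where
  Tdef t := by
    constructor
    · exact fun ht => ⟨H.TS ht, H.Ts t ht⟩
    · rintro ⟨h1, h2⟩
      have h3 : g * t * g⁻¹ ∈ T := by
        rw [H.Tdef]
        refine ⟨mul_mem (mul_mem H.gS h1) (inv_mem H.gS), ?_⟩
        have := comm_conj (g := g) h2
        rwa [H.gs] at this
      have h4 := H.gT' h3
      have e : g⁻¹ * (g * t * g⁻¹) * g = t := by group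
      rwa [e] at h4
  Tsyl U hU hc := by
    obtain ⟨c, hca, hcT⟩ := H.Tsyl (U.map (MulAut.conj g⁻¹).toMonoidHom) (hU.map _) (by
      rintro _ ⟨u, hu, rfl⟩
      have h1 := comm_conj (g := g⁻¹) (hc u hu)
      rw [inv_inv, H.ga'] at h1
      have e : (MulAut.conj g⁻¹).toMonoidHom u = g⁻¹ * u * g := by
        change g⁻¹ * u * g⁻¹⁻¹ = _
        rw [inv_inv]
      rw [e]
      exact h1)
    refine ⟨g * c * g⁻¹, ?_, fun u hu => ?_⟩
    · have := comm_conj (g := g) hca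
      rwa [H.ga] at this
    · have h1 := H.gT (hcT _ ⟨u, hu, rfl⟩)
      have e : g * (c * ((MulAut.conj g⁻¹).toMonoidHom u) * c⁻¹) * g⁻¹ = g * c * g⁻¹ * u * (g * c * g⁻¹)⁻¹ := by
        change g * (c * (g⁻¹ * u * g⁻¹⁻¹) * c⁻¹) * g⁻¹ = _
        group
      rwa [e] at h1
  Ts t ht := H.Ta ht
  gS := inv_mem H.gS
  ga := by rw [inv_inv]; exact H.ga'
  gs := by rw [inv_inv]; exact H.gs'
  aa := H.ss
  a1 := H.s1
  LC l hl := by
    obtain ⟨k, hk, rfl⟩ := exists_of_cj hl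
    have := comm_conj (g := g) (H.LC k hk)
    rwa [H.ga] at this
  LN c hc l hl := by
    rw [mem_cj] at hl ⊢
    have h1 : g⁻¹ * c * g * a = a * (g⁻¹ * c * g) := by
      have := comm_conj (g := g⁻¹) hc
      rwa [inv_inv, H.ga'] at this
    have h2 := H.LN _ h1 _ hl
    have e : g⁻¹ * c * g * (g⁻¹ * l * g) * (g⁻¹ * c * g)⁻¹ = g⁻¹ * (c * l * c⁻¹) * g := by group
    rwa [e] at h2
  Pdef p := by
    rw [mem_cj, mem_cj, H.Pdef]
    refine ⟨fun h => ⟨?_, h.2⟩, fun h => ⟨H.gT' h.1, h.2⟩⟩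
    have h1 := H.gT h.1
    have e : g * (g⁻¹ * p * g) * g⁻¹ = p := by group
    rwa [e] at h1
  QT := by
    intro q hq
    obtain ⟨k, hk, rfl⟩ := exists_of_cj hq
    exact H.gT (H.QT hk)
  Qn t ht q hq := by
    rw [mem_cj] at hq ⊢
    have h1 := H.Qn _ (H.gT' ht) _ hq
    have e : g⁻¹ * t * g * (g⁻¹ * q * g) * (g⁻¹ * t * g)⁻¹ = g⁻¹ * (t * q * t⁻¹) * g := by group
    rwa [e] at h1
  QP q hq p hp := by
    obtain ⟨k, hk, rfl⟩ := exists_of_cj hq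
    obtain ⟨r, hr, rfl⟩ := exists_of_cj hp
    exact comm_conj (H.QP k hk r hr)
  disj q hq hp := by
    obtain ⟨k, hk, rfl⟩ := exists_of_cj hq
    rw [mem_cj] at hp
    have e : g⁻¹ * (g * k * g⁻¹) * g = k := by group
    rw [e] at hp
    rw [H.disj k hk hp]; group
  sP := by rw [mem_cj, H.gs']; exact H.sP
  JQ p hp := by
    obtain ⟨k, hk, rfl⟩ := exists_of_cj hp
    rw [mem_cj]
    have h1 := H.JQ _ (H.Pn (inv_mem H.gg) hk)
    have e : g * ((g * g)⁻¹ * k * (g * g)⁻¹⁻¹) * g⁻¹ = g⁻¹ * (g⁻¹ * (g * k * g⁻¹) * g⁻¹⁻¹) * g := by group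
    rwa [e] at h1
  QQ q hq hq2 := by
    obtain ⟨k, hk, rfl⟩ := exists_of_cj hq
    rw [mem_cj] at hq2
    have e : g⁻¹ * (g⁻¹ * (g * k * g⁻¹) * g⁻¹⁻¹) * g = g⁻¹ * k * g := by group
    rw [e] at hq2
    have e2 : g * (g⁻¹ * k * g) * g⁻¹ = k := by group
    have h1 := H.QQ _ hq2 (by rw [e2]; exact hk)
    have h2 : k = 1 := by rw [← e2, h1]; group
    rw [h2]; group
  der t ht u hu := by
    obtain ⟨q, hq, p, hp, h1⟩ := H.der _ (H.gT' ht) _ (H.gT' hu)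
    refine ⟨_, cj_mem hq, _, cj_mem hp, ?_⟩
    calc t * u * t⁻¹ * u⁻¹ = g * (g⁻¹ * t * g * (g⁻¹ * u * g) * (g⁻¹ * t * g)⁻¹ * (g⁻¹ * u * g)⁻¹) * g⁻¹ := by group
      _ = g * (q * p) * g⁻¹ := by rw [h1]
      _ = _ := by group
  sPP := by
    have h1 : (⁅P, P⁆ : Subgroup G).map (MulAut.conj g).toMonoidHom = ⁅cj g P, cj g P⁆ := by
      rw [map_commutator]; rfl
    rw [← h1]
    exact ⟨s, H.sPP, H.gs⟩
  kL q hq i hi i' hi' h1 h2 h3 h4 h5 h6 := by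
    obtain ⟨q, h₀, rfl⟩ := exists_of_cj hq
    replace hq := h₀
    obtain ⟨i, h₀, rfl⟩ := exists_of_cj hi
    replace hi := h₀
    obtain ⟨i', h₀, rfl⟩ := exists_of_cj hi'
    replace hi' := h₀
    have e : ∀ w : G, g⁻¹ * (g * w * g⁻¹) * g⁻¹⁻¹ = w := fun w => by group
    have k1 := sq_conj (g := g⁻¹) h1
    have k2 := ne_conj (g := g⁻¹) h2
    have k3 := sq_conj (g := g⁻¹) h3
    have k4 := ne_conj (g := g⁻¹) h4
    rw [e] at k1 k2 k3 k4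
    obtain ⟨l, hl, hlq, hli⟩ := H.kL q hq i hi i' hi' k1 k2 k3 k4 (comm_conj_iff.1 h5) (comm_conj_iff.1 h6)
    refine ⟨_, cj_mem hl, comm_conj hlq, ?_⟩
    rw [← hli]; group
  k2 y hy h1 h2 := by
    obtain ⟨y, h₀, rfl⟩ := exists_of_cj hy
    replace hy := h₀
    have e : ∀ w : G, g⁻¹ * (g * w * g⁻¹) * g⁻¹⁻¹ = w := fun w => by group
    have k1 := sq_conj (g := g⁻¹) h1
    have k2 := ne_conj (g := g⁻¹) h2
    rw [e] at k1 k2
    obtain ⟨l, hl, hly, hls⟩ := H.k2 y hy k1 k2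
    refine ⟨_, cj_mem hl, ?_, ?_⟩
    · calc g * l * g⁻¹ * (g * y * g⁻¹) * (g * l * g⁻¹)⁻¹ = g * (l * y * l⁻¹) * g⁻¹ := by group
        _ = a := by rw [hly, H.gs]
    · rw [mem_cj]
      have e2 : g⁻¹ * (g * l * g⁻¹ * a * (g * l * g⁻¹)⁻¹) * g = l * (g⁻¹ * a * g) * l⁻¹ := by group
      rw [e2, H.gs']
      exact hls
  four := by
    obtain ⟨v, hv, h1, h2, h3⟩ := H.four
    refine ⟨_, cj_mem hv, sq_conj h1, ne_conj h2, fun h => h3 ?_⟩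
    have h4 : v = g⁻¹ * (g * v * g⁻¹) * g := by group
    rw [h4, h, H.gs']
  cen y hy h1 h2 := by
    obtain ⟨y, h₀, rfl⟩ := exists_of_cj hy
    replace hy := h₀
    have e : ∀ w : G, g⁻¹ * (g * w * g⁻¹) * g⁻¹⁻¹ = w := fun w => by group
    have k1 := sq_conj (g := g⁻¹) h1
    rw [e] at k1
    rcases H.cen y hy k1 (fun w hw hww => comm_conj_iff.1 (h2 _ (cj_mem hw) (sq_conj hww))) with h3 | h3
    · left; rw [h3]; group
    · right; rw [h3, H.gs]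
  xT := H.xT
  xx := H.xx
  xQP q hq p hp hx := by
    obtain ⟨q, h₀, rfl⟩ := exists_of_cj hq
    replace hq := h₀
    obtain ⟨p, h₀, rfl⟩ := exists_of_cj hp
    replace hp := h₀
    obtain ⟨q1, hq1, p1, hp1, h1⟩ := H.xg
    have h2 : q * p = q1 * p1 * x := by
      rw [← h1, hx]; group
    apply H.xQP (q1⁻¹ * q) (mul_mem (inv_mem hq1) hq) (p1⁻¹ * p) (mul_mem (inv_mem hp1) hp)
    have h3 := H.QP (q1⁻¹ * q) (mul_mem (inv_mem hq1) hq) p1⁻¹ (inv_mem hp1)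
    calc x = p1⁻¹ * q1⁻¹ * (q1 * p1 * x) := by group
      _ = p1⁻¹ * (q1⁻¹ * q) * p := by rw [← h2]; group
      _ = q1⁻¹ * q * p1⁻¹ * p := by rw [h3]
      _ = q1⁻¹ * q * (p1⁻¹ * p) := by group
  pgl p hp hpx := by
    obtain ⟨p, h₀, rfl⟩ := exists_of_cj hp
    replace hp := h₀
    obtain ⟨q1, hq1, p1, hp1, h1⟩ := H.xg
    have e1 : g⁻¹ * (g * p * g⁻¹ * x) * g = q1 * (p * p1) * x := by
      calc g⁻¹ * (g * p * g⁻¹ * x) * g = p * (g⁻¹ * x * g) := by group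
        _ = p * q1 * (p1 * x) := by rw [h1]; group
        _ = q1 * p * (p1 * x) := by rw [H.QP q1 hq1 p hp]
        _ = _ := by group
    have h2 : q1 * (p * p1) * x * (q1 * (p * p1) * x) = 1 := by
      rw [← e1]
      calc g⁻¹ * (g * p * g⁻¹ * x) * g * (g⁻¹ * (g * p * g⁻¹ * x) * g) = g⁻¹ * (g * p * g⁻¹ * x * (g * p * g⁻¹ * x)) * g := by
            group
        _ = 1 := by rw [hpx]; group
    obtain ⟨r, hr, hr2⟩ := H.pqx hq1 (mul_mem hp hp1) h2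
    have h3 : q1 * p1 * x * (q1 * p1 * x) = 1 := by
      rw [← h1]
      calc g⁻¹ * x * g * (g⁻¹ * x * g) = g⁻¹ * (x * x) * g := by group
        _ = 1 := by rw [H.xx]; group
    obtain ⟨r1, hr1, hr3⟩ := H.pqx hq1 hp1 h3
    refine ⟨g * (r1⁻¹ * r) * g⁻¹, cj_mem (mul_mem (inv_mem hr1) hr), ?_⟩
    calc g * (r1⁻¹ * r) * g⁻¹ * (g * p * g⁻¹ * x) * (g * (r1⁻¹ * r) * g⁻¹)⁻¹
        = g * (r1⁻¹ * (r * (g⁻¹ * (g * p * g⁻¹ * x) * g) * r⁻¹) * r1) * g⁻¹ := by group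
      _ = g * (r1⁻¹ * (r1 * (q1 * p1 * x) * r1⁻¹) * r1) * g⁻¹ := by rw [e1, hr2, hr3]
      _ = g * (g⁻¹ * x * g) * g⁻¹ := by rw [h1]; group
      _ = x := by group
  xg := by
    obtain ⟨q1, hq1, p1, hp1, h1⟩ := H.xg
    refine ⟨_, cj_mem (inv_mem hq1), _, cj_mem (inv_mem hp1), ?_⟩
    have h2 := H.QP q1⁻¹ (inv_mem hq1) p1⁻¹ (inv_mem hp1)
    calc g⁻¹⁻¹ * x * g⁻¹ = g * ((p1⁻¹ * q1⁻¹) * (q1 * p1 * x)) * g⁻¹ := by group
      _ = g * ((q1⁻¹ * p1⁻¹) * (g⁻¹ * x * g)) * g⁻¹ := by rw [h1, h2]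
      _ = _ := by group
  star q hq h1 h2 := by
    obtain ⟨q, h₀, rfl⟩ := exists_of_cj hq
    replace hq := h₀
    have e : ∀ w : G, g⁻¹ * (g * w * g⁻¹) * g⁻¹⁻¹ = w := fun w => by group
    have k1 := sq_conj (g := g⁻¹) h1
    rw [e] at k1
    rcases H.starJ q hq k1 h2 with h3 | h3
    · left; rw [h3]; group
    · right; rw [h3, H.ga]
  starJ q hq h1 h2 := by
    obtain ⟨q, h₀, rfl⟩ := exists_of_cj hq
    replace hq := h₀
    have e : ∀ w : G, g⁻¹ * (g * w * g⁻¹) * g⁻¹⁻¹ = w := fun w => by group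
    have k1 := sq_conj (g := g⁻¹) h1
    rw [e] at k1 h2
    rcases H.star q hq k1 h2 with h3 | h3
    · left; rw [h3]; group
    · right; rw [h3, H.ga]
  tyL b hb hbb := by
    obtain ⟨q1, hq1, p1, hp1, h1⟩ := H.xg
    have hb' := H.gT' hb
    have hbb' : g⁻¹ * b * g * (g⁻¹ * b * g) = 1 := by
      calc g⁻¹ * b * g * (g⁻¹ * b * g) = g⁻¹ * (b * b) * g := by group
        _ = 1 := by rw [hbb]; group
    have hbe : b = g * (g⁻¹ * b * g) * g⁻¹ := by group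
    rcases H.tyL _ hb' hbb' with ⟨q, hq, p, hp, h2⟩ | ⟨q, hq, p, hp, h2⟩ | ⟨c, hc, h2, h3, h4⟩
    · left
      refine ⟨_, cj_mem hq, _, cj_mem hp, ?_⟩
      rw [hbe, h2]; group
    · right; left
      refine ⟨g * (q * q1⁻¹) * g⁻¹, cj_mem (mul_mem hq (inv_mem hq1)), g * (p * p1⁻¹) * g⁻¹,
        cj_mem (mul_mem hp (inv_mem hp1)), ?_⟩
      have h5 := H.QP q1⁻¹ (inv_mem hq1) (p * p1⁻¹) (mul_mem hp (inv_mem hp1))
      have h6 : x = p1⁻¹ * q1⁻¹ * (g⁻¹ * x * g) := by rw [h1]; group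
      calc b = g * (q * p * x) * g⁻¹ := by rw [← h2]; group
        _ = g * (q * p * (p1⁻¹ * q1⁻¹ * (g⁻¹ * x * g))) * g⁻¹ := by rw [← h6]
        _ = g * (q * ((p * p1⁻¹) * q1⁻¹)) * g⁻¹ * x := by group
        _ = g * (q * (q1⁻¹ * (p * p1⁻¹))) * g⁻¹ * x := by rw [h5]
        _ = _ := by group
    · right; right
      refine ⟨g * c * g⁻¹, ?_, ?_, fun p hp => ?_, fun q hq p hp h5 => ?_⟩
      · have := comm_conj (g := g) hc
        rwa [H.ga] at this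
      · have h5 := H.gT h2
        have e : g * (c * (g⁻¹ * b * g) * c⁻¹) * g⁻¹ = g * c * g⁻¹ * b * (g * c * g⁻¹)⁻¹ := by group
        rwa [e] at h5
      · obtain ⟨p, h₀, rfl⟩ := exists_of_cj hp
        replace hp := h₀
        have h5 := comm_conj (g := g) (h3 p hp)
        have e : g * (c * (g⁻¹ * b * g) * c⁻¹) * g⁻¹ = g * c * g⁻¹ * b * (g * c * g⁻¹)⁻¹ := by group
        rwa [e] at h5
      · obtain ⟨q, h₀, rfl⟩ := exists_of_cj hq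
        replace hq := h₀
        obtain ⟨p, h₀, rfl⟩ := exists_of_cj hp
        replace hp := h₀
        apply h4 q hq p hp
        calc c * (g⁻¹ * b * g) * c⁻¹ = g⁻¹ * (g * c * g⁻¹ * b * (g * c * g⁻¹)⁻¹) * g := by group
          _ = q * p := by rw [h5]; group
  nax h hx := by
    apply H.nax (g⁻¹ * h)
    calc g⁻¹ * h * x * (g⁻¹ * h)⁻¹ = g⁻¹ * (h * x * h⁻¹) * g := by group
      _ = a := by rw [hx, H.ga']

end basic


section main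

variable (H : A1 S T Q P Lf a s x g)
include H

theorem JleQ {j : G} (hj : j ∈ cj g P) : j ∈ Q := by
  obtain ⟨p, hp, rfl⟩ := exists_of_cj hj
  exact H.JQ p hp

theorem PleQ {p : G} (hp : p ∈ P) : p ∈ cj g Q := by
  have h1 := H.symm.JQ _ (cj_mem hp)
  have e : g⁻¹ * (g * p * g⁻¹) * g⁻¹⁻¹ = p := by group
  rwa [e] at h1

theorem aJ : a ∈ cj g P := H.symm.sP

theorem aQ : a ∈ Q := H.JleQ H.aJ

theorem comPJ {p j : G} (hp : p ∈ P) (hj : j ∈ cj g P) : p * j = j * p := (H.QP j (H.JleQ hj) p hp).symm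

theorem PJ1 {p : G} (hp : p ∈ P) (hj : p ∈ cj g P) : p = 1 := H.disj p (H.JleQ hj) hp

theorem JT {j : G} (hj : j ∈ cj g P) : j ∈ T := H.QT (H.JleQ hj)

/-- pairs of involutions of `P × J` are conjugate -/
theorem pair {p q : G} (hp : p ∈ P) (hpp : p * p = 1) (hp1 : p ≠ 1) (hq : q ∈ cj g P) (hqq : q * q = 1)
    (hq1 : q ≠ 1) : ∃ h, h * p * h⁻¹ = s ∧ h * q * h⁻¹ = a := by
  obtain ⟨l, hl, hlq, hlp⟩ := H.kL q (H.JleQ hq) p (H.PL hp) s (H.PL H.sP) hpp hp1 H.ss H.s1 (H.comPJ hp hq)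
    (H.comPJ H.sP hq)
  obtain ⟨j, hj, hjs, hjq⟩ := H.symm.kL s (H.PleQ H.sP) q (H.symm.PL hq) a (H.symm.PL H.aJ) hqq hq1 H.aa H.a1
    (H.comPJ H.sP hq).symm H.as_comm
  refine ⟨j * l, ?_, ?_⟩
  · calc j * l * p * (j * l)⁻¹ = j * (l * p * l⁻¹) * j⁻¹ := by group
      _ = j * s * j⁻¹ := by rw [hlp]
      _ = s := by rw [hjs]; group
  · calc j * l * q * (j * l)⁻¹ = j * (l * q) * l⁻¹ * j⁻¹ := by group
      _ = j * q * j⁻¹ := by rw [hlq]; group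
      _ = a := hjq

theorem pair_z {p q : G} (hp : p ∈ P) (hpp : p * p = 1) (hp1 : p ≠ 1) (hq : q ∈ cj g P) (hqq : q * q = 1)
    (hq1 : q ≠ 1) : ∃ h, h * (p * q) * h⁻¹ = a * s := by
  obtain ⟨h, h1, h2⟩ := H.pair hp hpp hp1 hq hqq hq1
  refine ⟨h, ?_⟩
  calc h * (p * q) * h⁻¹ = (h * p * h⁻¹) * (h * q * h⁻¹) := by group
    _ = a * s := by rw [h1, h2, H.as_comm]

/-- the involutions of `P` are conjugate to `a` -/
theorem inv_P {p : G} (hp : p ∈ P) (hpp : p * p = 1) (hp1 : p ≠ 1) : ∃ h, h * a * h⁻¹ = p := by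
  obtain ⟨l, hl, hlq, hlp⟩ := H.kL a H.aQ p (H.PL hp) s (H.PL H.sP) hpp hp1 H.ss H.s1 (H.comPJ hp H.aJ)
    (H.comPJ H.sP H.aJ)
  refine ⟨l⁻¹ * g, ?_⟩
  calc l⁻¹ * g * a * (l⁻¹ * g)⁻¹ = l⁻¹ * (g * a * g⁻¹) * l := by group
    _ = p := by rw [H.ga, ← hlp]; group

theorem inv_J {p : G} (hp : p ∈ cj g P) (hpp : p * p = 1) (hp1 : p ≠ 1) : ∃ h, h * a * h⁻¹ = p := by
  obtain ⟨h, h1⟩ := H.symm.inv_P hp hpp hp1
  refine ⟨h * g, ?_⟩
  calc h * g * a * (h * g)⁻¹ = h * (g * a * g⁻¹) * h⁻¹ := by group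
    _ = p := by rw [H.ga, h1]

variable [Finite G]

/-- `as` is not conjugate to `a` -/
theorem nz (hS : IsPGroup 2 S) (h : G) : h * a * h⁻¹ ≠ a * s := by
  intro hz
  have hne : a ≠ s := by
    intro h1
    exact H.s1 (H.PJ1 H.sP (h1 ▸ H.aJ))
  have hgT : g ∉ T := by
    intro h1
    apply hne
    rw [← H.ga, H.Ta h1]; group
  set U := T ⊔ zpowers g with hU
  have hUS : U ≤ S := sup_le (fun t ht => H.TS ht) (by rw [zpowers_le]; exact H.gS)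
  have hUz : U ≤ centralizer {a * s} := by
    refine sup_le (fun t ht => ?_) ?_
    · rw [mem_centralizer_singleton_iff]
      calc t * (a * s) = (t * a) * s := by group
        _ = a * (t * s) := by rw [H.Ta ht]; group
        _ = a * s * t := by rw [H.Ts t ht]; group
    · rw [zpowers_le, mem_centralizer_singleton_iff]
      calc g * (a * s) = (g * a * g⁻¹) * (g * s * g⁻¹) * g := by group
        _ = a * s * g := by rw [H.ga, H.gs, ← H.as_comm]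
  obtain ⟨c, hca, hcT⟩ := H.Tsyl (cj h⁻¹ U) ((hS.to_le hUS).map _) (by
    intro u hu
    obtain ⟨k, hk, rfl⟩ := exists_of_cj hu
    have h1 := comm_conj (g := h⁻¹) (mem_centralizer_singleton_iff.1 (hUz hk))
    rw [← hz] at h1
    have e : h⁻¹ * (h * a * h⁻¹) * h⁻¹⁻¹ = a := by group
    rwa [e] at h1)
  have hle : cj (c * h⁻¹) U ≤ T := by
    intro u hu
    obtain ⟨k, hk, rfl⟩ := exists_of_cj hu
    have := hcT _ (cj_mem hk)
    have e : c * (h⁻¹ * k * h⁻¹⁻¹) * c⁻¹ = c * h⁻¹ * k * (c * h⁻¹)⁻¹ := by group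
    rwa [e] at this
  have hcard : Nat.card (cj (c * h⁻¹) U) = Nat.card U :=
    Nat.card_congr (U.equivMapOfInjective _ (MulAut.conj (c * h⁻¹)).injective).toEquiv.symm
  have h1 : Nat.card U ≤ Nat.card T := by
    rw [← hcard]
    exact Nat.card_le_card_of_injective _ (inclusion_injective hle)
  have h2 : T = U := eq_of_le_of_card_ge le_sup_left h1
  apply hgT
  rw [h2]
  exact mem_sup_right (mem_zpowers g)

/-- **The derived trick.** -/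
theorem derived (hS : IsPGroup 2 S) {b h : G} (hb : b ∈ T) (hbh : h * a * h⁻¹ = b) (hc : ∀ p ∈ P, b * p = p * b) :
    b ∈ P ∨ b ∈ cj g P := by
  have hP2 : IsPGroup 2 P := hS.to_le fun p hp => H.TS (H.PT hp)
  obtain ⟨c, hca, hcT⟩ := H.Tsyl (cj h⁻¹ P) (hP2.map _) (by
    intro u hu
    obtain ⟨k, hk, rfl⟩ := exists_of_cj hu
    have h1 := comm_conj (g := h⁻¹) (hc k hk)
    rw [← hbh] at h1
    have e : h⁻¹ * (h * a * h⁻¹) * h⁻¹⁻¹ = a := by group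
    rw [e] at h1
    exact h1.symm)
  -- replace `h` by `h c⁻¹`
  obtain ⟨h, hbh, hPT⟩ : ∃ h, h * a * h⁻¹ = b ∧ ∀ p ∈ P, h⁻¹ * p * h ∈ T := by
    refine ⟨h * c⁻¹, ?_, fun p hp => ?_⟩
    · rw [← hbh]
      calc h * c⁻¹ * a * (h * c⁻¹)⁻¹ = h * c⁻¹ * (a * c) * h⁻¹ := by group
        _ = h * c⁻¹ * (c * a) * h⁻¹ := by rw [hca]
        _ = _ := by group
    · have h1 := hcT _ (cj_mem hp)
      have e : c * (h⁻¹ * p * h⁻¹⁻¹) * c⁻¹ = (h * c⁻¹)⁻¹ * p * (h * c⁻¹) := by group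
      rwa [e] at h1
  obtain ⟨s', hs'⟩ : ∃ s', s' = h⁻¹ * s * h := ⟨_, rfl⟩
  have hss' : h * s' * h⁻¹ = s := by rw [hs']; group
  -- `s' ∈ PJ`
  have hder : ∃ p ∈ P, ∃ j ∈ cj g P, s' = p * j := by
    have h1 : ∀ t ∈ T, ∀ u ∈ T, ∃ p ∈ P, ∃ j ∈ cj g P, t * u * t⁻¹ * u⁻¹ = p * j := by
      intro t ht u hu
      obtain ⟨q, hq, p, hp, h1⟩ := H.der t ht u hu
      obtain ⟨q', hq', j, hj, h2⟩ := H.symm.der t ht u hu
      have h3 : q * j⁻¹ = q' * p⁻¹ := by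
        have e1 : q * p = q' * j := by rw [← h1, h2]
        have e2 := H.comPJ (inv_mem hp) (inv_mem hj)
        calc q * j⁻¹ = (q * p) * (p⁻¹ * j⁻¹) := by group
          _ = (q' * j) * (j⁻¹ * p⁻¹) := by rw [e1, e2]
          _ = q' * p⁻¹ := by group
      have h4 : q * j⁻¹ ∈ Q := mul_mem hq (inv_mem (H.JleQ hj))
      have h5 : q * j⁻¹ ∈ cj g Q := h3 ▸ mul_mem hq' (inv_mem (H.PleQ hp))
      obtain ⟨k, hk, hk2⟩ := exists_of_cj h5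
      have h6 : k = 1 := H.QQ k hk (by rw [← hk2]; exact h4)
      have h7 : q = j := by
        rw [h6] at hk2
        rw [← mul_inv_eq_one]
        rw [hk2]; group
      refine ⟨p, hp, j, hj, ?_⟩
      rw [h1, h7, H.comPJ hp hj]
    let K : Subgroup G := 
      { carrier := {y | ∃ p ∈ P, ∃ j ∈ cj g P, y = p * j}
        one_mem' := ⟨1, one_mem _, 1, one_mem _, (mul_one 1).symm⟩
        mul_mem' := by
          rintro _ _ ⟨p, hp, j, hj, rfl⟩ ⟨p', hp', j', hj', rfl⟩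
          refine ⟨p * p', mul_mem hp hp', j * j', mul_mem hj hj', ?_⟩
          calc p * j * (p' * j') = p * (j * p') * j' := by group
            _ = p * p' * (j * j') := by rw [← H.comPJ hp' hj]; group
        inv_mem' := by
          rintro _ ⟨p, hp, j, hj, rfl⟩
          refine ⟨p⁻¹, inv_mem hp, j⁻¹, inv_mem hj, ?_⟩
          rw [H.comPJ hp hj]; group }
    have h2 : ⁅P, P⁆ ≤ cj h K := by
      rw [commutator_le]
      intro u hu v hv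
      rw [mem_cj]
      obtain ⟨p, hp, j, hj, h3⟩ := h1 _ (hPT u hu) _ (hPT v hv)
      refine ⟨p, hp, j, hj, ?_⟩
      rw [← h3, commutatorElement_def]
      group
    have h3 := mem_cj.1 (h2 H.sPP)
    rw [← hs'] at h3
    exact h3
  obtain ⟨p, hp, j, hj, hpj⟩ := hder
  have hsq : s' * s' = 1 := by
    rw [hs']
    calc h⁻¹ * s * h * (h⁻¹ * s * h) = h⁻¹ * (s * s) * h := by group
      _ = 1 := by rw [H.ss]; group
  have hs1 : s' ≠ 1 := by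
    intro h1
    apply H.s1
    rw [← hss', h1]; group
  have hpp : p * p = 1 ∧ j * j = 1 := by
    have h1 : p * p * (j * j) = 1 := by
      rw [← hsq, hpj]
      exact sq_mul (H.comPJ hp hj)
    have h2 : p * p = (j * j)⁻¹ := eq_inv_of_mul_eq_one_left h1
    have h3 : p * p = 1 := H.PJ1 (mul_mem hp hp) (h2 ▸ inv_mem (mul_mem hj hj))
    refine ⟨h3, ?_⟩
    rw [h3, one_mul] at h1
    exact h1
  -- `(s, b) = h (s', a)`
  by_cases hp1 : p = 1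
  · -- `s' ∈ J`
    left
    have hs'J : s' ∈ cj g P := by rw [hpj, hp1, one_mul]; exact hj
    obtain ⟨y, hy, hys⟩ := exists_of_cj hs'J
    have hyy : y * y = 1 := by
      have e : y = g⁻¹ * s' * g := by rw [hys]; group
      rw [e]
      calc g⁻¹ * s' * g * (g⁻¹ * s' * g) = g⁻¹ * (s' * s') * g := by group
        _ = 1 := by rw [hsq]; group
    have hy1 : y ≠ 1 := fun h1 => hs1 (by rw [hys, h1]; group)
    obtain ⟨l, hl, hly, hls⟩ := H.k2 y hy hyy hy1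
    obtain ⟨v, hv⟩ : ∃ v, v = l * s * l⁻¹ := ⟨_, rfl⟩
    rw [← hv] at hls
    obtain ⟨c, hcd⟩ : ∃ c, c = h * g * l⁻¹ := ⟨_, rfl⟩
    have hcs : c * s * c⁻¹ = s := by
      have e : y = l⁻¹ * s * l := by rw [← hly]; group
      calc c * s * c⁻¹ = h * (g * (l⁻¹ * s * l) * g⁻¹) * h⁻¹ := by rw [hcd]; group
        _ = s := by rw [← e, ← hys, hss']
    have hcs' : c⁻¹ * s = s * c⁻¹ := by
      nth_rw 1 [← hcs]; group
    have hcv : c * v * c⁻¹ = b := by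
      calc c * v * c⁻¹ = h * (g * s * g⁻¹) * h⁻¹ := by rw [hcd, hv]; group
        _ = b := by rw [H.gs, hbh]
    have hvT : v ∈ T := H.PT hls
    have hv2 : v ∈ cj g Q := H.PleQ hls
    have h1 : c⁻¹ * a * c ∈ cj g Lf := by
      have := H.symm.LN c⁻¹ hcs' a (H.symm.PL H.aJ)
      rwa [inv_inv] at this
    have h2 : c⁻¹ * a * c * (c⁻¹ * a * c) = 1 := by
      calc c⁻¹ * a * c * (c⁻¹ * a * c) = c⁻¹ * (a * a) * c := by group
        _ = 1 := by rw [H.aa]; group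
    have h3 : c⁻¹ * a * c ≠ 1 := fun h4 => H.a1 (by
      calc a = c * (c⁻¹ * a * c) * c⁻¹ := by group
        _ = 1 := by rw [h4]; group)
    have h4 : c⁻¹ * a * c * v = v * (c⁻¹ * a * c) := by
      have h5 := comm_conj (g := c⁻¹) (H.Ta hb)
      rw [← hcv] at h5
      have e : c⁻¹ * (c * v * c⁻¹) * c⁻¹⁻¹ = v := by group
      rw [e, inv_inv] at h5
      exact h5.symm
    obtain ⟨j', hj', hjv, hja⟩ := H.symm.kL v hv2 _ h1 a (H.symm.PL H.aJ) h2 h3 H.aa H.a1 h4 (H.Ta hvT).symm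
    have h5 : c * j'⁻¹ * a = a * (c * j'⁻¹) := by
      have e1 : c * j'⁻¹ * a * (c * j'⁻¹)⁻¹ = a := by
        calc c * j'⁻¹ * a * (c * j'⁻¹)⁻¹ = c * (j'⁻¹ * a * j') * c⁻¹ := by group
          _ = c * (j'⁻¹ * (j' * (c⁻¹ * a * c) * j'⁻¹) * j') * c⁻¹ := by rw [hja]
          _ = a := by group
      calc c * j'⁻¹ * a = c * j'⁻¹ * a * (c * j'⁻¹)⁻¹ * (c * j'⁻¹) := by group
        _ = a * (c * j'⁻¹) := by rw [e1]
    have h6 := H.LN _ h5 v (H.PL hls)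
    have h7 : c * j'⁻¹ * v * (c * j'⁻¹)⁻¹ = b := by
      calc c * j'⁻¹ * v * (c * j'⁻¹)⁻¹ = c * (j'⁻¹ * (v * j')) * c⁻¹ := by group
        _ = c * (j'⁻¹ * (j' * v)) * c⁻¹ := by rw [hjv]
        _ = b := by rw [← hcv]; group
    rw [h7] at h6
    exact (H.Pdef b).2 ⟨hb, h6⟩
  · right
    have hj1 : j = 1 := by
      by_contra hj1
      obtain ⟨k, hk⟩ := H.pair_z hp hpp.1 hp1 hj hpp.2 hj1
      apply H.nz hS (k * h⁻¹ * g)
      calc k * h⁻¹ * g * a * (k * h⁻¹ * g)⁻¹ = k * (h⁻¹ * (g * a * g⁻¹) * h) * k⁻¹ := by group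
        _ = a * s := by rw [H.ga, ← hs', hpj, hk]
    have hs'P : s' ∈ P := by rw [hpj, hj1, mul_one]; exact hp
    obtain ⟨l, hl, hla, hls⟩ := H.kL a H.aQ s' (H.PL hs'P) s (H.PL H.sP) hsq hs1 H.ss H.s1 (H.Ta (H.PT hs'P))
      (H.Ta H.sT)
    have h1 : h * l⁻¹ * s = s * (h * l⁻¹) := by
      have e1 : h * l⁻¹ * s * (h * l⁻¹)⁻¹ = s := by
        calc h * l⁻¹ * s * (h * l⁻¹)⁻¹ = h * (l⁻¹ * s * l) * h⁻¹ := by group
          _ = h * (l⁻¹ * (l * s' * l⁻¹) * l) * h⁻¹ := by rw [hls]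
          _ = h * s' * h⁻¹ := by group
          _ = s := hss'
      calc h * l⁻¹ * s = h * l⁻¹ * s * (h * l⁻¹)⁻¹ * (h * l⁻¹) := by group
        _ = s * (h * l⁻¹) := by rw [e1]
    have h2 := H.symm.LN _ h1 a (H.symm.PL H.aJ)
    have h3 : h * l⁻¹ * a * (h * l⁻¹)⁻¹ = b := by
      calc h * l⁻¹ * a * (h * l⁻¹)⁻¹ = h * (l⁻¹ * (a * l)) * h⁻¹ := by group
        _ = h * (l⁻¹ * (l * a)) * h⁻¹ := by rw [hla]
        _ = b := by rw [← hbh]; group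
    rw [h3] at h2
    exact (H.symm.Pdef b).2 ⟨hb, h2⟩

/-- (inner, PGL) is impossible -/
theorem mixed {b q p q' j : G} (hbb : b * b = 1) (hq : q ∈ Q) (hp : p ∈ P) (h1 : b = q * p * x)
    (hq' : q' ∈ cj g Q) (hj : j ∈ cj g P) (h2 : b = q' * j) : False := by
  have hpT := H.PT hp
  have hjT := H.JT hj
  -- `q' ^ 2 = 1`
  have hc := H.symm.QP q' hq' j hj
  have h3 : q' * q' * (j * j) = 1 := by
    rw [← hbb, h2]
    exact sq_mul hc
  have h4 : q' * q' = 1 := by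
    apply H.symm.disj _ (mul_mem hq' hq')
    rw [eq_inv_of_mul_eq_one_left h3]
    exact inv_mem (mul_mem hj hj)
  -- `q' = q₁ p x`
  have h5 : q' = (q * ((p * x) * j⁻¹ * (p * x)⁻¹)) * p * x := by
    have e1 : q' = b * j⁻¹ := by rw [h2]; group
    rw [e1, h1]; group
  have hq1 : q * ((p * x) * j⁻¹ * (p * x)⁻¹) ∈ Q :=
    mul_mem hq (H.Qn _ (mul_mem hpT H.xT) _ (H.JleQ (inv_mem hj)))
  obtain ⟨q1, hq1d⟩ : ∃ q1, q1 = q * ((p * x) * j⁻¹ * (p * x)⁻¹) := ⟨_, rfl⟩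
  rw [← hq1d] at h5 hq1
  obtain ⟨r, hr, hr2⟩ := H.pqx hq1 hp (by rw [← h5]; exact h4)
  -- `y = r q' r⁻¹ = q1 x`
  have hy : r * q' * r⁻¹ ∈ cj g Q := H.symm.Qn r (H.PT hr) q' hq'
  rw [h5, hr2] at hy
  have hyy : q1 * x * (q1 * x) = 1 := by
    rw [← hr2, ← h5]; exact sq_conj h4
  have hcx : q1 * x * x = x * (q1 * x) := by
    obtain ⟨k, hk, hk2⟩ : ∃ k ∈ Q, q1⁻¹ * (x⁻¹ * q1 * x⁻¹⁻¹) = k :=
      ⟨_, mul_mem (inv_mem hq1) (H.Qn _ (inv_mem H.xT) _ hq1), rfl⟩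
    have hk3 : k ∈ cj g Q := by
      have h6 := mul_mem (inv_mem hy) (H.symm.Qn _ (inv_mem H.xT) _ hy)
      have h7 := H.symm.Qn _ H.xT _ h6
      have e : x * ((q1 * x)⁻¹ * (x⁻¹ * (q1 * x) * x⁻¹⁻¹)) * x⁻¹ = k := by rw [← hk2]; group
      rwa [e] at h7
    obtain ⟨m, hm, hm2⟩ := exists_of_cj hk3
    have hm3 : m = 1 := H.QQ m hm (by rw [← hm2]; exact hk)
    have hk1 : k = 1 := by rw [hm2, hm3]; group
    rw [hk1] at hk2
    have h8 : x⁻¹ * q1 * x⁻¹⁻¹ = q1 := by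
      calc x⁻¹ * q1 * x⁻¹⁻¹ = q1 * (q1⁻¹ * (x⁻¹ * q1 * x⁻¹⁻¹)) := by group
        _ = q1 := by rw [hk2, mul_one]
    calc q1 * x * x = x * (x⁻¹ * q1 * x⁻¹⁻¹) * x := by group
      _ = x * (q1 * x) := by rw [h8]; group
  rcases H.symm.star _ hy hyy hcx with h6 | h6
  · exact H.xQP q1⁻¹ (inv_mem hq1) 1 (one_mem _) (by
      rw [mul_one]; exact (eq_inv_of_mul_eq_one_right h6))
  · exact H.xQP q1⁻¹ (inv_mem hq1) s H.sP (by rw [← h6]; group)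

/-- **`a^G ∩ T ⊆ P ∪ J`.** -/
theorem mem_T (hS : IsPGroup 2 S) {b h : G} (hb : b ∈ T) (hbh : h * a * h⁻¹ = b) : b ∈ P ∨ b ∈ cj g P := by
  have hbb : b * b = 1 := by rw [← hbh]; exact sq_conj H.aa
  have hb1 : b ≠ 1 := by rw [← hbh]; exact ne_conj H.a1
  have key : ∀ c : G, c * b * c⁻¹ ∈ T → (∀ p ∈ P, c * b * c⁻¹ * p = p * (c * b * c⁻¹)) →
      (∀ q ∈ Q, ∀ p ∈ P, c * b * c⁻¹ ≠ q * p) → False := by
    intro c h1 h2 h3
    rcases H.derived hS (b := c * b * c⁻¹) (h := c * h) h1 (by rw [← hbh]; group) h2 with h4 | h4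
    · exact h3 1 (one_mem _) _ h4 (one_mul _).symm
    · exact h3 _ (H.JleQ h4) 1 (one_mem _) (mul_one _).symm
  have key' : ∀ c : G, c * b * c⁻¹ ∈ T → (∀ p ∈ cj g P, c * b * c⁻¹ * p = p * (c * b * c⁻¹)) →
      (∀ q ∈ cj g Q, ∀ p ∈ cj g P, c * b * c⁻¹ ≠ q * p) → False := by
    intro c h1 h2 h3
    have hcj : cj g⁻¹ (cj g P) = P := by
      ext y
      rw [mem_cj, mem_cj]
      have e : g⁻¹ * (g⁻¹⁻¹ * y * g⁻¹) * g = y := by group
      rw [e]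
    rcases H.symm.derived hS (b := c * b * c⁻¹) (h := c * h * g⁻¹) h1 (by
      rw [← hbh]
      calc c * h * g⁻¹ * s * (c * h * g⁻¹)⁻¹ = c * (h * (g⁻¹ * s * g) * h⁻¹) * c⁻¹ := by group
        _ = c * (h * a * h⁻¹) * c⁻¹ := by rw [H.ga']) h2 with h4 | h4
    · exact h3 1 (one_mem _) _ h4 (one_mul _).symm
    · rw [hcj] at h4
      exact h3 _ (H.PleQ h4) 1 (one_mem _) (mul_one _).symm
  rcases H.tyL b hb hbb with ⟨q, hq, p, hp, h1⟩ | ⟨q, hq, p, hp, h1⟩ | ⟨c, hc, h2, h3, h4⟩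
  · rcases H.symm.tyL b hb hbb with ⟨q', hq', j, hj, h2⟩ | ⟨q', hq', j, hj, h2⟩ | ⟨c, hc, h2, h3, h4⟩
    · -- `b ∈ PJ`
      have h3 : q * j⁻¹ = q' * p⁻¹ := by
        have e1 : q * p = q' * j := by rw [← h1, h2]
        have e2 := H.comPJ (inv_mem hp) (inv_mem hj)
        calc q * j⁻¹ = (q * p) * (p⁻¹ * j⁻¹) := by group
          _ = (q' * j) * (j⁻¹ * p⁻¹) := by rw [e1, e2]
          _ = q' * p⁻¹ := by group
      have h4 : q * j⁻¹ ∈ Q := mul_mem hq (inv_mem (H.JleQ hj))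
      have h5 : q * j⁻¹ ∈ cj g Q := h3 ▸ mul_mem hq' (inv_mem (H.PleQ hp))
      obtain ⟨k, hk, hk2⟩ := exists_of_cj h5
      have h6 : k = 1 := H.QQ k hk (by rw [← hk2]; exact h4)
      have h7 : q = j := by
        rw [h6] at hk2
        rw [← mul_inv_eq_one]
        rw [hk2]; group
      have hbpj : b = p * j := by rw [h1, h7, H.comPJ hp hj]
      have h8 : p * p * (j * j) = 1 := by
        rw [← hbb, hbpj]
        exact sq_mul (H.comPJ hp hj)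
      have h9 : p * p = 1 := H.PJ1 (mul_mem hp hp) (eq_inv_of_mul_eq_one_left h8 ▸ inv_mem (mul_mem hj hj))
      have h10 : j * j = 1 := by rw [h9, one_mul] at h8; exact h8
      by_cases hp1 : p = 1
      · right; rw [hbpj, hp1, one_mul]; exact hj
      · by_cases hj1 : j = 1
        · left; rw [hbpj, hj1, mul_one]; exact hp
        · exfalso
          obtain ⟨k, hk⟩ := H.pair_z hp h9 hp1 hj h10 hj1
          apply H.nz hS (k * h)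
          calc k * h * a * (k * h)⁻¹ = k * (h * a * h⁻¹) * k⁻¹ := by group
            _ = a * s := by rw [hbh, hbpj, hk]
    · exact (H.symm.mixed hbb hq' hj h2 (by
        rw [mem_cj, mem_cj]
        have e : g⁻¹ * (g⁻¹⁻¹ * q * g⁻¹) * g = q := by group
        rw [e]; exact hq) (by
        rw [mem_cj, mem_cj]
        have e : g⁻¹ * (g⁻¹⁻¹ * p * g⁻¹) * g = p := by group
        rw [e]; exact hp) h1).elim
    · exact (key' c h2 h3 h4).elim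
  · rcases H.symm.tyL b hb hbb with ⟨q', hq', j, hj, h2⟩ | ⟨q', hq', j, hj, h2⟩ | ⟨c, hc, h2, h3, h4⟩
    · exact (H.mixed hbb hq hp h1 hq' hj h2).elim
    · -- (PGL, PGL): conjugate to `x`
      exfalso
      obtain ⟨r, hr, hr2⟩ := H.pqx hq hp (by rw [← h1]; exact hbb)
      rw [← h1] at hr2
      -- `b₁ = r b r⁻¹ = q x`
      have hb1' : r * b * r⁻¹ * (r * b * r⁻¹) = 1 := sq_conj hbb
      obtain ⟨q2, hq2, j2, hj2, h3⟩ : ∃ q2 ∈ cj g Q, ∃ j2 ∈ cj g P, r * b * r⁻¹ = q2 * j2 * x := by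
        refine ⟨r * q' * r⁻¹ * (r * j * (x * r⁻¹ * x⁻¹) * j⁻¹), ?_, j, hj, ?_⟩
        · have hrQ := H.PleQ hr
          have h4 : x * r⁻¹ * x⁻¹ ∈ cj g Q := H.symm.Qn x H.xT _ (inv_mem hrQ)
          have h5 : j * (x * r⁻¹ * x⁻¹) * j⁻¹ ∈ cj g Q := H.symm.Qn j (H.JT hj) _ h4
          have e : r * j * (x * r⁻¹ * x⁻¹) * j⁻¹ = r * (j * (x * r⁻¹ * x⁻¹) * j⁻¹) := by group
          rw [e]
          exact mul_mem (H.symm.Qn r (H.PT hr) _ hq') (mul_mem hrQ h5)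
        · rw [h2]; group
      obtain ⟨w, hw, hw2⟩ := H.symm.pqx hq2 hj2 (by rw [← h3]; exact hb1')
      rw [← h3, hr2] at hw2
      -- `w q x w⁻¹ = q2 x`
      have h4 : w * q * (x * w⁻¹ * x⁻¹) = q2 := by
        have h5 : w * (q * x) * w⁻¹ * x⁻¹ = q2 * x * x⁻¹ := congrArg (fun t => t * x⁻¹) hw2
        calc w * q * (x * w⁻¹ * x⁻¹) = w * (q * x) * w⁻¹ * x⁻¹ := by group
          _ = q2 * x * x⁻¹ := h5
          _ = q2 := by group
      have hwQ := H.JleQ hw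
      have h5 : q2 ∈ Q := by
        rw [← h4]
        exact mul_mem (mul_mem hwQ hq) (H.Qn x H.xT _ (inv_mem hwQ))
      obtain ⟨m, hm, hm2⟩ := exists_of_cj hq2
      have hm3 : m = 1 := H.QQ m hm (by rw [← hm2]; exact h5)
      have h6 : q2 = 1 := by rw [hm2, hm3]; group
      rw [h6, one_mul] at hw2
      apply H.nax (h⁻¹ * r⁻¹ * w⁻¹)
      have h7 : x = w * (r * (h * a * h⁻¹) * r⁻¹) * w⁻¹ := by rw [hbh, hr2, hw2]
      rw [h7]; group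
    · exact (key' c h2 h3 h4).elim
  · exact (key c h2 h3 h4).elim

end main

end A1

end Cfsg.Agent.UGT.FourB.Nine
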