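import Cfsg.Agent.UGT.FourA.Hon
import Cfsg.Agent.UGT.RankOneRep
import Cfsg.Agent.SignalizersComponents.StandardTools

/-!
# NodeR, `m(C_F(x)) = 1`: `L` is normal in `C(a)` (cores allowed)

`nor` : `(x, a, L)` a triple, `a` the only involution of `C(a) ∩ C(x)` fixing `L / O(L)` ⇒ `C(a) ≤ N(L)`.
`uniq` : two triples `(x, a, L)`, `(x', a, M)` have `L = M`.
-/

set_option autoImplicit false

open Cfsg Subgroup
open Cfsg.Agent.SignalizersComponents Cfsg.Agent.Lib
open Cfsg.Agent.SignalizersComponents.IntrinsicBasic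
open Cfsg.Agent.Intrinsic.Basic Cfsg.Agent.Intrinsic.Cen Cfsg.Agent.Intrinsic.Diag
open Cfsg.Agent.McLLyComp.Act
open Cfsg.Agent.UGT.Triple Cfsg.Agent.UGT.Iface Cfsg.Agent.UGT.Res.KFacts
open Cfsg.Agent.UGT.RankOneR
open scoped commutatorElement

namespace Cfsg.Agent.UGT.FourB.Nor

universe u

variable {G : Type u} [Group G]

theorem fixes_a {a : G} {L : Subgroup G} (h : L ≤ centralizer ({a} : Set G)) : Fixes a L := by
  rw [fixes_iff_conj]
  have key : ∀ y ∈ L, a * y * a⁻¹ = y := fun y hy => by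
    rw [← comm_c (h hy), mul_inv_cancel_right]
  refine ⟨?_, fun y hy => by rw [key y hy, inv_mul_cancel]; exact one_mem _⟩
  rw [mem_normalizer_iff]
  intro y
  refine ⟨fun hy => by rw [key y hy]; exact hy, fun hy => ?_⟩
  have h1 : a * y * a⁻¹ = y := by
    have h2 := key _ hy
    exact mul_left_cancel (mul_right_cancel h2)
  rw [← h1]
  exact hy

variable [Finite G]

/-- an element of `L` of square one fixing `L` is trivial -/
theorem eq_one_of_fixes {L : Subgroup G} {F : Type*} [Field F] [Finite F]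
    (R : GH.L2Aut.Rep F (↥L ⧸ oddCore ↥L)) {z : G} (hz : z ∈ L) (hzz : ∃ n, z ^ 2 ^ n = 1) (h : Fixes z L) :
    z = 1 := by
  have h1 : act L ⟨z, h.1⟩ = 1 := (act_eq_one_iff h.1).mpr h
  have h2 := act_of_mem hz
  rw [h1] at h2
  have h3 : (QuotientGroup.mk' (oddCore ↥L)) ⟨z, hz⟩ = 1 := R.conj_injective (by rw [map_one]; exact h2.symm)
  obtain ⟨n, hn⟩ := hzz
  exact eq_one_of_mem_core ((mk_eq_one_iff hz).mp h3) hn

theorem fixes_of_core {L : Subgroup G} {k : G} (h : k ∈ core L) : Fixes k L := by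
  have h1 := core_le _ h
  refine ⟨le_normalizer h1, fun y hy => ?_⟩
  rw [commutatorElement_def]
  have h2 : k * y * k⁻¹ * y⁻¹ = k * (y * k⁻¹ * y⁻¹) := by group
  rw [h2]
  exact mul_mem h (conj_core hy (inv_mem h))

theorem even_card {L : Subgroup G} {F : Type*} [Field F] [Finite F]
    (R : GH.L2Aut.Rep F (↥L ⧸ oddCore ↥L)) : Even (Nat.card L) := by
  obtain ⟨u, v, h⟩ := R.exists_four
  have h1 := orderOf_dvd_natCard u
  rw [orderOf_eq_prime (p := 2) (by rw [pow_two]; exact h.aa) h.a1] at h1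
  exact even_iff_two_dvd.mpr (h1.trans (Subgroup.card_quotient_dvd_card _))

theorem card_cj (g : G) (L : Subgroup G) : Nat.card (IntrinsicBasic.cj g L) = Nat.card L :=
  Subgroup.card_map_of_injective (MulAut.conj g).injective

/-- other 2-components: an involution commuting with `x` and fixing `L` -/
theorem aux {x a : G} {L : Subgroup G} (Tr : IsTriple x a L)
    (star : ∀ b : G, b * b = 1 → b * a = a * b → b * x = x * b → Fixes b L → b = 1 ∨ b = a)
    {M : Subgroup G} (hM : IsComp (centralizer ({a} : Set G)) M) (hML : L ≠ M)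
    (hev : Even (Nat.card M)) (hZ : ∀ z ∈ M, (∃ n, z ^ 2 ^ n = 1) → Fixes z M → z = 1) : False := by
  have hxx := sq_of_order Tr.invx
  have hxi : x⁻¹ = x := inv_eq_of_mul_eq_one_left hxx
  have haa := sq_of_order Tr.inva
  have ha1 := ne_one_of_order Tr.inva
  have hxc : x ∈ centralizer ({a} : Set G) := mem_c Tr.comm.symm
  have hMa : ∀ m ∈ M, m * a = a * m := fun m hm => comm_c (hM.le hm)
  have haM : Fixes a M := fixes_a hM.le
  by_cases hxM : x ∈ normalizer (M : Set G)
  · obtain ⟨w, hwM, hwo, hxw⟩ := StandardTools.exists_involution_commute hev hxx hxM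
    have hww : w * w = 1 := sq_of_order hwo
    rcases star w hww (hMa w hwM) hxw.symm (Tr.comp.fixes_of_mem hM hML hwM) with h | h
    · exact ne_one_of_order hwo h
    · rw [h] at hwM
      exact ha1 (hZ a hwM ⟨1, by rw [pow_one, pow_two]; exact haa⟩ haM)
  · obtain ⟨N, hNdef⟩ : ∃ N, N = IntrinsicBasic.cj x M := ⟨_, rfl⟩
    have hN : IsComp (centralizer ({a} : Set G)) N := hNdef ▸ isComp_cj_of_mem hM hxc
    have hNM : M ≠ N := fun h => hxM (mem_normalizer_iff_cj.mpr (by rw [← hNdef, ← h]))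
    have hNL : L ≠ N := by
      intro h
      apply hML
      have h1 : IntrinsicBasic.cj x⁻¹ N = M := by rw [hNdef, cj_inv_cj]
      rw [← h, hxi, mem_normalizer_iff_cj.mp Tr.x_mem] at h1
      exact h1
    obtain ⟨⟨z, hzM⟩, hz⟩ := exists_prime_orderOf_dvd_card' 2 (even_iff_two_dvd.mp hev)
    rw [Subgroup.orderOf_mk] at hz
    have hzz := sq_of_order hz
    have hz1 := ne_one_of_order hz
    have hzi : z⁻¹ = z := inv_eq_of_mul_eq_one_left hzz
    obtain ⟨z', hz'⟩ : ∃ z', z' = x * z * x⁻¹ := ⟨_, rfl⟩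
    have hzN : z' ∈ N := by rw [hz', hNdef]; exact conj_mem_cj hzM
    have hz'z' : z' * z' = 1 := by
      rw [hz']
      calc x * z * x⁻¹ * (x * z * x⁻¹) = x * (z * z) * x⁻¹ := by group
        _ = 1 := by rw [hzz]; group
    have hz'i : z'⁻¹ = z' := inv_eq_of_mul_eq_one_left hz'z'
    have hxz' : x * z' * x⁻¹ = z := by
      rw [hz', hxi]
      calc x * (x * z * x) * x = (x * x) * z * (x * x) := by group
        _ = z := by rw [hxx]; group
    have hfz' : Fixes z' M := hM.fixes_of_mem hN hNM hzN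
    -- `(z z')² ∈ O(M)`
    obtain ⟨y, hy⟩ : ∃ y, y = z * z' := ⟨_, rfl⟩
    have hyy : y * y ∈ core M := by
      have h1 := hfz'.2 z hzM
      rw [commutatorElement_def, hz'i, hzi] at h1
      have h2 : y * y = z * (z' * z * z' * z) * z⁻¹ := by
        rw [hy, hzi]
        calc z * z' * (z * z') = z * z' * z * z' * 1 := by group
          _ = z * z' * z * z' * (z * z) := by rw [hzz]
          _ = _ := by group
      rw [h2]
      exact conj_core hzM h1
    -- `x` inverts `y`
    have hxy : x * y * x⁻¹ = y⁻¹ := by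
      rw [hy]
      calc x * (z * z') * x⁻¹ = (x * z * x⁻¹) * (x * z' * x⁻¹) := by group
        _ = z' * z := by rw [← hz', hxz']
        _ = (z * z')⁻¹ := by rw [mul_inv_rev, hzi, hz'i]
    obtain ⟨m, hm⟩ : Odd (orderOf (y * y)) := by
      have h4 := orderOf_dvd_natCard (⟨y * y, hyy⟩ : ↥(core M))
      rw [Subgroup.orderOf_mk] at h4
      exact Odd.of_dvd_nat (odd_card_core _) h4
    obtain ⟨w, hw⟩ : ∃ w, w = y ^ orderOf (y * y) := ⟨_, rfl⟩
    have hww : w * w = 1 := by
      rw [hw, ← pow_add, ← two_mul, pow_mul, pow_two, pow_orderOf_eq_one]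
    have hwx : w * x = x * w := by
      have h1 : x * w * x⁻¹ = w⁻¹ := by rw [hw, ← conj_pow, hxy, inv_pow]
      rw [inv_eq_of_mul_eq_one_left hww] at h1
      calc w * x = x * w * x⁻¹ * x := by rw [h1]
        _ = x * w := by group
    have hwy : w = y * (y * y) ^ m := by
      rw [hw, hm, pow_add, pow_mul, pow_one, pow_two, (Commute.refl y |>.mul_left (Commute.refl y)).pow_left m |>.eq]
    have hcz : ∀ {v : G}, v ∈ M → v * a = a * v := fun hv => hMa _ hv
    have hwa : w * a = a * w := by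
      have h1 : Commute y a := by
        rw [hy]
        exact (show Commute z a from hMa z hzM).mul_left (comm_c (hN.le hzN))
      rw [hw]
      exact h1.pow_left _
    have hcM : (y * y) ^ m ∈ core M := pow_mem hyy _
    have hcfL : Fixes ((y * y) ^ m) L := Tr.comp.fixes_of_mem hM hML (core_le _ hcM)
    have hyfL : Fixes y L := by
      rw [hy]
      exact fixes_mul (Tr.comp.fixes_of_mem hM hML hzM) (Tr.comp.fixes_of_mem hN hNL hzN)
    have hwfL : Fixes w L := by
      rw [hwy]
      exact fixes_mul hyfL hcfL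
    -- `y = w c`, `c ∈ O(M)`
    have hwfM : Fixes w M := by
      rcases star w hww hwa hwx hwfL with h | h
      · rw [h]; exact fixes_one M
      · rw [h]; exact haM
    have h5 : Fixes z M := by
      have h6 : z = w * ((y * y) ^ m)⁻¹ * z'⁻¹ := by
        rw [hwy, hy]; group
      rw [h6]
      exact fixes_mul (fixes_mul hwfM (fixes_inv (fixes_of_core hcM))) (fixes_inv hfz')
    exact hz1 (hZ z hzM ⟨1, by rw [pow_one, pow_two]; exact hzz⟩ h5)

/-- **`L` is normal in `C(a)`** -/
theorem nor {x a : G} {L : Subgroup G} (Tr : IsTriple x a L) {F : Type*} [Field F] [Finite F]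
    (R : GH.L2Aut.Rep F (↥L ⧸ oddCore ↥L))
    (star : ∀ b : G, b * b = 1 → b * a = a * b → b * x = x * b → Fixes b L → b = 1 ∨ b = a) :
    centralizer ({a} : Set G) ≤ normalizer (L : Set G) := by
  intro c hc
  by_contra hcN
  have hML : L ≠ IntrinsicBasic.cj c L := fun h => hcN (mem_normalizer_iff_cj.mpr h.symm)
  refine aux Tr star (isComp_cj_of_mem Tr.comp hc) hML (by rw [card_cj]; exact even_card R) ?_
  intro z hz hzz hf
  have h1 := hf.cj c⁻¹
  rw [cj_inv_cj, inv_inv] at h1
  have h2 : c⁻¹ * z * c ∈ L := by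
    obtain ⟨l, hl, rfl⟩ := hz
    have h3 : (MulAut.conj c).toMonoidHom l = c * l * c⁻¹ := rfl
    have h4 : c⁻¹ * (c * l * c⁻¹) * c = l := by group
    rw [h3, h4]
    exact hl
  obtain ⟨n, hn⟩ := hzz
  have h3 := eq_one_of_fixes R h2 ⟨n, by
    have h5 : (c⁻¹ * z * c) ^ 2 ^ n = c⁻¹ * z ^ 2 ^ n * c := by
      have := conj_pow (i := 2 ^ n) (a := c⁻¹) (b := z)
      rwa [inv_inv] at this
    rw [h5, hn]; group⟩ h1
  calc z = c * (c⁻¹ * z * c) * c⁻¹ := by group
    _ = 1 := by rw [h3]; group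

/-- two triples with the same centre have the same 2-component -/
theorem uniq {x x' a : G} {L M : Subgroup G} (Tr : IsTriple x a L) (Tr' : IsTriple x' a M)
    {F : Type*} [Field F] [Finite F] (R : GH.L2Aut.Rep F (↥M ⧸ oddCore ↥M))
    (star : ∀ b : G, b * b = 1 → b * a = a * b → b * x = x * b → Fixes b L → b = 1 ∨ b = a) :
    L = M := by
  by_contra h
  exact aux Tr star Tr'.comp h (even_card R) fun z hz hzz hf => eq_one_of_fixes R hz hzz hf

end Cfsg.Agent.UGT.FourB.Nor
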