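import Cfsg.Agent.UGT.FourB.Hom
import Cfsg.Agent.UGT.FourB.FrFm

/-!
# `T` a Sylow 2-subgroup of `G`: `a`, `s`, `as` are pairwise not conjugate ((B1))

* `Fm.ab` : elements of `C_T(P)` commute modulo `Q`, if `|P| ≥ 8`.
* `Fr.isolated` : `N_G(T)` centralises `a` and `s`.
* `Fr.not_conj_s`, `Fr.not_conj_as`, `Fr.not_conj_sas` : **(B1)** ((B2) is `Fr.not_conj_x` in `NotX`).
-/

set_option autoImplicit false
set_option linter.dupNamespace false

open Cfsg Subgroup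
open Cfsg.Agent.SignalizersComponents Cfsg.Agent.Lib
open Cfsg.Agent.SignalizersComponents.IntrinsicBasic
open Cfsg.Agent.SignalizersComponents.PLayerAut
open Cfsg.Agent.Intrinsic.Basic Cfsg.Agent.Intrinsic.Cen Cfsg.Agent.Intrinsic.Diag
open Cfsg.Agent.McLLyComp.Act
open Cfsg.Agent.UGT.Triple Cfsg.Agent.UGT.TriBase Cfsg.Agent.UGT.Iface
open Cfsg.Agent.GH.L2Aut (Dih Inn)
open scoped commutatorElement

namespace Cfsg.Agent.UGT.FourB.Fm

variable {G : Type*} [Group G] [Finite G] {L : Subgroup G} {F : Type*} [Field F] [Finite F]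
  {R : Cfsg.Agent.GH.L2Aut.Rep F (↥L ⧸ oddCore ↥L)} {x a d r : G} {T Q P : Subgroup G}

namespace Fm

variable (H : Fm R x a d r T Q P)
include H

omit [Finite G] in
theorem d_odd {k : ℤ} (hk : Odd k) (h : d ^ k = 1) : False := by
  apply H.dih.d1
  obtain ⟨n, hn⟩ := H.Pp ⟨d, H.dih.d_mem⟩
  have hn' : d ^ 2 ^ n = 1 := congrArg Subtype.val hn
  have h1 : (orderOf d : ℤ) ∣ k := orderOf_dvd_iff_zpow_eq_one.mpr h
  have h2 : orderOf d ∣ 2 ^ n := orderOf_dvd_of_pow_eq_one hn'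
  obtain ⟨m, -, hm⟩ := (Nat.dvd_prime_pow Nat.prime_two).mp h2
  rw [hm] at h1
  have h3 : m = 0 := by
    by_contra h3
    have h4 : (2 : ℤ) ∣ k := by
      refine dvd_trans ?_ h1
      have : 2 ∣ 2 ^ m := dvd_pow_self 2 h3
      exact_mod_cast this
    exact (Int.not_even_iff_odd.mpr hk) (even_iff_two_dvd.mpr h4)
  rw [h3, pow_zero, orderOf_eq_one_iff] at hm
  exact hm

omit [Finite G] in
theorem cen_z (hdd : d * d ≠ 1) {p : G} (hp : p ∈ P) (hc : ∀ y ∈ P, p * y = y * p) : x * p * x⁻¹ = p ∧ p * p = 1 := by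
  rcases H.dih.cov p hp with h | ⟨k, hk⟩
  · obtain ⟨k, rfl⟩ := mem_zpowers_iff.mp h
    have h1 := hc r H.dih.r_mem
    have h2 : r * d ^ k * r⁻¹ = (d ^ k)⁻¹ := by
      rw [← inv_zpow, ← H.dih.rd, conj_zpow]
    have h3 : (d ^ k)⁻¹ = d ^ k := by
      rw [← h2, ← h1, mul_inv_cancel_right]
    constructor
    · rw [← conj_zpow, H.xd, inv_zpow, h3]
    · calc d ^ k * d ^ k = (d ^ k)⁻¹ * d ^ k := by rw [h3]
        _ = 1 := inv_mul_cancel _
  · exfalso
    apply hdd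
    have h1 := hc d H.dih.d_mem
    have h2 : p * d * p⁻¹ = d := by rw [h1, mul_inv_cancel_right]
    have h3 : p * d * p⁻¹ = d⁻¹ := by
      rw [hk]
      calc d ^ k * r * d * (d ^ k * r)⁻¹ = d ^ k * (r * d * r⁻¹) * (d ^ k)⁻¹ := by group
        _ = d⁻¹ := by rw [H.dih.rd]; group
    calc d * d = d * (p * d * p⁻¹) := by rw [h2]
      _ = 1 := by rw [h3, mul_inv_cancel]

/-- an element of `C_T(P)` with trivial field part is in `Q Z(P)` -/
theorem cen_qp (hdd : d * d ≠ 1) {u : G} (hu : u ∈ T) (hc : ∀ y ∈ P, u * y = y * u)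
    (hf : R.fld (act L ⟨u, H.TN hu⟩) = 1) : ∃ q ∈ Q, ∃ p ∈ P, u = q * p ∧ ∀ y ∈ P, p * y = y * p := by
  rcases Int.units_eq_one_or (R.o1 (act L ⟨u, H.TN hu⟩)) with ho | ho
  · obtain ⟨q, hq, p, hp, h⟩ := H.mem_qp hu hf ho
    refine ⟨q, hq, p, hp, h, fun y hy => ?_⟩
    have h1 := hc y hy
    have h2 := H.comm hq hy
    have h3 : p = q⁻¹ * u := by rw [h]; group
    rw [h3]
    exact ((show Commute q y from h2).inv_left.mul_left h1).eq
  · exfalso
    have h1 : act L ⟨u * x, H.TN (mul_mem hu H.xT)⟩ = act L ⟨u, H.TN hu⟩ * act L ⟨x, H.TN H.xT⟩ :=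
      act_mul (H.TN hu) (H.TN H.xT)
    obtain ⟨q, hq, p, hp, h⟩ := H.mem_qp (mul_mem hu H.xT) (by rw [h1, map_mul, hf, H.fx, one_mul])
      (by rw [h1, map_mul, ho, H.ox (H.TN H.xT)]; decide)
    have h2 : ∀ y ∈ P, p * x * y = y * (p * x) := by
      intro y hy
      have h3 : p * x = q⁻¹ * u := by
        calc p * x = q⁻¹ * (q * p) * x := by group
          _ = q⁻¹ * u * (x * x) := by rw [← h]; group
          _ = q⁻¹ * u := by rw [H.xx, mul_one]
      rw [h3]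
      exact ((show Commute q y from H.comm hq hy).inv_left.mul_left (hc y hy)).eq
    have hd1 : p * d⁻¹ * p⁻¹ = d := by
      have h3 := h2 d H.dih.d_mem
      calc p * d⁻¹ * p⁻¹ = p * (x * d * x⁻¹) * p⁻¹ := by rw [H.xd]
        _ = p * x * d * (p * x)⁻¹ := by group
        _ = d := by rw [h3, mul_inv_cancel_right]
    have hr1 : p * (d * r) * p⁻¹ = r := by
      have h3 := h2 r H.dih.r_mem
      calc p * (d * r) * p⁻¹ = p * (x * r * x⁻¹) * p⁻¹ := by rw [H.xr]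
        _ = p * x * r * (p * x)⁻¹ := by group
        _ = r := by rw [h3, mul_inv_cancel_right]
    rcases H.dih.cov p hp with h3 | ⟨k, hk⟩
    · obtain ⟨k, rfl⟩ := mem_zpowers_iff.mp h3
      apply hdd
      have h4 : d ^ k * d⁻¹ * (d ^ k)⁻¹ = d⁻¹ := by group
      rw [h4] at hd1
      calc d * d = d * d⁻¹ := by rw [hd1]
        _ = 1 := mul_inv_cancel _
    · have h4 : r * (d * r) * r⁻¹ = d⁻¹ * r := by
        calc r * (d * r) * r⁻¹ = (r * d * r⁻¹) * r := by group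
          _ = d⁻¹ * r := by rw [H.dih.rd]
      have h5 : r * d ^ (-k) = d ^ k * r := by
        have h6 : r * d ^ (-k) * r⁻¹ = d ^ k := by
          rw [← conj_zpow, H.dih.rd, inv_zpow, zpow_neg, inv_inv]
        calc r * d ^ (-k) = r * d ^ (-k) * r⁻¹ * r := by group
          _ = d ^ k * r := by rw [h6]
      rw [hk] at hr1
      have h6 : d ^ (2 * k - 1) * r = r := by
        calc d ^ (2 * k - 1) * r = d ^ k * d⁻¹ * (d ^ k * r) := by group
          _ = d ^ k * d⁻¹ * (r * d ^ (-k)) := by rw [h5]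
          _ = d ^ k * (d⁻¹ * r) * (d ^ k)⁻¹ := by group
          _ = d ^ k * (r * (d * r) * r⁻¹) * (d ^ k)⁻¹ := by rw [h4]
          _ = d ^ k * r * (d * r) * (d ^ k * r)⁻¹ := by group
          _ = r := hr1
      exact H.d_odd (k := 2 * k - 1) ⟨k - 1, by ring⟩ (by
        have := mul_right_cancel (a := d ^ (2 * k - 1)) (b := r) (c := 1) (by rw [h6, one_mul])
        exact this)

/-- `C_T(P) / C_Q(P)` is abelian -/
theorem ab (hdd : d * d ≠ 1) {u v : G} (hu : u ∈ T) (hv : v ∈ T) (huc : ∀ y ∈ P, u * y = y * u)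
    (hvc : ∀ y ∈ P, v * y = y * v) : ⁅u, v⁆ ∈ Q := by
  have hcyc : IsCyclic (F ≃+* F) := LieRecognition.FieldSemilinear.isCyclic_ringAut F
  obtain ⟨K, hK⟩ : ∃ K : Subgroup (MulAut (↥L ⧸ oddCore ↥L)), ∀ α, α ∈ K ↔
      ∃ (w : G) (hw : w ∈ T), (∀ y ∈ P, w * y = y * w) ∧ act L ⟨w, H.TN hw⟩ = α := by
    refine ⟨{ carrier := {α | ∃ (w : G) (hw : w ∈ T), (∀ y ∈ P, w * y = y * w) ∧ act L ⟨w, H.TN hw⟩ = α}
              mul_mem' := ?_, one_mem' := ?_, inv_mem' := ?_ }, fun α => Iff.rfl⟩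
    · rintro _ _ ⟨w, hw, hwc, rfl⟩ ⟨w', hw', hwc', rfl⟩
      exact ⟨w * w', mul_mem hw hw', fun y hy => ((show Commute w y from hwc y hy).mul_left (hwc' y hy)).eq,
        act_mul (H.TN hw) (H.TN hw')⟩
    · exact ⟨1, one_mem _, fun y _ => by rw [one_mul, mul_one], map_one (act L)⟩
    · rintro _ ⟨w, hw, hwc, rfl⟩
      exact ⟨w⁻¹, inv_mem hw, fun y hy => ((show Commute w y from hwc y hy).inv_left).eq, act_inv (H.TN hw)⟩
  have hker : (R.fld.comp K.subtype).ker ≤ center K := by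
    rintro ⟨α, hα⟩ hk
    have hk' : R.fld α = 1 := hk
    rw [mem_center_iff]
    rintro ⟨β, hβ⟩
    apply Subtype.ext
    change β * α = α * β
    obtain ⟨w, hw, hwc, rfl⟩ := (hK α).mp hα
    obtain ⟨w', hw', hwc', rfl⟩ := (hK β).mp hβ
    obtain ⟨q, hq, p, hp, h, -⟩ := H.cen_qp hdd hw hwc hk'
    have h1 : act L ⟨w, H.TN hw⟩ = act L ⟨p, H.TN (H.PT hp)⟩ := by
      rw [act_congr (H.TN hw) h, act_mul (H.TN (H.QT hq)) (H.TN (H.PT hp)),
        (act_eq_one_iff (H.TN (H.QT hq))).mpr ((H.Qdef q).1 hq).2, one_mul]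
    rw [h1, ← act_mul (H.TN hw') (H.TN (H.PT hp)), ← act_mul (H.TN (H.PT hp)) (H.TN hw')]
    exact act_congr _ (hwc' p hp)
  have hcom : act L ⟨u, H.TN hu⟩ * act L ⟨v, H.TN hv⟩ = act L ⟨v, H.TN hv⟩ * act L ⟨u, H.TN hu⟩ := by
    have h1 := (R.fld.comp K.subtype).isMulCommutative_of_isCyclic_of_ker_le_center hker |>.is_comm.comm
      ⟨_, (hK _).mpr ⟨u, hu, huc, rfl⟩⟩ ⟨_, (hK _).mpr ⟨v, hv, hvc, rfl⟩⟩
    exact congrArg Subtype.val h1
  have hw : ⁅u, v⁆ ∈ T := by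
    rw [commutatorElement_def]
    exact mul_mem (mul_mem (mul_mem hu hv) (inv_mem hu)) (inv_mem hv)
  refine (H.Qdef _).2 ⟨hw, (act_eq_one_iff (H.TN hw)).mp ?_⟩
  have h1 : act L ⟨u * v * u⁻¹ * v⁻¹, H.TN hw⟩ =
      act L ⟨u, H.TN hu⟩ * act L ⟨v, H.TN hv⟩ * (act L ⟨u, H.TN hu⟩)⁻¹ * (act L ⟨v, H.TN hv⟩)⁻¹ := by
    rw [← act_inv (H.TN hu), ← act_inv (H.TN hv), ← act_mul (H.TN hu) (H.TN hv),
      ← act_mul (mul_mem (H.TN hu) (H.TN hv)) (inv_mem (H.TN hu)),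
      ← act_mul (mul_mem (mul_mem (H.TN hu) (H.TN hv)) (inv_mem (H.TN hu))) (inv_mem (H.TN hv))]
  change act L ⟨u * v * u⁻¹ * v⁻¹, H.TN hw⟩ = 1
  rw [h1, hcom, mul_inv_cancel_right, mul_inv_cancel]

end Fm

end Cfsg.Agent.UGT.FourB.Fm

namespace Cfsg.Agent.UGT.FourB.Frame

variable {G : Type*} [Group G] [Finite G]

omit [Finite G] in
/-- a subgroup closed under conjugation by `T` is normalised by `T` -/
theorem le_normalizer_of {T N : Subgroup G} (h : ∀ t ∈ T, ∀ n ∈ N, t * n * t⁻¹ ∈ N) :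
    T ≤ normalizer (N : Set G) := by
  intro t ht
  rw [mem_normalizer_iff]
  intro y
  refine ⟨fun hy => h t ht y hy, fun hy => ?_⟩
  have h3 := h t⁻¹ (inv_mem ht) _ hy
  have h4 : t⁻¹ * (t * y * t⁻¹) * t⁻¹⁻¹ = y := by group
  rwa [h4] at h3

namespace Fr

variable {F : Type*} [Field F] [Finite F] {a x d r s : G} {L T T₁ Q P : Subgroup G}
  (C : Fr a x d r s L T T₁ Q P)
include C

omit [Finite G] in
/-- if `m²` commutes with `w ∈ Z(T)`, so does `m ∈ N(T)` -/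
theorem comm_of_sq [Finite G] (hT : ∀ U : Subgroup G, IsPGroup 2 U → T ≤ U → U ≤ T) {m w : G}
    (hm : ∀ t ∈ T, m * t * m⁻¹ ∈ T) (hw : ∀ t ∈ T, t * w = w * t) (h : m * m * w = w * (m * m)) :
    m * w = w * m := by
  have h2 : Fact (Nat.Prime 2) := ⟨Nat.prime_two⟩
  obtain ⟨e, k, hk, hek⟩ := Nat.exists_eq_two_pow_mul_odd (n := orderOf m) (orderOf_pos m).ne'
  have hmk : m ^ k ∈ T := by
    have h3 : IsPGroup 2 ↥(zpowers (m ^ k)) := by
      rintro ⟨y, hy⟩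
      obtain ⟨j, rfl⟩ := mem_zpowers_iff.mp hy
      refine ⟨e, Subtype.ext ?_⟩
      change ((m ^ k) ^ j) ^ 2 ^ e = 1
      rw [← zpow_natCast, ← zpow_mul, mul_comm j, zpow_mul, zpow_natCast, ← pow_mul, mul_comm k,
        ← hek, pow_orderOf_eq_one, one_zpow]
    have h5 : m ∈ normalizer (T : Set G) := by
      have h6 : IntrinsicBasic.cj m T = T := Subgroup.eq_of_le_of_card_ge (by
        rintro _ ⟨t, ht, rfl⟩
        exact hm t ht) (natCard_cj m T).ge
      rw [mem_normalizer_iff]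
      intro y
      refine ⟨fun hy => hm y hy, fun hy => ?_⟩
      have hy' : m * y * m⁻¹ ∈ IntrinsicBasic.cj m T := by rw [h6]; exact hy
      obtain ⟨t, ht, hty⟩ := hy'
      have h7 : m * t * m⁻¹ = m * y * m⁻¹ := hty
      have h8 : t = y := mul_left_cancel (mul_right_cancel h7)
      rwa [← h8]
    have h4 : zpowers (m ^ k) ≤ normalizer (T : Set G) := by
      rw [zpowers_le]
      exact pow_mem h5 k
    have h6 : IsPGroup 2 ↥(T ⊔ zpowers (m ^ k) : Subgroup G) := IsPGroup.to_sup_of_normal_left' C.Tp h3 h4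
    exact hT _ h6 le_sup_left (mem_sup_right (mem_zpowers _))
  have h3 := hw _ hmk
  obtain ⟨j, hj⟩ := hk
  have h4 : m ^ k = (m * m) ^ j * m := by
    rw [hj, pow_add, pow_mul, pow_one, pow_two]
  have h5 : Commute (m * m) w := h
  rw [h4] at h3
  have h6 : (m * m) ^ j * (m * w) = (m * m) ^ j * (w * m) := by
    calc (m * m) ^ j * (m * w) = (m * m) ^ j * m * w := by group
      _ = w * ((m * m) ^ j * m) := h3
      _ = w * (m * m) ^ j * m := by group
      _ = (m * m) ^ j * w * m := by rw [(h5.pow_left j).eq]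
      _ = (m * m) ^ j * (w * m) := by group
  exact mul_left_cancel h6

/-- no element of `N(T)` maps `a` to `s` and `s` to `as` -/
theorem no_three (R : Cfsg.Agent.GH.L2Aut.Rep F (↥L ⧸ oddCore ↥L)) (ho : R.o1 (act L ⟨x, C.tri.x_mem⟩) = -1)
    (hdd : d * d ≠ 1) {m : G} (hm : ∀ t ∈ T, m * t * m⁻¹ ∈ T) (hms : m * s * m⁻¹ = a * s) : False := by
  have H := C.toFm R ho
  have hmT : IntrinsicBasic.cj m T = T := Subgroup.eq_of_le_of_card_ge (by
    rintro _ ⟨t, ht, rfl⟩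
    exact hm t ht) (natCard_cj m T).ge
  have hmi : ∀ t ∈ T, m⁻¹ * t * m ∈ T := by
    intro t ht
    have h1 : t ∈ IntrinsicBasic.cj m T := by rw [hmT]; exact ht
    exact mem_cj.mp h1
  obtain ⟨P1, hP1⟩ : ∃ P1, P1 = IntrinsicBasic.cj m P := ⟨_, rfl⟩
  have hP1m : ∀ y, y ∈ P1 ↔ m⁻¹ * y * m ∈ P := fun y => by rw [hP1]; exact mem_cj
  have hP1T : P1 ≤ T := by
    intro y hy
    have h1 := hm _ (C.PT ((hP1m y).mp hy))
    have h2 : m * (m⁻¹ * y * m) * m⁻¹ = y := by group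
    rwa [h2] at h1
  have hP1n : ∀ t ∈ T, ∀ y ∈ P1, t * y * t⁻¹ ∈ P1 := by
    intro t ht y hy
    rw [hP1m] at hy ⊢
    have h1 := C.Pconj (hmi t ht) hy
    have h2 : m⁻¹ * t * m * (m⁻¹ * y * m) * (m⁻¹ * t * m)⁻¹ = m⁻¹ * (t * y * t⁻¹) * m := by group
    rwa [h2] at h1
  -- central elements of square one in `P`
  have hzP : ∀ w ∈ P, w ≠ 1 → (∀ t ∈ T, t * w = w * t) → w = s := by
    intro w hw hw1 hc
    rcases C.fix w hw (hc x C.xT).symm with h | h
    · exact absurd h hw1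
    · exact h
  have hzP1 : ∀ w ∈ P1, w ≠ 1 → (∀ t ∈ T, t * w = w * t) → w = a * s := by
    intro w hw hw1 hc
    have h1 := hzP _ ((hP1m w).mp hw) (by
      intro h
      apply hw1
      calc w = m * (m⁻¹ * w * m) * m⁻¹ := by group
        _ = 1 := by rw [h]; group) (by
      intro t ht
      have h2 := hc _ (hm t ht)
      calc t * (m⁻¹ * w * m) = m⁻¹ * (m * t * m⁻¹ * w) * m := by group
        _ = m⁻¹ * (w * (m * t * m⁻¹)) * m := by rw [h2]
        _ = m⁻¹ * w * m * t := by group)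
    calc w = m * (m⁻¹ * w * m) * m⁻¹ := by group
      _ = a * s := by rw [h1, hms]
  -- `P ∩ P1 = 1`
  have hd1 : P ⊓ P1 = ⊥ := by
    by_contra hne
    obtain ⟨w, hw, hwo, hwc⟩ := TriBase.exists_central C.Tp (inf_le_left.trans C.PT)
      (le_normalizer_of fun t ht n hn => mem_inf.mpr ⟨C.Pconj ht hn.1, hP1n t ht n hn.2⟩) hne
    have hw1 := ne_one_of_order hwo
    have h1 := hzP w hw.1 hw1 hwc
    have h2 := hzP1 w hw.2 hw1 hwc
    apply C.a1
    have h3 : a * s = 1 * s := by rw [one_mul, ← h2, h1]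
    exact mul_right_cancel h3
  -- `Q ∩ P1 = 1`
  have hd2 : Q ⊓ P1 = ⊥ := by
    by_contra hne
    obtain ⟨w, hw, hwo, hwc⟩ := TriBase.exists_central C.Tp (inf_le_left.trans C.QT)
      (le_normalizer_of fun t ht n hn => mem_inf.mpr ⟨C.Qconj ht hn.1, hP1n t ht n hn.2⟩) hne
    have h2 := hzP1 w hw.2 (ne_one_of_order hwo) hwc
    exact C.as_not (h2 ▸ hw.1)
  -- `P1` centralises `P`
  have hcen : ∀ u ∈ P1, ∀ y ∈ P, u * y = y * u := by
    intro u hu y hy
    have h1 : u * y * u⁻¹ * y⁻¹ ∈ P ⊓ P1 := by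
      refine mem_inf.mpr ⟨mul_mem (C.Pconj (hP1T hu) hy) (inv_mem hy), ?_⟩
      have h2 := mul_mem hu (hP1n y (C.PT hy) _ (inv_mem hu))
      have h3 : u * (y * u⁻¹ * y⁻¹) = u * y * u⁻¹ * y⁻¹ := by group
      rwa [h3] at h2
    rw [hd1, mem_bot] at h1
    calc u * y = u * y * u⁻¹ * y⁻¹ * (y * u) := by group
      _ = y * u := by rw [h1, one_mul]
  -- `P1` is abelian
  have hab : ∀ u ∈ P1, ∀ v ∈ P1, u * v = v * u := by
    intro u hu v hv
    have h1 : ⁅u, v⁆ ∈ Q ⊓ P1 := by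
      refine mem_inf.mpr ⟨H.ab hdd (hP1T hu) (hP1T hv) (hcen u hu) (hcen v hv), ?_⟩
      rw [commutatorElement_def]
      exact mul_mem (mul_mem (mul_mem hu hv) (inv_mem hu)) (inv_mem hv)
    rw [hd2, mem_bot] at h1
    exact commutatorElement_eq_one_iff_mul_comm.mp h1
  -- contradiction
  apply hdd
  have h1 : ∀ p ∈ P, m * p * m⁻¹ ∈ P1 := fun p hp => hP1 ▸ conj_mem_cj hp
  have h2 := hab _ (h1 r C.dih.r_mem) _ (h1 d C.dih.d_mem)
  have h3 : r * d = d * r := by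
    have h4 : m * (r * d) * m⁻¹ = m * (d * r) * m⁻¹ := by
      calc m * (r * d) * m⁻¹ = m * r * m⁻¹ * (m * d * m⁻¹) := by group
        _ = m * d * m⁻¹ * (m * r * m⁻¹) := h2
        _ = m * (d * r) * m⁻¹ := by group
    exact mul_left_cancel (mul_right_cancel h4)
  have h4 : d = d⁻¹ := by rw [← C.dih.rd, h3, mul_inv_cancel_right]
  calc d * d = d * d⁻¹ := by rw [← h4]
    _ = 1 := mul_inv_cancel _

/-- **`N_G(T)` centralises `a` and `s`** -/
theorem isolated (R : Cfsg.Agent.GH.L2Aut.Rep F (↥L ⧸ oddCore ↥L)) (ho : R.o1 (act L ⟨x, C.tri.x_mem⟩) = -1)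
    (hT : ∀ U : Subgroup G, IsPGroup 2 U → T ≤ U → U ≤ T) (hdd : d * d ≠ 1) {g : G}
    (hg : ∀ t ∈ T, g * t * g⁻¹ ∈ T) : g * a * g⁻¹ = a ∧ g * s * g⁻¹ = s := by
  have hac : ∀ t ∈ T, t * a = a * t := fun t ht => C.a_comm ht
  have hasne : a * s ≠ 1 := C.fas.right.b1
  -- images are in `{a, s, as}`
  have himg : ∀ m : G, (∀ t ∈ T, m * t * m⁻¹ ∈ T) → ∀ w ∈ T, w * w = 1 → w ≠ 1 → (∀ t ∈ T, t * w = w * t) →
      m * w * m⁻¹ = a ∨ m * w * m⁻¹ = s ∨ m * w * m⁻¹ = a * s := by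
    intro m hm w hw hww hw1 hc
    have hmT : IntrinsicBasic.cj m T = T := Subgroup.eq_of_le_of_card_ge (by
      rintro _ ⟨t, ht, rfl⟩
      exact hm t ht) (natCard_cj m T).ge
    rcases C.omega (hm w hw) (fun u hu => by
      have h1 : u ∈ IntrinsicBasic.cj m T := by rw [hmT]; exact hu
      have h2 := mem_cj.mp h1
      have h3 := hc _ h2
      calc m * w * m⁻¹ * u = m * (w * (m⁻¹ * u * m)) * m⁻¹ := by group
        _ = m * (m⁻¹ * u * m * w) * m⁻¹ := by rw [h3]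
        _ = u * (m * w * m⁻¹) := by group) (cj_sq hww) with h | h | h | h
    · exact absurd h (cj_ne hw1)
    · exact Or.inl h
    · exact Or.inr (Or.inl h)
    · exact Or.inr (Or.inr h)
  have hinj : ∀ m v w : G, m * v * m⁻¹ = m * w * m⁻¹ → v = w := fun m v w h =>
    mul_left_cancel (mul_right_cancel h)
  have hprod : ∀ m v w : G, m * (v * w) * m⁻¹ = m * v * m⁻¹ * (m * w * m⁻¹) := fun m v w => by group
  -- `m ∈ N(T)`, `m²` centralises `a` and `s`
  have hsq : ∀ m w w' : G, m * w * m⁻¹ = w' → m * w' * m⁻¹ = w → m * m * w = w * (m * m) := by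
    intro m w w' h1 h2
    calc m * m * w = m * (m * w * m⁻¹) * m⁻¹ * (m * m) := by group
      _ = w * (m * m) := by rw [h1, h2]
  have hfix : ∀ m w : G, m * w = w * m → m * w * m⁻¹ = w := fun m w h => by rw [h, mul_inv_cancel_right]
  have hsa : s * (a * s) = a := by rw [C.as, ← mul_assoc, C.ss, one_mul]
  have hasa : a * s * a = s := by rw [C.as, mul_assoc, C.a2, mul_one]
  have hass : a * s * s = a := by rw [mul_assoc, C.ss, mul_one]
  have haas : a * (a * s) = s := by rw [← mul_assoc, C.a2, one_mul]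
  have hgi : ∀ t ∈ T, g⁻¹ * t * g⁻¹⁻¹ ∈ T := by
    intro t ht
    have hmT : IntrinsicBasic.cj g T = T := Subgroup.eq_of_le_of_card_ge (by
      rintro _ ⟨t, ht, rfl⟩
      exact hg t ht) (natCard_cj g T).ge
    rw [inv_inv]
    have h1 : t ∈ IntrinsicBasic.cj g T := by rw [hmT]; exact ht
    exact mem_cj.mp h1
  rcases himg g hg a C.aT C.a2 C.a1 hac with ha | ha | ha
  · rcases himg g hg s C.sT' C.ss C.s1 C.sT with hs | hs | hs
    · exact absurd (hinj g _ _ (ha.trans hs.symm)) C.a_ne_s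
    · exact ⟨ha, hs⟩
    · exfalso
      have h1 : g * (a * s) * g⁻¹ = s := by rw [hprod, ha, hs, haas]
      have h2 := C.comm_of_sq hT hg C.sT (hsq g s (a * s) hs h1)
      have h3 := hfix g s h2
      rw [hs] at h3
      apply C.a1
      have h4 : a * s = 1 * s := by rw [one_mul]; exact h3
      exact mul_right_cancel h4
  · exfalso
    rcases himg g hg s C.sT' C.ss C.s1 C.sT with hs | hs | hs
    · have h2 := C.comm_of_sq hT hg hac (hsq g a s ha hs)
      exact C.a_ne_s ((hfix g a h2).symm.trans ha)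
    · exact C.a_ne_s (hinj g _ _ (ha.trans hs.symm))
    · exact C.no_three R ho hdd hg hs
  · exfalso
    rcases himg g hg s C.sT' C.ss C.s1 C.sT with hs | hs | hs
    · -- `g⁻¹ : a → s → as`
      have h1 : g * (a * s) * g⁻¹ = s := by rw [hprod, ha, hs, hasa]
      refine C.no_three R ho hdd hgi ?_
      have h2 : g⁻¹ * (g * (a * s) * g⁻¹) * g⁻¹⁻¹ = a * s := by group
      rw [h1] at h2
      exact h2
    · have h1 : g * (a * s) * g⁻¹ = a := by rw [hprod, ha, hs, hass]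
      have h2 := C.comm_of_sq hT hg hac (hsq g a (a * s) ha h1)
      have h3 := (hfix g a h2).symm.trans ha
      apply C.s1
      have h4 : a * 1 = a * s := by rw [mul_one]; exact h3
      exact (mul_left_cancel h4).symm
    · exact C.a_ne_s (hinj g _ _ (ha.trans hs.symm))

omit [Finite G] in
/-- Burnside: elements of `Z(T)` conjugate in `G` are conjugate in `N(T)` -/
theorem burnside [Finite G] (hT : ∀ U : Subgroup G, IsPGroup 2 U → T ≤ U → U ≤ T) {w w' k : G}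
    (hw : ∀ t ∈ T, t * w = w * t) (hw' : ∀ t ∈ T, t * w' = w' * t) (hk : k * w * k⁻¹ = w') :
    ∃ m : G, (∀ t ∈ T, m * t * m⁻¹ ∈ T) ∧ m * w' * m⁻¹ = w := by
  obtain ⟨c, hc, h1⟩ := FourA.Top.exists_conj (H := centralizer ({w'} : Set G))
    (T := IntrinsicBasic.cj k T) (V := T) (C.Tp.map _) (by
      rintro _ ⟨t, ht, rfl⟩
      rw [mem_centralizer_singleton_iff, ← hk]
      exact cj_comm (hw t ht)) (by
      intro U hU hTU _ u hu
      have h2 := hT (IntrinsicBasic.cj k⁻¹ U) (hU.map _) (by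
        intro t ht
        have h3 := hTU (conj_mem_cj (g := k) ht)
        have h4 := conj_mem_cj (g := k⁻¹) h3
        have h5 : k⁻¹ * (k * t * k⁻¹) * k⁻¹⁻¹ = t := by group
        rwa [h5] at h4) (conj_mem_cj (g := k⁻¹) hu)
      have h3 := conj_mem_cj (g := k) h2
      have h4 : k * (k⁻¹ * u * k⁻¹⁻¹) * k⁻¹ = u := by group
      rwa [h4] at h3) C.Tp (fun t ht => mem_centralizer_singleton_iff.mpr (hw' t ht))
  have hcw := mem_centralizer_singleton_iff.mp hc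
  refine ⟨k⁻¹ * c, fun t ht => ?_, ?_⟩
  · have h3 := mem_cj.mp (h1 t ht)
    have h4 : k⁻¹ * c * t * (k⁻¹ * c)⁻¹ = k⁻¹ * (c * t * c⁻¹) * k := by group
    rw [h4]
    exact h3
  · calc k⁻¹ * c * w' * (k⁻¹ * c)⁻¹ = k⁻¹ * (c * w' * c⁻¹) * k := by group
      _ = k⁻¹ * w' * k := by rw [hcw, mul_inv_cancel_right]
      _ = w := by rw [← hk]; group

section B1

variable (R : Cfsg.Agent.GH.L2Aut.Rep F (↥L ⧸ oddCore ↥L)) (ho : R.o1 (act L ⟨x, C.tri.x_mem⟩) = -1)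
  (hT : ∀ U : Subgroup G, IsPGroup 2 U → T ≤ U → U ≤ T) (hdd : d * d ≠ 1)
include R ho hT hdd

theorem not_conj_s (k : G) : k * a * k⁻¹ ≠ s := by
  intro hk
  obtain ⟨m, h1, h2⟩ := C.burnside hT (fun t ht => C.a_comm ht) C.sT hk
  exact C.a_ne_s (h2.symm.trans (C.isolated R ho hT hdd h1).2)

theorem not_conj_as (k : G) : k * a * k⁻¹ ≠ a * s := by
  intro hk
  have hc : ∀ t ∈ T, t * (a * s) = a * s * t := fun t ht =>
    (Commute.mul_right (show Commute t a from C.a_comm ht) (C.sT t ht)).eq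
  obtain ⟨m, h1, h2⟩ := C.burnside hT (fun t ht => C.a_comm ht) hc hk
  obtain ⟨h3, h4⟩ := C.isolated R ho hT hdd h1
  have h5 : m * (a * s) * m⁻¹ = a * s := by
    calc m * (a * s) * m⁻¹ = m * a * m⁻¹ * (m * s * m⁻¹) := by group
      _ = a * s := by rw [h3, h4]
  apply C.s1
  have h6 : a * 1 = a * s := by rw [mul_one]; exact h2.symm.trans h5
  exact (mul_left_cancel h6).symm

theorem not_conj_sas (k : G) : k * s * k⁻¹ ≠ a * s := by
  intro hk
  have hc : ∀ t ∈ T, t * (a * s) = a * s * t := fun t ht =>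
    (Commute.mul_right (show Commute t a from C.a_comm ht) (C.sT t ht)).eq
  obtain ⟨m, h1, h2⟩ := C.burnside hT C.sT hc hk
  obtain ⟨h3, h4⟩ := C.isolated R ho hT hdd h1
  have h5 : m * (a * s) * m⁻¹ = a * s := by
    calc m * (a * s) * m⁻¹ = m * a * m⁻¹ * (m * s * m⁻¹) := by group
      _ = a * s := by rw [h3, h4]
  apply C.a1
  have h6 : a * s = 1 * s := by rw [one_mul]; exact h5.symm.trans h2
  exact mul_right_cancel h6

end B1

end Fr

end Cfsg.Agent.UGT.FourB.Frame
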