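import Cfsg.Agent.UGT.FourB.FrameUse
import Cfsg.Agent.UGT.FourB.OneQ
import Cfsg.Agent.OddHalf.D6.FieldInv

/-!
# Leaf (L0): the element `n`

* `rank_T` : `Q = {1, a}`: `T` has sectional 2-rank at most 4;
* `exists_inv` : `T` Sylow in `G`, `r(G) > 4`: `Q` contains an involution `≠ a`;
* `exists_nx` : `T` Sylow in `G`, `T ≤ C(v)`, `(x, v, L)` a triple: some `n` fixing `L / O(L)` satisfies `x ^ n = xv`.
-/

set_option autoImplicit false

open Cfsg Subgroup
open Cfsg.Agent.SignalizersComponents Cfsg.Agent.Lib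
open Cfsg.Agent.SignalizersComponents.IntrinsicBasic
open Cfsg.Agent.SignalizersComponents.PLayerAut
open Cfsg.Agent.Intrinsic.Basic Cfsg.Agent.Intrinsic.Cen Cfsg.Agent.Intrinsic.Diag
open Cfsg.Agent.McLLyComp.Act
open Cfsg.Agent.UGT.Triple (IsTriple sq_of_order ne_one_of_order)
open Cfsg.Agent.UGT.TriBase (IsSyl)
open Cfsg.Agent.UGT.Res.KFacts (Pgl)
open Cfsg.Agent.UGT.TMCBase (mem_c comm_c)
open Cfsg.Agent.UGT.FourB.Frame
open Cfsg.Agent.OddHalf.D6 (rank_aut rank_of_zpowers)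
open scoped commutatorElement

namespace Cfsg.Agent.UGT.FourB.NxSup

universe u

variable {G : Type u} [Group G] {a x d r s : G} {L T T₁ Q P : Subgroup G}

theorem isSyl (C : Fr a x d r s L T T₁ Q P) : IsSyl (centralizer ({a} : Set G)) T :=
  ⟨C.Tp, C.TC, fun U h1 h2 h3 => le_antisymm (C.syl U h1 h3 h2) h3⟩

variable [Finite G]

/-- `Q = {1, a}`: the sectional rank of `T` -/
theorem rank_T (C : Fr a x d r s L T T₁ Q P) {F : Type*} [Field F] [Finite F]
    (R : GH.L2Aut.Rep F (↥L ⧸ oddCore ↥L)) (h : ∀ q ∈ Q, q = 1 ∨ q = a) : SectionalPRankLE 2 4 T := by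
  let f : T →* MulAut (↥L ⧸ oddCore ↥L) := (act L).comp (Subgroup.inclusion C.TN)
  have hf : ∀ t : T, f t = act L ⟨t, C.TN t.2⟩ := fun t => rfl
  have h1 : SectionalPRankLE 2 1 f.ker := by
    refine rank_of_zpowers (c := (⟨a, C.aT⟩ : T)) ?_
    intro t ht
    rw [MonoidHom.mem_ker, hf, act_eq_one_iff] at ht
    rcases h t ((C.Qdef t).mpr ⟨t.2, ht⟩) with h3 | h3
    · have : t = 1 := Subtype.ext h3
      rw [this]; exact one_mem _
    · have : t = ⟨a, C.aT⟩ := Subtype.ext h3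
      rw [this]; exact mem_zpowers _
  have h2 : SectionalPRankLE 2 3 f.range :=
    rank_aut R _ (IsPGroup.of_surjective C.Tp f.rangeRestrict f.rangeRestrict_surjective)
  exact GH.Rank.of_extension f h1 h2

omit [Finite G] in
theorem eq_sylow {U : Subgroup G} (hU : IsPGroup 2 U) (hmax : ∀ V : Subgroup G, IsPGroup 2 V → U ≤ V → V ≤ U) :
    ∃ S : Sylow 2 G, (S : Subgroup G) = U := by
  obtain ⟨S, hS⟩ := hU.exists_le_sylow
  exact ⟨S, le_antisymm (hmax _ S.2 hS) hS⟩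

theorem rank_G {U : Subgroup G} (hU : IsPGroup 2 U)
    (hmax : ∀ V : Subgroup G, IsPGroup 2 V → U ≤ V → V ≤ U) {k : ℕ} (h : SectionalPRankLE 2 k U) :
    SectionalPRankLE 2 k G := by
  have : Fact (Nat.Prime 2) := ⟨Nat.prime_two⟩
  obtain ⟨S, hS⟩ := eq_sylow hU hmax
  refine TwoFusion.SectionalRank.sectionalPRankLE_of_sylow S ?_
  exact GH.Rank.of_le hS.le h

/-- three elements in a 2-group -/
theorem four_le {V : Subgroup G} (hV : IsPGroup 2 V) {a q : G} (ha : a ∈ V) (hq : q ∈ V) (ha1 : a ≠ 1)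
    (hq1 : q ≠ 1) (hqa : q ≠ a) : 4 ≤ Nat.card V := by
  have hp2 : Fact (Nat.Prime 2) := ⟨Nat.prime_two⟩
  obtain ⟨n, hn⟩ := hV.exists_card_eq
  have h5 : 3 ≤ Nat.card V := by
    let f : Fin 3 → V := ![1, ⟨a, ha⟩, ⟨q, hq⟩]
    have hf : Function.Injective f := by
      intro i j hij
      have h6 : ((f i : V) : G) = f j := congrArg Subtype.val hij
      fin_cases i <;> fin_cases j <;> simp [f] at h6 ⊢ <;>
        first
          | exact absurd h6 ha1
          | exact absurd h6.symm ha1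
          | exact absurd h6 hq1
          | exact absurd h6.symm hq1
          | exact absurd h6 hqa
          | exact absurd h6.symm hqa
    have h7 := Nat.card_le_card_of_injective f hf
    rwa [Nat.card_fin] at h7
  rw [hn] at h5 ⊢
  rcases n with _ | _ | n
  · omega
  · omega
  · rw [pow_add]
    have := Nat.one_le_two_pow (n := n)
    omega

/-- **`m(Q) ≥ 2`** -/
theorem exists_inv (hodd : ∀ N : Subgroup G, N.Normal → Odd (Nat.card N) → N = ⊥) (hc : center G = ⊥)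
    (hr : ¬ SectionalPRankLE 2 4 G) (H : Pgl G) (C : Fr a x d r s L T T₁ Q P)
    (hmax : ∀ V : Subgroup G, IsPGroup 2 V → T ≤ V → V ≤ T) :
    ∃ u ∈ Q, u * u = 1 ∧ u ≠ 1 ∧ u ≠ a := by
  obtain ⟨F, _, _, -, R, -⟩ := H.exists_rep C.tri
  by_contra hcon
  push Not at hcon
  have hQ : ∀ t, t ∈ T ⊓ GH.L2Frame.fix L → t ∈ Q := fun t ht =>
    (C.Qdef t).mpr ⟨ht.1, GH.L2Frame.mem_fix.mp ht.2⟩
  have hQ' : ∀ t, t ∈ Q → t ∈ T ⊓ GH.L2Frame.fix L := fun t ht =>
    ⟨((C.Qdef t).mp ht).1, GH.L2Frame.mem_fix.mpr ((C.Qdef t).mp ht).2⟩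
  by_cases h : ∀ q ∈ Q, q = 1 ∨ q = a
  · exact hr (rank_G C.Tp hmax (rank_T C R h))
  · push Not at h
    obtain ⟨q, hq, hq1, hqa⟩ := h
    apply hr
    refine OneQ.rank_of_one H C.tri hodd hc C.nor (T := T) ?_ ?_ ?_
    · exact (isSyl C).exists_sylow
    · intro u hu huu
      by_contra h1
      rw [not_or] at h1
      exact h1.2 (hcon u (hQ u hu) huu h1.1)
    · exact four_le (C.Tp.to_le inf_le_left) (hQ' _ C.aQ) (hQ' _ hq) C.a1 hq1 hqa

/-- **the element `n`** -/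
theorem exists_nx (hodd : ∀ N : Subgroup G, N.Normal → Odd (Nat.card N) → N = ⊥) (hc : center G = ⊥)
    (hr : ¬ SectionalPRankLE 2 4 G) (H : Pgl G) {v x : G} {L T : Subgroup G} (Tr : IsTriple x v L)
    (one : ∀ b : G, b * b = 1 → b * v = v * b → b * x = x * b → Fixes b L → b = 1 ∨ b = v)
    (hT : IsPGroup 2 T) (hmax : ∀ V : Subgroup G, IsPGroup 2 V → T ≤ V → V ≤ T)
    (hTv : T ≤ centralizer ({v} : Set G)) :
    ∃ n, Fixes n L ∧ n * v = v * n ∧ n * x * n⁻¹ = x * v := by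
  obtain ⟨F, _, _, -, R, ho⟩ := H.exists_rep Tr
  obtain ⟨T', T₁, Q, P, d, r, s, C⟩ := exists_fr Tr R ho one
  have hTs : IsSyl (centralizer ({v} : Set G)) T :=
    ⟨hT, hTv, fun U h1 _ h3 => le_antisymm (hmax U h1 h3) h3⟩
  obtain ⟨g, hg, hgT⟩ := (isSyl C).conj hT hTv
  -- `T'` is maximal
  have hmax' : ∀ V : Subgroup G, IsPGroup 2 V → T' ≤ V → V ≤ T' := by
    intro V hV hTV
    have h1 : IntrinsicBasic.cj g V ≤ T := by
      refine hmax _ (TriBase.isPGroup_cj hV) (hgT.trans ?_)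
      exact map_mono hTV
    have h2 : Nat.card V ≤ Nat.card T' := by
      have h3 : Nat.card (IntrinsicBasic.cj g V) ≤ Nat.card T := Nat.le_of_dvd Nat.card_pos (card_dvd_of_le h1)
      have h4 : Nat.card T ≤ Nat.card (IntrinsicBasic.cj g T') :=
        Nat.le_of_dvd Nat.card_pos (card_dvd_of_le hgT)
      rw [TriBase.card_cj] at h3 h4
      omega
    exact (eq_of_le_of_card_ge hTV h2).ge
  obtain ⟨u, hu, huu, hu1, hua⟩ := exists_inv hodd hc hr H C hmax'
  obtain ⟨n, hn, hnx⟩ := C.exists_n hu huu hu1 hua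
  exact ⟨n, ((C.Qdef n).mp hn).2, C.a_comm (C.QT hn), hnx⟩

end Cfsg.Agent.UGT.FourB.NxSup
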