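import Cfsg.Agent.UGT.Res.BBTools
import Cfsg.Agent.UGT.FourA.Facts

/-!
# #15806, section 4: two members `a, t` of `B`

`H` a finite group (the hats), `x` an involution of PGL type on `L ⊴ C(a)` and `J ⊴ C(t)`, `O` (the image of
`O(C(x))`) a group of odd order inverted by `at`, `C_O(a) ≤ L`, `C_O(t) ≤ J`, both nontrivial.

* `bothThird`: `at` is an involution of `L`: contradiction (4.1).
* `natural`: `t = s ∈ L`, `a ∈ J`: `[L, J] = 1` (4.2)-(4.5).
-/

set_option autoImplicit false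

open Subgroup Cfsg.Agent.OddHalf.D6 Cfsg.Agent.UGT.Res.EFacts
open Cfsg.Agent.UGT.ThE.Base (IsS K_conj L_conj)

namespace Cfsg.Agent.UGT.FourB.Pair

variable {H : Type*} [Group H] {L J O : Subgroup H}
variable {F : Type*} [Field F] [Finite F] {R : GH.L2Aut.Rep F L}
variable {E : Type*} [Field E] [Finite E] {R' : GH.L2Aut.Rep E J}

/-- `L ⊴ C(a)`, `x` of PGL type on `L`, `O ∩ C(a) ≤ L` nontrivial -/
structure Side (R : GH.L2Aut.Rep F L) (O : Subgroup H) (x a : H) : Prop where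
  cf : Cf R x
  big : 4 < Nat.card F
  La : ∀ l ∈ L, l * a = a * l
  nrm : ∀ c, c * a = a * c → c ∈ normalizer (L : Set H)
  DL : ∀ e ∈ O, e * a = a * e → e ∈ L
  D1 : ∃ e ∈ O, e * a = a * e ∧ e ≠ 1

/-- the image `O` of `O(C(x))` -/
structure Cor (O : Subgroup H) (x z : H) : Prop where
  comm : ∀ e ∈ O, e * x = x * e
  odd : ∀ e ∈ O, Odd (orderOf e)
  conj : ∀ c, c * x = x * c → ∀ e ∈ O, c * e * c⁻¹ ∈ O
  inv : ∀ e ∈ O, z * e * z⁻¹ = e⁻¹

/-- (4.0) -/
theorem trick {u z e : H} (hu : Odd (orderOf u)) (hz : z * u * z⁻¹ = u⁻¹) (he : z * e * z⁻¹ = e)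
    (hue : z * (u * e * u⁻¹) * z⁻¹ = u * e * u⁻¹) : u * e = e * u := by
  have h1 : z * (u * e * u⁻¹) * z⁻¹ = (z * u * z⁻¹) * (z * e * z⁻¹) * (z * u * z⁻¹)⁻¹ := by group
  rw [h1, hz, he, inv_inv] at hue
  have h2 : u * u ∈ centralizer ({e} : Set H) := by
    rw [mem_centralizer_singleton_iff]
    calc u * u * e = u * (u * e * u⁻¹) * u := by group
      _ = u * (u⁻¹ * e * u) * u := by rw [hue]
      _ = e * (u * u) := by group
  exact mem_centralizer_singleton_iff.mp (Res.PGLFacts.mem_of_sq_mem h2 hu)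

/-- (4.0), inverted elements -/
theorem trick' {u z e : H} (hu : Odd (orderOf u)) (hz : z * u * z⁻¹ = u⁻¹) (he : z * e * z⁻¹ = e⁻¹)
    (hue : z * (u * e * u⁻¹) * z⁻¹ = (u * e * u⁻¹)⁻¹) : u * e = e * u := by
  have h1 : z * (u * e * u⁻¹) * z⁻¹ = (z * u * z⁻¹) * (z * e * z⁻¹) * (z * u * z⁻¹)⁻¹ := by group
  rw [h1, hz, he, inv_inv] at hue
  have h3 : u⁻¹ * e * u = u * e * u⁻¹ := by
    have : (u⁻¹ * e⁻¹ * u)⁻¹ = u * e * u⁻¹ := by rw [hue, inv_inv]
    rw [← this]; group
  have h2 : u * u ∈ centralizer ({e} : Set H) := by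
    rw [mem_centralizer_singleton_iff]
    calc u * u * e = u * (u * e * u⁻¹) * u := by group
      _ = u * (u⁻¹ * e * u) * u := by rw [h3]
      _ = e * (u * u) := by group
  exact mem_centralizer_singleton_iff.mp (Res.PGLFacts.mem_of_sq_mem h2 hu)

/-- an involution of `C_L(x)` inverts the elements of odd order of `C_L(x)` -/
theorem inverts {x s y : H} (C : Cf R x) (hs : IsS L x s) (hy : y ∈ L) (hyx : y * x = x * y)
    (hyo : Odd (orderOf y)) : s * y * s⁻¹ = y⁻¹ := by
  have h1 := PglType.inverts R C.sq (C.o1 C.xN) ((act_fix C.xN hs.mem).mpr hs.comm)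
    (Subtype.ext hs.sq : (⟨s, hs.mem⟩ : L) * ⟨s, hs.mem⟩ = 1) (fun h => hs.ne (congrArg Subtype.val h))
    ((act_fix C.xN hy).mpr hyx) (b := ⟨y, hy⟩) (by rwa [Subgroup.orderOf_mk])
  exact congrArg Subtype.val h1

/-- `x s` is of PGL type -/
theorem cf_mul {x s : H} (C : Cf R x) (hs : IsS L x s) : Cf R (x * s) where
  xx := by
    calc x * s * (x * s) = x * (s * x) * s := by group
      _ = (x * x) * (s * s) := by rw [hs.comm]; group
      _ = 1 := by rw [C.xx, hs.sq, one_mul]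
  xN := mul_mem C.xN (le_normalizer hs.mem)
  o1 h := by
    rw [← act_mul C.xN (le_normalizer hs.mem), act_of_mem hs.mem, map_mul, C.o1, R.o1_conj, mul_one]

/-- elements of the same odd order fixed by `α` generate the same group -/
theorem mem_zpowers {K : Type*} [Group K] {F : Type*} [Field F] [Finite F] (R : GH.L2Aut.Rep F K)
    {α : MulAut K} (h : α * α = 1) (ho : R.o1 α = -1) {y y' : K} (hy : α y = y)
    (hyo : Odd (orderOf y)) (hy' : α y' = y') (he : orderOf y' = orderOf y) : y' ∈ zpowers y := by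
  have := R.finite
  have hP := (PglType.pgl_of R h ho).1
  obtain ⟨g, rfl⟩ := R.mem_PGL.1 hP
  have htr := R.tr_of_inv (PglType.ne_one R ho) h
  have key : ∀ z : K, R.gl g z = z → Odd (orderOf z) → z ∈ OddCyclic.PGLTorus.Cp R g := by
    intro z hz hzo
    rcases OddCyclic.PGLTorus.mem_Cp_or_sq R hz with h1 | h1
    · exact h1
    · rw [PglType.eq_one_of_odd_sq h1 hzo]; exact one_mem _
  have h1 := key y hy hyo
  have h2 := key y' hy' (by rw [he]; exact hyo)
  have hcyc : IsCyclic (OddCyclic.PGLTorus.Cp R g) := OddCyclic.PGLTorus.isCyclic_Cp R htr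
  set C := OddCyclic.PGLTorus.Cp R g with hC
  classical
  have := Fintype.ofFinite C
  have hpos : 0 < orderOf y := orderOf_pos y
  have h3 := IsCyclic.card_pow_eq_one_le (α := C) (n := orderOf y) hpos
  have h4 : (zpowers (⟨y, h1⟩ : C) : Set C).toFinset ⊆ (Finset.univ.filter fun a : C => a ^ orderOf y = 1) := by
    intro z hz
    rw [Set.mem_toFinset] at hz
    obtain ⟨k, hk⟩ := mem_zpowers_iff.mp hz
    rw [Finset.mem_filter]
    refine ⟨Finset.mem_univ _, ?_⟩
    rw [← hk, ← zpow_natCast, ← zpow_mul, mul_comm, zpow_mul, zpow_natCast]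
    have : (⟨y, h1⟩ : C) ^ orderOf y = 1 := Subtype.ext (by rw [Subgroup.coe_pow, pow_orderOf_eq_one]; rfl)
    rw [this, one_zpow]
  have h5 : (zpowers (⟨y, h1⟩ : C) : Set C).toFinset.card = orderOf y := by
    rw [Set.toFinset_card]
    have : Fintype.card (zpowers (⟨y, h1⟩ : C)) = orderOf (⟨y, h1⟩ : C) := Fintype.card_zpowers
    rw [Subgroup.orderOf_mk] at this
    rw [← this]
    exact Fintype.card_congr (Equiv.refl _)
  have h6 := Finset.eq_of_subset_of_card_le h4 (by rw [h5]; exact h3)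
  have h7 : (⟨y', h2⟩ : C) ∈ (Finset.univ.filter fun a : C => a ^ orderOf y = 1) := by
    rw [Finset.mem_filter]
    exact ⟨Finset.mem_univ _, Subtype.ext (by rw [Subgroup.coe_pow, ← he, pow_orderOf_eq_one]; rfl)⟩
  rw [← h6, Set.mem_toFinset] at h7
  obtain ⟨k, hk⟩ := mem_zpowers_iff.mp h7
  exact mem_zpowers_iff.mpr ⟨k, by simpa using congrArg Subtype.val hk⟩

theorem odd_conj {g y : H} (h : Odd (orderOf y)) : Odd (orderOf (g * y * g⁻¹)) := by
  rwa [orderOf_injective (MulAut.conj g).toMonoidHom (MulAut.conj g).injective y |>.symm] at h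

theorem fld_one {x : H} (C : Cf R x) {y : H} (hy : y ∈ L) (hyx : y * x = x * y) :
    act L x C.xN ⟨y, hy⟩ = ⟨y, hy⟩ := (act_fix C.xN hy).mpr hyx

section both

variable {x a t : H}

/-- elements of odd order of `C_L(x)` commute with `O`, if an involution of `C_L(x)` inverts `O` -/
theorem comm_of_inv {z : H} (hO : Cor O x z) (C : Cf R x) (hz : IsS L x z) {y : H} (hy : y ∈ L)
    (hyx : y * x = x * y) (hyo : Odd (orderOf y)) : ∀ e ∈ O, y * e = e * y := fun e he =>
  trick' hyo (inverts C hz hy hyx hyo) (hO.inv e he) (hO.inv _ (hO.conj y hyx e he))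

/-- **(4.1)** the third element of `W₄` is not in both `L` and `J`. -/
theorem bothThird [Finite H] {n : H} (S₁ : Side R O x a) (S₂ : Side R' O x t) (hO : Cor O x (a * t))
    (hz : IsS L x (a * t)) (haa : a * a = 1) (hat : a * t = t * a) (nL : ∀ l ∈ L, n * l = l * n)
    (nx : n * x * n⁻¹ = x * a) (na : n * a = a * n) : False := by
  obtain ⟨z, hzd⟩ : ∃ z, z = a * t := ⟨_, rfl⟩
  rw [← hzd] at hO hz
  have htz : t = a * z := by rw [hzd, ← mul_assoc, haa, one_mul]
  obtain ⟨p, hp, hpz, hpx⟩ := FourA.Facts.xs S₁.cf hz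
  -- `g = p n`
  obtain ⟨g, hg⟩ : ∃ g, g = p * n := ⟨_, rfl⟩
  have hpt : p * t = t * p := by
    rw [htz, ← mul_assoc, S₁.La p hp, mul_assoc, hpz, mul_assoc]
  have hnt : n * t = t * n := by
    rw [htz, ← mul_assoc, na, mul_assoc, nL z hz.mem, mul_assoc]
  have hgt : g * t = t * g := by
    rw [hg, mul_assoc, hnt, ← mul_assoc, hpt, mul_assoc]
  have hgJ := S₂.nrm g hgt
  have hgx : g * x * g⁻¹ = x * t := by
    have e1 : g * x * g⁻¹ = p * (n * x * n⁻¹) * p⁻¹ := by rw [hg]; group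
    have e2 : p * (x * a) * p⁻¹ = (p * x * p⁻¹) * (p * a * p⁻¹) := by group
    have e3 : p * a * p⁻¹ = a := by rw [S₁.La p hp]; group
    rw [e1, nx, e2, e3, hpx, mul_assoc, S₁.La z hz.mem, ← htz]
  -- `g` and `g⁻¹` act on `C_O(t)`
  have key : ∀ h : H, h ∈ normalizer (J : Set H) → h * x * h⁻¹ = x * t → ∀ e ∈ O, e * t = t * e →
      h * e * h⁻¹ ∈ O ∧ h * e * h⁻¹ * t = t * (h * e * h⁻¹) := by
    intro h hh hx e he het
    have heJ := S₂.DL e he het
    have h1 : h * e * h⁻¹ ∈ J := L_conj hh heJ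
    have hc : h * e * h⁻¹ * t = t * (h * e * h⁻¹) := S₂.La _ h1
    have h2 : h * e * h⁻¹ * (x * t) = x * t * (h * e * h⁻¹) := by
      rw [← hx]
      calc h * e * h⁻¹ * (h * x * h⁻¹) = h * (e * x) * h⁻¹ := by group
        _ = h * (x * e) * h⁻¹ := by rw [hO.comm e he]
        _ = _ := by group
    have h3 : h * e * h⁻¹ * x = x * (h * e * h⁻¹) := by
      have h4 : h * e * h⁻¹ * x * t = x * (h * e * h⁻¹) * t := by
        calc h * e * h⁻¹ * x * t = h * e * h⁻¹ * (x * t) := by group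
          _ = x * t * (h * e * h⁻¹) := h2
          _ = x * (t * (h * e * h⁻¹)) := by group
          _ = x * (h * e * h⁻¹ * t) := by rw [hc]
          _ = _ := by group
      exact mul_right_cancel h4
    have h5 := mem_zpowers R' S₂.cf.sq (S₂.cf.o1 S₂.cf.xN) (fld_one S₂.cf heJ (hO.comm e he))
      (by rw [Subgroup.orderOf_mk]; exact hO.odd e he) (fld_one S₂.cf h1 h3)
      (by rw [Subgroup.orderOf_mk, Subgroup.orderOf_mk]
          exact orderOf_injective (MulAut.conj h).toMonoidHom (MulAut.conj h).injective e)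
    obtain ⟨k, hk⟩ := mem_zpowers_iff.mp h5
    have h6 : e ^ k = h * e * h⁻¹ := by simpa using congrArg Subtype.val hk
    exact ⟨h6 ▸ zpow_mem he k, hc⟩
  have hgi : g⁻¹ * x * g⁻¹⁻¹ = x * t := by
    have h1 : g⁻¹ * (x * t) * g = x := by rw [← hgx]; group
    have h2 : g⁻¹ * t * g = t := by
      calc g⁻¹ * t * g = g⁻¹ * (t * g) := by group
        _ = g⁻¹ * (g * t) := by rw [hgt]
        _ = t := by group
    have htt : t * t = 1 := by
      calc t * t = a * z * t := by rw [← htz]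
        _ = a * (a * t) * t := by rw [hzd]
        _ = t * t := by rw [← mul_assoc, haa, one_mul]
        _ = 1 := by
          have : a * t * (a * t) = 1 := by rw [← hzd]; exact hz.sq
          calc t * t = (a * a) * (t * t) := by rw [haa, one_mul]
            _ = a * (a * t) * t := by group
            _ = a * (t * a) * t := by rw [hat]
            _ = 1 := by rw [← this]; group
    have h3 : g⁻¹ * (x * t) * g = (g⁻¹ * x * g) * (g⁻¹ * t * g) := by group
    rw [h1, h2] at h3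
    rw [inv_inv]
    calc g⁻¹ * x * g = g⁻¹ * x * g * (t * t) := by rw [htt, mul_one]
      _ = (g⁻¹ * x * g * t) * t := by group
      _ = x * t := by rw [← h3]
  have hconj : ∀ e ∈ O, e * t = t * e → ∃ e' ∈ O, e = g * e' * g⁻¹ := by
    intro e he het
    obtain ⟨h1, -⟩ := key g⁻¹ (inv_mem hgJ) hgi e he het
    exact ⟨_, h1, by group⟩
  -- `L` centralizes `C_O(t)`
  have hL : L ≤ centralizer {e | e ∈ O ∧ e * t = t * e} := by
    refine Res.BBTools.gen2 S₁.cf S₁.big hz ?_ ?_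
    · intro y hy hyx hyo
      rw [mem_centralizer_iff]
      rintro e ⟨he, -⟩
      exact (comm_of_inv hO S₁.cf hz hy hyx hyo e he).symm
    · intro y hy hyx hyo
      rw [mem_centralizer_iff]
      rintro e ⟨he, het⟩
      obtain ⟨e', he', rfl⟩ := hconj e he het
      obtain ⟨w, hw⟩ : ∃ w, w = p⁻¹ * y * p := ⟨_, rfl⟩
      have hwL : w ∈ L := by rw [hw]; exact mul_mem (mul_mem (inv_mem hp) hy) hp
      have hwx : w * x = x * w := by
        have h1 : x = p⁻¹ * (x * z) * p := by rw [← hpx]; group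
        rw [hw]
        calc p⁻¹ * y * p * x = p⁻¹ * y * p * (p⁻¹ * (x * z) * p) := by rw [← h1]
          _ = p⁻¹ * (y * (x * z)) * p := by group
          _ = p⁻¹ * (x * z * y) * p := by rw [hyx]
          _ = (p⁻¹ * (x * z) * p) * (p⁻¹ * y * p) := by group
          _ = _ := by rw [← h1]
      have hwo : Odd (orderOf w) := by
        have := odd_conj (g := p⁻¹) hyo
        rwa [inv_inv, ← hw] at this
      have h2 := comm_of_inv hO S₁.cf hz hwL hwx hwo e' he'
      have h3 : y = g * w * g⁻¹ := by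
        calc y = p * w * p⁻¹ := by rw [hw]; group
          _ = p * (w * n) * n⁻¹ * p⁻¹ := by group
          _ = p * (n * w) * n⁻¹ * p⁻¹ := by rw [nL w hwL]
          _ = _ := by rw [hg]; group
      rw [h3]
      calc g * e' * g⁻¹ * (g * w * g⁻¹) = g * (e' * w) * g⁻¹ := by group
        _ = g * (w * e') * g⁻¹ := by rw [h2]
        _ = _ := by group
  obtain ⟨e, he, het, he1⟩ := S₂.D1
  have h1 : e * z = z * e := mem_centralizer_iff.mp (hL hz.mem) e ⟨he, het⟩
  have h2 := hO.inv e he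
  rw [← h1, mul_inv_cancel_right] at h2
  refine he1 (PglType.eq_one_of_odd_sq ?_ (hO.odd e he))
  nth_rw 1 [h2]
  exact inv_mul_cancel e

end both

section nat

variable {x a s n : H}

/-- `e ∈ O` commutes with `a` iff `s` inverts it -/
theorem Cor.comm_iff (hO : Cor O x (a * s)) (haa : a * a = 1) {e : H} (he : e ∈ O) :
    e * a = a * e ↔ s * e * s⁻¹ = e⁻¹ := by
  have h1 := hO.inv e he
  have h2 : a * s * e * (a * s)⁻¹ = a * (s * e * s⁻¹) * a⁻¹ := by group
  have hai : a⁻¹ = a := inv_eq_of_mul_eq_one_right haa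
  rw [h2] at h1
  constructor
  · intro h
    have h3 : s * e * s⁻¹ = a⁻¹ * e⁻¹ * a := by rw [← h1]; group
    rw [h3]
    calc a⁻¹ * e⁻¹ * a = a⁻¹ * e⁻¹ * (a * e) * e⁻¹ := by group
      _ = a⁻¹ * e⁻¹ * (e * a) * e⁻¹ := by rw [h]
      _ = e⁻¹ := by group
  · intro h
    rw [h] at h1
    have h3 : a * e⁻¹ = e⁻¹ * a := by
      calc a * e⁻¹ = a * e⁻¹ * a⁻¹ * a := by group
        _ = _ := by rw [h1]
    calc e * a = e * (a * e⁻¹) * e := by group
      _ = e * (e⁻¹ * a) * e := by rw [h3]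
      _ = a * e := by group

/-- (4.2) `[J, D_a] = 1` -/
theorem comm_D (S₁ : Side R O x a) (S₂ : Side R' O x s) (hO : Cor O x (a * s)) (haa : a * a = 1)
    (hs : IsS L x s) (ha : IsS J x a) (nL : ∀ l ∈ L, n * l = l * n) (nx : n * x * n⁻¹ = x * a) :
    J ≤ centralizer {e | e ∈ O ∧ e * a = a * e} := by
  have key : ∀ y ∈ J, y * x = x * y → Odd (orderOf y) → ∀ e ∈ O, e * a = a * e → y * e = e * y := by
    intro y hy hyx hyo e he hea
    have hys := S₂.La y hy
    have h1 : a * e * a⁻¹ = e := by rw [← hea]; group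
    refine trick hyo (inverts S₂.cf ha hy hyx hyo) h1 ?_
    have h2 : y * e * y⁻¹ ∈ O := hO.conj y hyx e he
    have h3 : y * e * y⁻¹ * a = a * (y * e * y⁻¹) := by
      rw [hO.comm_iff haa h2]
      have h4 := (hO.comm_iff haa he).mp hea
      calc s * (y * e * y⁻¹) * s⁻¹ = (s * y) * e * (s * y)⁻¹ := by group
        _ = (y * s) * e * (y * s)⁻¹ := by rw [hys]
        _ = y * (s * e * s⁻¹) * y⁻¹ := by group
        _ = _ := by rw [h4]; group
    rw [← h3]; group
  refine Res.BBTools.gen2 S₂.cf S₂.big ha ?_ ?_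
  · intro y hy hyx hyo
    rw [mem_centralizer_iff]
    rintro e ⟨he, hea⟩
    exact (key y hy hyx hyo e he hea).symm
  · intro y hy hyx hyo
    rw [mem_centralizer_iff]
    rintro e ⟨he, hea⟩
    have hnJ : n ∈ normalizer (J : Set H) := S₂.nrm n (nL s hs.mem)
    obtain ⟨w, hw⟩ : ∃ w, w = n⁻¹ * y * n := ⟨_, rfl⟩
    have hwJ : w ∈ J := by
      have := L_conj (inv_mem hnJ) hy
      rwa [inv_inv, ← hw] at this
    have hwx : w * x = x * w := by
      have h1 : x = n⁻¹ * (x * a) * n := by rw [← nx]; group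
      rw [hw]
      calc n⁻¹ * y * n * x = n⁻¹ * y * n * (n⁻¹ * (x * a) * n) := by rw [← h1]
        _ = n⁻¹ * (y * (x * a)) * n := by group
        _ = n⁻¹ * (x * a * y) * n := by rw [hyx]
        _ = (n⁻¹ * (x * a) * n) * (n⁻¹ * y * n) := by group
        _ = _ := by rw [← h1]
    have hwo : Odd (orderOf w) := by
      have := odd_conj (g := n⁻¹) hyo
      rwa [inv_inv, ← hw] at this
    have h2 := key w hwJ hwx hwo e he hea
    have h3 : y = n * w * n⁻¹ := by rw [hw]; group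
    have h4 : n * e * n⁻¹ = e := by rw [nL e (S₁.DL e he hea)]; group
    calc e * y = (n * e * n⁻¹) * (n * w * n⁻¹) := by rw [h4, h3]
      _ = n * (e * w) * n⁻¹ := by group
      _ = n * (w * e) * n⁻¹ := by rw [h2]
      _ = (n * w * n⁻¹) * (n * e * n⁻¹) := by group
      _ = y * e := by rw [h4, h3]

/-- (4.3) an involution of `J` commuting with `a` centralizes `L` -/
theorem cen_of_comm [Finite H] (S₁ : Side R O x a) (S₂ : Side R' O x s) (hO : Cor O x (a * s)) (haa : a * a = 1)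
    (hs : IsS L x s) (ha : IsS J x a) (nL : ∀ l ∈ L, n * l = l * n) (nx : n * x * n⁻¹ = x * a)
    {b : H} (hb : b ∈ J) (hbb : b * b = 1) (hba : b * a = a * b) : b ∈ centralizer (L : Set H) := by
  have hJ := comm_D S₁ S₂ hO haa hs ha nL nx
  obtain ⟨p, hp, hps, hpx⟩ := FourA.Facts.xs S₁.cf hs
  obtain ⟨e, he, hea, he1⟩ := S₁.D1
  have heL := S₁.DL e he hea
  have hbN := S₁.nrm b hba
  have hb2 : ∃ k : ℕ, b ^ 2 ^ k = 1 := ⟨1, by rw [pow_one, pow_two, hbb]⟩
  have hbe : b * e = e * b := (mem_centralizer_iff.mp (hJ hb) e ⟨he, hea⟩).symm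
  have h1 := S₁.cf.aut heL he1 (hO.odd e he) (hO.comm e he) hbN hbe hb2
  -- the same for `p e p⁻¹`
  have hpJ : p ∈ normalizer (J : Set H) := S₂.nrm p hps
  have hb' : p⁻¹ * b * p ∈ J := by
    have := L_conj (inv_mem hpJ) hb
    rwa [inv_inv] at this
  have hbe' : p⁻¹ * b * p * e = e * (p⁻¹ * b * p) :=
    (mem_centralizer_iff.mp (hJ hb') e ⟨he, hea⟩).symm
  have hbp : b * (p * e * p⁻¹) = p * e * p⁻¹ * b := by
    calc b * (p * e * p⁻¹) = p * (p⁻¹ * b * p * e) * p⁻¹ := by group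
      _ = p * (e * (p⁻¹ * b * p)) * p⁻¹ := by rw [hbe']
      _ = _ := by group
  have hpe : p * e * p⁻¹ * (x * s) = x * s * (p * e * p⁻¹) := by
    rw [← hpx]
    calc p * e * p⁻¹ * (p * x * p⁻¹) = p * (e * x) * p⁻¹ := by group
      _ = p * (x * e) * p⁻¹ := by rw [hO.comm e he]
      _ = _ := by group
  have h2 := (cf_mul S₁.cf hs).aut (mul_mem (mul_mem hp heL) (inv_mem hp))
    (fun h => he1 (by
      have : e = p⁻¹ * (p * e * p⁻¹) * p := by group
      rw [this, h]; group))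
    (odd_conj (hO.odd e he)) hpe hbN hbp hb2
  rcases h1 with h1 | h1
  · exact h1
  rcases h2 with h2 | h2
  · exact h2
  exfalso
  have h3 : s ∈ centralizer (L : Set H) := by
    have := mul_mem (inv_mem h1) h2
    have e1 : (b * x)⁻¹ * (b * (x * s)) = s := by group
    rwa [e1] at this
  exact hs.ne (eq_one_of_mem_centralizer R hs.mem h3)

/-- (4.4) -/
theorem mem_of_comm [Finite H] (S₁ : Side R O x a) (S₂ : Side R' O x s) (hO : Cor O x (a * s))
    (haa : a * a = 1) (hs : IsS L x s) (ha : IsS J x a) (nL : ∀ l ∈ L, n * l = l * n)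
    (nx : n * x * n⁻¹ = x * a) {j : H} (hj : j ∈ J) (hja : a * (j * a * j⁻¹) = j * a * j⁻¹ * a) :
    j ∈ normalizer (L : Set H) := by
  have hb : j * a * j⁻¹ ∈ J := mul_mem (mul_mem hj ha.mem) (inv_mem hj)
  have hbb : j * a * j⁻¹ * (j * a * j⁻¹) = 1 := by
    calc j * a * j⁻¹ * (j * a * j⁻¹) = j * (a * a) * j⁻¹ := by group
      _ = 1 := by rw [haa]; group
  have hc := cen_of_comm S₁ S₂ hO haa hs ha nL nx hb hbb hja.symm
  have hjs : j * s * j⁻¹ = s := by rw [S₂.La j hj]; group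
  have hY : zpowers s ≠ ⊥ := fun h => hs.ne (zpowers_eq_bot.mp h)
  have hsL : zpowers s ≤ L := zpowers_le.mpr hs.mem
  have hle : L ≤ L.map (MulAut.conj j).toMonoidHom := by
    refine gen R (lt_trans (by norm_num) S₁.big) hsL hY _ fun l hl y hy => ?_
    -- `j⁻¹ l j` normalizes `L`
    have h1 : j⁻¹ * l * j * a = a * (j⁻¹ * l * j) := by
      have h2 := mem_centralizer_iff.mp hc l hl
      calc j⁻¹ * l * j * a = j⁻¹ * (l * (j * a * j⁻¹)) * j := by group
        _ = j⁻¹ * (j * a * j⁻¹ * l) * j := by rw [h2]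
        _ = _ := by group
    have h3 := S₁.nrm _ h1
    obtain ⟨k, rfl⟩ := mem_zpowers_iff.mp hy
    have h4 : j * s ^ k * j⁻¹ = s ^ k := by rw [← conj_zpow, hjs]
    have h5 : l * s ^ k * l⁻¹ = j * ((j⁻¹ * l * j) * s ^ k * (j⁻¹ * l * j)⁻¹) * j⁻¹ := by
      nth_rw 1 [← h4]; group
    rw [h5]
    exact ⟨_, L_conj h3 (zpow_mem hs.mem k), rfl⟩
  have heq : L = L.map (MulAut.conj j).toMonoidHom := by
    refine Subgroup.eq_of_le_of_card_ge hle ?_
    rw [Nat.card_congr (Subgroup.equivMapOfInjective L _ (MulAut.conj j).injective).symm.toEquiv]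
  rw [mem_normalizer_iff]
  intro g
  constructor
  · intro hg
    rw [heq]
    exact ⟨g, hg, rfl⟩
  · intro hg
    rw [heq] at hg
    obtain ⟨g', hg', h⟩ := hg
    have : g' = g := by
      have h' : j * g' * j⁻¹ = j * g * j⁻¹ := h
      exact mul_left_cancel (mul_right_cancel h')
    rwa [← this]

/-- **(4.2)-(4.5)** `[L, J] = 1`. `hSE` is the SE-lemma for `a ∈ J`. -/
theorem natural [Finite H] (S₁ : Side R O x a) (S₂ : Side R' O x s) (hO : Cor O x (a * s))
    (haa : a * a = 1) (hs : IsS L x s) (ha : IsS J x a) (nL : ∀ l ∈ L, n * l = l * n)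
    (nx : n * x * n⁻¹ = x * a)
    (hSE : ∀ K : Subgroup H, (∀ j ∈ J, a * (j * a * j⁻¹) = j * a * j⁻¹ * a → j ∈ K) → J ≤ K) :
    ∀ l ∈ L, ∀ j ∈ J, l * j = j * l := by
  have hN : J ≤ normalizer (L : Set H) := hSE _ fun j hj h =>
    mem_of_comm S₁ S₂ hO haa hs ha nL nx hj h
  have hY : zpowers a ≠ ⊥ := fun h => ha.ne (zpowers_eq_bot.mp h)
  have haL : a ∈ centralizer (L : Set H) := by
    rw [mem_centralizer_iff]
    exact fun l hl => S₁.La l hl
  have hle : J ≤ centralizer (L : Set H) := by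
    refine gen R' (lt_trans (by norm_num) S₂.big) (zpowers_le.mpr ha.mem) hY _ fun j hj y hy => ?_
    obtain ⟨k, rfl⟩ := mem_zpowers_iff.mp hy
    exact K_conj (hN hj) (zpow_mem haL k)
  intro l hl j hj
  exact mem_centralizer_iff.mp (hle hj) l hl

end nat

end Cfsg.Agent.UGT.FourB.Pair
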