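import Cfsg.Agent.UGT.FourB.Pair
import Cfsg.Agent.UGT.FourB.KB
import Cfsg.Agent.UGT.Q2.RepTr
import Cfsg.Agent.Intrinsic.Lifting

/-!
# The transport to `M / W`, `M = N(W)`

`PairG R R' W L J x a t n`: two triples `(x, a, L)`, `(x, t, J)` of PGL type, `W` of odd order with
`W ∩ C(a) = O(C(a))`, `W ∩ C(t) = O(C(t))`, `O(C(x)) ∩ C(at) ≤ W`, `n ∈ C(a)` trivial on `L / O(L)`, `n x n⁻¹ = x a`.

* `PairG.both`: `at` is an involution of `L`, and `a` or `at` is in `J`: contradiction;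
* `PairG.natural`: `t ∈ L`, `a ∈ J`: `[L, J] ≤ W`.
-/

set_option autoImplicit false
set_option linter.dupNamespace false

open Cfsg Subgroup
open Cfsg.Agent.SignalizersComponents Cfsg.Agent.Lib
open Cfsg.Agent.SignalizersComponents.IntrinsicBasic
open Cfsg.Agent.Intrinsic.Basic
open Cfsg.Agent.McLLyComp.Act
open Cfsg.Agent.UGT.Triple
open Cfsg.Agent.UGT.Res.EFacts (Cf)
open Cfsg.Agent.UGT.ThE.Base (IsS)
open Cfsg.Agent.UGT.FourB.Pair
open scoped commutatorElement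

namespace Cfsg.Agent.UGT.FourB.PairG

universe u

/-- a fixed-point-free involution inverts a group of odd order -/
theorem inv_of_free {H : Type*} [Group H] [Finite H] {O : Subgroup H} {z : H} (hzz : z * z = 1)
    (hn : ∀ e ∈ O, z * e * z⁻¹ ∈ O) (hfree : ∀ e ∈ O, z * e = e * z → e = 1) :
    ∀ e ∈ O, z * e * z⁻¹ = e⁻¹ := by
  have hz : z⁻¹ = z := inv_eq_of_mul_eq_one_left hzz
  let f : O → O := fun e => ⟨(e : H)⁻¹ * (z * e * z⁻¹), mul_mem (inv_mem e.2) (hn e e.2)⟩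
  have hf : Function.Injective f := by
    intro e e' h
    have h1 : (e : H)⁻¹ * (z * e * z⁻¹) = (e' : H)⁻¹ * (z * e' * z⁻¹) := congrArg Subtype.val h
    have h2 : z * ((e' : H) * (e : H)⁻¹) = (e' : H) * (e : H)⁻¹ * z := by
      calc z * ((e' : H) * (e : H)⁻¹) = (z * e' * z⁻¹) * (z * e * z⁻¹)⁻¹ * z := by group
        _ = e' * ((e' : H)⁻¹ * (z * e' * z⁻¹)) * (z * e * z⁻¹)⁻¹ * z := by group
        _ = e' * ((e : H)⁻¹ * (z * e * z⁻¹)) * (z * e * z⁻¹)⁻¹ * z := by rw [h1]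
        _ = _ := by group
    have h3 := hfree _ (mul_mem e'.2 (inv_mem e.2)) h2
    exact Subtype.ext (mul_inv_eq_one.mp h3).symm
  intro e he
  obtain ⟨y, hy⟩ := (Finite.injective_iff_surjective.mp hf) ⟨e, he⟩
  have h1 : (y : H)⁻¹ * (z * y * z⁻¹) = e := congrArg Subtype.val hy
  rw [← h1]
  calc z * ((y : H)⁻¹ * (z * y * z⁻¹)) * z⁻¹ = z * (y : H)⁻¹ * z * y * (z * z)⁻¹ := by group
    _ = z * (y : H)⁻¹ * z⁻¹ * y := by rw [hzz, hz]; group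
    _ = _ := by group

section img

variable {G : Type u} [Group G] {H : Type u} [Group H] {M W : Subgroup G} (π : ↥M →* H)

/-- the image of a subgroup -/
def img (L : Subgroup G) : Subgroup H := (L.subgroupOf M).map π

theorem mem_img {L : Subgroup G} {h : H} : h ∈ img π L ↔ ∃ l, ∃ hM : l ∈ M, l ∈ L ∧ π ⟨l, hM⟩ = h := by
  constructor
  · rintro ⟨⟨l, hM⟩, hl, rfl⟩
    exact ⟨l, hM, hl, rfl⟩
  · rintro ⟨l, hM, hl, rfl⟩
    exact ⟨⟨l, hM⟩, hl, rfl⟩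

theorem img_mem {L : Subgroup G} {l : G} (hM : l ∈ M) (hl : l ∈ L) : π ⟨l, hM⟩ ∈ img π L :=
  (mem_img π).mpr ⟨l, hM, hl, rfl⟩

variable (hπ : Function.Surjective π) (hker : ∀ m : ↥M, π m = 1 ↔ (m : G) ∈ W)
include hπ hker

/-- lifting of centralizers -/
theorem lift_comm [Finite G] (hWodd : Odd (Nat.card W)) (hMW : M ≤ normalizer (W : Set G)) (hWM : W ≤ M)
    {v : G} (hv : v ∈ M) (hvv : v * v = 1) {c : H} (hc : c * π ⟨v, hv⟩ = π ⟨v, hv⟩ * c) :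
    ∃ c' : G, ∃ hM : c' ∈ M, c' * v = v * c' ∧ π ⟨c', hM⟩ = c := by
  obtain ⟨⟨m, hm⟩, rfl⟩ := hπ c
  have h1 : m⁻¹ * (v * m * v⁻¹) ∈ W := by
    have : π (⟨m, hm⟩⁻¹ * (⟨v, hv⟩ * ⟨m, hm⟩ * ⟨v, hv⟩⁻¹)) = 1 := by
      rw [map_mul, map_mul, map_mul, map_inv, map_inv, ← hc]
      group
    exact (hker _).mp this
  obtain ⟨o, ho, hco⟩ := Intrinsic.Lifting.exists_commute (n := 1) hWodd (v := v)
    (by rw [pow_one, pow_two, hvv]) (hMW hv) h1
  refine ⟨m * o, mul_mem hm (hWM ho), hco.symm, ?_⟩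
  have h2 : (⟨m * o, mul_mem hm (hWM ho)⟩ : ↥M) = ⟨m, hm⟩ * ⟨o, hWM ho⟩ := rfl
  rw [h2, map_mul, (hker ⟨o, hWM ho⟩).mpr ho, mul_one]

omit hπ in
/-- lifting of centralizers in a subgroup `D` of odd order -/
theorem lift_comm_odd [Finite G] {D : Subgroup G} (hD : Odd (Nat.card D)) (hMW : M ≤ normalizer (W : Set G))
    {v : G} (hv : v ∈ M) (hvv : v * v = 1) (hvD : ∀ d ∈ D, v * d * v⁻¹ ∈ D) {d : G} (hdM : d ∈ M) (hd : d ∈ D)
    (hc : π ⟨d, hdM⟩ * π ⟨v, hv⟩ = π ⟨v, hv⟩ * π ⟨d, hdM⟩) (hDM : D ≤ M) :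
    ∃ d' ∈ D, ∃ hM : d' ∈ M, d' * v = v * d' ∧ π ⟨d', hM⟩ = π ⟨d, hdM⟩ := by
  have h1 : d⁻¹ * (v * d * v⁻¹) ∈ W ⊓ D := by
    refine Subgroup.mem_inf.mpr ⟨?_, D.mul_mem (D.inv_mem hd) (hvD d hd)⟩
    have : π (⟨d, hdM⟩⁻¹ * (⟨v, hv⟩ * ⟨d, hdM⟩ * ⟨v, hv⟩⁻¹)) = 1 := by
      rw [map_mul, map_mul, map_mul, map_inv, map_inv, ← hc]
      group
    exact (hker _).mp this
  have hvi : v⁻¹ = v := inv_eq_of_mul_eq_one_left hvv
  have hn : v ∈ normalizer ((W ⊓ D : Subgroup G) : Set G) := by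
    have hW := mem_normalizer_iff.mp (hMW hv)
    rw [mem_normalizer_iff]
    intro y
    constructor
    · rintro ⟨h1, h2⟩
      exact ⟨(hW y).mp h1, hvD y h2⟩
    · rintro ⟨h1, h2⟩
      refine ⟨(hW y).mpr h1, ?_⟩
      have h3 := hvD _ h2
      have h4 : v * (v * y * v⁻¹) * v⁻¹ = (v * v) * y * (v * v)⁻¹ := by group
      rwa [h4, hvv, inv_one, mul_one, one_mul] at h3
  have hodd : Odd (Nat.card ↥(W ⊓ D)) := Odd.of_dvd_nat hD (card_dvd_of_le inf_le_right)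
  obtain ⟨o, ho, hco⟩ := Intrinsic.Lifting.exists_commute (n := 1) hodd (v := v)
    (by rw [pow_one, pow_two, hvv]) hn h1
  refine ⟨d * o, mul_mem hd ho.2, mul_mem hdM (hDM ho.2), hco.symm, ?_⟩
  have h2 : (⟨d * o, mul_mem hdM (hDM ho.2)⟩ : ↥M) = ⟨d, hdM⟩ * ⟨o, hDM ho.2⟩ := rfl
  rw [h2, map_mul, (hker ⟨o, hDM ho.2⟩).mpr ho.1, mul_one]

end img

section bar

variable {G : Type u} [Group G] {H : Type u} [Group H] {M W L : Subgroup G} (π : ↥M →* H)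

/-- the restriction of `π` to `L` -/
def res (hLM : L ≤ M) : ↥L →* ↥(img π L) where
  toFun l := ⟨π ⟨l, hLM l.2⟩, img_mem π _ l.2⟩
  map_one' := Subtype.ext (map_one π)
  map_mul' a b := Subtype.ext (map_mul π ⟨a, hLM a.2⟩ ⟨b, hLM b.2⟩)

theorem res_surj (hLM : L ≤ M) : Function.Surjective (res π hLM) := by
  rintro ⟨h, hh⟩
  obtain ⟨l, hM, hl, rfl⟩ := (mem_img π).mp hh
  exact ⟨⟨l, hl⟩, rfl⟩

/-- `L / O(L) ≅ L̂` -/
noncomputable def barEquiv (hLM : L ≤ M) (hk : ∀ l ∈ L, ∀ hM : l ∈ M, π ⟨l, hM⟩ = 1 ↔ l ∈ core L) :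
    (↥L ⧸ oddCore ↥L) ≃* ↥(img π L) :=
  (QuotientGroup.quotientMulEquivOfEq (by
    ext l
    rw [MonoidHom.mem_ker, ← mem_core_iff l.2, ← hk l l.2 (hLM l.2)]
    exact ⟨fun h => Subtype.ext h, fun h => congrArg Subtype.val h⟩ :
      oddCore ↥L = (res π hLM).ker)).trans
    (QuotientGroup.quotientKerEquivOfSurjective _ (res_surj π hLM))

theorem barEquiv_mk (hLM : L ≤ M) (hk : ∀ l ∈ L, ∀ hM : l ∈ M, π ⟨l, hM⟩ = 1 ↔ l ∈ core L) (l : ↥L) :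
    ((barEquiv π hLM hk (QuotientGroup.mk l) : ↥(img π L)) : H) = π ⟨l, hLM l.2⟩ := rfl

theorem img_norm {L : Subgroup G} {c : G} (hc : c ∈ M) (hcL : c ∈ normalizer (L : Set G)) :
    π ⟨c, hc⟩ ∈ normalizer (img π L : Set H) := by
  have key : ∀ c (hc : c ∈ M), c ∈ normalizer (L : Set G) → ∀ y ∈ img π L,
      π ⟨c, hc⟩ * y * (π ⟨c, hc⟩)⁻¹ ∈ img π L := by
    intro c hc hcL y hy
    obtain ⟨l, hM, hl, rfl⟩ := (mem_img π).mp hy
    have h1 := img_mem π (mul_mem (mul_mem hc hM) (inv_mem hc)) ((mem_normalizer_iff.mp hcL l).mp hl)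
    have h2 : π ⟨c * l * c⁻¹, mul_mem (mul_mem hc hM) (inv_mem hc)⟩ =
        π ⟨c, hc⟩ * π ⟨l, hM⟩ * (π ⟨c, hc⟩)⁻¹ := by
      rw [← map_inv, ← map_mul, ← map_mul]; rfl
    rwa [h2] at h1
  rw [mem_normalizer_iff]
  intro y
  refine ⟨key c hc hcL y, fun h => ?_⟩
  have h1 := key c⁻¹ (inv_mem hc) (inv_mem hcL) _ h
  have h2 : π ⟨c⁻¹, inv_mem hc⟩ = (π ⟨c, hc⟩)⁻¹ := by rw [← map_inv]; rfl
  rw [h2] at h1
  have h3 : (π ⟨c, hc⟩)⁻¹ * (π ⟨c, hc⟩ * y * (π ⟨c, hc⟩)⁻¹) * (π ⟨c, hc⟩)⁻¹⁻¹ = y := by group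
  rwa [h3] at h1

/-- `x` of PGL type on `L / O(L)` and on the image -/
theorem cf_img {F : Type*} [Field F] [Finite F] (R : Cfsg.Agent.GH.L2Aut.Rep F (↥L ⧸ oddCore ↥L))
    (hLM : L ≤ M) (hk : ∀ l ∈ L, ∀ hM : l ∈ M, π ⟨l, hM⟩ = 1 ↔ l ∈ core L) {x : G} (hxM : x ∈ M)
    (hxx : x * x = 1) (hx : x ∈ normalizer (L : Set G)) (ho : R.o1 (act L ⟨x, hx⟩) = -1) :
    Cf (Q2.repTr R (barEquiv π hLM hk)) (π ⟨x, hxM⟩) where
  xx := by
    rw [← map_mul, ← map_one π]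
    exact congrArg π (Subtype.ext hxx)
  xN := img_norm π hxM hx
  o1 h := by
    rw [Q2.repTr_o1 R (barEquiv π hLM hk) (α := act L ⟨x, hx⟩) (fun y => ?_), ho]
    induction y using QuotientGroup.induction_on with
    | H l =>
      obtain ⟨l, hl⟩ := l
      apply Subtype.ext
      rw [act_mk hx hl, OddHalf.D6.act_apply, barEquiv_mk, barEquiv_mk]
      change π ⟨x * l * x⁻¹, _⟩ = π ⟨x, hxM⟩ * π ⟨l, _⟩ * (π ⟨x, hxM⟩)⁻¹
      rw [← map_inv, ← map_mul, ← map_mul]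
      rfl

end bar

section main

variable {G : Type u} [Group G] {L J W : Subgroup G} {x a t n : G}
variable {F : Type*} [Field F] [Finite F] {R : Cfsg.Agent.GH.L2Aut.Rep F (↥L ⧸ oddCore ↥L)}
variable {E : Type*} [Field E] [Finite E] {R' : Cfsg.Agent.GH.L2Aut.Rep E (↥J ⧸ oddCore ↥J)}

/-- the group `M / W` -/
abbrev Hat (W : Subgroup G) : Type u := ↥(normalizer (W : Set G)) ⧸ W.subgroupOf (normalizer (W : Set G))

/-- the map onto `M / W` -/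
def pi (W : Subgroup G) : ↥(normalizer (W : Set G)) →* Hat W :=
  QuotientGroup.mk' (W.subgroupOf (normalizer (W : Set G)))

theorem pi_surj (W : Subgroup G) : Function.Surjective (pi W) := QuotientGroup.mk'_surjective _

theorem pi_ker (W : Subgroup G) (m : ↥(normalizer (W : Set G))) : pi W m = 1 ↔ (m : G) ∈ W := by
  rw [pi, ← MonoidHom.mem_ker, QuotientGroup.ker_mk', mem_subgroupOf]

/-- the image of `O(C(x))` -/
def OO (W : Subgroup G) (x : G) : Subgroup (Hat W) :=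
  img (pi W) (core (centralizer ({x} : Set G)) ⊓ normalizer (W : Set G))

/-- the two triples -/
structure PairG (R : Cfsg.Agent.GH.L2Aut.Rep F (↥L ⧸ oddCore ↥L))
    (R' : Cfsg.Agent.GH.L2Aut.Rep E (↥J ⧸ oddCore ↥J)) (W : Subgroup G) (x a t n : G) : Prop where
  triL : IsTriple x a L
  triJ : IsTriple x t J
  bigF : 5 ≤ Nat.card F
  bigE : 5 ≤ Nat.card E
  oL : ∀ h, R.o1 (act L ⟨x, h⟩) = -1
  oJ : ∀ h, R'.o1 (act J ⟨x, h⟩) = -1
  LN : ∀ c, c * a = a * c → c ∈ normalizer (L : Set G)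
  JN : ∀ c, c * t = t * c → c ∈ normalizer (J : Set G)
  at_comm : a * t = t * a
  Wodd : Odd (Nat.card W)
  Wa : W ⊓ centralizer ({a} : Set G) = core (centralizer ({a} : Set G))
  Wt : W ⊓ centralizer ({t} : Set G) = core (centralizer ({t} : Set G))
  Wz : core (centralizer ({x} : Set G)) ⊓ centralizer ({a * t} : Set G) ≤ W
  LM : L ≤ normalizer (W : Set G)
  JM : J ≤ normalizer (W : Set G)
  xM : x ∈ normalizer (W : Set G)
  aM : a ∈ normalizer (W : Set G)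
  tM : t ∈ normalizer (W : Set G)
  nM : n ∈ normalizer (W : Set G)
  yL : ∃ y ∈ core (centralizer ({x} : Set G)), y ∈ L ∧ y ∉ core L
  yJ : ∃ y ∈ core (centralizer ({x} : Set G)), y ∈ J ∧ y ∉ core J
  nL : Fixes n L
  nx : n * x * n⁻¹ = x * a
  na : n * a = a * n

variable [Finite G]

/-- `π l = 1` for `l ∈ L` iff `l ∈ O(L)` -/
theorem ker_iff (T : IsTriple x a L)
    (Wa : W ⊓ centralizer ({a} : Set G) = core (centralizer ({a} : Set G))) :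
    ∀ l ∈ L, ∀ hM : l ∈ normalizer (W : Set G), pi W ⟨l, hM⟩ = 1 ↔ l ∈ core L := by
  intro l hl hM
  rw [pi_ker, T.comp.core_eq]
  have hlc : l ∈ centralizer ({a} : Set G) := T.comp.le hl
  constructor
  · intro h
    refine ⟨hl, ?_⟩
    rw [← Wa]
    exact ⟨h, hlc⟩
  · rintro ⟨-, h⟩
    rw [← Wa] at h
    exact h.1

omit [Finite G] in
theorem mem_OO {e : Hat W} : e ∈ OO W x ↔ ∃ d, ∃ hM : d ∈ normalizer (W : Set G),
    d ∈ core (centralizer ({x} : Set G)) ∧ pi W ⟨d, hM⟩ = e := by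
  rw [OO, mem_img]
  constructor
  · rintro ⟨l, hM, hl, h⟩
    exact ⟨l, hM, hl.1, h⟩
  · rintro ⟨l, hM, hl, h⟩
    exact ⟨l, hM, ⟨hl, hM⟩, h⟩

theorem odd_D : Odd (Nat.card ↥(core (centralizer ({x} : Set G)) ⊓ normalizer (W : Set G) : Subgroup G)) :=
  Odd.of_dvd_nat (odd_card_core (centralizer ({x} : Set G))) (card_dvd_of_le inf_le_left)

theorem odd_OO {e : Hat W} (he : e ∈ OO W x) : Odd (orderOf e) := by
  obtain ⟨d, hM, hd, rfl⟩ := mem_OO.mp he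
  have h1 : Odd (orderOf (⟨d, hM⟩ : ↥(normalizer (W : Set G)))) := by
    rw [Subgroup.orderOf_mk]
    exact Odd.of_dvd_nat (odd_card_core (centralizer ({x} : Set G))) (Subgroup.orderOf_dvd_natCard _ hd)
  exact Odd.of_dvd_nat h1 (orderOf_map_dvd (pi W) _)

omit [Finite G] in
theorem pi_mul {c d : G} (hc : c ∈ normalizer (W : Set G)) (hd : d ∈ normalizer (W : Set G)) :
    pi W ⟨c, hc⟩ * pi W ⟨d, hd⟩ = pi W ⟨c * d, mul_mem hc hd⟩ := rfl

omit [Finite G] in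
theorem pi_inv {c : G} (hc : c ∈ normalizer (W : Set G)) :
    (pi W ⟨c, hc⟩)⁻¹ = pi W ⟨c⁻¹, inv_mem hc⟩ := rfl

omit [Finite G] in
theorem pi_congr {c d : G} (hc : c ∈ normalizer (W : Set G)) (h : c = d) :
    pi W ⟨c, hc⟩ = pi W ⟨d, h ▸ hc⟩ := by subst h; rfl

omit [Finite G] in
theorem pi_comm {c d : G} (hc : c ∈ normalizer (W : Set G)) (hd : d ∈ normalizer (W : Set G))
    (h : c * d = d * c) : pi W ⟨c, hc⟩ * pi W ⟨d, hd⟩ = pi W ⟨d, hd⟩ * pi W ⟨c, hc⟩ := by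
  rw [pi_mul, pi_mul]
  exact pi_congr _ h

omit [Finite G] in
theorem conjM {c d : G} (hc : c ∈ normalizer (W : Set G)) (hd : d ∈ normalizer (W : Set G)) :
    c * d * c⁻¹ ∈ normalizer (W : Set G) := mul_mem (mul_mem hc hd) (inv_mem hc)

/-- `O` is normalized by `C(x)` and centralized by `x`, and inverted by `z` if `O(C(x)) ∩ C(z) ≤ W` -/
theorem cor_of (hxx : x * x = 1) {z : G} (hzz : z * z = 1) (hzx : z * x = x * z)
    (Wodd : Odd (Nat.card W)) (xM : x ∈ normalizer (W : Set G)) (zM : z ∈ normalizer (W : Set G))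
    (Wz : core (centralizer ({x} : Set G)) ⊓ centralizer ({z} : Set G) ≤ W) :
    Cor (OO W x) (pi W ⟨x, xM⟩) (pi W ⟨z, zM⟩) := by
  have conj : ∀ c, c * pi W ⟨x, xM⟩ = pi W ⟨x, xM⟩ * c → ∀ e ∈ OO W x, c * e * c⁻¹ ∈ OO W x := by
    intro c hc e he
    obtain ⟨c, hcM, hcx, rfl⟩ := lift_comm (pi W) (pi_surj W) (pi_ker W) Wodd le_rfl le_normalizer xM hxx hc
    obtain ⟨d, hM, hd, rfl⟩ := mem_OO.mp he
    rw [pi_inv, pi_mul, pi_mul, mem_OO]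
    exact ⟨_, _, conj_core (mem_c hcx) hd, rfl⟩
  refine ⟨?_, fun e he => odd_OO he, conj, ?_⟩
  · intro e he
    obtain ⟨d, hM, hd, rfl⟩ := mem_OO.mp he
    exact pi_comm hM xM (comm_c (core_le _ hd))
  · refine inv_of_free ?_ (fun e he => conj _ (pi_comm zM xM hzx) e he) ?_
    · rw [pi_mul, ← map_one (pi W)]
      exact pi_congr _ hzz
    · intro e he hze
      obtain ⟨d, hM, hd, rfl⟩ := mem_OO.mp he
      obtain ⟨d', hd', hM', hc, h1⟩ := lift_comm_odd (pi W) (pi_ker W)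
        (D := core (centralizer ({x} : Set G)) ⊓ normalizer (W : Set G)) odd_D le_rfl zM hzz
        (fun y hy => ⟨conj_core (mem_c hzx) hy.1, conjM zM hy.2⟩) hM ⟨hd, hM⟩
        hze.symm inf_le_right
      rw [← h1, pi_ker]
      exact Wz ⟨hd'.1, mem_c hc⟩

/-- `Side` for one triple; `g ∈ L` with `z = g` or `z = a g` -/
theorem side_of (T : IsTriple x a L) (big : 5 ≤ Nat.card F) (o : ∀ h, R.o1 (act L ⟨x, h⟩) = -1)
    (LN : ∀ c, c * a = a * c → c ∈ normalizer (L : Set G)) (Wodd : Odd (Nat.card W))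
    (Wa : W ⊓ centralizer ({a} : Set G) = core (centralizer ({a} : Set G)))
    (LM : L ≤ normalizer (W : Set G)) (xM : x ∈ normalizer (W : Set G))
    (aM : a ∈ normalizer (W : Set G))
    (yL : ∃ y ∈ core (centralizer ({x} : Set G)), y ∈ L ∧ y ∉ core L) {z : G}
    (zM : z ∈ normalizer (W : Set G)) (hO : Cor (OO W x) (pi W ⟨x, xM⟩) (pi W ⟨z, zM⟩)) {g : G}
    (hg : g ∈ L) (hz : z = g ∨ z = a * g) :
    Side (Q2.repTr R (barEquiv (pi W) LM (ker_iff T Wa))) (OO W x) (pi W ⟨x, xM⟩) (pi W ⟨a, aM⟩) where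
  cf := cf_img (pi W) R LM (ker_iff T Wa) xM (sq_of_order T.invx) T.x_mem (o _)
  big := big
  La := by
    intro l hl
    obtain ⟨m, hM, hm, rfl⟩ := (mem_img _).mp hl
    exact pi_comm hM aM (comm_c (T.comp.le hm))
  nrm := by
    intro c hc
    obtain ⟨c, hcM, hca, rfl⟩ := lift_comm (pi W) (pi_surj W) (pi_ker W) Wodd le_rfl le_normalizer aM
      (sq_of_order T.inva) hc
    exact img_norm (pi W) hcM (LN c hca)
  DL := by
    intro e he hea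
    have h3 := hO.inv e he
    obtain ⟨d, hM, hd, rfl⟩ := mem_OO.mp he
    have hax : a * x = x * a := T.comm
    obtain ⟨d', hd', hM', hc, h1⟩ := lift_comm_odd (pi W) (pi_ker W)
      (D := core (centralizer ({x} : Set G)) ⊓ normalizer (W : Set G)) odd_D le_rfl aM
      (sq_of_order T.inva) (fun y hy => ⟨conj_core (mem_c hax) hy.1, conjM aM hy.2⟩)
      hM ⟨hd, hM⟩ hea inf_le_right
    rw [← h1] at h3 ⊢
    have hga : g * a = a * g := comm_c (T.comp.le hg)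
    have h2 : z * d' * z⁻¹ = g * d' * g⁻¹ := by
      rcases hz with rfl | rfl
      · rfl
      · calc a * g * d' * (a * g)⁻¹ = g * a * d' * (g * a)⁻¹ := by rw [hga]
          _ = g * (a * d') * a⁻¹ * g⁻¹ := by group
          _ = g * (d' * a) * a⁻¹ * g⁻¹ := by rw [hc]
          _ = _ := by group
    -- `e⁻¹ e⁻¹ ∈ L̂`
    have h4 : z * d' * z⁻¹ * d'⁻¹ ∈ L := by
      rw [h2]
      have : g * d' * g⁻¹ * d'⁻¹ = g * (d' * g⁻¹ * d'⁻¹) := by group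
      rw [this]
      exact mul_mem hg ((mem_normalizer_iff.mp (LN d' hc) _).mp (inv_mem hg))
    have h5 := img_mem (pi W) (mul_mem (mul_mem (mul_mem zM hM') (inv_mem zM)) (inv_mem hM')) h4
    have h6 : pi W ⟨z * d' * z⁻¹ * d'⁻¹, mul_mem (mul_mem (mul_mem zM hM') (inv_mem zM)) (inv_mem hM')⟩ =
        pi W ⟨z, zM⟩ * pi W ⟨d', hM'⟩ * (pi W ⟨z, zM⟩)⁻¹ * (pi W ⟨d', hM'⟩)⁻¹ := rfl
    rw [h6, h3] at h5
    have h7 := Res.PGLFacts.mem_of_sq_mem (A := img (pi W) L) (y := (pi W ⟨d', hM'⟩)⁻¹) h5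
      (by rw [orderOf_inv, h1]; exact odd_OO he)
    rwa [inv_mem_iff] at h7
  D1 := by
    obtain ⟨y, hy, hyL, hyc⟩ := yL
    have hyM := LM hyL
    refine ⟨pi W ⟨y, hyM⟩, mem_OO.mpr ⟨y, hyM, hy, rfl⟩, pi_comm hyM aM (comm_c (T.comp.le hyL)), ?_⟩
    intro h
    exact hyc ((ker_iff T Wa y hyL hyM).mp h)

omit [Finite G] in
/-- the image of an involution `s` of `C_L(x)` -/
theorem isS_img (Wodd : Odd (Nat.card W)) {s : G} (xM : x ∈ normalizer (W : Set G))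
    (sM : s ∈ normalizer (W : Set G)) (hs : s ∈ L) (hss : s * s = 1) (hs1 : s ≠ 1)
    (hsx : s * x = x * s) : IsS (img (pi W) L) (pi W ⟨x, xM⟩) (pi W ⟨s, sM⟩) where
  mem := img_mem _ sM hs
  comm := pi_comm sM xM hsx
  sq := by
    rw [pi_mul, ← map_one (pi W)]
    exact pi_congr _ hss
  ne h := by
    rw [pi_ker] at h
    have h1 : orderOf s ∣ Nat.card W := Subgroup.orderOf_dvd_natCard _ h
    rw [orderOf_eq_prime (by rw [pow_two]; exact hss) hs1] at h1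
    exact (Nat.not_even_iff_odd.2 Wodd) (even_iff_two_dvd.2 h1)

namespace PairG

omit [Finite G] in
theorem sq_at (P : PairG R R' W x a t n) : a * t * (a * t) = 1 := by
  calc a * t * (a * t) = a * (t * a) * t := by group
    _ = a * (a * t) * t := by rw [P.at_comm]
    _ = (a * a) * (t * t) := by group
    _ = 1 := by rw [sq_of_order P.triL.inva, sq_of_order P.triJ.inva, one_mul]

omit [Finite G] in
theorem atM (P : PairG R R' W x a t n) : a * t ∈ normalizer (W : Set G) := mul_mem P.aM P.tM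

omit [Finite G] in
theorem at_x (P : PairG R R' W x a t n) : a * t * x = x * (a * t) := by
  calc a * t * x = a * (t * x) := by group
    _ = (a * x) * t := by rw [P.triJ.comm]; group
    _ = _ := by rw [P.triL.comm]; group

theorem cor (P : PairG R R' W x a t n) :
    Cor (OO W x) (pi W ⟨x, P.xM⟩) (pi W ⟨a * t, P.atM⟩) :=
  cor_of (sq_of_order P.triL.invx) P.sq_at P.at_x P.Wodd P.xM P.atM P.Wz

omit [Finite G] in
theorem nL_hat (P : PairG R R' W x a t n) (hW : core L ≤ W) :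
    ∀ l ∈ img (pi W) L, pi W ⟨n, P.nM⟩ * l = l * pi W ⟨n, P.nM⟩ := by
  intro l hl
  obtain ⟨l, hM, hm, rfl⟩ := (mem_img _).mp hl
  have h1 : ⁅n, l⁆ ∈ W := hW (P.nL.2 l hm)
  have h2 : pi W ⟨⁅n, l⁆, mul_mem (mul_mem (mul_mem P.nM hM) (inv_mem P.nM)) (inv_mem hM)⟩ = 1 :=
    (pi_ker W _).mpr h1
  have h3 : pi W ⟨⁅n, l⁆, mul_mem (mul_mem (mul_mem P.nM hM) (inv_mem P.nM)) (inv_mem hM)⟩ =
      pi W ⟨n, P.nM⟩ * pi W ⟨l, hM⟩ * (pi W ⟨n, P.nM⟩)⁻¹ * (pi W ⟨l, hM⟩)⁻¹ := rfl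
  rw [h3, mul_inv_eq_one, mul_inv_eq_iff_eq_mul] at h2
  exact h2

theorem core_le_W (P : PairG R R' W x a t n) : core L ≤ W := by
  intro l hl
  have h1 := P.triL.comp.core_le_core hl
  rw [← P.Wa] at h1
  exact h1.1

omit [Finite G] in
theorem nx_hat (P : PairG R R' W x a t n) :
    pi W ⟨n, P.nM⟩ * pi W ⟨x, P.xM⟩ * (pi W ⟨n, P.nM⟩)⁻¹ = pi W ⟨x, P.xM⟩ * pi W ⟨a, P.aM⟩ := by
  rw [pi_inv, pi_mul, pi_mul, pi_mul]
  exact pi_congr _ P.nx

/-- **(4.1)** -/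
theorem both (P : PairG R R' W x a t n) (hL : a * t ∈ L) (hJ : a ∈ J ∨ a * t ∈ J) : False := by
  have hne : a * t ≠ 1 := by
    intro h
    -- `a * t = 1`: then `x` and `core C(x)` centralise, `C_O(z) = O ≤ W`
    obtain ⟨y, hy, hyL, hyc⟩ := P.yL
    have h1 : y ∈ W := P.Wz ⟨hy, by rw [h]; exact mem_c (by rw [mul_one, one_mul])⟩
    exact hyc ((ker_iff P.triL P.Wa y hyL (P.LM hyL)).mp ((pi_ker W _).mpr h1))
  have S₁ := side_of (z := a * t) P.triL P.bigF P.oL P.LN P.Wodd P.Wa P.LM P.xM P.aM P.yL P.atM P.cor hL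
    (Or.inl rfl)
  have S₂ : Side (Q2.repTr R' (barEquiv (pi W) P.JM (ker_iff P.triJ P.Wt))) (OO W x)
      (pi W ⟨x, P.xM⟩) (pi W ⟨t, P.tM⟩) := by
    rcases hJ with h | h
    · exact side_of P.triJ P.bigE P.oJ P.JN P.Wodd P.Wt P.JM P.xM P.tM P.yJ P.atM P.cor h
        (Or.inr P.at_comm)
    · exact side_of P.triJ P.bigE P.oJ P.JN P.Wodd P.Wt P.JM P.xM P.tM P.yJ P.atM P.cor h (Or.inl rfl)
  have haa : pi W ⟨a, P.aM⟩ * pi W ⟨a, P.aM⟩ = 1 := by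
    rw [pi_mul, ← map_one (pi W)]
    exact pi_congr _ (sq_of_order P.triL.inva)
  exact bothThird S₁ S₂ P.cor (isS_img P.Wodd P.xM P.atM hL P.sq_at hne P.at_x) haa
    (pi_comm P.aM P.tM P.at_comm) (P.nL_hat P.core_le_W) P.nx_hat (pi_comm P.nM P.aM P.na)

/-- **(4.2)-(4.5)** -/
theorem natural (P : PairG R R' W x a t n) (hL : t ∈ L) (hJ : a ∈ J) (h4 : Nat.card E % 4 = 1)
    (h9 : 9 ≤ Nat.card E) : ∀ l ∈ L, ∀ j ∈ J, ⁅l, j⁆ ∈ W := by
  have htt := sq_of_order P.triJ.inva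
  have haa := sq_of_order P.triL.inva
  have S₁ := side_of (z := a * t) P.triL P.bigF P.oL P.LN P.Wodd P.Wa P.LM P.xM P.aM P.yL P.atM P.cor hL
    (Or.inr rfl)
  have S₂ : Side (Q2.repTr R' (barEquiv (pi W) P.JM (ker_iff P.triJ P.Wt))) (OO W x)
      (pi W ⟨x, P.xM⟩) (pi W ⟨t, P.tM⟩) :=
    side_of P.triJ P.bigE P.oJ P.JN P.Wodd P.Wt P.JM P.xM P.tM P.yJ P.atM P.cor hJ
        (Or.inr P.at_comm)
  have hs := isS_img (L := L) P.Wodd P.xM P.tM hL htt (ne_one_of_order P.triJ.inva) P.triJ.comm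
  have ha := isS_img (L := J) P.Wodd P.xM P.aM hJ haa (ne_one_of_order P.triL.inva) P.triL.comm
  have haa' : pi W ⟨a, P.aM⟩ * pi W ⟨a, P.aM⟩ = 1 := ha.sq
  have hSE : ∀ K : Subgroup (Hat W), (∀ j ∈ img (pi W) J, pi W ⟨a, P.aM⟩ * (j * pi W ⟨a, P.aM⟩ * j⁻¹) =
      j * pi W ⟨a, P.aM⟩ * j⁻¹ * pi W ⟨a, P.aM⟩ → j ∈ K) → img (pi W) J ≤ K := by
    intro K hK
    have h1 := KB.se (Q2.repTr R' (barEquiv (pi W) P.JM (ker_iff P.triJ P.Wt))) h4 h9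
      (a := (⟨pi W ⟨a, P.aM⟩, ha.mem⟩ : ↥(img (pi W) J))) (Subtype.ext ha.sq)
      (fun h => ha.ne (congrArg Subtype.val h)) (K := K.subgroupOf (img (pi W) J))
      (fun j hj => by
        rw [mem_subgroupOf]
        exact hK j j.2 (congrArg Subtype.val hj))
    exact subgroupOf_eq_top.mp h1
  have key := Pair.natural S₁ S₂ P.cor haa' hs ha (P.nL_hat P.core_le_W) P.nx_hat hSE
  intro l hl j hj
  have h1 := key _ (img_mem (pi W) (P.LM hl) hl) _ (img_mem (pi W) (P.JM hj) hj)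
  have h2 : pi W ⟨⁅l, j⁆, mul_mem (mul_mem (mul_mem (P.LM hl) (P.JM hj)) (inv_mem (P.LM hl)))
      (inv_mem (P.JM hj))⟩ =
      pi W ⟨l, P.LM hl⟩ * pi W ⟨j, P.JM hj⟩ * (pi W ⟨l, P.LM hl⟩)⁻¹ * (pi W ⟨j, P.JM hj⟩)⁻¹ := rfl
  have h3 : pi W ⟨⁅l, j⁆, mul_mem (mul_mem (mul_mem (P.LM hl) (P.JM hj)) (inv_mem (P.LM hl)))
      (inv_mem (P.JM hj))⟩ = 1 := by
    rw [h2, h1]; group
  exact (pi_ker W _).mp h3

end PairG

end main

end Cfsg.Agent.UGT.FourB.PairG
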