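import Cfsg.Agent.UGT.FourB.Tf
import Cfsg.Agent.UGT.FourB.Link
import Cfsg.Agent.Intrinsic.Lifting

/-!
# Leaf (L0), `T ∈ Syl₂(G)`, `x ∉ X`: exactly two bad elements of `W#`

Steps (2) and (4) of #14863. `v, w ∈ W#` bad, `vw` not: `vw` inverts `O(C(x))`, `σ(v) = w`, `σ(w) = v`, `[L_v, L_w] = 1`:
`Block X L_v L_w T x v w`.
-/

set_option autoImplicit false

open Cfsg Subgroup
open Cfsg.Agent.SignalizersComponents Cfsg.Agent.Lib
open Cfsg.Agent.SignalizersComponents.IntrinsicBasic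
open Cfsg.Agent.Intrinsic.Basic Cfsg.Agent.Intrinsic.Diag
open Cfsg.Agent.Intrinsic.Functor (OddSol)
open Cfsg.Agent.UGT.Triple Cfsg.Agent.UGT.Iface Cfsg.Agent.UGT.Res.KFacts Cfsg.Agent.UGT.Res.Base
open Cfsg.Agent.UGT.Res.EFacts Cfsg.Agent.UGT.FourA.Hon Cfsg.Agent.UGT.FourA.Top
open Cfsg.Agent.UGT.ThE.Base (IsS K_conj K_le_M L_le_M L_conj comm_of_mem)
open Cfsg.Agent.UGT.FourB.OneB (W4 Fr Bad not_bad)
open Cfsg.Agent.UGT.FourA.Basic (cj_comm cj_sq cj_ne cj_eq_of_comm comm_of_cj_eq comm_cj_iff)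

namespace Cfsg.Agent.UGT.FourB

universe u

variable {G : Type u} [Group G]

/-- the elements of `W#` -/
theorem W4.third {a s v w z : G} (haa : a * a = 1) (hss : s * s = 1) (hsa : s * a = a * s)
    (hv : W4 a s v) (hw : W4 a s w) (hz : W4 a s z) (v1 : v ≠ 1) (w1 : w ≠ 1) (hvw : v ≠ w)
    (z1 : z ≠ 1) (zv : z ≠ v) : z = w ∨ z = v * w := by
  have h1 : a * (a * s) = s := by rw [← mul_assoc, haa, one_mul]
  have h2 : s * (a * s) = a := by rw [← mul_assoc, hsa, mul_assoc, hss, mul_one]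
  have h3 : a * s * a = s := by rw [mul_assoc, hsa, h1]
  have h4 : a * s * s = a := by rw [mul_assoc, hss, mul_one]
  rcases hv with rfl | rfl | rfl | rfl
  · exact absurd rfl v1
  · rcases hw with rfl | rfl | rfl | rfl
    · exact absurd rfl w1
    · exact absurd rfl hvw
    · rcases hz with rfl | rfl | rfl | rfl
      · exact absurd rfl z1
      · exact absurd rfl zv
      · exact Or.inl rfl
      · exact Or.inr rfl
    · rcases hz with rfl | rfl | rfl | rfl
      · exact absurd rfl z1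
      · exact absurd rfl zv
      · exact Or.inr h1.symm
      · exact Or.inl rfl
  · rcases hw with rfl | rfl | rfl | rfl
    · exact absurd rfl w1
    · rcases hz with rfl | rfl | rfl | rfl
      · exact absurd rfl z1
      · exact Or.inl rfl
      · exact absurd rfl zv
      · exact Or.inr hsa.symm
    · exact absurd rfl hvw
    · rcases hz with rfl | rfl | rfl | rfl
      · exact absurd rfl z1
      · exact Or.inr h2.symm
      · exact absurd rfl zv
      · exact Or.inl rfl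
  · rcases hw with rfl | rfl | rfl | rfl
    · exact absurd rfl w1
    · rcases hz with rfl | rfl | rfl | rfl
      · exact absurd rfl z1
      · exact Or.inl rfl
      · exact Or.inr h3.symm
      · exact absurd rfl zv
    · rcases hz with rfl | rfl | rfl | rfl
      · exact absurd rfl z1
      · exact Or.inr h4.symm
      · exact Or.inl rfl
      · exact absurd rfl zv
    · exact absurd rfl hvw

variable [Finite G]

/-- an abelian `C(x)`-invariant subgroup `A` of `O(C(x))`: `C_A(v) ≤ T_v` -/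
theorem Dt.mem_to {x a s v σ : G} {L : Subgroup G} (D : Dt x a s v σ L) {A : Subgroup G}
    (hA : A ≤ core (centralizer ({x} : Set G))) (hab : ∀ y ∈ A, ∀ z ∈ A, y * z = z * y)
    (hn : ∀ c, c * x = x * c → ∀ y ∈ A, c * y * c⁻¹ ∈ A) {y : G} (hy : y ∈ A) (hyv : y * v = v * y) :
    IsTo L x y := by
  have hOx : ∀ y ∈ core (centralizer ({x} : Set G)), y * x = x * y := fun y hy =>
    mem_centralizer_singleton_iff.mp (core_le _ hy)
  have hodd := odd_card_core (centralizer ({x} : Set G))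
  obtain ⟨t, htL, htx, hto, hc⟩ := D.cc.t.core (A ⊓ centralizer ({v} : Set G))
    (Odd.of_dvd_nat hodd (card_dvd_of_le (inf_le_left.trans hA)))
    (fun y hy z hz => hab y hy.1 z hz.1)
    (fun d hd => D.cc.nrm d (mem_centralizer_singleton_iff.mp hd.2))
    (fun d hd => hOx d (hA hd.1))
    (fun t ht htx d hd => by
      refine ⟨hn t htx d hd.1, mem_centralizer_singleton_iff.mpr ?_⟩
      have h1 := cj_comm (g := t) (mem_centralizer_singleton_iff.mp hd.2)
      rwa [cj_eq_of_comm (D.cc.Lv t ht)] at h1)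
    y ⟨hy, mem_centralizer_singleton_iff.mpr hyv⟩
  have hT : IsTo L x t := ⟨htL, htx, hto⟩
  have h1 := D.faith (t⁻¹ * y) (mul_mem (inv_mem (D.le t hT)) (hA hy)) (by
    have h2 : t⁻¹ * v = v * t⁻¹ := by
      calc t⁻¹ * v = t⁻¹ * (v * t) * t⁻¹ := by group
        _ = v * t⁻¹ := by rw [← D.cc.Lv t htL]; group
    calc t⁻¹ * y * v = t⁻¹ * v * y := by rw [mul_assoc, hyv, mul_assoc]
      _ = v * (t⁻¹ * y) := by rw [h2, mul_assoc]) hc
  have h3 : y = t := by
    calc y = t * (t⁻¹ * y) := by group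
      _ = t := by rw [h1, mul_one]
  rw [h3]
  exact hT

namespace Tf

variable {X T : Subgroup G} {x a s : G} (F : Tf X T x a s)
include F

/-- **LEMMA (2)** -/
theorem two {v w σ τ : G} {L M : Subgroup G} (hv : W4 a s v) (hv1 : v ≠ 1) (hw : W4 a s w)
    (hw1 : w ≠ 1) (hne : v ≠ w) (D : Dt x a s v σ L) (E : Dt x a s w τ M) {y y' : G} (hy : IsTo L x y)
    (hy1 : y ≠ 1) (hy' : IsTo M x y') (hy'1 : y' ≠ 1) (hyy' : y * y' = y' * y) :
    τ = v ∧ ∀ n ∈ centralizer (L : Set G), n * v = v * n → n * x * n⁻¹ = x * v →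
      v ∈ closure {y', n * y' * n⁻¹} := by
  have h1 := W4.third F.fr.aa F.fr.ss F.fr.sas hv hw D.w4 hv1 hw1 hne D.s1 D.sv
  have h2 := W4.third F.fr.aa F.fr.ss F.fr.sas hw hv E.w4 hw1 hv1 hne.symm E.s1 E.sv
  rw [F.comm hw hv] at h2
  have h3 : ∀ n ∈ centralizer (L : Set G), n * v = v * n → n * x * n⁻¹ = x * v →
      τ = v ∧ v ∈ closure {y', n * y' * n⁻¹} := fun n hn hnv hnx =>
    CC.two F.os D.cc E.cc (F.comm hv hw) (F.fr.w4sq hv) (F.fr.w4sq hw) h1 h2 hy hy1 hy' hy'1 hyy' hn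
      hnv hnx
  obtain ⟨n, hn, hnv, hnx⟩ := D.cc.nx
  exact ⟨(h3 n hn hnv hnx).1, fun n hn hnv hnx => (h3 n hn hnv hnx).2⟩

/-- **(4)** -/
theorem block {v w σ τ : G} {L M : Subgroup G} (hv : W4 a s v) (hv1 : v ≠ 1) (hw : W4 a s w)
    (hw1 : w ≠ 1) (hne : v ≠ w) (D : Dt x a s v σ L) (E : Dt x a s w τ M) (hu : ¬ Bad x (v * w)) :
    Block X L M T x v w ∧ ∀ c, c * x = x * c → c ∈ normalizer (L : Set G) := by
  have hvv := F.fr.w4sq hv
  have hww := F.fr.w4sq hw
  have hvw := F.comm hv hw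
  have hu1 : v * w ≠ 1 := by
    intro h
    apply hne
    calc v = v * w * w := by rw [mul_assoc, hww, mul_one]
      _ = w := by rw [h, one_mul]
  have hu4 := F.mul hv hw
  have hodd := odd_card_core (centralizer ({x} : Set G))
  have hcn : ∀ c, c * x = x * c → ∀ y ∈ core (centralizer ({x} : Set G)),
      c * y * c⁻¹ ∈ core (centralizer ({x} : Set G)) := fun c hc y hy => conj_core (mem_c hc) hy
  -- `vw` inverts `O`
  have hinv : ∀ d ∈ core (centralizer ({x} : Set G)), v * w * d * (v * w)⁻¹ = d⁻¹ := by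
    refine HFAbs.inverts hodd (F.fr.w4sq hu4) (hcn _ (F.xv hu4).symm) ?_
    intro d hd hdu
    have h1 := not_bad hu hd hdu
    rw [F.cf _ hu4 hu1] at h1
    exact mem_bot.mp h1
  have hab : ∀ y ∈ core (centralizer ({x} : Set G)), ∀ z ∈ core (centralizer ({x} : Set G)),
      y * z = z * y := by
    intro y hy z hz
    have h1 := hinv _ (mul_mem hz hy)
    rw [FourA.Basic.cj_mul, hinv z hz, hinv y hy, mul_inv_rev] at h1
    have h2 := congrArg (fun g => g⁻¹) h1
    simp only [mul_inv_rev, inv_inv] at h2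
    exact h2
  obtain ⟨y, hyL, hyx, hyo, hy1⟩ := D.cc.t.ne
  obtain ⟨y', hyL', hyx', hyo', hy1'⟩ := E.cc.t.ne
  have hyT : IsTo L x y := ⟨hyL, hyx, hyo⟩
  have hyT' : IsTo M x y' := ⟨hyL', hyx', hyo'⟩
  have hyy' := hab _ (D.le _ hyT) _ (E.le _ hyT')
  obtain rfl := (F.two hv hv1 hw hw1 hne D E hyT hy1 hyT' hy1' hyy').1
  obtain rfl := (F.two hw hw1 hv hv1 hne.symm E D hyT' hy1' hyT hy1 hyy'.symm).1
  -- now `σ = w`, `τ = v`: `D : Dt x a s τ σ L`, `E : Dt x a s σ τ M`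
  obtain ⟨n, hn, hnv, hnx⟩ := D.cc.nx
  obtain ⟨p, hp, hpw, hpx⟩ := D.cc.px
  have hnw : n * σ = σ * n := (comm_of_mem D.cc.h.sL hn).symm
  have hnM := E.cc.nrm n hnw
  have hpM := E.cc.nrm p hpw
  -- `M` centralizes `T_v`
  have h1 : ∀ t, IsTo L x t → M ≤ centralizer ({t} : Set G) := by
    intro t ht
    have h2 : ∀ t', IsTo M x t' → t' * t = t * t' := fun t' ht' =>
      hab _ (E.le _ ht') _ (D.le _ ht)
    apply E.cc.t.gen
    · intro t' ht' htx' hto'
      exact mem_centralizer_singleton_iff.mpr (h2 t' ⟨ht', htx', hto'⟩)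
    · intro t' ht' htx' hto'
      have h3 : IsTo M x (n⁻¹ * t' * n) := by
        refine ⟨?_, ?_, ?_⟩
        · exact (mem_normalizer_iff''.mp hnM t').mp ht'
        · rw [← hnx] at htx'
          exact comm_cj_iff.mp htx'
        · have h4 := (MulAut.conj n⁻¹).orderOf_eq t'
          rw [MulAut.conj_apply, inv_inv] at h4
          rwa [h4]
      have h4 := cj_comm (g := n) (h2 _ h3)
      have e1 : n * (n⁻¹ * t' * n) * n⁻¹ = t' := by group
      rw [e1, cj_eq_of_comm (comm_of_mem ht.mem hn).symm] at h4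
      exact mem_centralizer_singleton_iff.mpr h4
  -- `[L, M] = 1`
  have hLM : L ≤ centralizer (M : Set G) := by
    apply D.cc.t.gen
    · intro t ht htx hto
      rw [mem_centralizer_iff]
      intro m hm
      exact mem_centralizer_singleton_iff.mp (h1 t ⟨ht, htx, hto⟩ hm)
    · intro t ht htx hto
      have h3 : IsTo L x (p⁻¹ * t * p) := by
        refine ⟨mul_mem (mul_mem (inv_mem hp) ht) hp, ?_, ?_⟩
        · rw [← hpx] at htx
          exact comm_cj_iff.mp htx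
        · have h4 := (MulAut.conj p⁻¹).orderOf_eq t
          rw [MulAut.conj_apply, inv_inv] at h4
          rwa [h4]
      have h4 : p⁻¹ * t * p ∈ centralizer (M : Set G) := by
        rw [mem_centralizer_iff]
        intro m hm
        exact mem_centralizer_singleton_iff.mp (h1 _ h3 hm)
      have h5 := K_conj hpM h4
      have e1 : p * (p⁻¹ * t * p) * p⁻¹ = t := by group
      rwa [e1] at h5
  have hLJ : ∀ l ∈ L, ∀ j ∈ M, l * j = j * l := fun l hl j hj =>
    (mem_centralizer_iff.mp (hLM hl) j hj).symm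
  have hML : M ≤ centralizer (L : Set G) := fun j hj =>
    mem_centralizer_iff.mpr fun l hl => hLJ l hl j hj
  -- `N(L) = N(M)`
  have hNN : normalizer (L : Set G) = normalizer (M : Set G) := by
    apply le_antisymm
    · intro g hg
      obtain ⟨l, hl, h2⟩ := D.cc.h.inv (g * σ * g⁻¹) ((mem_normalizer_iff.mp hg _).mp D.cc.h.sL)
        (cj_sq hww) (cj_ne hw1)
      have h3 : l * g * σ * (l * g)⁻¹ = σ := by
        calc l * g * σ * (l * g)⁻¹ = l * (g * σ * g⁻¹) * l⁻¹ := by group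
          _ = σ := h2
      have h4 := E.cc.nrm _ (comm_of_cj_eq h3)
      have h5 := mul_mem (inv_mem (K_le_M (hLM hl))) h4
      rwa [inv_mul_cancel_left] at h5
    · intro g hg
      obtain ⟨j, hj, h2⟩ := E.cc.h.inv (g * τ * g⁻¹) ((mem_normalizer_iff.mp hg _).mp E.cc.h.sL)
        (cj_sq hvv) (cj_ne hv1)
      have h3 : j * g * τ * (j * g)⁻¹ = τ := by
        calc j * g * τ * (j * g)⁻¹ = j * (g * τ * g⁻¹) * j⁻¹ := by group
          _ = τ := h2
      have h4 := D.cc.nrm _ (comm_of_cj_eq h3)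
      have h5 := mul_mem (inv_mem (K_le_M (hML hj))) h4
      rwa [inv_mul_cancel_left] at h5
  -- `C(LM)` has odd order
  have hoddC : ∀ k ∈ centralizer (L : Set G), k ∈ centralizer (M : Set G) → k * k = 1 → k = 1 := by
    intro k hkL hkM hkk
    by_contra hk1
    obtain ⟨C, hC⟩ : ∃ C, C = centralizer (L : Set G) ⊓ centralizer (M : Set G) := ⟨_, rfl⟩
    have hev : Even (Nat.card C) := by
      rw [even_iff_two_dvd, ← orderOf_eq_prime (p := 2) (by rw [pow_two]; exact hkk) hk1]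
      exact Subgroup.orderOf_dvd_natCard C (hC ▸ ⟨hkL, hkM⟩)
    have hxC : x ∈ normalizer (C : Set G) := by
      apply norm_of_sq F.fr.xx
      intro y hy
      rw [hC] at hy ⊢
      exact ⟨K_conj D.cc.h.xN hy.1, K_conj E.cc.h.xN hy.2⟩
    obtain ⟨t, htC, hto, htx⟩ := StandardTools.exists_involution_commute hev F.fr.xx hxC
    rw [hC] at htC
    have htv : t * τ = τ * t := (comm_of_mem E.cc.h.sL htC.2).symm
    rcases D.cc.star t htC.1 htv htx.symm (sq_of_order hto) with h2 | h2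
    · exact ne_one_of_order hto h2
    · exact hv1 (E.cc.h.cen τ E.cc.h.sL (h2 ▸ htC.2))
  -- `O ≤ N(L)`
  have hON : ∀ d ∈ core (centralizer ({x} : Set G)), d ∈ normalizer (L : Set G) := by
    intro d hd
    have hd' := hcn τ (F.xv hv).symm d hd
    have h2 : IsTo L x (d * (τ * d * τ⁻¹)) := by
      refine D.mem_to le_rfl hab hcn (mul_mem hd hd') ?_
      have h3 : τ * (d * (τ * d * τ⁻¹)) * τ⁻¹ = d * (τ * d * τ⁻¹) := by
        have h4 : τ * (τ * d * τ⁻¹) * τ⁻¹ = d := by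
          calc τ * (τ * d * τ⁻¹) * τ⁻¹ = τ * τ * d * (τ * τ)⁻¹ := by group
            _ = d := by rw [hvv]; group
        rw [FourA.Basic.cj_mul, h4]
        exact hab _ hd' _ hd
      exact (comm_of_cj_eq h3).symm
    have h3 : IsTo M x (d * (τ * d * τ⁻¹)⁻¹) := by
      refine E.mem_to le_rfl hab hcn (mul_mem hd (inv_mem hd')) ?_
      have h5 : σ * d * σ⁻¹ = (τ * d * τ⁻¹)⁻¹ := by
        have h6 := hinv d hd
        have h7 : τ * (σ * d * σ⁻¹) * τ⁻¹ = d⁻¹ := by rw [← h6]; group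
        calc σ * d * σ⁻¹ = τ⁻¹ * (τ * (σ * d * σ⁻¹) * τ⁻¹) * τ := by group
          _ = τ⁻¹ * d⁻¹ * τ := by rw [h7]
          _ = τ * d⁻¹ * τ⁻¹ := by rw [inv_eq_of_mul_eq_one_left hvv]
          _ = (τ * d * τ⁻¹)⁻¹ := by group
      have h8 : σ * (d * (τ * d * τ⁻¹)⁻¹) * σ⁻¹ = d * (τ * d * τ⁻¹)⁻¹ := by
        have h9 : σ * (τ * d * τ⁻¹)⁻¹ * σ⁻¹ = d := by
          rw [← h5]
          calc σ * (σ * d * σ⁻¹) * σ⁻¹ = σ * σ * d * (σ * σ)⁻¹ := by group
            _ = d := by rw [hww]; group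
        rw [FourA.Basic.cj_mul, h9, h5]
        exact hab _ (inv_mem hd') _ hd
      exact (comm_of_cj_eq h8).symm
    have h4 : d * d = d * (τ * d * τ⁻¹) * (d * (τ * d * τ⁻¹)⁻¹) := by
      have h5 := hab _ hd _ hd'
      calc d * d = d * (τ * d * τ⁻¹) * (τ * d * τ⁻¹)⁻¹ * d := by group
        _ = d * (τ * d * τ⁻¹) * ((τ * d * τ⁻¹)⁻¹ * d) := by group
        _ = d * (τ * d * τ⁻¹) * (d * (τ * d * τ⁻¹)⁻¹) := by rw [hab _ (inv_mem hd') _ hd]
    apply Cfsg.Agent.Intrinsic.WZero.mem_of_sq_mem (odd_of_mem hodd hd)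
    rw [h4]
    exact mul_mem (le_normalizer h2.mem) (K_le_M (hML h3.mem))
  refine ⟨⟨F.I.XN, F.I.xX, F.w4X hv, F.w4X hw, D.cc.h, E.cc.h, hLJ, hNN, D.cc.nrm,
    fun c hc => hNN ▸ E.cc.nrm c hc, D.cc.star, E.cc.star, hoddC, F.fr.T2, F.Tmax,
    fun t ht => F.fr.w4c hv ht, fun t ht => F.fr.w4c hw ht, ?_, ?_, ?_⟩, ?_⟩
  · intro g hg
    exact hne ((F.rig hv hv1 (hg ▸ hw)).symm.trans hg)
  · intro g hg
    have h2 := (F.rig hv hv1 (hg ▸ hu4)).symm.trans hg
    exact hw1 (mul_left_cancel (h2.symm.trans (mul_one _).symm))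
  · intro g hg
    have h2 := (F.rig hw hw1 (hg ▸ hu4)).symm.trans hg
    rw [hvw] at h2
    exact hv1 (mul_left_cancel (h2.symm.trans (mul_one _).symm))
  · -- `C(x) ≤ N(L)`
    intro c hc
    have hc' : c⁻¹ * x = x * c⁻¹ := by
      calc c⁻¹ * x = c⁻¹ * (x * c) * c⁻¹ := by group
        _ = x * c⁻¹ := by rw [← hc]; group
    have h2 := inv_mem (F.zst hv hv1 hc')
    have e : (τ * c⁻¹ * τ⁻¹ * c⁻¹⁻¹)⁻¹ = c⁻¹ * (τ * c * τ⁻¹) := by group
    rw [e] at h2
    have hτn : τ ∈ normalizer (core (centralizer ({x} : Set G)) : Set G) :=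
      le_normalizer_core _ (mem_c (F.xv hv).symm)
    obtain ⟨o, ho, hco⟩ := Intrinsic.Lifting.exists_commute (n := 1) hodd
      (by rw [pow_one, pow_two, hvv]) hτn h2
    have h3 := mul_mem (D.cc.nrm (c * o) hco.symm) (inv_mem (hON o ho))
    rwa [mul_inv_cancel_right] at h3

end Tf

end Cfsg.Agent.UGT.FourB
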