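import Mathlib.GroupTheory.Transfer
import Mathlib.Tactic

/-!
# PRIN: transfer at an involution with one fixed point

`H ≤ G` of finite index, `ϕ : H →* A` with `A` commutative, `V = MonoidHom.transfer ϕ`. If the involution `b` fixes
exactly one point of `G ⧸ H` and `h` commutes with `b`, then `V h = ϕ h`, provided the values of the
conjugates of `ϕ` at the powers `h ^ n` and at the elements `h ^ n * b` have square `1`.
-/

set_option autoImplicit false

namespace Cfsg.Agent.UGT.FourB.Prin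

open Subgroup MulAction

universe u v

variable {G : Type u} [Group G] {H : Subgroup G} {A : Type v} [CommGroup A]

open Classical in
/-- The character `ϕ` of `H`, moved to the point `x H` of `G ⧸ H` (with value `1` outside the stabilizer). -/
noncomputable def ev (ϕ : H →* A) (x g : G) : A :=
  if h : x⁻¹ * g * x ∈ H then ϕ ⟨x⁻¹ * g * x, h⟩ else 1

theorem ev_of_mem (ϕ : H →* A) {x g : G} (h : x⁻¹ * g * x ∈ H) : ev ϕ x g = ϕ ⟨x⁻¹ * g * x, h⟩ := dif_pos h

theorem ev_of_not_mem (ϕ : H →* A) {x g : G} (h : x⁻¹ * g * x ∉ H) : ev ϕ x g = 1 := dif_neg h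

theorem ev_base (ϕ : H →* A) {g : G} (h : g ∈ H) : ev ϕ 1 g = ϕ ⟨g, h⟩ := by
  have h1 : (1 : G)⁻¹ * g * 1 ∈ H := by simpa using h
  rw [ev_of_mem ϕ h1]
  congr 1
  exact Subtype.ext (by simp)

theorem ev_mul (ϕ : H →* A) {x g k : G} (hg : x⁻¹ * g * x ∈ H) (hk : x⁻¹ * k * x ∈ H) :
    ev ϕ x (g * k) = ev ϕ x g * ev ϕ x k := by
  have e : x⁻¹ * (g * k) * x = x⁻¹ * g * x * (x⁻¹ * k * x) := by group
  have h1 : x⁻¹ * (g * k) * x ∈ H := by rw [e]; exact mul_mem hg hk
  rw [ev_of_mem ϕ h1, ev_of_mem ϕ hg, ev_of_mem ϕ hk, ← map_mul]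
  congr 1
  exact Subtype.ext e

theorem ev_coset (ϕ : H →* A) (x g : G) {k : G} (hk : k ∈ H) : ev ϕ (x * k) g = ev ϕ x g := by
  have e : (x * k)⁻¹ * g * (x * k) = k⁻¹ * (x⁻¹ * g * x) * k := by group
  by_cases hg : x⁻¹ * g * x ∈ H
  · have h1 : (x * k)⁻¹ * g * (x * k) ∈ H := by
      rw [e]; exact mul_mem (mul_mem (inv_mem hk) hg) hk
    rw [ev_of_mem ϕ h1, ev_of_mem ϕ hg]
    have e2 : (⟨(x * k)⁻¹ * g * (x * k), h1⟩ : H) = (⟨k, hk⟩ : H)⁻¹ * ⟨x⁻¹ * g * x, hg⟩ * ⟨k, hk⟩ :=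
      Subtype.ext e
    rw [e2, map_mul, map_mul, map_inv, mul_comm (ϕ ⟨k, hk⟩)⁻¹, inv_mul_cancel_right]
  · have h1 : (x * k)⁻¹ * g * (x * k) ∉ H := by
      intro h2
      apply hg
      have e3 : x⁻¹ * g * x = k * ((x * k)⁻¹ * g * (x * k)) * k⁻¹ := by group
      rw [e3]
      exact mul_mem (mul_mem hk h2) (inv_mem hk)
    rw [ev_of_not_mem ϕ h1, ev_of_not_mem ϕ hg]

theorem ev_congr (ϕ : H →* A) {x y : G} (g : G) (h : (x : G ⧸ H) = y) : ev ϕ x g = ev ϕ y g := by
  have h1 : x⁻¹ * y ∈ H := QuotientGroup.eq.1 h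
  have h2 := ev_coset ϕ x g h1
  rw [mul_inv_cancel_left] at h2
  exact h2.symm

theorem ev_conj (ϕ : H →* A) (c x g : G) : ev ϕ (c * x) (c * g * c⁻¹) = ev ϕ x g := by
  have e : (c * x)⁻¹ * (c * g * c⁻¹) * (c * x) = x⁻¹ * g * x := by group
  by_cases hg : x⁻¹ * g * x ∈ H
  · have h1 : (c * x)⁻¹ * (c * g * c⁻¹) * (c * x) ∈ H := by rw [e]; exact hg
    rw [ev_of_mem ϕ h1, ev_of_mem ϕ hg]
    congr 1
    exact Subtype.ext e
  · have h1 : (c * x)⁻¹ * (c * g * c⁻¹) * (c * x) ∉ H := by rw [e]; exact hg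
    rw [ev_of_not_mem ϕ h1, ev_of_not_mem ϕ hg]

theorem ev_comm (ϕ : H →* A) {c g : G} (x : G) (h : c * g = g * c) : ev ϕ (c * x) g = ev ϕ x g := by
  have e : c * g * c⁻¹ = g := by rw [h, mul_inv_cancel_right]
  conv_lhs => rw [← e]
  exact ev_conj ϕ c x g

theorem ev_sq (ϕ : H →* A) (h : ∀ y : H, ϕ y * ϕ y = 1) (x g : G) : ev ϕ x g * ev ϕ x g = 1 := by
  by_cases hg : x⁻¹ * g * x ∈ H
  · rw [ev_of_mem ϕ hg]; exact h _
  · rw [ev_of_not_mem ϕ hg, mul_one]

theorem mem_iff_fix {x g : G} : x⁻¹ * g * x ∈ H ↔ g • (x : G ⧸ H) = x := by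
  rw [show g • (x : G ⧸ H) = ((g * x : G) : G ⧸ H) from rfl, eq_comm, QuotientGroup.eq, mul_assoc]

/-! ## Periods -/

theorem period_iff (h : G) (n : ℕ) (q : G ⧸ H) : Function.IsPeriodicPt (h • ·) n q ↔ h ^ n • q = q := by
  rw [Function.IsPeriodicPt, Function.IsFixedPt, smul_iterate]

theorem period_comm {c h : G} (hc : c * h = h * c) (q : G ⧸ H) :
    Function.minimalPeriod (h • ·) (c • q) = Function.minimalPeriod (h • ·) q := by
  rw [Function.minimalPeriod_eq_minimalPeriod_iff]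
  intro n
  rw [period_iff, period_iff]
  have hcn : h ^ n * c = c * h ^ n := by
    have : Commute c h := hc
    exact (this.pow_right n).eq.symm
  rw [← mul_smul, hcn, mul_smul]
  exact smul_left_cancel_iff c

theorem mem_orbit {h : G} {q r : G ⧸ H}
    (hq : (Quotient.mk (orbitRel (zpowers h) (G ⧸ H)) q) = Quotient.mk (orbitRel (zpowers h) (G ⧸ H)) r) :
    ∃ k : ℤ, q = h ^ k • r := by
  have h1 : (orbitRel (zpowers h) (G ⧸ H)).r q r := Quotient.exact hq
  obtain ⟨⟨z, hz⟩, h2⟩ := h1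
  obtain ⟨k, rfl⟩ := mem_zpowers_iff.1 hz
  exact ⟨k, h2.symm⟩

theorem orbit_of {h : G} {q r : G ⧸ H} (k : ℤ) (hk : q = h ^ k • r) :
    (Quotient.mk (orbitRel (zpowers h) (G ⧸ H)) q) = Quotient.mk (orbitRel (zpowers h) (G ⧸ H)) r := by
  apply Quotient.sound
  exact ⟨⟨h ^ k, zpow_mem (mem_zpowers h) k⟩, hk.symm⟩

/-! ## (P2) -/

/-- **PRIN (P2).** -/
theorem p2 [H.FiniteIndex] (ϕ : H →* A) {b h : G} (hbb : b * b = 1)
    (hfix : ∀ g : G, g⁻¹ * b * g ∈ H → g ∈ H) (hb : b ∈ H) (hbh : h * b = b * h)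
    (hev : ∀ (x : G) (n : ℕ), 0 < n → x⁻¹ * h ^ n * x ∈ H → ev ϕ x (h ^ n) * ev ϕ x (h ^ n) = 1)
    (hev' : ∀ (x : G) (n : ℕ), 0 < n → x⁻¹ * (h ^ n * b) * x ∈ H →
      ev ϕ x (h ^ n * b) * ev ϕ x (h ^ n * b) = 1) (hh : h ∈ H) :
    MonoidHom.transfer ϕ h = ϕ ⟨h, hh⟩ := by
  classical
  let _ := H.fintypeQuotientOfFiniteIndex
  set Q := Quotient (orbitRel (zpowers h) (G ⧸ H)) with hQ
  let per : G ⧸ H → ℕ := fun q => Function.minimalPeriod (h • ·) q
  have hper : ∀ q, h ^ per q • q = q := by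
    intro q
    exact (period_iff h _ q).1 (Function.isPeriodicPt_minimalPeriod _ _)
  have hpos : ∀ q, 0 < per q := by
    intro q
    exact Function.minimalPeriod_pos_of_mem_periodicPts (by
      have h1 : Function.Injective (fun q : G ⧸ H => h • q) := MulAction.injective h
      obtain ⟨n, hn, h2⟩ : ∃ n, 0 < n ∧ h ^ n • q = q := by
        have h3 : ¬ Function.Injective (fun n : ℕ => h ^ n • q) := not_injective_infinite_finite _
        rw [Function.Injective] at h3
        push Not at h3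
        obtain ⟨n, m, h4, h5⟩ := h3
        rcases lt_or_gt_of_ne h5 with h6 | h6
        · refine ⟨m - n, by omega, ?_⟩
          have h7 : h ^ m = h ^ n * h ^ (m - n) := by rw [← pow_add]; congr 1; omega
          rw [h7, mul_smul] at h4
          exact (smul_left_cancel _ h4).symm
        · refine ⟨n - m, by omega, ?_⟩
          have h7 : h ^ n = h ^ m * h ^ (n - m) := by rw [← pow_add]; congr 1; omega
          rw [h7, mul_smul] at h4
          exact smul_left_cancel _ h4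
      exact ⟨n, hn, (period_iff h n q).2 h2⟩)
  let F : Q → A := fun C => ev ϕ C.out.out (h ^ per C.out)
  have hF : ∀ x : G, F (Quotient.mk _ (x : G ⧸ H)) = ev ϕ x (h ^ per (x : G ⧸ H)) := by
    intro x
    set C : Q := Quotient.mk _ (x : G ⧸ H) with hC
    obtain ⟨k, hk⟩ := mem_orbit (h := h) (q := C.out) (r := (x : G ⧸ H)) (by rw [Quotient.out_eq])
    have hck : h ^ k * h = h * h ^ k := (Commute.refl h).zpow_left k
    have h1 : per C.out = per (x : G ⧸ H) := by
      rw [hk]; exact period_comm hck _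
    have h2 : ((C.out.out : G) : G ⧸ H) = ((h ^ k * x : G) : G ⧸ H) := by
      rw [QuotientGroup.out_eq', hk]; rfl
    change ev ϕ C.out.out (h ^ per C.out) = _
    rw [h1, ev_congr ϕ _ h2]
    exact ev_comm ϕ x ((Commute.refl h).zpow_left k |>.pow_right _)
  have hV : MonoidHom.transfer ϕ h = ∏ C : Q, F C := by
    rw [MonoidHom.transfer_eq_prod_quotient_orbitRel_zpowers_quot]
    refine Finset.prod_congr rfl fun C _ => ?_
    change _ = ev ϕ C.out.out (h ^ per C.out)
    rw [ev_of_mem ϕ (QuotientGroup.out_conj_pow_minimalPeriod_mem H h C.out)]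
  -- the base point
  let C0 : Q := Quotient.mk _ ((1 : G) : G ⧸ H)
  have hone : h • ((1 : G) : G ⧸ H) = ((1 : G) : G ⧸ H) := by
    rw [← mem_iff_fix]; simpa using hh
  have hF0 : F C0 = ϕ ⟨h, hh⟩ := by
    change F (Quotient.mk _ ((1 : G) : G ⧸ H)) = _
    rw [hF 1]
    have h1 : per ((1 : G) : G ⧸ H) = 1 :=
      Function.minimalPeriod_eq_one_iff_isFixedPt.2 hone
    rw [h1, pow_one, ev_base ϕ hh]
  -- the involution on the set of cycles
  let σ : Q → Q := fun C => Quotient.mk _ (b • C.out)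
  have hσ : ∀ q : G ⧸ H, σ (Quotient.mk _ q) = Quotient.mk _ (b • q) := by
    intro q
    set C : Q := Quotient.mk _ q with hC
    obtain ⟨k, hk⟩ := mem_orbit (h := h) (q := C.out) (r := q) (by rw [Quotient.out_eq])
    change Quotient.mk _ (b • C.out) = _
    refine orbit_of k ?_
    have hbk : b * h ^ k = h ^ k * b := by
      have : Commute b h := hbh.symm
      exact (this.zpow_right k).eq
    rw [hk, ← mul_smul, hbk, mul_smul]
  have hσσ : ∀ C, σ (σ C) = C := by
    intro C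
    obtain ⟨q, rfl⟩ := Quotient.exists_rep C
    exact (congrArg σ (hσ q)).trans ((hσ (b • q)).trans (by rw [← mul_smul, hbb, one_smul]))
  have hσ0 : σ C0 = C0 := by
    change σ (Quotient.mk _ ((1 : G) : G ⧸ H)) = Quotient.mk _ ((1 : G) : G ⧸ H)
    rw [hσ]
    congr 1
    rw [← mem_iff_fix]; simpa using hb
  have hFσ : ∀ C, F (σ C) = F C := by
    intro C
    obtain ⟨q, rfl⟩ := Quotient.exists_rep C
    obtain ⟨x, rfl⟩ := QuotientGroup.mk_surjective q
    rw [hσ]
    have h1 : b • (x : G ⧸ H) = ((b * x : G) : G ⧸ H) := rfl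
    rw [h1, hF, hF, ← h1, show per (b • (x : G ⧸ H)) = per (x : G ⧸ H) from period_comm hbh.symm _]
    exact ev_comm ϕ x (by
      have : Commute b h := hbh.symm
      exact (this.pow_right _).eq)
  have hprod : ∏ C ∈ Finset.univ.erase C0, F C = 1 := by
    refine Finset.prod_involution (fun C _ => σ C) ?_ ?_ ?_ ?_
    · intro C _
      rw [hFσ]
      obtain ⟨q, rfl⟩ := Quotient.exists_rep C
      obtain ⟨x, rfl⟩ := QuotientGroup.mk_surjective q
      rw [hF]
      exact hev x _ (hpos _) (mem_iff_fix.2 (hper _))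
    · intro C hC hne hfixC
      have hC0 : C ≠ C0 := (Finset.mem_erase.1 hC).1
      obtain ⟨q, rfl⟩ := Quotient.exists_rep C
      obtain ⟨x, rfl⟩ := QuotientGroup.mk_surjective q
      rw [hσ] at hfixC
      obtain ⟨k, hk⟩ := mem_orbit hfixC
      set m := per (x : G ⧸ H) with hm
      have hmpos : 0 < m := hpos _
      have hmfix : h ^ m • (x : G ⧸ H) = x := hper _
      -- reduce the exponent
      have hmz : ∀ j : ℤ, h ^ ((m : ℤ) * j) • (x : G ⧸ H) = x := by
        intro j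
        have h1 : h ^ (m : ℤ) ∈ stabilizer G (x : G ⧸ H) := by
          rw [mem_stabilizer_iff, zpow_natCast]; exact hmfix
        have h2 := zpow_mem h1 j
        rw [← zpow_mul, mem_stabilizer_iff] at h2
        exact h2
      obtain ⟨r, hr, hbr⟩ : ∃ r : ℕ, r < m ∧ b • (x : G ⧸ H) = h ^ r • (x : G ⧸ H) := by
        refine ⟨(k % (m : ℤ)).toNat, ?_, ?_⟩
        · have h1 := Int.emod_nonneg k (by omega : (m : ℤ) ≠ 0)
          have h2 := Int.emod_lt_of_pos k (by omega : (0 : ℤ) < m)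
          omega
        · have h1 := Int.emod_nonneg k (by omega : (m : ℤ) ≠ 0)
          have h3 : h ^ k = h ^ (k % (m : ℤ)) * h ^ ((m : ℤ) * (k / (m : ℤ))) := by
            rw [← zpow_add]
            congr 1
            have := Int.emod_add_mul_ediv k (m : ℤ)
            omega
          rw [hk, h3, mul_smul, hmz, ← zpow_natCast, Int.toNat_of_nonneg h1]
      have hbr' : b * h ^ r = h ^ r * b := by
        have : Commute b h := hbh.symm
        exact (this.pow_right r).eq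
      have h2r : h ^ (r + r) • (x : G ⧸ H) = x := by
        rw [pow_add, mul_smul, ← hbr, ← mul_smul, ← hbr', mul_smul, ← hbr, ← mul_smul, hbb, one_smul]
      have hdvd : m ∣ r + r := by
        have h1 : Function.IsPeriodicPt (h • ·) (r + r) (x : G ⧸ H) := (period_iff h _ _).2 h2r
        exact h1.minimalPeriod_dvd
      rcases Nat.eq_zero_or_pos r with hr0 | hr0
      · rw [hr0, pow_zero, one_smul] at hbr
        have hx : x ∈ H := hfix x (mem_iff_fix.2 hbr)
        apply hC0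
        change Quotient.mk _ (x : G ⧸ H) = Quotient.mk _ ((1 : G) : G ⧸ H)
        congr 1
        rw [eq_comm, QuotientGroup.eq]
        simpa using hx
      · have hmr : m = r + r := by
          obtain ⟨c, hc⟩ := hdvd
          have h1 : c = 1 := by
            have h2 : 0 < c := by
              rcases Nat.eq_zero_or_pos c with h3 | h3
              · rw [h3, mul_zero] at hc; omega
              · exact h3
            by_contra h3
            have h4 : 2 ≤ c := by omega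
            have h5 : m * 2 ≤ m * c := Nat.mul_le_mul_left m h4
            omega
          rw [h1, mul_one] at hc
          exact hc.symm
        apply hne
        rw [hF]
        have hyfix : (h ^ r * b) • (x : G ⧸ H) = x := by
          rw [mul_smul, hbr, ← mul_smul, ← pow_add]; exact h2r
        have hy : x⁻¹ * (h ^ r * b) * x ∈ H := mem_iff_fix.2 hyfix
        have hyy : h ^ per (x : G ⧸ H) = h ^ r * b * (h ^ r * b) := by
          rw [← hm, hmr, pow_add]
          calc h ^ r * h ^ r = h ^ r * h ^ r * (b * b) := by rw [hbb, mul_one]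
            _ = h ^ r * (h ^ r * b) * b := by group
            _ = h ^ r * (b * h ^ r) * b := by rw [hbr']
            _ = h ^ r * b * (h ^ r * b) := by group
        rw [hyy, ev_mul ϕ hy hy]
        exact hev' x r hr0 hy
    · intro C hC
      rw [Finset.mem_erase] at hC ⊢
      refine ⟨fun h1 => hC.1 ?_, Finset.mem_univ _⟩
      rw [← hσσ C, h1, hσ0]
    · intro C _
      exact hσσ C
  rw [hV, ← Finset.mul_prod_erase Finset.univ F (Finset.mem_univ C0), hprod, mul_one, hF0]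

/-- `b` fixes only the base point, `h` commutes with `b`: then `h ∈ H`. -/
theorem mem_of_fix {b h : G} (hfix : ∀ g : G, g⁻¹ * b * g ∈ H → g ∈ H) (hb : b ∈ H) (hbh : h * b = b * h) :
    h ∈ H := by
  apply hfix
  rw [mul_assoc, ← hbh, inv_mul_cancel_left]
  exact hb

/-- **PRIN (P1).** -/
theorem p1 [H.FiniteIndex] (ϕ : H →* A) (hϕ : ∀ y : H, ϕ y * ϕ y = 1) {b h : G} (hbb : b * b = 1)
    (hfix : ∀ g : G, g⁻¹ * b * g ∈ H → g ∈ H) (hb : b ∈ H) (hbh : h * b = b * h) (hh : h ∈ H) :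
    MonoidHom.transfer ϕ h = ϕ ⟨h, hh⟩ :=
  p2 ϕ hbb hfix hb hbh (fun x _ _ _ => ev_sq ϕ hϕ x _) (fun x _ _ _ => ev_sq ϕ hϕ x _) hh

/-- (P1) for signs. -/
theorem p1_sign [H.FiniteIndex] (ϕ : H →* ℤˣ) {b h : G} (hbb : b * b = 1)
    (hfix : ∀ g : G, g⁻¹ * b * g ∈ H → g ∈ H) (hb : b ∈ H) (hbh : h * b = b * h) (hh : h ∈ H) :
    MonoidHom.transfer ϕ h = ϕ ⟨h, hh⟩ :=
  p1 ϕ (fun y => Int.units_mul_self (ϕ y)) hbb hfix hb hbh hh

/-! ## The transfer at an involution (PRIN0) -/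

theorem transfer_eq_prod [H.FiniteIndex] [Fintype (G ⧸ H)] (ϕ : H →* A) (s : G ⧸ H → G)
    (hs : ∀ q : G ⧸ H, (s q : G ⧸ H) = q) (g : G) :
    MonoidHom.transfer ϕ g = ∏ q : G ⧸ H, ev ϕ 1 ((s q)⁻¹ * g * s (g⁻¹ • q)) := by
  rw [MonoidHom.transfer_def ϕ ⟨Set.range s, isComplement_range_left hs⟩ g]
  unfold Subgroup.leftTransversals.diff
  refine Finset.prod_congr (by congr 1; exact Subsingleton.elim _ _) fun q _ => ?_
  have h1 : ((⟨Set.range s, isComplement_range_left hs⟩ : H.LeftTransversal).2.leftQuotientEquiv q : G) = s q :=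
    IsComplement.leftQuotientEquiv_apply hs q
  have h2 : ((g • (⟨Set.range s, isComplement_range_left hs⟩ : H.LeftTransversal)).2.leftQuotientEquiv q : G) =
      g * s (g⁻¹ • q) := by
    rw [smul_apply_eq_smul_apply_inv_smul]
    rw [IsComplement.leftQuotientEquiv_apply hs]
    rfl
  have hmem : (s q)⁻¹ * g * s (g⁻¹ • q) ∈ H := by
    rw [mul_assoc, ← QuotientGroup.eq]
    rw [hs]
    change q = g • (s (g⁻¹ • q) : G ⧸ H)
    rw [hs, smul_inv_smul]
  rw [ev_base ϕ hmem]
  congr 1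
  apply Subtype.ext
  dsimp only
  rw [h1, h2, mul_assoc]

/-- The transfer at an involution: only the fixed points contribute. -/
theorem transfer_inv [H.FiniteIndex] [Fintype (G ⧸ H)] [DecidableEq (G ⧸ H)] (ϕ : H →* A) {x : G} (hxx : x * x = 1) :
    MonoidHom.transfer ϕ x =
      ∏ q ∈ Finset.univ.filter (fun q : G ⧸ H => x • q = q), ev ϕ q.out x := by
  have hxi : x⁻¹ = x := inv_eq_of_mul_eq_one_left hxx
  have hs : ∀ q : G ⧸ H, ((q.out : G) : G ⧸ H) = q := fun q => QuotientGroup.out_eq' q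
  rw [transfer_eq_prod ϕ (fun q => q.out) hs x]
  rw [← Finset.prod_filter_mul_prod_filter_not (Finset.univ : Finset (G ⧸ H)) (fun q => x • q = q)]
  have hmem : ∀ q : G ⧸ H, (q.out)⁻¹ * x * (x • q).out ∈ H := by
    intro q
    rw [mul_assoc, ← QuotientGroup.eq, hs]
    change q = x • (((x • q).out : G) : G ⧸ H)
    rw [hs, ← mul_smul, hxx, one_smul]
  have h2 : ∏ q ∈ Finset.univ.filter (fun q : G ⧸ H => ¬ x • q = q), ev ϕ 1 ((q.out)⁻¹ * x * (x⁻¹ • q).out) = 1 := by
    refine Finset.prod_involution (fun q _ => x • q) ?_ ?_ ?_ ?_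
    · intro q _
      rw [hxi, ← mul_smul, hxx, one_smul]
      have h3 := hmem q
      have h4 := hmem (x • q)
      rw [← mul_smul, hxx, one_smul] at h4
      rw [ev_base ϕ h3, ev_base ϕ h4, ← map_mul]
      have h5 : (⟨(q.out)⁻¹ * x * (x • q).out, h3⟩ : H) * ⟨((x • q).out)⁻¹ * x * q.out, h4⟩ = 1 := by
        apply Subtype.ext
        change (q.out)⁻¹ * x * (x • q).out * (((x • q).out)⁻¹ * x * q.out) = 1
        calc (q.out)⁻¹ * x * (x • q).out * (((x • q).out)⁻¹ * x * q.out) = (q.out)⁻¹ * (x * x) * q.out := by group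
          _ = 1 := by rw [hxx, mul_one, inv_mul_cancel]
      rw [h5, map_one]
    · intro q hq _
      exact (Finset.mem_filter.mp hq).2
    · intro q hq
      rw [Finset.mem_filter] at hq ⊢
      refine ⟨Finset.mem_univ _, fun h3 => hq.2 ?_⟩
      have := congrArg (x • ·) h3
      simp only [← mul_smul, hxx, one_smul] at this
      exact this
    · intro q _
      rw [← mul_smul, hxx, one_smul]
  rw [h2, mul_one]
  refine Finset.prod_congr rfl fun q hq => ?_
  have hq' : x • q = q := (Finset.mem_filter.mp hq).2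
  rw [hxi, hq']
  have h6 : (q.out)⁻¹ * x * q.out ∈ H := by
    have := hmem q
    rwa [hq'] at this
  rw [ev_base ϕ h6, ev_of_mem ϕ h6]

/-- **PRIN0.** Every fixed point of `x` on `G ⧸ H` is a translate of the base point by an element of `C(x)`, and their
number is odd. -/
theorem prin0 [Finite G] (ϕ : H →* A) {x : G} (hxx : x * x = 1) (hx : x ∈ H)
    (hfix : ∀ g : G, g⁻¹ * x * g ∈ H → ∃ c, c * x = x * c ∧ c⁻¹ * g ∈ H)
    (hodd : Odd (Nat.card {q : G ⧸ H // x • q = q})) :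
    MonoidHom.transfer ϕ x = ϕ ⟨x, hx⟩ := by
  classical
  cases nonempty_fintype (G ⧸ H)
  rw [transfer_inv ϕ hxx]
  have h1 : ∀ q ∈ Finset.univ.filter (fun q : G ⧸ H => x • q = q), ev ϕ q.out x = ϕ ⟨x, hx⟩ := by
    intro q hq
    have hq' : x • q = q := (Finset.mem_filter.mp hq).2
    have h2 : (q.out)⁻¹ * x * q.out ∈ H := by
      rw [mem_iff_fix, QuotientGroup.out_eq']; exact hq'
    obtain ⟨c, hc, hcq⟩ := hfix _ h2
    have h3 : ((q.out : G) : G ⧸ H) = (c : G ⧸ H) := by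
      rw [eq_comm, QuotientGroup.eq]; exact hcq
    rw [ev_congr ϕ x h3]
    have h4 := ev_comm ϕ (1 : G) hc
    rw [mul_one] at h4
    rw [h4, ev_base ϕ hx]
  rw [Finset.prod_congr rfl h1, Finset.prod_const]
  have h5 : (Finset.univ.filter (fun q : G ⧸ H => x • q = q)).card = Nat.card {q : G ⧸ H // x • q = q} := by
    rw [Nat.card_eq_fintype_card, Fintype.card_subtype]
  rw [h5]
  have h6 : ϕ ⟨x, hx⟩ * ϕ ⟨x, hx⟩ = 1 := by
    rw [← map_mul]
    have : (⟨x, hx⟩ : H) * ⟨x, hx⟩ = 1 := Subtype.ext hxx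
    rw [this, map_one]
  obtain ⟨n, hn⟩ := hodd
  rw [hn, pow_add, pow_mul, pow_two, h6, one_pow, one_mul, pow_one]

/-- The number of fixed points of `x`, if `C(x)` is transitive on them. -/
theorem card_fixed {x : G} (hx : x ∈ H) (hfix : ∀ g : G, g⁻¹ * x * g ∈ H → ∃ c, c * x = x * c ∧ c⁻¹ * g ∈ H) :
    Nat.card {q : G ⧸ H // x • q = q} = H.relIndex (centralizer {x}) := by
  let C : Subgroup G := centralizer {x}
  have hst : stabilizer C ((1 : G) : G ⧸ H) = H.subgroupOf C := by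
    ext c
    rw [mem_stabilizer_iff, mem_subgroupOf]
    have h1 : c • ((1 : G) : G ⧸ H) = (c : G) • ((1 : G) : G ⧸ H) := rfl
    rw [h1, ← mem_iff_fix]
    simp
  have horb : orbit C ((1 : G) : G ⧸ H) = {q : G ⧸ H | x • q = q} := by
    ext q
    rw [mem_orbit_iff, Set.mem_ofPred_eq]
    constructor
    · rintro ⟨c, rfl⟩
      have hc : (c : G) * x = x * c := by
        have := mem_centralizer_iff.1 c.2 x rfl
        exact this.symm
      have h1 : c • ((1 : G) : G ⧸ H) = (c : G) • ((1 : G) : G ⧸ H) := rfl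
      rw [h1, ← mul_smul, ← hc, mul_smul]
      congr 1
      rw [← mem_iff_fix]; simpa using hx
    · intro hq
      obtain ⟨g, rfl⟩ := QuotientGroup.mk_surjective q
      obtain ⟨c, hc, hcg⟩ := hfix g (mem_iff_fix.2 hq)
      have hcC : c ∈ C := by
        rw [mem_centralizer_iff]
        intro y hy
        rw [Set.mem_singleton_iff.1 hy, hc]
      refine ⟨⟨c, hcC⟩, ?_⟩
      change ((c * 1 : G) : G ⧸ H) = g
      rw [mul_one, QuotientGroup.eq]
      exact hcg
  have h1 := index_stabilizer C ((1 : G) : G ⧸ H)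
  rw [hst, horb] at h1
  change _ = (H.subgroupOf C).index
  rw [h1]
  rfl

/-- **PRIN0**, index form. -/
theorem prin0_index [Finite G] (ϕ : H →* A) {x : G} (hxx : x * x = 1) (hx : x ∈ H)
    (hfix : ∀ g : G, g⁻¹ * x * g ∈ H → ∃ c, c * x = x * c ∧ c⁻¹ * g ∈ H)
    (hodd : Odd (H.relIndex (centralizer {x}))) :
    MonoidHom.transfer ϕ x = ϕ ⟨x, hx⟩ :=
  prin0 ϕ hxx hx hfix (by rw [card_fixed hx hfix]; exact hodd)

/-- **PRIN0** for `H = C(a)`: the conjugates of `a` in `C(x)` are conjugate in `C(x)`, their number is odd. -/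
theorem prin0_cent [Finite G] {a x : G} (ϕ : (centralizer {a} : Subgroup G) →* A) (hxx : x * x = 1)
    (hD : ∀ g : G, g * a * g⁻¹ * x = x * (g * a * g⁻¹) → ∃ c, c * x = x * c ∧ g * a * g⁻¹ = c * a * c⁻¹)
    (hodd : Odd ((centralizer {a} : Subgroup G).relIndex (centralizer {x}))) (hx : x ∈ (centralizer {a} : Subgroup G)) :
    MonoidHom.transfer ϕ x = ϕ ⟨x, hx⟩ := by
  refine prin0_index ϕ hxx hx (fun g hg => ?_) hodd
  have h1 := mem_centralizer_iff.1 hg a rfl
  obtain ⟨c, hc, hca⟩ := hD g (by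
    calc g * a * g⁻¹ * x = g * (a * (g⁻¹ * x * g)) * g⁻¹ := by group
      _ = g * (g⁻¹ * x * g * a) * g⁻¹ := by rw [h1]
      _ = x * (g * a * g⁻¹) := by group)
  refine ⟨c, hc, ?_⟩
  rw [mem_centralizer_iff]
  intro y hy
  rw [Set.mem_singleton_iff.1 hy]
  calc a * (c⁻¹ * g) = c⁻¹ * (c * a * c⁻¹) * g := by group
    _ = c⁻¹ * (g * a * g⁻¹) * g := by rw [hca]
    _ = c⁻¹ * g * a := by group

end Cfsg.Agent.UGT.FourB.Prin
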