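import Cfsg.Agent.UGT.FourA.AlOne
import Cfsg.Agent.UGT.FourA.Final
import Cfsg.Agent.UGT.Res.Setup
import Cfsg.Agent.UGT.FourB.Hom

/-!
# NodeR, leaf (L0): the world `T ∈ Syl₂(G)`

`Sg a x d r s L T T₁ Q P`: the frame with `T ∈ Syl₂(G)`, `N(T) ≤ C(a)`, `m(Q) ≥ 2` and a homomorphism `G → {±1}`,
`x ↦ -1`.

* `Sg.nas`, `Sg.naz`, `Sg.nsz` : `a`, `s`, `as` are pairwise not conjugate;
* `max_of` : `T ∈ Syl₂(G)` if `a` is centralized by a Sylow 2-subgroup of `G`;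
* `of_cfg` : no field type 2-elements: the fields of `Sg`, or sectional 2-rank at most 4;
* `Sg.t1` : `(x, s)`, `(x, as)` are not bad: contradiction.
-/

set_option autoImplicit false

open Cfsg Subgroup
open Cfsg.Agent.SignalizersComponents Cfsg.Agent.Lib
open Cfsg.Agent.SignalizersComponents.IntrinsicBasic
open Cfsg.Agent.Intrinsic.Basic Cfsg.Agent.Intrinsic.Cen Cfsg.Agent.Intrinsic.Diag
open Cfsg.Agent.McLLyComp.Act
open Cfsg.Agent.GH.L2Aut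
open Cfsg.Agent.UGT.Triple Cfsg.Agent.UGT.TriBase Cfsg.Agent.UGT.Iface Cfsg.Agent.UGT.Res.KFacts
open Cfsg.Agent.UGT.RankOneR Cfsg.Agent.UGT.FourA.Top Cfsg.Agent.UGT.FourA.Hon
open Cfsg.Agent.UGT.FourB.Frame
open scoped commutatorElement

namespace Cfsg.Agent.UGT.FourB.TS

universe u

local notation "Fs" => generalizedFittingSubgroup

variable {G : Type u} [Group G]

/-- `T` is a Sylow 2-subgroup of `G`, `N(T) ≤ C(a)`, `m(Q) ≥ 2`, `x ∉ X` -/
structure Sg (a x d r s : G) (L T T₁ Q P : Subgroup G) : Prop where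
  fr : Fr a x d r s L T T₁ Q P
  max : ∀ U : Subgroup G, IsPGroup 2 U → T ≤ U → U ≤ T
  cn : ∀ g : G, (∀ t ∈ T, g * t * g⁻¹ ∈ T) → g * a * g⁻¹ = a
  two : ∃ u ∈ Q, u * u = 1 ∧ u ≠ 1 ∧ u ≠ a
  hom : ∃ f : G →* ℤˣ, f x = -1

section fusion

variable [Finite G] {a x d r s : G} {L T T₁ Q P : Subgroup G}

/-- Burnside -/
theorem nconj (C : Fr a x d r s L T T₁ Q P) (hT : ∀ U : Subgroup G, IsPGroup 2 U → T ≤ U → U ≤ T)
    (cn : ∀ g : G, (∀ t ∈ T, g * t * g⁻¹ ∈ T) → g * a * g⁻¹ = a) {z g : G} (hz : ∀ t ∈ T, t * z = z * t)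
    (h : g * a * g⁻¹ = z) : a = z := by
  obtain ⟨n, h1, -, h2⟩ := FourA.Zst.burnside C.Tp hT (fun t ht => C.a_comm ht) hz h
  rw [← h2, cn n h1]

theorem asT (C : Fr a x d r s L T T₁ Q P) : ∀ t ∈ T, t * (a * s) = a * s * t := by
  intro t ht
  rw [← mul_assoc, C.a_comm ht, mul_assoc, C.sT t ht, mul_assoc]

theorem nas (C : Fr a x d r s L T T₁ Q P) (hT : ∀ U : Subgroup G, IsPGroup 2 U → T ≤ U → U ≤ T)
    (cn : ∀ g : G, (∀ t ∈ T, g * t * g⁻¹ ∈ T) → g * a * g⁻¹ = a) (g : G) : g * a * g⁻¹ ≠ s :=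
  fun h => C.a_ne_s (nconj C hT cn C.sT h)

theorem naz (C : Fr a x d r s L T T₁ Q P) (hT : ∀ U : Subgroup G, IsPGroup 2 U → T ≤ U → U ≤ T)
    (cn : ∀ g : G, (∀ t ∈ T, g * t * g⁻¹ ∈ T) → g * a * g⁻¹ = a) (g : G) : g * a * g⁻¹ ≠ a * s :=
  fun h => C.s1 (left_eq_mul.mp (nconj C hT cn (asT C) h))

theorem nsz (C : Fr a x d r s L T T₁ Q P) (hT : ∀ U : Subgroup G, IsPGroup 2 U → T ≤ U → U ≤ T)
    (cn : ∀ g : G, (∀ t ∈ T, g * t * g⁻¹ ∈ T) → g * a * g⁻¹ = a) (g : G) : g * s * g⁻¹ ≠ a * s := by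
  intro h
  obtain ⟨n, h1, -, h2⟩ := FourA.Zst.burnside C.Tp hT C.sT (asT C) h
  have h3 : n ∈ centralizer ({a} : Set G) := by
    rw [mem_centralizer_singleton_iff]
    calc n * a = (n * a * n⁻¹) * n := by group
      _ = a * n := by rw [cn n h1]
  have h4 : n * s * n⁻¹ ∈ P := (C.Pdef _).mpr ⟨h1 s C.sT', conj_mem (C.nor h3) C.sL⟩
  rw [h2] at h4
  have h5 : a ∈ P := by
    have h6 := P.mul_mem h4 C.sP
    rwa [mul_assoc, C.ss, mul_one] at h6
  exact C.a1 (C.disj a C.aQ h5)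

end fusion

section nofld

variable [Finite G] {a x d r s : G} {L T T₁ Q P : Subgroup G}

/-- the 2-subgroups of `G` containing `T`, `T` maximal in `C(a)` -/
theorem card_le_of (C : Fr a x d r s L T T₁ Q P) {V : Subgroup G} (hV : IsPGroup 2 V)
    (hVa : V ≤ centralizer ({a} : Set G)) : ∃ g ∈ centralizer ({a} : Set G), ∀ v ∈ V, g * v * g⁻¹ ∈ T :=
  FourA.Top.exists_conj C.Tp C.TC (fun U hU hTU hUC => C.syl U hU hTU hUC) hV hVa

/-- `a` is centralized by a Sylow 2-subgroup of `G`: `T` is one -/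
theorem max_of (C : Fr a x d r s L T T₁ Q P) (S : Sylow 2 G) (hS : ∀ t ∈ S, t * a = a * t) :
    ∀ U : Subgroup G, IsPGroup 2 U → T ≤ U → U ≤ T := by
  intro U hU hTU
  have hp : Fact (Nat.Prime 2) := ⟨Nat.prime_two⟩
  obtain ⟨g, -, hg⟩ := card_le_of C S.2 (fun t ht => mem_centralizer_singleton_iff.mpr (hS t ht))
  have h1 : Nat.card S ≤ Nat.card T := by
    refine Nat.card_le_card_of_injective (fun v : S => (⟨g * v * g⁻¹, hg v v.2⟩ : T)) ?_
    intro v w h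
    have h2 : g * (v : G) * g⁻¹ = g * w * g⁻¹ := congrArg Subtype.val h
    exact Subtype.ext (mul_left_cancel (mul_right_cancel h2))
  obtain ⟨V, hV⟩ := hU.exists_le_sylow
  have h2 : Nat.card V = Nat.card S := by
    rw [V.card_eq_multiplicity, S.card_eq_multiplicity]
  have h3 : Nat.card U ≤ Nat.card T := by
    calc Nat.card U ≤ Nat.card V := Nat.card_le_card_of_injective _ (Set.inclusion_injective hV)
      _ = Nat.card S := h2
      _ ≤ Nat.card T := h1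
  exact (Subgroup.eq_of_le_of_card_ge hTU h3).ge

/-- no field type 2-elements -/
theorem of_cfg (C : Fr a x d r s L T T₁ Q P) (hr : ¬ SectionalPRankLE 2 4 G) (Cf : Cfg a x d r L T Q P) :
    (∀ U : Subgroup G, IsPGroup 2 U → T ≤ U → U ≤ T) ∧
      (∀ g : G, (∀ t ∈ T, g * t * g⁻¹ ∈ T) → g * a * g⁻¹ = a) ∧ ∃ f : G →* ℤˣ, f x = -1 := by
  have hR : Cfg.One x a Q := fun q hq hqx hqq =>
    C.one q hqq (C.a_comm (C.QT hq)) hqx ((C.Qdef q).mp hq).2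
  rcases Cf.main hR with h | ⟨h1, -, ⟨w, hw, hwx, hww⟩, -, f, hf⟩
  · exact absurd h hr
  refine ⟨h1, fun m hm => ?_, f, hf⟩
  obtain ⟨s', hs'⟩ := Cf.exists_s
  have hmT : ∀ t ∈ T, m⁻¹ * t * m ∈ T := by
    have h5 : IntrinsicBasic.cj m T ≤ T := by
      rintro _ ⟨t, ht, rfl⟩
      exact hm t ht
    have h6 : IntrinsicBasic.cj m T = T :=
      Subgroup.eq_of_le_of_card_ge h5 (by rw [TriBase.card_cj])
    intro t ht
    rw [← h6, mem_cj] at ht
    exact ht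
  exact Cf.cent_of_norm hs' hR hw hwx hww hm hmT

end nofld

section top

variable [Finite G] {a x d r s : G} {L T T₁ Q P : Subgroup G}

/-- `F*(G)` is perfect -/
theorem le_comm (hG : MinCex G) : Fs G ≤ commutator G := by
  by_contra hcon
  have h1 : (Fs G ⊓ commutator G).Normal := by
    have := Trich.normal_fs (G := G)
    infer_instance
  have h2 : Fs G ⊓ commutator G = ⊥ := by
    by_contra h3
    exact hcon ((FourA.Final.min_fs hG _ h1 inf_le_left h3).trans inf_le_right)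
  apply hG.nonab
  refine ⟨⟨fun a b => ?_⟩⟩
  have h3 : ((⁅a, b⁆ : ↥(Fs G)) : G) ∈ Fs G ⊓ commutator G := by
    refine ⟨(⁅a, b⁆ : ↥(Fs G)).2, ?_⟩
    have h4 : ((⁅a, b⁆ : ↥(Fs G)) : G) = ⁅(a : G), (b : G)⁆ := rfl
    rw [h4]
    exact commutator_mem_commutator (mem_top _) (mem_top _)
  rw [h2, mem_bot] at h3
  exact commutatorElement_eq_one_iff_mul_comm.mp (Subtype.ext h3)

/-- `G = F*(G)⟨x⟩` -/
theorem hi_of (hG : MinCex G) (H : Pgl G) (Tr : IsTriple x a L) : ∀ u, u ∉ Fs G → u * x ∈ Fs G := by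
  intro u hu
  by_cases hx : x ∈ Fs G
  · exact absurd (Res.Setup.fs_top hG H Tr hx ▸ mem_top u) hu
  · obtain ⟨-, htop⟩ := Res.NodeCOne.cfx_of hG H Tr hx
    exact ((FourA.Final.idx Tr.invx hx htop).cov u).resolve_left hu

/-- `x ∉ X` -/
theorem Sg.x_not (hG : MinCex G) (C : Sg a x d r s L T T₁ Q P) : x ∉ Fs G := by
  obtain ⟨f, hf⟩ := C.hom
  exact FourA.Final.perfect_fs hG f hf

/-- **(T1)**: `a` is the only bad involution of `⟨a, s⟩` -/
theorem Sg.t1 (hG : MinCex G) (H : Pgl G) (hO : OneInv G) (C : Sg a x d r s L T T₁ Q P)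
    (hs : ∀ J, ¬ IsTriple x s J) (has : ∀ J, ¬ IsTriple x (a * s) J) : False := by
  have hx := C.x_not hG
  obtain ⟨Cf, htop⟩ := Res.NodeCOne.cfx_of hG H C.fr.tri hx
  obtain ⟨u, hu, huu, hu1, hua⟩ := C.two
  obtain ⟨n, hn, hnx⟩ := C.fr.exists_n hu huu hu1 hua
  exact FourA.Al.al_one (FourA.Final.idx C.fr.tri.invx hx htop) (le_comm hG) (FourA.Final.min_fs hG) H hO
    (fun t ht h2 => Cf.cf ht h2) C.fr.tri ⟨C.fr.sL, C.fr.xs.symm, C.fr.ss, C.fr.s1⟩ hs has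
    ((C.fr.Qdef n).mp hn).2 hnx

end top

end Cfsg.Agent.UGT.FourB.TS
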