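import Cfsg.Agent.UGT.FourB.GFun
import Cfsg.Agent.UGT.FourB.PairG
import Cfsg.Agent.UGT.FourB.NineEnd
import Cfsg.Agent.UGT.FourB.KG
import Cfsg.Agent.Lib.NormalAbelian

/-!
# The case `T < S`: the end

`Fr T Q P L a s x`, `World G`, `Sw S T a g`, the K-side fields `Sup T Q P L a s x` of `Nine.A1`, `x` of `PGL₂` type on
`L / O(L) ≅ PSL(2,q)`, `q ≡ 1 mod 4`, `q ≥ 9`: then `Nine.A1 S T Q P L a s x g`, and a contradiction if `X ≤ G'` and
`u * x ∈ X` for all `u ∉ X`.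
-/

set_option autoImplicit false
set_option linter.style.haveILetI false
set_option linter.unusedSectionVars false

open Cfsg Subgroup
open Cfsg.Agent.SignalizersComponents Cfsg.Agent.Lib Cfsg.Agent.SignalizersComponents.RelSylow
open Cfsg.Agent.SignalizersComponents.IntrinsicBasic
open Cfsg.Agent.SignalizersComponents.PLayerAut
open Cfsg.Agent.Intrinsic.Basic Cfsg.Agent.Intrinsic.Cen Cfsg.Agent.Intrinsic.Functor
open Cfsg.Agent.McLLyComp.Act
open Cfsg.Agent.UGT.Triple Cfsg.Agent.UGT.Iface Cfsg.Agent.UGT.FourB.GTools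
open scoped commutatorElement

namespace Cfsg.Agent.UGT.FourB.GFun

universe u

variable {G : Type u} [Group G]

/-- the K-side fields of `Nine.A1` -/
structure Sup (T Q P L : Subgroup G) (a s x : G) : Prop where
  der : ∀ t ∈ T, ∀ u ∈ T, ∃ q ∈ Q, ∃ p ∈ P, t * u * t⁻¹ * u⁻¹ = q * p
  sPP : s ∈ ⁅P, P⁆
  kL : ∀ q ∈ Q, ∀ i ∈ L, ∀ i' ∈ L, i * i = 1 → i ≠ 1 → i' * i' = 1 → i' ≠ 1 → i * q = q * i → i' * q = q * i' →
    ∃ l ∈ L, l * q = q * l ∧ l * i * l⁻¹ = i'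
  k2 : ∀ y ∈ P, y * y = 1 → y ≠ 1 → ∃ l ∈ L, l * y * l⁻¹ = s ∧ l * s * l⁻¹ ∈ P
  cen : ∀ y ∈ P, y * y = 1 → (∀ w ∈ P, w * w = 1 → y * w = w * y) → y = 1 ∨ y = s
  xQP : ∀ q ∈ Q, ∀ p ∈ P, x ≠ q * p
  pgl : ∀ p ∈ P, p * x * (p * x) = 1 → ∃ r ∈ P, r * (p * x) * r⁻¹ = x
  tyL : ∀ b ∈ T, b * b = 1 → (∃ q ∈ Q, ∃ p ∈ P, b = q * p) ∨ (∃ q ∈ Q, ∃ p ∈ P, b = q * p * x) ∨
    ∃ c, c * a = a * c ∧ c * b * c⁻¹ ∈ T ∧ (∀ p ∈ P, c * b * c⁻¹ * p = p * (c * b * c⁻¹)) ∧
      ∀ q ∈ Q, ∀ p ∈ P, c * b * c⁻¹ ≠ q * p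

/-- the K-facts -/
theorem kf_of [Finite G] (FT : OddSol G) {L : Subgroup G} {F : Type*} [Field F] [Finite F]
    {R : Cfsg.Agent.GH.L2Aut.Rep F (Bar L)} (h5 : 4 < Nat.card F) {x s : G} (K : KG.KX R x s) : KF x s L where
  k0 _ hl hf := KG.k0 R hl hf
  k1 H w hHL hodd hx hw hws y hy hyx hyc :=
    K.k1 hHL hodd (FT H hodd) (mem_normalizer_fintype hx) (mem_normalizer_fintype hw) hws hy hyx hyc
  k7 _ hy h1 h2 := K.k7 hy h1 h2
  k6 := by
    obtain ⟨y, h1, h2, -, h3⟩ := K.k6 h5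
    exact ⟨y, h1, h2, h3⟩

namespace Fr

variable [Finite G] {T Q P L : Subgroup G} {a s x t z g : G} {S : Sylow 2 G}

section

variable (F : Fr T Q P L a s x)
include F

theorem gW0 (Z : Tz S T a s t z g) : g ∈ normalizer (F.W0 : Set G) := by
  refine normalizer_le _ ?_
  refine mem_normalizer_fintype ?_
  intro w hw
  change g * w * g⁻¹ ∈ four F.aa F.ss F.as
  by_cases hw1 : w = 1
  · rw [hw1, mul_one, mul_inv_cancel]
    exact one_mem _
  · rcases F.of_in4 Z (mem_four.1 hw) hw1 with h | h | h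
    · rw [h, Z.ta]
      exact mem_four.2 Z.tV
    · rw [h, Z.tt]
      exact mem_four.2 (Or.inr (Or.inl rfl))
    · rw [h, Z.zS g Z.sw.gS]
      have e : z * g * g⁻¹ = z := by group
      rw [e]
      exact mem_four.2 Z.zV

theorem J_W0 (Wd : World G) (Z : Tz S T a s t z g) : cj g L ≤ normalizer (F.W0 : Set G) := by
  obtain ⟨-, -, hL, -⟩ := F.W0_facts Wd
  have hg := F.gW0 Z
  intro y hy
  have h1 := hL (mem_cj.mp hy)
  have e : y = g * (g⁻¹ * y * g) * g⁻¹ := by group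
  rw [e]
  exact mul_mem (mul_mem hg h1) (inv_mem hg)

variable {K : Type*} [Field K] [Finite K] (R : Cfsg.Agent.GH.L2Aut.Rep K (Bar L))

/-- the structure `PairG` -/
theorem pairG (Wd : World G) (Z : Tz S T a s t z g) (h5 : 5 ≤ Nat.card K)
    (ho : ∀ h, R.o1 (act L ⟨x, h⟩) = -1) (hJ : ∃ y ∈ th x, y ∈ cj g L ∧ y ∉ core (cj g L))
    (hxg : ∃ q ∈ Q, ∃ p ∈ P, g⁻¹ * x * g = q * p * x) {n : G} (hn : n ∈ Q) (hnx : n * x * n⁻¹ = x * a) :
    PairG.PairG R (Q2.repTr R (cjQuot g L)) F.W0 x a t n := by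
  obtain ⟨hodd, hcen, hL, hT⟩ := F.W0_facts Wd
  have hnT := F.QT hn
  refine
    { triL := F.tri
      triJ := F.tri_J Z hJ
      bigF := h5
      bigE := h5
      oL := ho
      oJ := ?_
      LN := F.LN
      JN := F.JN Z
      at_comm := (F.V4c Z.tV a F.aT)
      Wodd := hodd
      Wa := hcen a (Or.inr (Or.inl rfl)) F.a1
      Wt := hcen t Z.tV (F.t1 Z)
      Wz := ?_
      LM := hL
      JM := F.J_W0 Wd Z
      xM := hT F.xT
      aM := hT F.aT
      tM := hT (F.V4T Z.tV)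
      nM := hT hnT
      yL := ?_
      yJ := hJ
      nL := ((F.Qdef n).1 hn).2
      nx := hnx
      na := F.Ta n hnT }
  · intro h
    obtain ⟨q, hq, p, hp, hqp⟩ := hxg
    have hqN := F.LN q (F.Ta q (F.QT hq))
    have hpN := F.LN p (F.Ta p (F.PT hp))
    have hxN := F.LN x F.ax.symm
    have h1 : g⁻¹ * x * g ∈ normalizer (L : Set G) := by
      rw [hqp]
      exact mul_mem (mul_mem hqN hpN) hxN
    rw [Q2.repTr_o1 R (cjQuot g L) (α := act L ⟨g⁻¹ * x * g, h1⟩) (fun y => ?_)]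
    · rw [act_congr h1 hqp, act_mul (mul_mem hqN hpN) hxN, act_mul hqN hpN, map_mul, map_mul, ho,
        (act_eq_one_iff hqN).mpr ((F.Qdef q).1 hq).2, act_of_mem (F.PL hp), R.o1_conj, map_one, one_mul, one_mul]
    · induction y using QuotientGroup.induction_on with
      | H l =>
        obtain ⟨l, hl⟩ := l
        rw [act_mk h1 hl]
        change (QuotientGroup.mk ⟨g * (g⁻¹ * x * g * l * (g⁻¹ * x * g)⁻¹) * g⁻¹, conj_mem_cj (conj_mem h1 hl)⟩ :
          ↥(cj g L) ⧸ oddCore ↥(cj g L)) = act (cj g L) ⟨x, h⟩ (QuotientGroup.mk ⟨g * l * g⁻¹, conj_mem_cj hl⟩)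
        rw [act_mk h (conj_mem_cj hl)]
        congr 1
        apply Subtype.ext
        change g * (g⁻¹ * x * g * l * (g⁻¹ * x * g)⁻¹) * g⁻¹ = x * (g * l * g⁻¹) * x⁻¹
        group
  · rw [← Z.zat]
    exact (F.xz_le Wd Z).trans (F.th_le_W0 Z.zV (F.z1 Z))
  · obtain ⟨y, h1, h2, h3⟩ := exists_mem F.tri (F.zz Z) (F.V4x Z.zV) (F.V4c Z.zV a F.aT).symm F.sL Z.z1
      (F.xz_le Wd Z) (F.za_le Wd Z)
    exact ⟨y, h1, h2, h3⟩

/-- `D ≤ T` normal in `T`, `D ∩ W = 1`: `D = 1` -/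
theorem eq_one_of_normal {D : Subgroup G} (hDT : D ≤ T) (hn : ∀ t ∈ T, ∀ d ∈ D, t * d * t⁻¹ ∈ D)
    (hW : ∀ w ∈ D, In4 a s w → w = 1) : ∀ d ∈ D, d = 1 := by
  have h2 : Fact (Nat.Prime 2) := ⟨Nat.prime_two⟩
  by_contra hcon
  push Not at hcon
  obtain ⟨d, hd, hd1⟩ := hcon
  have hT : Group.IsNilpotent T := F.Tp.isNilpotent
  -- a central involution
  have hDn : (D.subgroupOf T).Normal := ⟨fun n hn' t => hn t t.2 n hn'⟩
  have hne : D.subgroupOf T ≠ ⊥ := by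
    intro h
    have h3 : (⟨d, hDT hd⟩ : T) ∈ D.subgroupOf T := hd
    rw [h, mem_bot] at h3
    exact hd1 (congrArg Subtype.val h3)
  have hne2 := Lib.NormalAbelian.normal_inf_center_ne_bot (D.subgroupOf T) hne
  have hpg : IsPGroup 2 (D.subgroupOf T ⊓ center T : Subgroup T) := F.Tp.to_subgroup _
  have hnt : Nontrivial (D.subgroupOf T ⊓ center T : Subgroup T) :=
    (Subgroup.nontrivial_iff_ne_bot _).mpr hne2
  obtain ⟨n, hn0, hcard⟩ := hpg.nontrivial_iff_card.mp hnt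
  have hdvd : 2 ∣ Nat.card (D.subgroupOf T ⊓ center T : Subgroup T) := by
    rw [hcard]
    exact dvd_pow_self 2 (by omega)
  obtain ⟨c, hc2⟩ := exists_prime_orderOf_dvd_card' 2 hdvd
  have hcc : ((c : T) : G) * ((c : T) : G) = 1 := by
    have h4 : c ^ 2 = 1 := by rw [← hc2]; exact pow_orderOf_eq_one c
    rw [pow_two] at h4
    exact congrArg (fun y : (D.subgroupOf T ⊓ center T : Subgroup T) => ((y : T) : G)) h4
  have hcz : ∀ u ∈ T, u * ((c : T) : G) = ((c : T) : G) * u := by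
    intro u hu
    exact congrArg Subtype.val (mem_center_iff.mp c.2.2 ⟨u, hu⟩)
  have h5 := hW _ c.2.1 (F.central (c : T).2 hcc hcz)
  have h6 : c = 1 := Subtype.ext (Subtype.ext h5)
  rw [h6, orderOf_one] at hc2
  omega

theorem W_Q (h : In4 a s z) (hz : z ∈ Q) : z = 1 ∨ z = a := by
  rcases h with h | h | h | h
  · exact Or.inl h
  · exact Or.inr h
  · exact Or.inl (F.PQ hz (h ▸ F.sP))
  · exfalso
    have h3 : a * z = s := by rw [h, ← mul_assoc, F.aa, one_mul]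
    exact F.s1 (F.PQ (h3 ▸ mul_mem F.aQ hz) F.sP)

/-- the elements of `QP` -/
theorem QP_mul {u v : G} (hu : ∃ q ∈ Q, ∃ p ∈ P, u = q * p) (hv : ∃ q ∈ Q, ∃ p ∈ P, v = q * p) :
    ∃ q ∈ Q, ∃ p ∈ P, u * v = q * p := by
  obtain ⟨q, hq, p, hp, rfl⟩ := hu
  obtain ⟨q', hq', p', hp', rfl⟩ := hv
  refine ⟨q * q', mul_mem hq hq', p * p', mul_mem hp hp', ?_⟩
  calc q * p * (q' * p') = q * (p * q') * p' := by group
    _ = q * (q' * p) * p' := by rw [F.QP q' hq' p hp]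
    _ = _ := by group

theorem QP_inv {u : G} (hu : ∃ q ∈ Q, ∃ p ∈ P, u = q * p) : ∃ q ∈ Q, ∃ p ∈ P, u⁻¹ = q * p := by
  obtain ⟨q, hq, p, hp, rfl⟩ := hu
  refine ⟨q⁻¹, inv_mem hq, p⁻¹, inv_mem hp, ?_⟩
  rw [mul_inv_rev, F.QP q⁻¹ (inv_mem hq) p⁻¹ (inv_mem hp)]

theorem W_QP {w : G} (h : In4 a s w) : ∃ q ∈ Q, ∃ p ∈ P, w = q * p := by
  rcases h with h | h | h | h
  · exact ⟨1, one_mem _, 1, one_mem _, by rw [h, one_mul]⟩
  · exact ⟨a, F.aQ, 1, one_mem _, by rw [h, mul_one]⟩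
  · exact ⟨1, one_mem _, s, F.sP, by rw [h, one_mul]⟩
  · exact ⟨a, F.aQ, s, F.sP, h⟩

/-- **the structure `Nine.A1`** -/
theorem toA1 (Wd : World G) (Z : Tz S T a s t z g) (U : Sup T Q P L a s x) (h4 : Nat.card K % 4 = 1)
    (h9 : 9 ≤ Nat.card K) (ho : ∀ h, R.o1 (act L ⟨x, h⟩) = -1) :
    Nine.A1 (S : Subgroup G) T Q P L a s x g := by
  have h2 : Fact (Nat.Prime 2) := ⟨Nat.prime_two⟩
  have hxg := F.xg Wd Z U.tyL
  have hyJ := F.exists_yJ Wd Z U.pgl hxg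
  obtain ⟨n, hn, hnx⟩ := F.nQ
  have PG := F.pairG R Wd Z (by omega) ho hyJ hxg hn hnx
  -- `t = s`
  have hts : t = s := by
    rcases Z.t1 with h | h
    · exact h
    · exfalso
      have hz : z = s := by rw [Z.zat, h, ← mul_assoc, F.aa, one_mul]
      refine PG.both ?_ (Or.inr ?_)
      · rw [← Z.zat, hz]
        exact F.sL
      · -- `z = g s g⁻¹ ∈ J`
        rw [← Z.zat, mem_cj]
        have e : g⁻¹ * z * g = z := by
          have h3 := Z.zS g Z.sw.gS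
          calc g⁻¹ * z * g = g⁻¹ * (z * g) := by group
            _ = g⁻¹ * (g * z) := by rw [h3]
            _ = z := by group
        rw [e, hz]
        exact F.sL
  have haJ : a ∈ cj g L := by
    rw [← Z.tt, hts]
    exact conj_mem_cj F.sL
  have hnat := PG.natural (hts ▸ F.sL) haJ h4 h9
  obtain ⟨hodd, hcen, hLW, hTW⟩ := F.W0_facts Wd
  have hga : g * a * g⁻¹ = s := by rw [Z.ta, hts]
  have hgs : g * s * g⁻¹ = a := by rw [← hts, Z.tt]
  have hJQ : ∀ p ∈ P, g * p * g⁻¹ ∈ Q := by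
    intro p hp
    have hpT : g * p * g⁻¹ ∈ T := Z.sw.gn p (F.PT hp)
    have hpN := F.LN _ (F.Ta _ hpT)
    refine (F.Qdef _).2 ⟨hpT, hpN, fun l hl => ?_⟩
    have h3 : ⁅l, g * p * g⁻¹⁆ ∈ F.W0 := hnat l hl _ (conj_mem_cj (F.PL hp))
    have h4 : ⁅g * p * g⁻¹, l⁆ ∈ F.W0 := by
      rw [← commutatorElement_inv]
      exact inv_mem h3
    have h5 : ⁅g * p * g⁻¹, l⁆ ∈ L := by
      rw [commutatorElement_def]
      exact mul_mem (conj_mem hpN hl) (inv_mem hl)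
    have h6 : ⁅g * p * g⁻¹, l⁆ ∈ th a := by
      rw [← hcen a (Or.inr (Or.inl rfl)) F.a1]
      exact ⟨h4, F.tri.comp.le h5⟩
    rw [F.tri.comp.core_eq]
    exact ⟨h5, h6⟩
  refine
    { Tdef := fun u => ⟨fun h => ⟨Z.sw.TS h, F.Ta u h⟩, fun h => Z.memT u h.1 h.2⟩
      Tsyl := ?_
      Ts := F.Ts
      gS := Z.sw.gS
      ga := hga
      gs := hgs
      aa := F.aa
      a1 := F.a1
      LC := F.La
      LN := fun c hc l hl => F.conjL hc hl
      Pdef := F.Pdef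
      QT := F.QT
      Qn := fun u hu q hq => F.Qconj hu hq
      QP := F.QP
      disj := fun q hq hp => F.PQ hq hp
      sP := F.sP
      JQ := hJQ
      QQ := ?_
      der := U.der
      sPP := U.sPP
      kL := U.kL
      k2 := U.k2
      four := F.vP
      cen := U.cen
      xT := F.xT
      xx := F.xx
      xQP := U.xQP
      pgl := U.pgl
      xg := hxg
      star := ?_
      starJ := ?_
      tyL := U.tyL
      nax := F.not_conj Wd Z }
  · intro V hV hVa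
    obtain ⟨c, hc, hcT⟩ := F.Tmax.exists_conj_le hV (fun u hu => mem_c (hVa u hu))
    exact ⟨c, comm_c hc, fun u hu => hcT ⟨u, hu, rfl⟩⟩
  · -- `Q ∩ g⁻¹Qg = 1`
    intro q hq hgq
    obtain ⟨D, hD⟩ : ∃ D : Subgroup G, D = Q ⊓ cj g⁻¹ Q := ⟨_, rfl⟩
    have hmemD : ∀ d, d ∈ D ↔ d ∈ Q ∧ g * d * g⁻¹ ∈ Q := by
      intro d
      rw [hD, mem_inf, mem_cj, inv_inv]
    refine F.eq_one_of_normal (D := D) (fun d hd => F.QT ((hmemD d).1 hd).1) ?_ ?_ q ((hmemD q).2 ⟨hq, hgq⟩)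
    · intro u hu d hd
      obtain ⟨h3, h4⟩ := (hmemD d).1 hd
      refine (hmemD _).2 ⟨F.Qconj hu h3, ?_⟩
      have h5 := F.Qconj (Z.sw.gn u hu) h4
      have e : g * u * g⁻¹ * (g * d * g⁻¹) * (g * u * g⁻¹)⁻¹ = g * (u * d * u⁻¹) * g⁻¹ := by group
      rwa [e] at h5
    · intro w hw hwV
      obtain ⟨h3, h4⟩ := (hmemD w).1 hw
      rcases F.W_Q hwV h3 with h | h
      · exact h
      · exfalso
        rw [h, hga] at h4
        exact F.s1 (F.PQ h4 F.sP)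
  · intro q hq hqq hqx
    obtain ⟨w, hw, h | h⟩ := F.om q (F.QT hq) hqq hqx
    · exact F.W_Q (h ▸ hw) hq
    · exfalso
      have h3 : x = w⁻¹ * q := by rw [h]; group
      obtain ⟨q', hq', p', hp', h5⟩ := F.QP_mul (F.QP_inv (F.W_QP hw)) ⟨q, hq, 1, one_mem _, (mul_one q).symm⟩
      exact U.xQP q' hq' p' hp' (h3.trans h5)
  · intro q hq hqq hqx
    have hyT : g * q * g⁻¹ ∈ T := Z.sw.gn q (F.QT hq)
    have hyy : g * q * g⁻¹ * (g * q * g⁻¹) = 1 := by
      calc g * q * g⁻¹ * (g * q * g⁻¹) = g * (q * q) * g⁻¹ := by group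
        _ = 1 := by rw [hqq]; group
    obtain ⟨w, hw, h | h⟩ := F.om _ hyT hyy hqx
    · -- `q = g⁻¹ w g ∈ W`
      by_cases hw1 : w = 1
      · left
        calc q = g⁻¹ * (g * q * g⁻¹) * g := by group
          _ = 1 := by rw [h, hw1]; group
      · have hq2 : q = g⁻¹ * w * g := by rw [← h]; group
        refine F.W_Q ?_ hq
        rcases F.of_in4 Z hw hw1 with h3 | h3 | h3
        · have e : g⁻¹ * a * g = t := by rw [← Z.tt]; group
          rw [hq2, h3, e]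
          exact Z.tV
        · have e : g⁻¹ * t * g = a := by rw [← Z.ta]; group
          rw [hq2, h3, e]
          exact Or.inr (Or.inl rfl)
        · have e : g⁻¹ * z * g = z := by
            have h4 := Z.zS g Z.sw.gS
            calc g⁻¹ * z * g = g⁻¹ * (z * g) := by group
              _ = g⁻¹ * (g * z) := by rw [h4]
              _ = z := by group
          rw [hq2, h3, e]
          exact Z.zV
    · exfalso
      -- `q = (g⁻¹ w g) (g⁻¹ x g)`
      have hwg : In4 a s (g⁻¹ * w * g) := by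
        by_cases hw1 : w = 1
        · left; rw [hw1]; group
        · rcases F.of_in4 Z hw hw1 with h3 | h3 | h3
          · have e : g⁻¹ * a * g = t := by rw [← Z.tt]; group
            rw [h3, e]
            exact Z.tV
          · have e : g⁻¹ * t * g = a := by rw [← Z.ta]; group
            rw [h3, e]
            exact Or.inr (Or.inl rfl)
          · have e : g⁻¹ * z * g = z := by
              have h4 := Z.zS g Z.sw.gS
              calc g⁻¹ * z * g = g⁻¹ * (z * g) := by group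
                _ = g⁻¹ * (g * z) := by rw [h4]
                _ = z := by group
            rw [h3, e]
            exact Z.zV
      obtain ⟨q1, hq1, p1, hp1, h5⟩ := hxg
      have h6 : q = (g⁻¹ * w * g) * (q1 * p1 * x) := by
        rw [← h5]
        calc q = g⁻¹ * (g * q * g⁻¹) * g := by group
          _ = _ := by rw [h]; group
      have h7 : x = ((g⁻¹ * w * g) * (q1 * p1))⁻¹ * q := by
        calc x = ((g⁻¹ * w * g) * (q1 * p1))⁻¹ * ((g⁻¹ * w * g) * (q1 * p1 * x)) := by group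
          _ = _ := by rw [← h6]
      obtain ⟨q', hq', p', hp', h8⟩ := F.QP_mul
        (F.QP_inv (F.QP_mul (F.W_QP hwg) ⟨q1, hq1, p1, hp1, rfl⟩)) ⟨q, hq, 1, one_mem _, (mul_one q).symm⟩
      exact U.xQP q' hq' p' hp' (h7.trans h8)

/-- **the case `T < S`** -/
theorem false_of (Wd : World G) (w : Sw S T a g) (U : Sup T Q P L a s x) (h4 : Nat.card K % 4 = 1)
    (h9 : 9 ≤ Nat.card K) (ho : ∀ h, R.o1 (act L ⟨x, h⟩) = -1) {X : Subgroup G} (hX : X ≤ _root_.commutator G)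
    (hi : ∀ u, u ∉ X → u * x ∈ X) : False := by
  obtain ⟨t, z, Z⟩ := F.exists_tz w
  exact (F.toA1 R Wd Z U h4 h9 ho).false_of hX hi

end

end Fr

end Cfsg.Agent.UGT.FourB.GFun
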