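import Cfsg.Agent.UGT.FourB.Half
import Cfsg.Agent.UGT.Res.Gen
import Cfsg.Agent.UGT.Res.TorusFix

/-!
# Leaf (L0): torus facts

`Tor L x s`: `x` of PGL type on `L ≅ PSL(2,F)`, `|F| ≥ 5`, `s ∈ C_L(x)` an involution; `T_x` = the odd elements of `C_L(x)`.
-/

set_option autoImplicit false

open Subgroup Cfsg.Agent.OddHalf.D6 Cfsg.Agent.UGT.Res.EFacts
open Cfsg.Agent.UGT.ThE.Base (IsS)

namespace Cfsg.Agent.UGT.FourB

variable {G : Type*} [Group G]

/-- torus facts -/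
structure Tor (L : Subgroup G) (x s : G) : Prop where
  simp : ∀ N : Subgroup G, N ≤ L → (∀ l ∈ L, ∀ n ∈ N, l * n * l⁻¹ ∈ N) → N = ⊥ ∨ N = L
  inv : ∀ t ∈ L, t * x = x * t → Odd (orderOf t) → s * t * s⁻¹ = t⁻¹
  comm : ∀ t ∈ L, t * x = x * t → Odd (orderOf t) → ∀ u ∈ L, u * x = x * u → Odd (orderOf u) →
    t * u = u * t
  cen : ∀ i ∈ L, i * x = x * i → i * s = s * i → i * i = 1 → i = 1 ∨ i = s
  k1 : ∀ y ∈ L, y ≠ 1 → Odd (orderOf y) → y * x = x * y → ∀ c ∈ L, c * y = y * c → c * x = x * c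
  k2 : ∀ y ∈ L, y ≠ 1 → Odd (orderOf y) → y * x = x * y → ∀ h ∈ L,
    h * y * h⁻¹ * x = x * (h * y * h⁻¹) → h * x = x * h
  k3 : ∀ y ∈ L, y ≠ 1 → Odd (orderOf y) → y * s = s * y → ∀ c ∈ L, c * y = y * c → c * s = s * c
  k4 : ∀ y ∈ L, y ≠ 1 → Odd (orderOf y) → y * s = s * y → ∀ h ∈ L,
    h * y * h⁻¹ * s = s * (h * y * h⁻¹) → h * s = s * h
  gen : ∀ K : Subgroup G, (∀ t ∈ L, t * x = x * t → Odd (orderOf t) → t ∈ K) →
    (∀ t ∈ L, t * (x * s) = x * s * t → Odd (orderOf t) → t ∈ K) → L ≤ K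
  core : ∀ D : Subgroup G, Odd (Nat.card D) → (∀ a ∈ D, ∀ b ∈ D, a * b = b * a) →
    (∀ d ∈ D, d ∈ normalizer (L : Set G)) → (∀ d ∈ D, d * x = x * d) →
    (∀ t ∈ L, t * x = x * t → ∀ d ∈ D, t * d * t⁻¹ ∈ D) → ∀ d ∈ D,
      ∃ t ∈ L, t * x = x * t ∧ Odd (orderOf t) ∧ t⁻¹ * d ∈ centralizer (L : Set G)
  cyc : ∀ y ∈ L, y * x = x * y → ∀ z ∈ L, z * x = x * z → ∀ p : ℕ, p.Prime → p ≠ 2 →
    y ^ p = 1 → z ^ p = 1 → y ≠ 1 → z ∈ zpowers y
  ne : ∃ t ∈ L, t * x = x * t ∧ Odd (orderOf t) ∧ t ≠ 1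

variable {L : Subgroup G} {F : Type*} [Field F] [Finite F] {R : GH.L2Aut.Rep F L} {x s : G}

theorem sq_ne {A : Type*} [Group A] {y : A} (h1 : y ≠ 1) (ho : Odd (orderOf y)) : y * y ≠ 1 :=
  fun h => h1 (PglType.eq_one_of_odd_sq h ho)

theorem odd_sub {y : G} (hy : y ∈ L) (ho : Odd (orderOf y)) : Odd (orderOf (⟨y, hy⟩ : L)) := by
  rwa [Subgroup.orderOf_mk]

theorem cyc_aux {A : Type*} [Group A] [Finite A] (hc : IsCyclic A) {p : ℕ} (hp : p.Prime) {y z : A}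
    (hy : y ^ p = 1) (hz : z ^ p = 1) (hy1 : y ≠ 1) : z ∈ zpowers y := by
  classical
  have := Fintype.ofFinite A
  have hF : Fact p.Prime := ⟨hp⟩
  have h1 : orderOf y = p := orderOf_eq_prime_iff.mpr ⟨hy, hy1⟩
  have h2 := IsCyclic.card_pow_eq_one_le (α := A) hp.pos
  have h3 : (zpowers y : Set A).toFinset ⊆ Finset.univ.filter (fun a : A => a ^ p = 1) := by
    intro a ha
    rw [Set.mem_toFinset, SetLike.mem_coe] at ha
    obtain ⟨k, rfl⟩ := mem_zpowers_iff.mp ha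
    rw [Finset.mem_filter]
    refine ⟨Finset.mem_univ _, ?_⟩
    rw [← zpow_natCast, zpow_comm, zpow_natCast, hy, one_zpow]
  have h4 : (zpowers y : Set A).toFinset.card = p := by
    rw [Set.toFinset_card, ← Nat.card_eq_fintype_card]
    change Nat.card (zpowers y) = p
    rw [Nat.card_zpowers, h1]
  have h5 := Finset.eq_of_subset_of_card_le h3 (by rw [h4]; exact h2)
  have h6 : z ∈ Finset.univ.filter (fun a : A => a ^ p = 1) := by
    rw [Finset.mem_filter]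
    exact ⟨Finset.mem_univ _, hz⟩
  rw [← h5, Set.mem_toFinset] at h6
  exact h6

/-- supply of `Tor` -/
theorem Tor.of_cf [Finite G] (C : Cf R x) (hs : IsS L x s) (h5 : 5 ≤ Nat.card F) : Tor L x s := by
  have hα := C.sq
  have ho := C.o1 C.xN
  have hsα : act L x C.xN ⟨s, hs.mem⟩ = ⟨s, hs.mem⟩ := (act_fix C.xN hs.mem).mpr hs.comm
  have hss : (⟨s, hs.mem⟩ : L) * ⟨s, hs.mem⟩ = 1 := Subtype.ext hs.sq
  have hs1 : (⟨s, hs.mem⟩ : L) ≠ 1 := fun h => hs.ne (congrArg Subtype.val h)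
  have hxP : act L x C.xN ∈ R.PGL := (PglType.pgl_of R hα ho).1
  have hxI := (PglType.pgl_of R hα ho).2
  have hconjfix : ∀ {c y : L}, c * y = y * c → MulAut.conj c y = y := by
    intro c y h
    rw [MulAut.conj_apply, h, mul_inv_cancel_right]
  have hfixc : ∀ {y z : L}, MulAut.conj z y = y → z * y = y * z := by
    intro y z h
    rw [MulAut.conj_apply] at h
    calc z * y = z * y * z⁻¹ * z := by group
      _ = y * z := by rw [h]
  have hcommα : ∀ {c : L}, act L x C.xN * MulAut.conj c = MulAut.conj c * act L x C.xN →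
      act L x C.xN c = c := fun h => R.conj_injective (GH.L2Aut.Rep.conj_comm_iff.mp h.symm)
  obtain ⟨B, v, hBc, hB2, hB3, hB4, hvf, hvv, hvB⟩ := PglType.fix_data R hα ho
  have hBmem : ∀ {y : L}, act L x C.xN y = y → Odd (orderOf y) → y ∈ B := by
    intro y hy hyo
    rcases hB3 y hy with h | ⟨h, -⟩
    · exact h
    · rw [PglType.eq_one_of_odd_sq h hyo]; exact one_mem _
  refine ⟨?_, ?_, ?_, ?_, ?_, ?_, ?_, ?_, ?_, ?_, ?_, ?_⟩
  · exact fun N hN hn => Res.EFacts.simp R (by omega) N hN hn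
  · intro t ht htx hto
    have h1 := hBmem ((act_fix C.xN ht).mpr htx) (odd_sub ht hto)
    have h2 : (⟨s, hs.mem⟩ : L) ∉ B := fun h => hs1 (hB2 _ h hss)
    rcases hB3 _ hsα with h3 | ⟨-, h3⟩
    · exact absurd h3 h2
    · exact congrArg Subtype.val (h3 _ h1)
  · intro t ht htx hto u hu hux huo
    exact congrArg Subtype.val (hBc _ (hBmem ((act_fix C.xN ht).mpr htx) (odd_sub ht hto)) _
      (hBmem ((act_fix C.xN hu).mpr hux) (odd_sub hu huo)))
  · intro i hi hix his hii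
    by_cases hi1 : i = 1
    · exact Or.inl hi1
    · exact Or.inr (C.comm i s ⟨hi, hix, hii, hi1⟩ hs his)
  · intro y hy hy1 hyo hyx c hc hcy
    rw [← act_fix C.xN hc]
    apply hcommα
    exact Res.PGLFacts.comm_pgl R hxP (R.conj_mem_PGL _) (y := ⟨y, hy⟩)
      (sq_ne (fun h => hy1 (congrArg Subtype.val h)) (odd_sub hy hyo))
      ((act_fix C.xN hy).mpr hyx) (hconjfix (Subtype.ext hcy))
  · intro y hy hy1 hyo hyx h hh hx
    have hyy : (⟨y, hy⟩ : L) * ⟨y, hy⟩ ≠ 1 :=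
      sq_ne (fun h => hy1 (congrArg Subtype.val h)) (odd_sub hy hyo)
    obtain ⟨β, hβ⟩ : ∃ β, β = (MulAut.conj (⟨h, hh⟩ : L))⁻¹ * act L x C.xN * MulAut.conj (⟨h, hh⟩ : L) :=
      ⟨_, rfl⟩
    have h1 : β * β = 1 := by
      rw [hβ]
      calc _ = (MulAut.conj (⟨h, hh⟩ : L))⁻¹ * (act L x C.xN * act L x C.xN) * MulAut.conj ⟨h, hh⟩ := by
            group
        _ = 1 := by rw [hα]; group
    have h2 : β ⟨y, hy⟩ = ⟨y, hy⟩ := by
      have h3 : act L x C.xN (MulAut.conj (⟨h, hh⟩ : L) ⟨y, hy⟩) = MulAut.conj (⟨h, hh⟩ : L) ⟨y, hy⟩ :=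
        (act_fix C.xN (mul_mem (mul_mem hh hy) (inv_mem hh))).mpr hx
      rw [hβ, MulAut.mul_apply, MulAut.mul_apply, h3, MulAut.inv_apply_self]
    rcases Res.PGLFacts.two_unique R hα ho hyy ((act_fix C.xN hy).mpr hyx) (β := β)
      ⟨1, by rw [pow_one, pow_two, h1]⟩ h2 with h3 | h3
    · exfalso
      apply PglType.ne_one R ho
      calc act L x C.xN = MulAut.conj (⟨h, hh⟩ : L) * β * (MulAut.conj (⟨h, hh⟩ : L))⁻¹ := by
            rw [hβ]; group
        _ = 1 := by rw [h3]; group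
    · rw [← act_fix C.xN hh]
      apply hcommα
      rw [hβ] at h3
      calc act L x C.xN * MulAut.conj (⟨h, hh⟩ : L) =
          MulAut.conj (⟨h, hh⟩ : L) * ((MulAut.conj (⟨h, hh⟩ : L))⁻¹ * act L x C.xN *
            MulAut.conj (⟨h, hh⟩ : L)) := by group
        _ = MulAut.conj (⟨h, hh⟩ : L) * act L x C.xN := by rw [h3]
  · intro y hy hy1 hyo hys c hc hcy
    have h1 := Res.PGLFacts.comm_pgl R (R.conj_mem_PGL (⟨s, hs.mem⟩ : L)) (R.conj_mem_PGL (⟨c, hc⟩ : L))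
      (y := ⟨y, hy⟩) (sq_ne (fun h => hy1 (congrArg Subtype.val h)) (odd_sub hy hyo))
      (hconjfix (Subtype.ext hys.symm)) (hconjfix (Subtype.ext hcy))
    rw [← map_mul, ← map_mul] at h1
    exact (congrArg Subtype.val (R.conj_injective h1)).symm
  · intro y hy hy1 hyo hys h hh hx
    obtain ⟨s', hs'⟩ : ∃ s', s' = h⁻¹ * s * h := ⟨_, rfl⟩
    have hs'L : s' ∈ L := hs' ▸ mul_mem (mul_mem (inv_mem hh) hs.mem) hh
    have hs's' : s' * s' = 1 := by
      rw [hs']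
      calc h⁻¹ * s * h * (h⁻¹ * s * h) = h⁻¹ * (s * s) * h := by group
        _ = 1 := by rw [hs.sq]; group
    have hs'1 : s' ≠ 1 := by
      intro h1
      apply hs.ne
      calc s = h * (h⁻¹ * s * h) * h⁻¹ := by group
        _ = 1 := by rw [← hs', h1]; group
    have hs'y : s' * y = y * s' := by
      rw [hs']
      calc h⁻¹ * s * h * y = h⁻¹ * (s * (h * y * h⁻¹)) * h := by group
        _ = h⁻¹ * (h * y * h⁻¹ * s) * h := by rw [hx]
        _ = y * (h⁻¹ * s * h) := by group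
    have hyo' := odd_sub hy hyo
    have hy1' : (⟨y, hy⟩ : L) ≠ 1 := fun h => hy1 (congrArg Subtype.val h)
    have h1 := Res.PGLFacts.comm_pgl R (R.conj_mem_PGL (⟨s, hs.mem⟩ : L))
      (R.conj_mem_PGL (⟨s', hs'L⟩ : L)) (y := ⟨y, hy⟩) (sq_ne hy1' hyo')
      (hconjfix (Subtype.ext hys.symm)) (hconjfix (Subtype.ext hs'y))
    rw [← map_mul, ← map_mul] at h1
    have h2 := R.conj_injective h1
    obtain ⟨B', hsB, hB'c, hB'2, hB'3⟩ := R.inner_cent hss hs1
    have hyB : (⟨y, hy⟩ : L) ∈ B' := by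
      rcases hB'3 ⟨y, hy⟩ (Subtype.ext hys) with h3 | ⟨h3, -⟩
      · exact h3
      · exact absurd (PglType.eq_one_of_odd_sq h3 hyo') hy1'
    have h4 : (⟨s', hs'L⟩ : L) = ⟨s, hs.mem⟩ := by
      rcases hB'3 ⟨s', hs'L⟩ h2.symm with h3 | ⟨-, h3⟩
      · rcases hB'2 _ h3 (Subtype.ext hs's') with h4 | h4
        · exact absurd (congrArg Subtype.val h4) hs'1
        · exact h4
      · exfalso
        have h5 := h3 _ hyB
        have h6 : (⟨s', hs'L⟩ : L) * ⟨y, hy⟩ * (⟨s', hs'L⟩ : L)⁻¹ = ⟨y, hy⟩ := by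
          rw [show (⟨s', hs'L⟩ : L) * ⟨y, hy⟩ = ⟨y, hy⟩ * ⟨s', hs'L⟩ from Subtype.ext hs'y,
            mul_inv_cancel_right]
        rw [h6] at h5
        exact hy1' (PglType.eq_one_of_eq_inv h5 hyo')
    have h5 : h⁻¹ * s * h = s := hs' ▸ congrArg Subtype.val h4
    calc h * s = h * (h⁻¹ * s * h) := by rw [h5]
      _ = s * h := by group
  · intro K hK1 hK2
    have h1 := Res.Gen.gen R (by omega) hα ho hsα hss hs1 (K.subgroupOf L) (by
      intro t ht hto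
      rw [mem_subgroupOf]
      apply hK1 t t.2 ((act_fix C.xN t.2).mp ht)
      rwa [Subgroup.orderOf_coe]) (by
      intro t ht hto
      rw [mem_subgroupOf]
      apply hK2 t t.2
      · have h2 : x * (t : G) * x⁻¹ = s⁻¹ * t * s := congrArg Subtype.val ht
        have h3 : s * x * (t : G) = t * (s * x) := by
          calc s * x * (t : G) = s * (x * t * x⁻¹) * x := by group
            _ = t * (s * x) := by rw [h2]; group
        rw [hs.comm] at h3
        exact h3.symm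
      · rwa [Subgroup.orderOf_coe])
    exact subgroupOf_eq_top.mp h1
  · intro D hD hDc hDN hDx hDn d hd
    obtain ⟨D', hD'⟩ : ∃ D', D' = (D.subgroupOf (normalizer (L : Set G))).map L.normalizerMonoidHom :=
      ⟨_, rfl⟩
    have hmem : ∀ δ, δ ∈ D' ↔ ∃ (d : G) (hd : d ∈ D), act L d (hDN d hd) = δ := by
      intro δ
      rw [hD']
      constructor
      · rintro ⟨⟨d, hd⟩, hdN, rfl⟩
        exact ⟨d, hdN, rfl⟩
      · rintro ⟨d, hd, rfl⟩
        exact ⟨⟨d, hDN d hd⟩, hd, rfl⟩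
    obtain ⟨⟨t, htL⟩, ht, hto, h1⟩ := Res.TorusFix.core_torus R hα ho (D := D') (by
        rw [hD']
        refine Odd.of_dvd_nat hD ((card_map_dvd _ _).trans ?_)
        rw [Nat.card_congr (subgroupOfEquivOfLe hDN).toEquiv]) (by
      intro δ hδ
      obtain ⟨d, hd, rfl⟩ := (hmem δ).mp hδ
      exact act_comm' _ _ (hDx d hd)) (by
      rintro ⟨t, htL⟩ ht δ hδ
      obtain ⟨d, hd, rfl⟩ := (hmem δ).mp hδ
      have htN := le_normalizer htL
      rw [hmem]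
      refine ⟨t * d * t⁻¹, hDn t htL ((act_fix C.xN htL).mp ht) d hd, ?_⟩
      rw [← act_of_mem htL, ← act_inv htN, act_mul, act_mul]) (δ := act L d (hDN d hd))
      ((hmem _).mpr ⟨d, hd, rfl⟩) (by
      intro a₀ ha₀ b₀ hb₀
      obtain ⟨a, ha, rfl⟩ := (hmem a₀).mp ha₀
      obtain ⟨b, hb, rfl⟩ := (hmem b₀).mp hb₀
      have h2 : act L a (hDN a ha) * act L b (hDN b hb) * (act L a (hDN a ha))⁻¹ *
          (act L b (hDN b hb))⁻¹ = 1 := by
        have h3 := act_comm' (hDN a ha) (hDN b hb) (hDc a ha b hb)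
        rw [h3, mul_inv_cancel_right, mul_inv_cancel]
      rw [h2, mul_one, one_mul])
    refine ⟨t, htL, (act_fix C.xN htL).mp ht, ?_, ?_⟩
    · rwa [Subgroup.orderOf_mk] at hto
    · have htN := le_normalizer htL
      rw [← act_one_iff' (mul_mem (inv_mem htN) (hDN d hd)), ← act_mul (inv_mem htN) (hDN d hd),
        act_inv htN, act_of_mem htL, h1, inv_mul_cancel]
  · intro y hy hyx z hz hzx p hp hp2 hyp hzp hy1
    obtain ⟨g, hg⟩ := R.mem_PGL.1 hxP
    have htr := R.tr_of_inv (g := g) (by rw [← hg]; exact PglType.ne_one R ho) (by rw [← hg]; exact hα)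
    have hcyc := OddCyclic.PGLTorus.isCyclic_Cp R htr
    have hodd : ∀ {w : L}, w ^ p = 1 → w * w = 1 → w = 1 := by
      intro w h1 h2
      apply PglType.eq_one_of_odd_sq h2
      exact Odd.of_dvd_nat (hp.odd_of_ne_two hp2) (orderOf_dvd_of_pow_eq_one h1)
    have hmem : ∀ (w : G) (hw : w ∈ L), w * x = x * w → w ^ p = 1 →
        (⟨w, hw⟩ : L) ∈ OddCyclic.PGLTorus.Cp R g := by
      intro w hw hwx hwp
      have h1 : R.gl g ⟨w, hw⟩ = ⟨w, hw⟩ := by
        rw [← hg]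
        exact (act_fix C.xN hw).mpr hwx
      rcases OddCyclic.PGLTorus.mem_Cp_or_sq R h1 with h2 | h2
      · exact h2
      · rw [hodd (Subtype.ext hwp) h2]; exact one_mem _
    have hyB := hmem y hy hyx hyp
    have hzB := hmem z hz hzx hzp
    -- subgroups of order `p` of a cyclic group
    have hLf := R.finite
    obtain ⟨k, hk⟩ := mem_zpowers_iff.mp (cyc_aux hcyc hp (y := ⟨⟨y, hy⟩, hyB⟩) (z := ⟨⟨z, hz⟩, hzB⟩)
      (Subtype.ext (Subtype.ext hyp)) (Subtype.ext (Subtype.ext hzp))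
      (fun h => hy1 (congrArg Subtype.val (congrArg Subtype.val h))))
    exact mem_zpowers_iff.mpr ⟨k, congrArg Subtype.val (congrArg Subtype.val hk)⟩
  · obtain ⟨⟨y, hy⟩, hy1, hyo, hyf⟩ := Res.TorusFix.exists_odd R (by omega) hα ho
    refine ⟨y, hy, (act_fix C.xN hy).mp hyf, ?_, fun h => hy1 (Subtype.ext h)⟩
    rwa [Subgroup.orderOf_mk] at hyo

end Cfsg.Agent.UGT.FourB
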