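import Cfsg.Agent.Hex.SE
import Cfsg.Agent.Lib.EssBridge

/-!
# Essential subgroups: no four-group of transvections

`X` essential in the 2-group `P`, `a ∈ P - X` an involution modulo `X` acting on `X` as a transvection with central
centre `z`: `N_P(X) / X` has no four-group containing `a X`.
-/

set_option autoImplicit false

namespace Cfsg.Agent.UGT.FourB.Trans

open Subgroup Cfsg.Agent.Lib.EssDefs Cfsg.Agent.Hex.SEAbs Cfsg.Agent.Hex.SE

universe u

variable {G : Type u} [Group G]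

/-- `a` normalises `X` and acts on `X` as a transvection (or trivially) with central centre `d`. -/
structure Tr (X : Subgroup G) (a d : G) : Prop where
  nrm : a ∈ normalizer (X : Set G)
  dX : d ∈ X
  dd : d * d = 1
  dc : ∀ x ∈ X, d * x = x * d
  ad : a * d = d * a
  act : ∀ x ∈ X, a * x * a⁻¹ = x ∨ a * x * a⁻¹ = d * x

namespace Tr

variable {X : Subgroup G} {a d : G}

theorem conj (h : Tr X a d) {m : G} (hm : m ∈ normalizer (X : Set G)) : Tr X (m * a * m⁻¹) (m * d * m⁻¹) := by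
  have hmX : ∀ x ∈ X, m * x * m⁻¹ ∈ X := fun x hx => (mem_normalizer_iff.1 hm x).1 hx
  have hmX' : ∀ x ∈ X, m⁻¹ * x * m ∈ X := fun x hx => (mem_normalizer_iff''.1 hm x).1 hx
  refine ⟨mul_mem (mul_mem hm h.nrm) (inv_mem hm), hmX d h.dX, ?_, fun x hx => ?_, ?_, fun x hx => ?_⟩
  · calc m * d * m⁻¹ * (m * d * m⁻¹) = m * (d * d) * m⁻¹ := by group
      _ = 1 := by rw [h.dd]; group
  · calc m * d * m⁻¹ * x = m * (d * (m⁻¹ * x * m)) * m⁻¹ := by group
      _ = m * (m⁻¹ * x * m * d) * m⁻¹ := by rw [h.dc _ (hmX' x hx)]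
      _ = x * (m * d * m⁻¹) := by group
  · calc m * a * m⁻¹ * (m * d * m⁻¹) = m * (a * d) * m⁻¹ := by group
      _ = m * (d * a) * m⁻¹ := by rw [h.ad]
      _ = m * d * m⁻¹ * (m * a * m⁻¹) := by group
  · have e : m * a * m⁻¹ * x * (m * a * m⁻¹)⁻¹ = m * (a * (m⁻¹ * x * m) * a⁻¹) * m⁻¹ := by group
    rw [e]
    rcases h.act _ (hmX' x hx) with h2 | h2
    · left; rw [h2]; group
    · right; rw [h2]; group

/-- an element with the same action -/
theorem congr (h : Tr X a d) {b : G} (hb : b ∈ normalizer (X : Set G)) (hab : ∀ x ∈ X, b * x * b⁻¹ = a * x * a⁻¹) :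
    Tr X b d := by
  refine ⟨hb, h.dX, h.dd, h.dc, ?_, fun x hx => ?_⟩
  · have h1 : b * d * b⁻¹ = d := by
      rw [hab d h.dX, h.ad]; group
    calc b * d = b * d * b⁻¹ * b := by group
      _ = d * b := by rw [h1]
  · rw [hab x hx]
    exact h.act x hx

theorem sq_act (h : Tr X a d) : ∀ x ∈ X, a * a * x = x * (a * a) := by
  intro x hx
  have h1 : a * a * x * (a * a)⁻¹ = x := by
    have e : a * a * x * (a * a)⁻¹ = a * (a * x * a⁻¹) * a⁻¹ := by group
    rw [e]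
    rcases h.act x hx with h2 | h2
    · rw [h2, h2]
    · rw [h2]
      calc a * (d * x) * a⁻¹ = (a * d) * x * a⁻¹ := by group
        _ = d * (a * x * a⁻¹) := by rw [h.ad]; group
        _ = d * d * x := by rw [h2]; group
        _ = x := by rw [h.dd, one_mul]
  calc a * a * x = a * a * x * (a * a)⁻¹ * (a * a) := by group
    _ = x * (a * a) := by rw [h1]

theorem sq_mem (h : Tr X a d) : a * a ∈ K0 X := by
  apply mem_sup_right
  rw [mem_centralizer_iff]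
  intro x hx
  exact (h.sq_act x hx).symm

/-- `(ba)⁴` centralises `X` if `b` centralises the centre of `a` -/
theorem pow_four {b f : G} (ha : Tr X a d) (hb : Tr X b f) (hc : b * d = d * b) :
    (b * a) ^ 4 ∈ centralizer (X : Set G) := by
  set c := b * a with hcd
  have hcd' : c * d * c⁻¹ = d := by
    calc c * d * c⁻¹ = b * (a * d) * a⁻¹ * b⁻¹ := by rw [hcd]; group
      _ = b * d * b⁻¹ := by rw [ha.ad]; group
      _ = d := by rw [hc]; group
  have hcf : c * f * c⁻¹ = f ∨ c * f * c⁻¹ = d * f := by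
    have e : c * f * c⁻¹ = b * (a * f * a⁻¹) * b⁻¹ := by rw [hcd]; group
    rw [e]
    rcases ha.act f hb.dX with h1 | h1
    · left; rw [h1, hb.ad]; group
    · right
      rw [h1]
      calc b * (d * f) * b⁻¹ = (b * d) * f * b⁻¹ := by group
        _ = d * (b * f) * b⁻¹ := by rw [hc]; group
        _ = d * f := by rw [hb.ad]; group
  have hone : ∀ x ∈ X, ∃ e ∈ X, e * e = 1 ∧ (c * e * c⁻¹ = e ∨ c * e * c⁻¹ = d * e) ∧ c * x * c⁻¹ = e * x := by
    intro x hx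
    have e1 : c * x * c⁻¹ = b * (a * x * a⁻¹) * b⁻¹ := by rw [hcd]; group
    rcases ha.act x hx with h1 | h1 <;> rcases hb.act x hx with h2 | h2
    · refine ⟨1, one_mem _, one_mul 1, Or.inl (by group), ?_⟩
      rw [e1, h1, h2, one_mul]
    · refine ⟨f, hb.dX, hb.dd, hcf, ?_⟩
      rw [e1, h1, h2]
    · refine ⟨d, ha.dX, ha.dd, Or.inl hcd', ?_⟩
      rw [e1, h1]
      calc b * (d * x) * b⁻¹ = (b * d) * x * b⁻¹ := by group
        _ = d * (b * x * b⁻¹) := by rw [hc]; group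
        _ = d * x := by rw [h2]
    · refine ⟨d * f, mul_mem ha.dX hb.dX, ?_, ?_, ?_⟩
      · calc d * f * (d * f) = d * (f * d) * f := by group
          _ = (d * d) * (f * f) := by rw [hb.dc d ha.dX]; group
          _ = 1 := by rw [ha.dd, hb.dd, one_mul]
      · have e2 : c * (d * f) * c⁻¹ = (c * d * c⁻¹) * (c * f * c⁻¹) := by group
        rw [e2, hcd']
        rcases hcf with h3 | h3
        · left; rw [h3]
        · right; rw [h3]
      · rw [e1, h1]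
        calc b * (d * x) * b⁻¹ = (b * d) * x * b⁻¹ := by group
          _ = d * (b * x * b⁻¹) := by rw [hc]; group
          _ = d * f * x := by rw [h2]; group
  have htwo : ∀ x ∈ X, (c * c) * x * (c * c)⁻¹ = x ∨ (c * c) * x * (c * c)⁻¹ = d * x := by
    intro x hx
    obtain ⟨e, _, hee, he, hxe⟩ := hone x hx
    have e1 : (c * c) * x * (c * c)⁻¹ = (c * e * c⁻¹) * (c * x * c⁻¹) := by
      calc (c * c) * x * (c * c)⁻¹ = c * (c * x * c⁻¹) * c⁻¹ := by group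
        _ = c * (e * x) * c⁻¹ := by rw [hxe]
        _ = (c * e * c⁻¹) * (c * x * c⁻¹) := by group
    rw [e1, hxe]
    rcases he with h1 | h1
    · left
      rw [h1, ← mul_assoc, hee, one_mul]
    · right
      rw [h1]
      calc d * e * (e * x) = d * (e * e) * x := by group
        _ = d * x := by rw [hee, mul_one]
  have hcc : (c * c) * d * (c * c)⁻¹ = d := by
    calc (c * c) * d * (c * c)⁻¹ = c * (c * d * c⁻¹) * c⁻¹ := by group
      _ = d := by rw [hcd', hcd']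
  rw [mem_centralizer_iff]
  intro x hx
  have e4 : c ^ 4 = (c * c) * (c * c) := by
    rw [← pow_two, ← pow_two, ← pow_mul]
  have h4 : c ^ 4 * x * (c ^ 4)⁻¹ = x := by
    have e1 : c ^ 4 * x * (c ^ 4)⁻¹ = (c * c) * ((c * c) * x * (c * c)⁻¹) * (c * c)⁻¹ := by rw [e4]; group
    rw [e1]
    rcases htwo x hx with h1 | h1
    · rw [h1, h1]
    · rw [h1]
      calc c * c * (d * x) * (c * c)⁻¹ = (c * c * d * (c * c)⁻¹) * (c * c * x * (c * c)⁻¹) := by group
        _ = d * d * x := by rw [hcc, h1]; group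
        _ = x := by rw [ha.dd, one_mul]
  calc x * c ^ 4 = (c ^ 4 * x * (c ^ 4)⁻¹) * c ^ 4 := by rw [h4]
    _ = c ^ 4 * x := by group

end Tr

section Ess

variable {P X H : Subgroup G}

/-- **Transvections on opposite sides do not commute with the centres.** -/
theorem not_comm [Finite G] (h : IsEss 2 P X H) {a d b f m : G} (ha : Tr X a d) (haP : a ∈ P) (haX : a ∉ X)
    (hb : Tr X b f) (hbP : b ∈ P) (hbX : b ∉ X) (hm : m ∈ normalizer (X : Set G)) (hmH : m ∉ H) :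
    b * (m * d * m⁻¹) ≠ m * d * m⁻¹ * b := by
  intro hc
  have hse := semb h
  set N := normalizer (X : Set G) with hN
  set Hb := (H.subgroupOf N).map (pr X) with hHb
  have ha' := ha.conj hm
  have h4 := ha'.pow_four hb hc
  have hpb : pr X ⟨b, hb.nrm⟩ ∈ Hb := (mem_map_pr h ⟨b, hb.nrm⟩).2 (h.inf_le ⟨hbP, hb.nrm⟩)
  have hpa : pr X ⟨a, ha.nrm⟩ ∈ Hb := (mem_map_pr h ⟨a, ha.nrm⟩).2 (h.inf_le ⟨haP, ha.nrm⟩)
  have hpm : pr X ⟨m, hm⟩ ∉ Hb := fun hh => hmH ((mem_map_pr h ⟨m, hm⟩).1 hh)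
  have haa : pr X ⟨a, ha.nrm⟩ * pr X ⟨a, ha.nrm⟩ = 1 := by
    rw [← map_mul]; exact pr_eq_one.2 ha.sq_mem
  have hbb : pr X ⟨b, hb.nrm⟩ * pr X ⟨b, hb.nrm⟩ = 1 := by
    rw [← map_mul]; exact pr_eq_one.2 hb.sq_mem
  have ha1 : pr X ⟨a, ha.nrm⟩ ≠ 1 := fun hh => haX (mem_of_mem_K0 h haP (pr_eq_one.1 hh))
  have hb1 : pr X ⟨b, hb.nrm⟩ ≠ 1 := fun hh => hbX (mem_of_mem_K0 h hbP (pr_eq_one.1 hh))
  set a' : ↥N := ⟨m * a * m⁻¹, ha'.nrm⟩ with ha'd
  have hpa' : pr X a' = pr X ⟨m, hm⟩ * pr X ⟨a, ha.nrm⟩ * (pr X ⟨m, hm⟩)⁻¹ := by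
    rw [← map_mul, ← map_inv, ← map_mul]
    rfl
  have ha'H : pr X a' ∉ Hb := by
    intro hh
    rw [hpa'] at hh
    exact ha1 (hse.2 _ hpm _ hpa haa hh)
  have ha'2 : pr X a' * pr X a' = 1 := by
    rw [← map_mul]; exact pr_eq_one.2 ha'.sq_mem
  have hodd := hse.odd_orderOf_mul hpb hbb hb1 ha'H ha'2
  have hp4 : (pr X ⟨b, hb.nrm⟩ * pr X a') ^ 4 = 1 := by
    rw [← map_mul, ← map_pow, pr_eq_one]
    apply mem_sup_right
    exact h4
  have hdvd := orderOf_dvd_of_pow_eq_one hp4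
  have h1 : orderOf (pr X ⟨b, hb.nrm⟩ * pr X a') = 1 := by
    have h2 : orderOf (pr X ⟨b, hb.nrm⟩ * pr X a') ∣ 2 ^ 2 := by simpa using hdvd
    obtain ⟨k, hk, hk'⟩ := (Nat.dvd_prime_pow Nat.prime_two).1 h2
    rcases Nat.eq_zero_or_pos k with h0 | h0
    · rw [hk', h0, pow_zero]
    · exfalso
      rw [hk'] at hodd
      exact (Nat.not_odd_iff_even.2 (Nat.even_pow.2 ⟨even_two, by omega⟩)) hodd
  rw [orderOf_eq_one_iff] at h1
  apply ha'H
  have h5 : pr X a' = (pr X ⟨b, hb.nrm⟩)⁻¹ := eq_inv_of_mul_eq_one_right h1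
  rw [h5]
  exact inv_mem hpb

/-- a representative in `P` of an involution modulo `X C(X)` acting as a transvection -/
theorem exists_tr [Finite G] (h : IsEss 2 P X H) {a z y : G} (ha : Tr X a z) (haP : a ∈ P) (haX : a ∉ X)
    (hy : y ∈ P) (hyN : y ∈ normalizer (X : Set G)) (hyX : y ∉ X) (hyy : y * y ∈ X) :
    ∃ u ∈ X, ∃ z', Tr X (y * u) z' ∧ y * u ∈ P ∧ y * u ∉ X := by
  have hse := semb h
  have hXP : X ≤ P := h.lt.le
  have hpa : pr X ⟨a, ha.nrm⟩ ∈ (H.subgroupOf (normalizer (X : Set G))).map (pr X) :=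
    (mem_map_pr h ⟨a, ha.nrm⟩).2 (h.inf_le ⟨haP, ha.nrm⟩)
  have haa : pr X ⟨a, ha.nrm⟩ * pr X ⟨a, ha.nrm⟩ = 1 := by
    rw [← map_mul]; exact pr_eq_one.2 ha.sq_mem
  have ha1 : pr X ⟨a, ha.nrm⟩ ≠ 1 := fun hh => haX (mem_of_mem_K0 h haP (pr_eq_one.1 hh))
  have hy2 : pr X ⟨y, hyN⟩ * pr X ⟨y, hyN⟩ = 1 := by
    rw [← map_mul]; exact pr_eq_one.2 (mem_sup_left hyy)
  have hy1 : pr X ⟨y, hyN⟩ ≠ 1 := fun hh => hyX (mem_of_mem_K0 h hy (pr_eq_one.1 hh))
  obtain ⟨g, hg⟩ := hse.exists_conj hpa haa ha1 hy2 hy1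
  obtain ⟨⟨m, hm⟩, rfl⟩ := QuotientGroup.mk'_surjective _ g
  have ht := ha.conj hm
  have h1 : pr X (⟨y, hyN⟩⁻¹ * ⟨m * a * m⁻¹, ht.nrm⟩) = 1 := by
    rw [map_mul, map_inv, inv_mul_eq_one, ← hg, ← map_inv, ← map_mul, ← map_mul]
    rfl
  rw [pr_eq_one] at h1
  have h2 : y⁻¹ * (m * a * m⁻¹) ∈ K0 X := h1
  have hnorm : X ≤ normalizer ((centralizer (X : Set G) : Subgroup G) : Set G) := by
    intro x hx
    have key : ∀ (x : G), x ∈ X → ∀ c ∈ centralizer (X : Set G), x * c * x⁻¹ ∈ centralizer (X : Set G) := by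
      intro x hx c hc
      have : x * c * x⁻¹ = c := by
        rw [mem_centralizer_iff.1 hc x hx, mul_inv_cancel_right]
      rw [this]; exact hc
    rw [mem_normalizer_iff]
    intro c
    refine ⟨key x hx c, fun hc => ?_⟩
    have := key x⁻¹ (inv_mem hx) _ hc
    simpa [mul_assoc] using this
  have h3 : y⁻¹ * (m * a * m⁻¹) ∈ ((X ⊔ centralizer (X : Set G) : Subgroup G) : Set G) := h2
  rw [coe_mul_of_left_le_normalizer_right X _ hnorm] at h3
  obtain ⟨u, hu, c, hc, huc⟩ := h3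
  have huc' : u * c = y⁻¹ * (m * a * m⁻¹) := huc
  have hu' : u ∈ X := hu
  refine ⟨u, hu', m * z * m⁻¹, ?_, mul_mem hy (hXP hu'), fun hh => hyX ?_⟩
  · refine ht.congr (mul_mem hyN (le_normalizer hu')) fun x hx => ?_
    have h5 : m * a * m⁻¹ = y * u * c := by
      rw [mul_assoc y u c, huc']; group
    have h6 : c * x = x * c := (mem_centralizer_iff.1 hc x hx).symm
    rw [h5]
    calc y * u * x * (y * u)⁻¹ = y * u * (x * c) * c⁻¹ * (y * u)⁻¹ := by group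
      _ = y * u * (c * x) * c⁻¹ * (y * u)⁻¹ := by rw [h6]
      _ = y * u * c * x * (y * u * c)⁻¹ := by group
  · have := mul_mem hh (inv_mem hu')
    simpa using this

/-- **No four-group of transvections.** -/
theorem no_four [Finite G] (h : IsEss 2 P X H) {a z y : G} (ha : Tr X a z) (haP : a ∈ P) (haX : a ∉ X)
    (hy : y ∈ P) (hyN : y ∈ normalizer (X : Set G)) (hyX : y ∉ X) (hyy : y * y ∈ X)
    (hya : y * a * y⁻¹ * a⁻¹ ∈ X) (hay : a * y ∉ X) (haa : a * a ∈ X) : False := by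
  have hXP : X ≤ P := h.lt.le
  have hXn : ∀ g ∈ normalizer (X : Set G), ∀ x ∈ X, g * x * g⁻¹ ∈ X := fun g hg x hx => (mem_normalizer_iff.1 hg x).1 hx
  obtain ⟨u2, hu2, z2, ht2, hP2, hX2⟩ := exists_tr h ha haP haX hy hyN hyX hyy
  have hayN : a * y ∈ normalizer (X : Set G) := mul_mem ha.nrm hyN
  have hayy : a * y * (a * y) ∈ X := by
    have e : a * y * (a * y) = (a * (y * a * y⁻¹ * a⁻¹) * a⁻¹) * (a * a) * (y * y) := by group
    rw [e]
    exact mul_mem (mul_mem (hXn a ha.nrm _ hya) haa) hyy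
  obtain ⟨u3, hu3, z3, ht3, hP3, hX3⟩ := exists_tr h ha haP haX (mul_mem haP hy) hayN hay hayy
  obtain ⟨m, hm, hmH⟩ : ∃ m ∈ normalizer (X : Set G), m ∉ H := by
    by_contra hcon
    push Not at hcon
    exact h.ne (le_antisymm h.le hcon)
  set i2 := y * u2 with hi2
  set i3 := a * y * u3 with hi3
  set d' := m * z * m⁻¹ with hd'
  have hd := ha.conj hm
  have hd'X : d' ∈ X := hd.dX
  have hd'c := hd.dc
  -- all three move `d'`
  have hmv : ∀ {b f : G}, Tr X b f → b ∈ P → b ∉ X → b * d' * b⁻¹ = f * d' := by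
    intro b f hb hbP hbX
    rcases hb.act d' hd'X with h1 | h1
    · exfalso
      refine not_comm h ha haP haX hb hbP hbX hm hmH ?_
      calc b * d' = b * d' * b⁻¹ * b := by group
        _ = d' * b := by rw [h1]
    · exact h1
  have e1 := hmv ha haP haX
  have e2 := hmv ht2 hP2 hX2
  have e3 := hmv ht3 hP3 hX3
  have hz1 : z ≠ 1 := by
    intro hz
    rw [hz, one_mul] at e1
    refine not_comm h ha haP haX ha haP haX hm hmH ?_
    calc a * d' = a * d' * a⁻¹ * a := by group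
      _ = d' * a := by rw [e1]
  -- `i3 = a i2 w`, `i3 = i2 a w'`
  have hw : i3 = a * i2 * (u2⁻¹ * u3) := by rw [hi2, hi3]; group
  have hwX : u2⁻¹ * u3 ∈ X := mul_mem (inv_mem hu2) hu3
  have e3' : i3 * d' * i3⁻¹ = a * (i2 * d' * i2⁻¹) * a⁻¹ := by
    rw [hw]
    have h1 := hd'c _ hwX
    calc a * i2 * (u2⁻¹ * u3) * d' * (a * i2 * (u2⁻¹ * u3))⁻¹
        = a * i2 * ((u2⁻¹ * u3) * d') * (u2⁻¹ * u3)⁻¹ * i2⁻¹ * a⁻¹ := by group
      _ = a * i2 * (d' * (u2⁻¹ * u3)) * (u2⁻¹ * u3)⁻¹ * i2⁻¹ * a⁻¹ := by rw [h1]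
      _ = a * (i2 * d' * i2⁻¹) * a⁻¹ := by group
  have r1 : z3 = a * z2 * a⁻¹ * z := by
    have h1 : z3 * d' = a * z2 * a⁻¹ * z * d' := by
      rw [← e3, e3', e2]
      calc a * (z2 * d') * a⁻¹ = (a * z2 * a⁻¹) * (a * d' * a⁻¹) := by group
        _ = a * z2 * a⁻¹ * z * d' := by rw [e1]; group
    exact mul_right_cancel h1
  have hw' : ∃ w ∈ X, i3 = i2 * a * w := by
    refine ⟨a⁻¹ * u2⁻¹ * (y⁻¹ * a * y * a⁻¹) * a * u3, ?_, ?_⟩
    · have h1 : y⁻¹ * a * y * a⁻¹ ∈ X := by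
        have e : y⁻¹ * a * y * a⁻¹ = y⁻¹ * (y * a * y⁻¹ * a⁻¹)⁻¹ * y⁻¹⁻¹ := by group
        rw [e]
        exact hXn _ (inv_mem hyN) _ (inv_mem hya)
      have e : a⁻¹ * u2⁻¹ * (y⁻¹ * a * y * a⁻¹) * a * u3
          = (a⁻¹ * (u2⁻¹ * (y⁻¹ * a * y * a⁻¹)) * a⁻¹⁻¹) * u3 := by group
      rw [e]
      exact mul_mem (hXn _ (inv_mem ha.nrm) _ (mul_mem (inv_mem hu2) h1)) hu3
    · rw [hi2, hi3]; group
  obtain ⟨w, hw1, hw2⟩ := hw'
  have r2 : z3 = i2 * z * i2⁻¹ * z2 := by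
    have h1 : z3 * d' = i2 * z * i2⁻¹ * z2 * d' := by
      rw [← e3, hw2]
      have h2 := hd'c _ hw1
      calc i2 * a * w * d' * (i2 * a * w)⁻¹ = i2 * a * (w * d') * w⁻¹ * a⁻¹ * i2⁻¹ := by group
        _ = i2 * a * (d' * w) * w⁻¹ * a⁻¹ * i2⁻¹ := by rw [h2]
        _ = i2 * (a * d' * a⁻¹) * i2⁻¹ := by group
        _ = (i2 * z * i2⁻¹) * (i2 * d' * i2⁻¹) := by rw [e1]; group
        _ = i2 * z * i2⁻¹ * z2 * d' := by rw [e2]; group
    exact mul_right_cancel h1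
  have hz32 : z3 = z2 * z := by
    rcases ha.act z2 ht2.dX with h1 | h1
    · rw [r1, h1]
    · exfalso
      rw [h1] at r1
      have h2 : z3 = z2 := by
        rw [r1]
        calc z * z2 * z = z * (z2 * z) := by group
          _ = z * (z * z2) := by rw [ha.dc z2 ht2.dX]
          _ = (z * z) * z2 := by group
          _ = z2 := by rw [ha.dd, one_mul]
      rw [h2] at r2
      have h3 : i2 * z * i2⁻¹ = 1 := by
        have := mul_right_cancel (b := z2) (a := (1 : G)) (c := i2 * z * i2⁻¹) (by rw [one_mul]; exact r2)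
        exact this.symm
      apply hz1
      calc z = i2⁻¹ * (i2 * z * i2⁻¹) * i2 := by group
        _ = 1 := by rw [h3]; group
  -- apply `a` to `m z_k m⁻¹`
  have hmv' : ∀ {b f : G}, Tr X b f → b ∈ P → b ∉ X → a * (m * f * m⁻¹) * a⁻¹ = z * (m * f * m⁻¹) := by
    intro b f hb hbP hbX
    have hfX : m * f * m⁻¹ ∈ X := hXn m hm _ hb.dX
    rcases ha.act _ hfX with h1 | h1
    · exfalso
      refine not_comm h hb hbP hbX ha haP haX hm hmH ?_
      calc a * (m * f * m⁻¹) = a * (m * f * m⁻¹) * a⁻¹ * a := by group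
        _ = m * f * m⁻¹ * a := by rw [h1]
    · exact h1
  have f1 := hmv' ha haP haX
  have f2 := hmv' ht2 hP2 hX2
  have f3 := hmv' ht3 hP3 hX3
  have hz2X : m * z2 * m⁻¹ ∈ X := hXn m hm _ ht2.dX
  have hzz : z * (m * z3 * m⁻¹) = m * z3 * m⁻¹ := by
    rw [← f3, hz32]
    calc a * (m * (z2 * z) * m⁻¹) * a⁻¹ = (a * (m * z2 * m⁻¹) * a⁻¹) * (a * (m * z * m⁻¹) * a⁻¹) := by group
      _ = z * (m * z2 * m⁻¹) * (z * (m * z * m⁻¹)) := by rw [f2, f1]
      _ = (z * ((m * z2 * m⁻¹) * z)) * (m * z * m⁻¹) := by group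
      _ = (z * (z * (m * z2 * m⁻¹))) * (m * z * m⁻¹) := by rw [ha.dc _ hz2X]
      _ = (z * z) * (m * z2 * m⁻¹) * (m * z * m⁻¹) := by group
      _ = m * (z2 * z) * m⁻¹ := by rw [ha.dd]; group
  exact hz1 (mul_eq_right.1 hzz)

end Ess

end Cfsg.Agent.UGT.FourB.Trans
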